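import Cfsg.Agent.Lib.Helper24.Fast

set_option autoImplicit false
set_option linter.unusedSimpArgs false

namespace Cfsg.Agent.Lib.Helper24

open Cfsg.Lie

/-- all off-diagonal entries of column `k` of `x_r`: (encoded row, coefficient, power) -/
def fullShape (D : ChevalleyDatum) (r k : ℕ) : List (ℕ × ℤ × ℕ) :=
  if k < D.rank then [(D.rank + r, -((D.cartanSR.getD k #[]).getD r 0), 1)]
  else if k - D.rank = r then []
  else if k - D.rank = D.negIdx.getD r 0 then
    (D.rank + r, -1, 2) :: (List.range D.rank).map (fun i => (i, (D.coroot.getD r #[]).getD i 0, 1))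
  else (shapeSpec D r (k - D.rank)).map fun e => (D.rank + e.1, e.2.1, e.2.2)

def instFull (a : Poly) (sh : List (ℕ × ℤ × ℕ)) : SV :=
  sh.map fun e => (e.1, Poly.mul (Poly.ofInt e.2.1) (Poly.pow a e.2.2))

section semantics

variable {F : Type*} [Field F] (D : ChevalleyDatum) (y0 y1 y2 y3 : F)

theorem denV_colX_eq_full (r : ℕ) (a : Poly) (k : ℕ) :
    denV D y0 y1 y2 y3 (colX D r a k) =
      denV D y0 y1 y2 y3 ((k, Poly.one) :: instFull a (fullShape D r k)) := by
  unfold colX fullShape instFull
  split_ifs with h1 h2 h3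
  · simp only [List.map_cons, List.map_nil, denV_cons, denV_nil]
    congr 2
    funext i
    simp only [Poly.den_mul, Poly.den_ofInt, Poly.den_pow, pow_one]
  · rfl
  · simp only [List.map_cons, denV_cons, List.map_map]
    congr 2
    · funext i
      simp only [Poly.den_mul, Poly.den_ofInt, Poly.den_pow, Poly.den_neg]
      split_ifs
      · push_cast; ring
      · rfl
    · apply denV_congr_map
      intro i _
      exact ⟨rfl, by simp only [Function.comp, Poly.den_mul, Poly.den_ofInt, Poly.den_pow, pow_one]⟩
  · rw [colX_chain_eq, denV_cons, denV_cons]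
    congr 1
    unfold instShape
    rw [List.map_map]
    rfl

/-- entry formula for `x_r(t)` -/
theorem xMat_entry (r : Fin D.nroots) (t : F) (i j : D.Idx) :
    D.xMat F r t i j = (if enc D j = enc D i then 1 else 0) +
      ((fullShape D r.val (enc D j)).map fun e =>
        if e.1 = enc D i then ((e.2.1 : ℤ) : F) * t ^ e.2.2 else 0).sum := by
  have h := xMat_eq_denV_colX D t 1 1 1 r Poly.x0 i j
  rw [Poly.den_x0] at h
  rw [h, denV_colX_eq_full, denV_cons]
  simp only [Pi.add_apply, Poly.den_one]
  congr 1
  simp only [denV, instFull, List.map_map]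
  congr 1
  apply List.map_congr_left
  intro e _
  simp only [Function.comp, Poly.den_mul, Poly.den_ofInt, Poly.den_pow, Poly.den_x0]

/-- conjugating `x_r(t)` by a diagonal matrix compatible with the shape of `x_r` -/
theorem diag_mul_xMat (r : Fin D.nroots) (d : D.Idx → F) (lam : F)
    (hcompat : ∀ (i j : D.Idx), ∀ e ∈ fullShape D r.val (enc D j), e.1 = enc D i →
      d i = lam ^ e.2.2 * d j) (t : F) :
    Matrix.diagonal d * D.xMat F r t = D.xMat F r (lam * t) * Matrix.diagonal d := by
  ext i j
  rw [Matrix.diagonal_mul, Matrix.mul_diagonal, xMat_entry, xMat_entry, mul_add, add_mul]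
  congr 1
  · by_cases h : enc D j = enc D i
    · have := enc_injective D h
      subst this
      simp [mul_comm]
    · simp [h]
  · rw [← List.sum_map_mul_left, ← List.sum_map_mul_right]
    congr 1
    apply List.map_congr_left
    intro e he
    by_cases h : e.1 = enc D i
    · rw [if_pos h, if_pos h, hcompat i j e he h, mul_pow]
      ring
    · rw [if_neg h, if_neg h, mul_zero, zero_mul]

end semantics

end Cfsg.Agent.Lib.Helper24

namespace Cfsg.Agent.Lib.Helper24

open Cfsg.Lie

theorem fullShape_of_notin_supp (D : ChevalleyDatum) (r k : ℕ) (hk : k ∉ suppList D r) :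
    fullShape D r k = [] := by
  simp only [suppList, List.mem_append, List.mem_range, List.mem_cons, List.mem_map, not_or] at hk
  obtain ⟨h1, h2, h3⟩ := hk
  unfold fullShape
  rw [if_neg h1]
  split_ifs with h4 h5
  · rfl
  · exfalso; apply h2; omega
  · have : shapeSpec D r (k - D.rank) = [] := by
      unfold shapeSpec
      have : (D.chain.getD r #[]).toList.filter (fun e => e.1 = k - D.rank) = [] := by
        rw [List.filter_eq_nil_iff]
        intro e he
        simp only [decide_eq_true_eq]
        intro hek
        apply h3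
        exact ⟨e, he, by omega⟩
      rw [this]; rfl
    rw [this]; rfl

/-- exponent of the character of `h_{p_i}` on the encoded index `k` -/
def Eexp (D : ChevalleyDatum) (i k : ℕ) : ℤ := if k < D.rank then 0 else D.cartan i (k - D.rank)

def packInts (l : List ℤ) : ℕ :=
  l.foldr (fun z acc => Nat.add (Int.toNat (Int.add z 8)) (Nat.mul 16 acc)) 0

def cartanP (D : ChevalleyDatum) (i : ℕ) : ℕ := packInts (D.cartanSR.getD i #[]).toList

def cartanF (D : ChevalleyDatum) (i s : ℕ) : ℤ :=
  Int.sub (Int.ofNat (Nat.mod (Nat.div (cartanP D i) (Nat.pow 16 s)) 16)) 8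

def cartanFOK (D : ChevalleyDatum) : Bool :=
  (List.range D.rank).all fun i => (List.range D.nroots).all fun s => decide (cartanF D i s = D.cartan i s)

theorem cartanF_eq (D : ChevalleyDatum) (h : cartanFOK D = true) (i s : ℕ) (hi : i < D.rank)
    (hs : s < D.nroots) : cartanF D i s = D.cartan i s := by
  simp only [cartanFOK, List.all_eq_true, List.mem_range, decide_eq_true_eq] at h
  exact h i hi s hs

def EexpF (D : ChevalleyDatum) (i k : ℕ) : ℤ := if k < D.rank then 0 else cartanF D i (k - D.rank)

def fullShapeF (D : ChevalleyDatum) (r k : ℕ) : List (ℕ × ℤ × ℕ) :=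
  if k < D.rank then [(D.rank + r, -((D.cartanSR.getD k #[]).getD r 0), 1)]
  else if k - D.rank = r then []
  else if k - D.rank = D.negIdx.getD r 0 then
    (D.rank + r, -1, 2) :: (List.range D.rank).map (fun i => (i, (D.coroot.getD r #[]).getD i 0, 1))
  else (shapeFast D r (k - D.rank)).map fun e => (D.rank + e.1, e.2.1, e.2.2)

theorem fullShapeF_eq (D : ChevalleyDatum) (hT : TableOK D) (r k : ℕ) (hr : r < D.nroots)
    (hk : k < D.rank + D.nroots) : fullShapeF D r k = fullShape D r k := by
  unfold fullShapeF fullShape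
  split_ifs with h1 h2 h3
  · rfl
  · rfl
  · rfl
  · rw [shapeFast_eq D hT r _ hr (by omega)]

/-- the Cartan integers are additive along the shape of `x_r` -/
def cartanOKr (D : ChevalleyDatum) (r : ℕ) : Bool :=
  (suppList D r).all fun k => !(decide (k < D.rank + D.nroots)) ||
    (fullShapeF D r k).all fun e => !(decide (e.1 < D.rank + D.nroots)) ||
      (List.range D.rank).all fun i =>
        decide (EexpF D i e.1 = Int.add (Int.mul (Int.ofNat e.2.2) (cartanF D i r)) (EexpF D i k))

theorem Eexp_compat (D : ChevalleyDatum) (hT : TableOK D) (hC : cartanFOK D = true)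
    (r : ℕ) (hr : r < D.nroots) (h : cartanOKr D r = true) (i : ℕ) (hi : i < D.rank)
    (i' j : D.Idx) (e : ℕ × ℤ × ℕ) (he : e ∈ fullShape D r (enc D j)) (hei : e.1 = enc D i') :
    Eexp D i (enc D i') = (e.2.2 : ℤ) * D.cartan i r + Eexp D i (enc D j) := by
  by_cases hk : enc D j ∈ suppList D r
  · simp only [cartanOKr, List.all_eq_true, Bool.or_eq_true, Bool.not_eq_true', decide_eq_false_iff_not,
      decide_eq_true_eq, List.mem_range] at h
    rcases h (enc D j) hk with h1 | h1
    · exact absurd (enc_lt D j) h1
    · rw [fullShapeF_eq D hT r _ hr (enc_lt D j)] at h1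
      rcases h1 e he with h2 | h2
      · exact absurd (hei ▸ enc_lt D i') h2
      · have h3 := h2 i hi
        have conv : ∀ k, k < D.rank + D.nroots → EexpF D i k = Eexp D i k := by
          intro k hk
          unfold EexpF Eexp
          split_ifs with hkr
          · rfl
          · exact cartanF_eq D hC i _ hi (by omega)
        rw [conv _ (hei ▸ enc_lt D i'), conv _ (enc_lt D j), cartanF_eq D hC i r hi hr, hei] at h3
        exact h3
  · rw [fullShape_of_notin_supp D r _ hk] at he
    exact absurd he (List.not_mem_nil)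

section semantics

variable {F : Type*} [Field F] (D : ChevalleyDatum)

/-- `h_{p_i}(c)`-type diagonal matrices normalise root subgroups -/
theorem diagE_mul_xMat (hT : TableOK D) (hC : cartanFOK D = true)
    (r : Fin D.nroots) (h : cartanOKr D r.val = true) (i : ℕ) (hi : i < D.rank) (c : F) (hc : c ≠ 0)
    (t : F) :
    Matrix.diagonal (fun idx : D.Idx => c ^ Eexp D i (enc D idx)) * D.xMat F r t =
      D.xMat F r (c ^ D.cartan i r.val * t) * Matrix.diagonal (fun idx : D.Idx => c ^ Eexp D i (enc D idx)) := by
  apply diag_mul_xMat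
  intro i' j e he hei
  rw [Eexp_compat D hT hC r.val r.isLt h i hi i' j e he hei, zpow_add₀ hc]
  congr 1
  rw [mul_comm (e.2.2 : ℤ), zpow_mul, zpow_natCast]

theorem diagE_eq (i : ℕ) (c : F) :
    (fun idx : D.Idx => c ^ Eexp D i (enc D idx)) =
      Sum.elim (fun _ => (1 : F)) (fun s : Fin D.nroots => c ^ (D.cartan i s)) := by
  funext idx
  rcases idx with j | s
  · have : enc D (Sum.inl j) < D.rank := j.isLt
    simp [Eexp, this]
  · have h2 : ¬ (enc D (Sum.inr s) < D.rank) := by simp only [enc]; omega
    have h3 : enc D (Sum.inr s) - D.rank = s.val := by simp only [enc]; omega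
    simp [Eexp, h2, h3]

end semantics

end Cfsg.Agent.Lib.Helper24
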