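import Mathlib

set_option autoImplicit false

namespace Cfsg.Agent.Lib.Helper24

/-- a Boolean predicate holds on `lo ≤ r < hi` -/
def allRange (p : ℕ → Bool) (lo hi : ℕ) : Bool := ((List.range hi).drop lo).all p

theorem allRange_elim {p : ℕ → Bool} {lo hi : ℕ} (h : allRange p lo hi = true) (r : ℕ)
    (hlo : lo ≤ r) (hhi : r < hi) : p r = true := by
  simp only [allRange, List.all_eq_true] at h
  apply h
  rw [List.mem_iff_getElem]
  exact ⟨r - lo, by simp; omega, by simp; omega⟩

end Cfsg.Agent.Lib.Helper24
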