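import Cfsg.Agent.Lib.Helper24.AddDef
import Cfsg.Agent.Lib.Helper24.Range
import Cfsg.Prelude.Def_LieTypes
import Cfsg.Prelude.Def_ChevB2
import Cfsg.Prelude.Def_ChevD4

set_option autoImplicit false

namespace Cfsg.Agent.Lib.Helper24

open Cfsg.Lie

theorem addOK_E6_0 : allRange (addOK chevE6) 0 24 = true := by decide +kernel
theorem addOK_E6_1 : allRange (addOK chevE6) 24 48 = true := by decide +kernel
theorem addOK_E6_2 : allRange (addOK chevE6) 48 72 = true := by decide +kernel

theorem addOK_E6_all (r : ℕ) (hr : r < 72) : (addOK chevE6) r = true := by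
  by_cases h0 : r < 24
  · exact allRange_elim addOK_E6_0 r (by omega) h0
  by_cases h1 : r < 48
  · exact allRange_elim addOK_E6_1 r (by omega) h1
  exact allRange_elim addOK_E6_2 r (by omega) hr

end Cfsg.Agent.Lib.Helper24
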