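import Cfsg.Agent.Lib.Helper24.AddDef
import Cfsg.Agent.Lib.Helper24.Range
import Cfsg.Prelude.Def_LieTypes
import Cfsg.Prelude.Def_ChevB2
import Cfsg.Prelude.Def_ChevD4

set_option autoImplicit false

namespace Cfsg.Agent.Lib.Helper24

open Cfsg.Lie

theorem addOK_E7_0 : allRange (addOK chevE7) 0 18 = true := by decide +kernel
theorem addOK_E7_1 : allRange (addOK chevE7) 18 36 = true := by decide +kernel
theorem addOK_E7_2 : allRange (addOK chevE7) 36 54 = true := by decide +kernel
theorem addOK_E7_3 : allRange (addOK chevE7) 54 72 = true := by decide +kernel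
theorem addOK_E7_4 : allRange (addOK chevE7) 72 90 = true := by decide +kernel
theorem addOK_E7_5 : allRange (addOK chevE7) 90 108 = true := by decide +kernel
theorem addOK_E7_6 : allRange (addOK chevE7) 108 126 = true := by decide +kernel

theorem addOK_E7_all (r : ℕ) (hr : r < 126) : (addOK chevE7) r = true := by
  by_cases h0 : r < 18
  · exact allRange_elim addOK_E7_0 r (by omega) h0
  by_cases h1 : r < 36
  · exact allRange_elim addOK_E7_1 r (by omega) h1
  by_cases h2 : r < 54
  · exact allRange_elim addOK_E7_2 r (by omega) h2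
  by_cases h3 : r < 72
  · exact allRange_elim addOK_E7_3 r (by omega) h3
  by_cases h4 : r < 90
  · exact allRange_elim addOK_E7_4 r (by omega) h4
  by_cases h5 : r < 108
  · exact allRange_elim addOK_E7_5 r (by omega) h5
  exact allRange_elim addOK_E7_6 r (by omega) hr

end Cfsg.Agent.Lib.Helper24
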