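import Cfsg.Agent.Lib.Helper24.AddDef
import Cfsg.Agent.Lib.Helper24.Range
import Cfsg.Prelude.Def_LieTypes
import Cfsg.Prelude.Def_ChevB2
import Cfsg.Prelude.Def_ChevD4

set_option autoImplicit false

namespace Cfsg.Agent.Lib.Helper24

open Cfsg.Lie

theorem addOK_E8_0 : allRange (addOK chevE8) 0 12 = true := by decide +kernel
theorem addOK_E8_1 : allRange (addOK chevE8) 12 24 = true := by decide +kernel
theorem addOK_E8_2 : allRange (addOK chevE8) 24 36 = true := by decide +kernel
theorem addOK_E8_3 : allRange (addOK chevE8) 36 48 = true := by decide +kernel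
theorem addOK_E8_4 : allRange (addOK chevE8) 48 60 = true := by decide +kernel
theorem addOK_E8_5 : allRange (addOK chevE8) 60 72 = true := by decide +kernel
theorem addOK_E8_6 : allRange (addOK chevE8) 72 84 = true := by decide +kernel
theorem addOK_E8_7 : allRange (addOK chevE8) 84 96 = true := by decide +kernel
theorem addOK_E8_8 : allRange (addOK chevE8) 96 108 = true := by decide +kernel
theorem addOK_E8_9 : allRange (addOK chevE8) 108 120 = true := by decide +kernel
theorem addOK_E8_10 : allRange (addOK chevE8) 120 132 = true := by decide +kernel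
theorem addOK_E8_11 : allRange (addOK chevE8) 132 144 = true := by decide +kernel
theorem addOK_E8_12 : allRange (addOK chevE8) 144 156 = true := by decide +kernel
theorem addOK_E8_13 : allRange (addOK chevE8) 156 168 = true := by decide +kernel
theorem addOK_E8_14 : allRange (addOK chevE8) 168 180 = true := by decide +kernel
theorem addOK_E8_15 : allRange (addOK chevE8) 180 192 = true := by decide +kernel
theorem addOK_E8_16 : allRange (addOK chevE8) 192 204 = true := by decide +kernel
theorem addOK_E8_17 : allRange (addOK chevE8) 204 216 = true := by decide +kernel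
theorem addOK_E8_18 : allRange (addOK chevE8) 216 228 = true := by decide +kernel
theorem addOK_E8_19 : allRange (addOK chevE8) 228 240 = true := by decide +kernel

theorem addOK_E8_all (r : ℕ) (hr : r < 240) : (addOK chevE8) r = true := by
  by_cases h0 : r < 12
  · exact allRange_elim addOK_E8_0 r (by omega) h0
  by_cases h1 : r < 24
  · exact allRange_elim addOK_E8_1 r (by omega) h1
  by_cases h2 : r < 36
  · exact allRange_elim addOK_E8_2 r (by omega) h2
  by_cases h3 : r < 48
  · exact allRange_elim addOK_E8_3 r (by omega) h3
  by_cases h4 : r < 60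
  · exact allRange_elim addOK_E8_4 r (by omega) h4
  by_cases h5 : r < 72
  · exact allRange_elim addOK_E8_5 r (by omega) h5
  by_cases h6 : r < 84
  · exact allRange_elim addOK_E8_6 r (by omega) h6
  by_cases h7 : r < 96
  · exact allRange_elim addOK_E8_7 r (by omega) h7
  by_cases h8 : r < 108
  · exact allRange_elim addOK_E8_8 r (by omega) h8
  by_cases h9 : r < 120
  · exact allRange_elim addOK_E8_9 r (by omega) h9
  by_cases h10 : r < 132
  · exact allRange_elim addOK_E8_10 r (by omega) h10
  by_cases h11 : r < 144
  · exact allRange_elim addOK_E8_11 r (by omega) h11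
  by_cases h12 : r < 156
  · exact allRange_elim addOK_E8_12 r (by omega) h12
  by_cases h13 : r < 168
  · exact allRange_elim addOK_E8_13 r (by omega) h13
  by_cases h14 : r < 180
  · exact allRange_elim addOK_E8_14 r (by omega) h14
  by_cases h15 : r < 192
  · exact allRange_elim addOK_E8_15 r (by omega) h15
  by_cases h16 : r < 204
  · exact allRange_elim addOK_E8_16 r (by omega) h16
  by_cases h17 : r < 216
  · exact allRange_elim addOK_E8_17 r (by omega) h17
  by_cases h18 : r < 228
  · exact allRange_elim addOK_E8_18 r (by omega) h18
  exact allRange_elim addOK_E8_19 r (by omega) hr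

end Cfsg.Agent.Lib.Helper24
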