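import Cfsg.Agent.Lib.Helper24.FTAll
import Cfsg.Agent.Lib.Helper24.Add_G2
import Cfsg.Agent.Lib.Helper24.Add_B2
import Cfsg.Agent.Lib.Helper24.Add_D4
import Cfsg.Agent.Lib.Helper24.Add_F4
import Cfsg.Agent.Lib.Helper24.Add_E6
import Cfsg.Agent.Lib.Helper24.Add_E7
import Cfsg.Agent.Lib.Helper24.Add_E8

set_option autoImplicit false

namespace Cfsg.Agent.Lib.Helper24

open Cfsg.Lie

theorem addOK_all (D : ChevalleyDatum)
    (hD : D ∈ [chevG2, chevB2, chevD4, chevF4, chevE6, chevE7, chevE8]) :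
    ∀ r < D.nroots, addOK D r = true := by
  simp only [List.mem_cons, List.not_mem_nil, or_false] at hD
  rcases hD with rfl | rfl | rfl | rfl | rfl | rfl | rfl
  · exact addOK_G2_all
  · exact addOK_B2_all
  · exact addOK_D4_all
  · exact addOK_F4_all
  · exact addOK_E6_all
  · exact addOK_E7_all
  · exact addOK_E8_all

/-- additivity of root elements -/
theorem x_add {F : Type*} [Field F] (D : ChevalleyDatum)
    (hD : D ∈ [chevG2, chevB2, chevD4, chevF4, chevE6, chevE7, chevE8]) (r : ℕ) (t₁ t₂ : F) :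
    D.x F r t₁ * D.x F r t₂ = D.x F r (t₁ + t₂) := by
  by_cases hr : r < D.nroots
  · exact x_add_of_addOK D (tableOK_all D hD) r (addOK_all D hD r hr) t₁ t₂
  · simp [ChevalleyDatum.x, hr]

end Cfsg.Agent.Lib.Helper24
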