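import Cfsg.Agent.Lib.Helper24.DiagConj
import Cfsg.Agent.Lib.Helper24.Range
import Cfsg.Prelude.Def_LieTypes
import Cfsg.Prelude.Def_ChevB2
import Cfsg.Prelude.Def_ChevD4

set_option autoImplicit false

namespace Cfsg.Agent.Lib.Helper24

open Cfsg.Lie

theorem cartanOK_E8_0 : allRange (cartanOKr chevE8) 0 24 = true := by decide +kernel
theorem cartanOK_E8_1 : allRange (cartanOKr chevE8) 24 48 = true := by decide +kernel
theorem cartanOK_E8_2 : allRange (cartanOKr chevE8) 48 72 = true := by decide +kernel
theorem cartanOK_E8_3 : allRange (cartanOKr chevE8) 72 96 = true := by decide +kernel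
theorem cartanOK_E8_4 : allRange (cartanOKr chevE8) 96 120 = true := by decide +kernel
theorem cartanOK_E8_5 : allRange (cartanOKr chevE8) 120 144 = true := by decide +kernel
theorem cartanOK_E8_6 : allRange (cartanOKr chevE8) 144 168 = true := by decide +kernel
theorem cartanOK_E8_7 : allRange (cartanOKr chevE8) 168 192 = true := by decide +kernel
theorem cartanOK_E8_8 : allRange (cartanOKr chevE8) 192 216 = true := by decide +kernel
theorem cartanOK_E8_9 : allRange (cartanOKr chevE8) 216 240 = true := by decide +kernel

theorem cartanOK_E8_all (r : ℕ) (hr : r < 240) : (cartanOKr chevE8) r = true := by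
  by_cases h0 : r < 24
  · exact allRange_elim cartanOK_E8_0 r (by omega) h0
  by_cases h1 : r < 48
  · exact allRange_elim cartanOK_E8_1 r (by omega) h1
  by_cases h2 : r < 72
  · exact allRange_elim cartanOK_E8_2 r (by omega) h2
  by_cases h3 : r < 96
  · exact allRange_elim cartanOK_E8_3 r (by omega) h3
  by_cases h4 : r < 120
  · exact allRange_elim cartanOK_E8_4 r (by omega) h4
  by_cases h5 : r < 144
  · exact allRange_elim cartanOK_E8_5 r (by omega) h5
  by_cases h6 : r < 168
  · exact allRange_elim cartanOK_E8_6 r (by omega) h6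
  by_cases h7 : r < 192
  · exact allRange_elim cartanOK_E8_7 r (by omega) h7
  by_cases h8 : r < 216
  · exact allRange_elim cartanOK_E8_8 r (by omega) h8
  exact allRange_elim cartanOK_E8_9 r (by omega) hr

end Cfsg.Agent.Lib.Helper24
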