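import Cfsg.Agent.Lib.Helper24.DiagConj
import Cfsg.Agent.Lib.Helper24.Range
import Cfsg.Prelude.Def_LieTypes
import Cfsg.Prelude.Def_ChevB2
import Cfsg.Prelude.Def_ChevD4

set_option autoImplicit false

namespace Cfsg.Agent.Lib.Helper24

open Cfsg.Lie

theorem cartanOK_G2_0 : allRange (cartanOKr chevG2) 0 12 = true := by decide +kernel

theorem cartanOK_G2_all (r : ℕ) (hr : r < 12) : (cartanOKr chevG2) r = true := by
  exact allRange_elim cartanOK_G2_0 r (by omega) hr

end Cfsg.Agent.Lib.Helper24
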