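import Cfsg.Agent.Lib.Helper24.FTAll
import Cfsg.Agent.Lib.Helper24.CFAll
import Cfsg.Agent.Lib.Helper24.CO_G2
import Cfsg.Agent.Lib.Helper24.CO_B2
import Cfsg.Agent.Lib.Helper24.CO_D4
import Cfsg.Agent.Lib.Helper24.CO_F4
import Cfsg.Agent.Lib.Helper24.CO_E6
import Cfsg.Agent.Lib.Helper24.CO_E7
import Cfsg.Agent.Lib.Helper24.CO_E8

set_option autoImplicit false

namespace Cfsg.Agent.Lib.Helper24

open Cfsg.Lie

theorem cartanOK_all (D : ChevalleyDatum)
    (hD : D ∈ [chevG2, chevB2, chevD4, chevF4, chevE6, chevE7, chevE8]) :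
    ∀ r < D.nroots, cartanOKr D r = true := by
  simp only [List.mem_cons, List.not_mem_nil, or_false] at hD
  rcases hD with rfl | rfl | rfl | rfl | rfl | rfl | rfl
  · exact cartanOK_G2_all
  · exact cartanOK_B2_all
  · exact cartanOK_D4_all
  · exact cartanOK_F4_all
  · exact cartanOK_E6_all
  · exact cartanOK_E7_all
  · exact cartanOK_E8_all

/-- the diagonal matrix of `h_{p_i}(c)` normalises every root subgroup -/
theorem diagE_mul_x {F : Type*} [Field F] (D : ChevalleyDatum)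
    (hD : D ∈ [chevG2, chevB2, chevD4, chevF4, chevE6, chevE7, chevE8]) (i s : ℕ) (hi : i < D.rank)
    (hs : s < D.nroots) (c : F) (hc : c ≠ 0) (t : F) :
    Matrix.diagonal (Sum.elim (fun _ => (1 : F)) (fun s' : Fin D.nroots => c ^ (D.cartan i s'))) * D.x F s t =
      D.x F s (c ^ D.cartan i s * t) *
        Matrix.diagonal (Sum.elim (fun _ => (1 : F)) (fun s' : Fin D.nroots => c ^ (D.cartan i s'))) := by
  rw [← diagE_eq]
  unfold ChevalleyDatum.x
  rw [dif_pos hs, dif_pos hs]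
  exact diagE_mul_xMat D (tableOK_all D hD) (cartanFOK_all D hD) ⟨s, hs⟩ (cartanOK_all D hD s hs) i hi c hc t

end Cfsg.Agent.Lib.Helper24
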