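import Cfsg.Agent.Lib.Helper24.Fast
import Cfsg.Agent.Lib.Helper24.Range
import Cfsg.Prelude.Def_LieTypes
import Cfsg.Prelude.Def_ChevB2
import Cfsg.Prelude.Def_ChevD4

set_option autoImplicit false

namespace Cfsg.Agent.Lib.Helper24

open Cfsg.Lie

theorem tableOK_E8_0 : allRange (rowOK chevE8) 0 30 = true := by decide +kernel
theorem tableOK_E8_1 : allRange (rowOK chevE8) 30 60 = true := by decide +kernel
theorem tableOK_E8_2 : allRange (rowOK chevE8) 60 90 = true := by decide +kernel
theorem tableOK_E8_3 : allRange (rowOK chevE8) 90 120 = true := by decide +kernel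
theorem tableOK_E8_4 : allRange (rowOK chevE8) 120 150 = true := by decide +kernel
theorem tableOK_E8_5 : allRange (rowOK chevE8) 150 180 = true := by decide +kernel
theorem tableOK_E8_6 : allRange (rowOK chevE8) 180 210 = true := by decide +kernel
theorem tableOK_E8_7 : allRange (rowOK chevE8) 210 240 = true := by decide +kernel

theorem tableOK_E8_all (r : ℕ) (hr : r < 240) : (rowOK chevE8) r = true := by
  by_cases h0 : r < 30
  · exact allRange_elim tableOK_E8_0 r (by omega) h0
  by_cases h1 : r < 60
  · exact allRange_elim tableOK_E8_1 r (by omega) h1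
  by_cases h2 : r < 90
  · exact allRange_elim tableOK_E8_2 r (by omega) h2
  by_cases h3 : r < 120
  · exact allRange_elim tableOK_E8_3 r (by omega) h3
  by_cases h4 : r < 150
  · exact allRange_elim tableOK_E8_4 r (by omega) h4
  by_cases h5 : r < 180
  · exact allRange_elim tableOK_E8_5 r (by omega) h5
  by_cases h6 : r < 210
  · exact allRange_elim tableOK_E8_6 r (by omega) h6
  exact allRange_elim tableOK_E8_7 r (by omega) hr

end Cfsg.Agent.Lib.Helper24
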