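import Cfsg.Agent.Lib.Helper24.FT_G2
import Cfsg.Agent.Lib.Helper24.FT_B2
import Cfsg.Agent.Lib.Helper24.FT_D4
import Cfsg.Agent.Lib.Helper24.FT_F4
import Cfsg.Agent.Lib.Helper24.FT_E6
import Cfsg.Agent.Lib.Helper24.FT_E7
import Cfsg.Agent.Lib.Helper24.FT_E8

set_option autoImplicit false

namespace Cfsg.Agent.Lib.Helper24

open Cfsg.Lie

theorem tableOK_all (D : ChevalleyDatum)
    (hD : D ∈ [chevG2, chevB2, chevD4, chevF4, chevE6, chevE7, chevE8]) : TableOK D := by
  simp only [List.mem_cons, List.not_mem_nil, or_false] at hD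
  rcases hD with rfl | rfl | rfl | rfl | rfl | rfl | rfl
  · exact tableOK_G2_all
  · exact tableOK_B2_all
  · exact tableOK_D4_all
  · exact tableOK_F4_all
  · exact tableOK_E6_all
  · exact tableOK_E7_all
  · exact tableOK_E8_all

end Cfsg.Agent.Lib.Helper24
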