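import Cfsg.Agent.Lib.Helper24.HAll
import Cfsg.Agent.Lib.Helper24.Range
import Cfsg.Prelude.Def_LieTypes
import Cfsg.Prelude.Def_ChevB2
import Cfsg.Prelude.Def_ChevD4

set_option autoImplicit false

namespace Cfsg.Agent.Lib.Helper24

open Cfsg.Lie

theorem hRootOK_D4_0 : allRange (hRootOK chevD4) 0 24 = true := by decide +kernel

theorem hRootOK_D4_all (r : ℕ) (hlo : 0 ≤ r) (hhi : r < 24) : (hRootOK chevD4) r = true := by
  exact allRange_elim hRootOK_D4_0 r (by omega) hhi

end Cfsg.Agent.Lib.Helper24
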