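import Cfsg.Agent.Lib.Helper24.HAll
import Cfsg.Agent.Lib.Helper24.Range
import Cfsg.Prelude.Def_LieTypes
import Cfsg.Prelude.Def_ChevB2
import Cfsg.Prelude.Def_ChevD4

set_option autoImplicit false

namespace Cfsg.Agent.Lib.Helper24

open Cfsg.Lie

theorem hRootOK_E6_0 : allRange (hRootOK chevE6) 0 8 = true := by decide +kernel
theorem hRootOK_E6_1 : allRange (hRootOK chevE6) 8 16 = true := by decide +kernel
theorem hRootOK_E6_2 : allRange (hRootOK chevE6) 16 24 = true := by decide +kernel
theorem hRootOK_E6_3 : allRange (hRootOK chevE6) 24 32 = true := by decide +kernel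
theorem hRootOK_E6_4 : allRange (hRootOK chevE6) 32 40 = true := by decide +kernel
theorem hRootOK_E6_5 : allRange (hRootOK chevE6) 40 48 = true := by decide +kernel
theorem hRootOK_E6_6 : allRange (hRootOK chevE6) 48 56 = true := by decide +kernel
theorem hRootOK_E6_7 : allRange (hRootOK chevE6) 56 64 = true := by decide +kernel
theorem hRootOK_E6_8 : allRange (hRootOK chevE6) 64 72 = true := by decide +kernel

theorem hRootOK_E6_all (r : ℕ) (hlo : 0 ≤ r) (hhi : r < 72) : (hRootOK chevE6) r = true := by
  by_cases h0 : r < 8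
  · exact allRange_elim hRootOK_E6_0 r (by omega) h0
  by_cases h1 : r < 16
  · exact allRange_elim hRootOK_E6_1 r (by omega) h1
  by_cases h2 : r < 24
  · exact allRange_elim hRootOK_E6_2 r (by omega) h2
  by_cases h3 : r < 32
  · exact allRange_elim hRootOK_E6_3 r (by omega) h3
  by_cases h4 : r < 40
  · exact allRange_elim hRootOK_E6_4 r (by omega) h4
  by_cases h5 : r < 48
  · exact allRange_elim hRootOK_E6_5 r (by omega) h5
  by_cases h6 : r < 56
  · exact allRange_elim hRootOK_E6_6 r (by omega) h6
  by_cases h7 : r < 64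
  · exact allRange_elim hRootOK_E6_7 r (by omega) h7
  exact allRange_elim hRootOK_E6_8 r (by omega) hhi

end Cfsg.Agent.Lib.Helper24
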