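import Cfsg.Agent.Lib.Helper24.HAll
import Cfsg.Agent.Lib.Helper24.Range
import Cfsg.Prelude.Def_LieTypes
import Cfsg.Prelude.Def_ChevB2
import Cfsg.Prelude.Def_ChevD4

set_option autoImplicit false

namespace Cfsg.Agent.Lib.Helper24

open Cfsg.Lie

theorem hRootOK_E7a_0 : allRange (hRootOK chevE7) 0 5 = true := by decide +kernel
theorem hRootOK_E7a_1 : allRange (hRootOK chevE7) 5 10 = true := by decide +kernel
theorem hRootOK_E7a_2 : allRange (hRootOK chevE7) 10 15 = true := by decide +kernel
theorem hRootOK_E7a_3 : allRange (hRootOK chevE7) 15 20 = true := by decide +kernel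
theorem hRootOK_E7a_4 : allRange (hRootOK chevE7) 20 25 = true := by decide +kernel
theorem hRootOK_E7a_5 : allRange (hRootOK chevE7) 25 30 = true := by decide +kernel
theorem hRootOK_E7a_6 : allRange (hRootOK chevE7) 30 35 = true := by decide +kernel
theorem hRootOK_E7a_7 : allRange (hRootOK chevE7) 35 40 = true := by decide +kernel
theorem hRootOK_E7a_8 : allRange (hRootOK chevE7) 40 45 = true := by decide +kernel
theorem hRootOK_E7a_9 : allRange (hRootOK chevE7) 45 50 = true := by decide +kernel
theorem hRootOK_E7a_10 : allRange (hRootOK chevE7) 50 55 = true := by decide +kernel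
theorem hRootOK_E7a_11 : allRange (hRootOK chevE7) 55 60 = true := by decide +kernel
theorem hRootOK_E7a_12 : allRange (hRootOK chevE7) 60 63 = true := by decide +kernel

theorem hRootOK_E7a_all (r : ℕ) (hlo : 0 ≤ r) (hhi : r < 63) : (hRootOK chevE7) r = true := by
  by_cases h0 : r < 5
  · exact allRange_elim hRootOK_E7a_0 r (by omega) h0
  by_cases h1 : r < 10
  · exact allRange_elim hRootOK_E7a_1 r (by omega) h1
  by_cases h2 : r < 15
  · exact allRange_elim hRootOK_E7a_2 r (by omega) h2
  by_cases h3 : r < 20
  · exact allRange_elim hRootOK_E7a_3 r (by omega) h3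
  by_cases h4 : r < 25
  · exact allRange_elim hRootOK_E7a_4 r (by omega) h4
  by_cases h5 : r < 30
  · exact allRange_elim hRootOK_E7a_5 r (by omega) h5
  by_cases h6 : r < 35
  · exact allRange_elim hRootOK_E7a_6 r (by omega) h6
  by_cases h7 : r < 40
  · exact allRange_elim hRootOK_E7a_7 r (by omega) h7
  by_cases h8 : r < 45
  · exact allRange_elim hRootOK_E7a_8 r (by omega) h8
  by_cases h9 : r < 50
  · exact allRange_elim hRootOK_E7a_9 r (by omega) h9
  by_cases h10 : r < 55
  · exact allRange_elim hRootOK_E7a_10 r (by omega) h10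
  by_cases h11 : r < 60
  · exact allRange_elim hRootOK_E7a_11 r (by omega) h11
  exact allRange_elim hRootOK_E7a_12 r (by omega) hhi

end Cfsg.Agent.Lib.Helper24
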