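import Cfsg.Agent.Lib.Helper24.HAll
import Cfsg.Agent.Lib.Helper24.Range
import Cfsg.Prelude.Def_LieTypes
import Cfsg.Prelude.Def_ChevB2
import Cfsg.Prelude.Def_ChevD4
import Cfsg.Agent.Lib.Helper24.HA_E7a

set_option autoImplicit false

namespace Cfsg.Agent.Lib.Helper24

open Cfsg.Lie

theorem hRootOK_E7b_0 : allRange (hRootOK chevE7) 63 68 = true := by decide +kernel
theorem hRootOK_E7b_1 : allRange (hRootOK chevE7) 68 73 = true := by decide +kernel
theorem hRootOK_E7b_2 : allRange (hRootOK chevE7) 73 78 = true := by decide +kernel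
theorem hRootOK_E7b_3 : allRange (hRootOK chevE7) 78 83 = true := by decide +kernel
theorem hRootOK_E7b_4 : allRange (hRootOK chevE7) 83 88 = true := by decide +kernel
theorem hRootOK_E7b_5 : allRange (hRootOK chevE7) 88 93 = true := by decide +kernel
theorem hRootOK_E7b_6 : allRange (hRootOK chevE7) 93 98 = true := by decide +kernel
theorem hRootOK_E7b_7 : allRange (hRootOK chevE7) 98 103 = true := by decide +kernel
theorem hRootOK_E7b_8 : allRange (hRootOK chevE7) 103 108 = true := by decide +kernel
theorem hRootOK_E7b_9 : allRange (hRootOK chevE7) 108 113 = true := by decide +kernel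
theorem hRootOK_E7b_10 : allRange (hRootOK chevE7) 113 118 = true := by decide +kernel
theorem hRootOK_E7b_11 : allRange (hRootOK chevE7) 118 123 = true := by decide +kernel
theorem hRootOK_E7b_12 : allRange (hRootOK chevE7) 123 126 = true := by decide +kernel

theorem hRootOK_E7b_all (r : ℕ) (hlo : 63 ≤ r) (hhi : r < 126) : (hRootOK chevE7) r = true := by
  by_cases h0 : r < 68
  · exact allRange_elim hRootOK_E7b_0 r (by omega) h0
  by_cases h1 : r < 73
  · exact allRange_elim hRootOK_E7b_1 r (by omega) h1
  by_cases h2 : r < 78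
  · exact allRange_elim hRootOK_E7b_2 r (by omega) h2
  by_cases h3 : r < 83
  · exact allRange_elim hRootOK_E7b_3 r (by omega) h3
  by_cases h4 : r < 88
  · exact allRange_elim hRootOK_E7b_4 r (by omega) h4
  by_cases h5 : r < 93
  · exact allRange_elim hRootOK_E7b_5 r (by omega) h5
  by_cases h6 : r < 98
  · exact allRange_elim hRootOK_E7b_6 r (by omega) h6
  by_cases h7 : r < 103
  · exact allRange_elim hRootOK_E7b_7 r (by omega) h7
  by_cases h8 : r < 108
  · exact allRange_elim hRootOK_E7b_8 r (by omega) h8
  by_cases h9 : r < 113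
  · exact allRange_elim hRootOK_E7b_9 r (by omega) h9
  by_cases h10 : r < 118
  · exact allRange_elim hRootOK_E7b_10 r (by omega) h10
  by_cases h11 : r < 123
  · exact allRange_elim hRootOK_E7b_11 r (by omega) h11
  exact allRange_elim hRootOK_E7b_12 r (by omega) hhi

end Cfsg.Agent.Lib.Helper24
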