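import Cfsg.Agent.Lib.Helper24.HAll
import Cfsg.Agent.Lib.Helper24.Range
import Cfsg.Prelude.Def_LieTypes
import Cfsg.Prelude.Def_ChevB2
import Cfsg.Prelude.Def_ChevD4

set_option autoImplicit false

namespace Cfsg.Agent.Lib.Helper24

open Cfsg.Lie

theorem hRootOK_E8a_0 : allRange (hRootOK chevE8) 0 3 = true := by decide +kernel
theorem hRootOK_E8a_1 : allRange (hRootOK chevE8) 3 6 = true := by decide +kernel
theorem hRootOK_E8a_2 : allRange (hRootOK chevE8) 6 9 = true := by decide +kernel
theorem hRootOK_E8a_3 : allRange (hRootOK chevE8) 9 12 = true := by decide +kernel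
theorem hRootOK_E8a_4 : allRange (hRootOK chevE8) 12 15 = true := by decide +kernel
theorem hRootOK_E8a_5 : allRange (hRootOK chevE8) 15 18 = true := by decide +kernel
theorem hRootOK_E8a_6 : allRange (hRootOK chevE8) 18 21 = true := by decide +kernel
theorem hRootOK_E8a_7 : allRange (hRootOK chevE8) 21 24 = true := by decide +kernel
theorem hRootOK_E8a_8 : allRange (hRootOK chevE8) 24 27 = true := by decide +kernel
theorem hRootOK_E8a_9 : allRange (hRootOK chevE8) 27 30 = true := by decide +kernel
theorem hRootOK_E8a_10 : allRange (hRootOK chevE8) 30 33 = true := by decide +kernel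
theorem hRootOK_E8a_11 : allRange (hRootOK chevE8) 33 36 = true := by decide +kernel
theorem hRootOK_E8a_12 : allRange (hRootOK chevE8) 36 39 = true := by decide +kernel
theorem hRootOK_E8a_13 : allRange (hRootOK chevE8) 39 42 = true := by decide +kernel
theorem hRootOK_E8a_14 : allRange (hRootOK chevE8) 42 45 = true := by decide +kernel
theorem hRootOK_E8a_15 : allRange (hRootOK chevE8) 45 48 = true := by decide +kernel
theorem hRootOK_E8a_16 : allRange (hRootOK chevE8) 48 51 = true := by decide +kernel
theorem hRootOK_E8a_17 : allRange (hRootOK chevE8) 51 54 = true := by decide +kernel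
theorem hRootOK_E8a_18 : allRange (hRootOK chevE8) 54 57 = true := by decide +kernel
theorem hRootOK_E8a_19 : allRange (hRootOK chevE8) 57 60 = true := by decide +kernel

theorem hRootOK_E8a_all (r : ℕ) (hlo : 0 ≤ r) (hhi : r < 60) : (hRootOK chevE8) r = true := by
  by_cases h0 : r < 3
  · exact allRange_elim hRootOK_E8a_0 r (by omega) h0
  by_cases h1 : r < 6
  · exact allRange_elim hRootOK_E8a_1 r (by omega) h1
  by_cases h2 : r < 9
  · exact allRange_elim hRootOK_E8a_2 r (by omega) h2
  by_cases h3 : r < 12
  · exact allRange_elim hRootOK_E8a_3 r (by omega) h3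
  by_cases h4 : r < 15
  · exact allRange_elim hRootOK_E8a_4 r (by omega) h4
  by_cases h5 : r < 18
  · exact allRange_elim hRootOK_E8a_5 r (by omega) h5
  by_cases h6 : r < 21
  · exact allRange_elim hRootOK_E8a_6 r (by omega) h6
  by_cases h7 : r < 24
  · exact allRange_elim hRootOK_E8a_7 r (by omega) h7
  by_cases h8 : r < 27
  · exact allRange_elim hRootOK_E8a_8 r (by omega) h8
  by_cases h9 : r < 30
  · exact allRange_elim hRootOK_E8a_9 r (by omega) h9
  by_cases h10 : r < 33
  · exact allRange_elim hRootOK_E8a_10 r (by omega) h10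
  by_cases h11 : r < 36
  · exact allRange_elim hRootOK_E8a_11 r (by omega) h11
  by_cases h12 : r < 39
  · exact allRange_elim hRootOK_E8a_12 r (by omega) h12
  by_cases h13 : r < 42
  · exact allRange_elim hRootOK_E8a_13 r (by omega) h13
  by_cases h14 : r < 45
  · exact allRange_elim hRootOK_E8a_14 r (by omega) h14
  by_cases h15 : r < 48
  · exact allRange_elim hRootOK_E8a_15 r (by omega) h15
  by_cases h16 : r < 51
  · exact allRange_elim hRootOK_E8a_16 r (by omega) h16
  by_cases h17 : r < 54
  · exact allRange_elim hRootOK_E8a_17 r (by omega) h17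
  by_cases h18 : r < 57
  · exact allRange_elim hRootOK_E8a_18 r (by omega) h18
  exact allRange_elim hRootOK_E8a_19 r (by omega) hhi

end Cfsg.Agent.Lib.Helper24
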