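import Cfsg.Agent.Lib.Helper24.HAll
import Cfsg.Agent.Lib.Helper24.Range
import Cfsg.Prelude.Def_LieTypes
import Cfsg.Prelude.Def_ChevB2
import Cfsg.Prelude.Def_ChevD4
import Cfsg.Agent.Lib.Helper24.HA_E8a

set_option autoImplicit false

namespace Cfsg.Agent.Lib.Helper24

open Cfsg.Lie

theorem hRootOK_E8b_0 : allRange (hRootOK chevE8) 60 63 = true := by decide +kernel
theorem hRootOK_E8b_1 : allRange (hRootOK chevE8) 63 66 = true := by decide +kernel
theorem hRootOK_E8b_2 : allRange (hRootOK chevE8) 66 69 = true := by decide +kernel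
theorem hRootOK_E8b_3 : allRange (hRootOK chevE8) 69 72 = true := by decide +kernel
theorem hRootOK_E8b_4 : allRange (hRootOK chevE8) 72 75 = true := by decide +kernel
theorem hRootOK_E8b_5 : allRange (hRootOK chevE8) 75 78 = true := by decide +kernel
theorem hRootOK_E8b_6 : allRange (hRootOK chevE8) 78 81 = true := by decide +kernel
theorem hRootOK_E8b_7 : allRange (hRootOK chevE8) 81 84 = true := by decide +kernel
theorem hRootOK_E8b_8 : allRange (hRootOK chevE8) 84 87 = true := by decide +kernel
theorem hRootOK_E8b_9 : allRange (hRootOK chevE8) 87 90 = true := by decide +kernel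
theorem hRootOK_E8b_10 : allRange (hRootOK chevE8) 90 93 = true := by decide +kernel
theorem hRootOK_E8b_11 : allRange (hRootOK chevE8) 93 96 = true := by decide +kernel
theorem hRootOK_E8b_12 : allRange (hRootOK chevE8) 96 99 = true := by decide +kernel
theorem hRootOK_E8b_13 : allRange (hRootOK chevE8) 99 102 = true := by decide +kernel
theorem hRootOK_E8b_14 : allRange (hRootOK chevE8) 102 105 = true := by decide +kernel
theorem hRootOK_E8b_15 : allRange (hRootOK chevE8) 105 108 = true := by decide +kernel
theorem hRootOK_E8b_16 : allRange (hRootOK chevE8) 108 111 = true := by decide +kernel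
theorem hRootOK_E8b_17 : allRange (hRootOK chevE8) 111 114 = true := by decide +kernel
theorem hRootOK_E8b_18 : allRange (hRootOK chevE8) 114 117 = true := by decide +kernel
theorem hRootOK_E8b_19 : allRange (hRootOK chevE8) 117 120 = true := by decide +kernel

theorem hRootOK_E8b_all (r : ℕ) (hlo : 60 ≤ r) (hhi : r < 120) : (hRootOK chevE8) r = true := by
  by_cases h0 : r < 63
  · exact allRange_elim hRootOK_E8b_0 r (by omega) h0
  by_cases h1 : r < 66
  · exact allRange_elim hRootOK_E8b_1 r (by omega) h1
  by_cases h2 : r < 69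
  · exact allRange_elim hRootOK_E8b_2 r (by omega) h2
  by_cases h3 : r < 72
  · exact allRange_elim hRootOK_E8b_3 r (by omega) h3
  by_cases h4 : r < 75
  · exact allRange_elim hRootOK_E8b_4 r (by omega) h4
  by_cases h5 : r < 78
  · exact allRange_elim hRootOK_E8b_5 r (by omega) h5
  by_cases h6 : r < 81
  · exact allRange_elim hRootOK_E8b_6 r (by omega) h6
  by_cases h7 : r < 84
  · exact allRange_elim hRootOK_E8b_7 r (by omega) h7
  by_cases h8 : r < 87
  · exact allRange_elim hRootOK_E8b_8 r (by omega) h8
  by_cases h9 : r < 90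
  · exact allRange_elim hRootOK_E8b_9 r (by omega) h9
  by_cases h10 : r < 93
  · exact allRange_elim hRootOK_E8b_10 r (by omega) h10
  by_cases h11 : r < 96
  · exact allRange_elim hRootOK_E8b_11 r (by omega) h11
  by_cases h12 : r < 99
  · exact allRange_elim hRootOK_E8b_12 r (by omega) h12
  by_cases h13 : r < 102
  · exact allRange_elim hRootOK_E8b_13 r (by omega) h13
  by_cases h14 : r < 105
  · exact allRange_elim hRootOK_E8b_14 r (by omega) h14
  by_cases h15 : r < 108
  · exact allRange_elim hRootOK_E8b_15 r (by omega) h15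
  by_cases h16 : r < 111
  · exact allRange_elim hRootOK_E8b_16 r (by omega) h16
  by_cases h17 : r < 114
  · exact allRange_elim hRootOK_E8b_17 r (by omega) h17
  by_cases h18 : r < 117
  · exact allRange_elim hRootOK_E8b_18 r (by omega) h18
  exact allRange_elim hRootOK_E8b_19 r (by omega) hhi

end Cfsg.Agent.Lib.Helper24
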