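import Cfsg.Agent.Lib.Helper24.HAll
import Cfsg.Agent.Lib.Helper24.Range
import Cfsg.Prelude.Def_LieTypes
import Cfsg.Prelude.Def_ChevB2
import Cfsg.Prelude.Def_ChevD4
import Cfsg.Agent.Lib.Helper24.HA_E8b

set_option autoImplicit false

namespace Cfsg.Agent.Lib.Helper24

open Cfsg.Lie

theorem hRootOK_E8c_0 : allRange (hRootOK chevE8) 120 123 = true := by decide +kernel
theorem hRootOK_E8c_1 : allRange (hRootOK chevE8) 123 126 = true := by decide +kernel
theorem hRootOK_E8c_2 : allRange (hRootOK chevE8) 126 129 = true := by decide +kernel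
theorem hRootOK_E8c_3 : allRange (hRootOK chevE8) 129 132 = true := by decide +kernel
theorem hRootOK_E8c_4 : allRange (hRootOK chevE8) 132 135 = true := by decide +kernel
theorem hRootOK_E8c_5 : allRange (hRootOK chevE8) 135 138 = true := by decide +kernel
theorem hRootOK_E8c_6 : allRange (hRootOK chevE8) 138 141 = true := by decide +kernel
theorem hRootOK_E8c_7 : allRange (hRootOK chevE8) 141 144 = true := by decide +kernel
theorem hRootOK_E8c_8 : allRange (hRootOK chevE8) 144 147 = true := by decide +kernel
theorem hRootOK_E8c_9 : allRange (hRootOK chevE8) 147 150 = true := by decide +kernel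
theorem hRootOK_E8c_10 : allRange (hRootOK chevE8) 150 153 = true := by decide +kernel
theorem hRootOK_E8c_11 : allRange (hRootOK chevE8) 153 156 = true := by decide +kernel
theorem hRootOK_E8c_12 : allRange (hRootOK chevE8) 156 159 = true := by decide +kernel
theorem hRootOK_E8c_13 : allRange (hRootOK chevE8) 159 162 = true := by decide +kernel
theorem hRootOK_E8c_14 : allRange (hRootOK chevE8) 162 165 = true := by decide +kernel
theorem hRootOK_E8c_15 : allRange (hRootOK chevE8) 165 168 = true := by decide +kernel
theorem hRootOK_E8c_16 : allRange (hRootOK chevE8) 168 171 = true := by decide +kernel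
theorem hRootOK_E8c_17 : allRange (hRootOK chevE8) 171 174 = true := by decide +kernel
theorem hRootOK_E8c_18 : allRange (hRootOK chevE8) 174 177 = true := by decide +kernel
theorem hRootOK_E8c_19 : allRange (hRootOK chevE8) 177 180 = true := by decide +kernel

theorem hRootOK_E8c_all (r : ℕ) (hlo : 120 ≤ r) (hhi : r < 180) : (hRootOK chevE8) r = true := by
  by_cases h0 : r < 123
  · exact allRange_elim hRootOK_E8c_0 r (by omega) h0
  by_cases h1 : r < 126
  · exact allRange_elim hRootOK_E8c_1 r (by omega) h1
  by_cases h2 : r < 129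
  · exact allRange_elim hRootOK_E8c_2 r (by omega) h2
  by_cases h3 : r < 132
  · exact allRange_elim hRootOK_E8c_3 r (by omega) h3
  by_cases h4 : r < 135
  · exact allRange_elim hRootOK_E8c_4 r (by omega) h4
  by_cases h5 : r < 138
  · exact allRange_elim hRootOK_E8c_5 r (by omega) h5
  by_cases h6 : r < 141
  · exact allRange_elim hRootOK_E8c_6 r (by omega) h6
  by_cases h7 : r < 144
  · exact allRange_elim hRootOK_E8c_7 r (by omega) h7
  by_cases h8 : r < 147
  · exact allRange_elim hRootOK_E8c_8 r (by omega) h8
  by_cases h9 : r < 150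
  · exact allRange_elim hRootOK_E8c_9 r (by omega) h9
  by_cases h10 : r < 153
  · exact allRange_elim hRootOK_E8c_10 r (by omega) h10
  by_cases h11 : r < 156
  · exact allRange_elim hRootOK_E8c_11 r (by omega) h11
  by_cases h12 : r < 159
  · exact allRange_elim hRootOK_E8c_12 r (by omega) h12
  by_cases h13 : r < 162
  · exact allRange_elim hRootOK_E8c_13 r (by omega) h13
  by_cases h14 : r < 165
  · exact allRange_elim hRootOK_E8c_14 r (by omega) h14
  by_cases h15 : r < 168
  · exact allRange_elim hRootOK_E8c_15 r (by omega) h15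
  by_cases h16 : r < 171
  · exact allRange_elim hRootOK_E8c_16 r (by omega) h16
  by_cases h17 : r < 174
  · exact allRange_elim hRootOK_E8c_17 r (by omega) h17
  by_cases h18 : r < 177
  · exact allRange_elim hRootOK_E8c_18 r (by omega) h18
  exact allRange_elim hRootOK_E8c_19 r (by omega) hhi

end Cfsg.Agent.Lib.Helper24
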