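import Cfsg.Agent.Lib.Helper24.HAll
import Cfsg.Agent.Lib.Helper24.Range
import Cfsg.Prelude.Def_LieTypes
import Cfsg.Prelude.Def_ChevB2
import Cfsg.Prelude.Def_ChevD4
import Cfsg.Agent.Lib.Helper24.HA_E8c

set_option autoImplicit false

namespace Cfsg.Agent.Lib.Helper24

open Cfsg.Lie

theorem hRootOK_E8d_0 : allRange (hRootOK chevE8) 180 183 = true := by decide +kernel
theorem hRootOK_E8d_1 : allRange (hRootOK chevE8) 183 186 = true := by decide +kernel
theorem hRootOK_E8d_2 : allRange (hRootOK chevE8) 186 189 = true := by decide +kernel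
theorem hRootOK_E8d_3 : allRange (hRootOK chevE8) 189 192 = true := by decide +kernel
theorem hRootOK_E8d_4 : allRange (hRootOK chevE8) 192 195 = true := by decide +kernel
theorem hRootOK_E8d_5 : allRange (hRootOK chevE8) 195 198 = true := by decide +kernel
theorem hRootOK_E8d_6 : allRange (hRootOK chevE8) 198 201 = true := by decide +kernel
theorem hRootOK_E8d_7 : allRange (hRootOK chevE8) 201 204 = true := by decide +kernel
theorem hRootOK_E8d_8 : allRange (hRootOK chevE8) 204 207 = true := by decide +kernel
theorem hRootOK_E8d_9 : allRange (hRootOK chevE8) 207 210 = true := by decide +kernel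
theorem hRootOK_E8d_10 : allRange (hRootOK chevE8) 210 213 = true := by decide +kernel
theorem hRootOK_E8d_11 : allRange (hRootOK chevE8) 213 216 = true := by decide +kernel
theorem hRootOK_E8d_12 : allRange (hRootOK chevE8) 216 219 = true := by decide +kernel
theorem hRootOK_E8d_13 : allRange (hRootOK chevE8) 219 222 = true := by decide +kernel
theorem hRootOK_E8d_14 : allRange (hRootOK chevE8) 222 225 = true := by decide +kernel
theorem hRootOK_E8d_15 : allRange (hRootOK chevE8) 225 228 = true := by decide +kernel
theorem hRootOK_E8d_16 : allRange (hRootOK chevE8) 228 231 = true := by decide +kernel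
theorem hRootOK_E8d_17 : allRange (hRootOK chevE8) 231 234 = true := by decide +kernel
theorem hRootOK_E8d_18 : allRange (hRootOK chevE8) 234 237 = true := by decide +kernel
theorem hRootOK_E8d_19 : allRange (hRootOK chevE8) 237 240 = true := by decide +kernel

theorem hRootOK_E8d_all (r : ℕ) (hlo : 180 ≤ r) (hhi : r < 240) : (hRootOK chevE8) r = true := by
  by_cases h0 : r < 183
  · exact allRange_elim hRootOK_E8d_0 r (by omega) h0
  by_cases h1 : r < 186
  · exact allRange_elim hRootOK_E8d_1 r (by omega) h1
  by_cases h2 : r < 189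
  · exact allRange_elim hRootOK_E8d_2 r (by omega) h2
  by_cases h3 : r < 192
  · exact allRange_elim hRootOK_E8d_3 r (by omega) h3
  by_cases h4 : r < 195
  · exact allRange_elim hRootOK_E8d_4 r (by omega) h4
  by_cases h5 : r < 198
  · exact allRange_elim hRootOK_E8d_5 r (by omega) h5
  by_cases h6 : r < 201
  · exact allRange_elim hRootOK_E8d_6 r (by omega) h6
  by_cases h7 : r < 204
  · exact allRange_elim hRootOK_E8d_7 r (by omega) h7
  by_cases h8 : r < 207
  · exact allRange_elim hRootOK_E8d_8 r (by omega) h8
  by_cases h9 : r < 210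
  · exact allRange_elim hRootOK_E8d_9 r (by omega) h9
  by_cases h10 : r < 213
  · exact allRange_elim hRootOK_E8d_10 r (by omega) h10
  by_cases h11 : r < 216
  · exact allRange_elim hRootOK_E8d_11 r (by omega) h11
  by_cases h12 : r < 219
  · exact allRange_elim hRootOK_E8d_12 r (by omega) h12
  by_cases h13 : r < 222
  · exact allRange_elim hRootOK_E8d_13 r (by omega) h13
  by_cases h14 : r < 225
  · exact allRange_elim hRootOK_E8d_14 r (by omega) h14
  by_cases h15 : r < 228
  · exact allRange_elim hRootOK_E8d_15 r (by omega) h15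
  by_cases h16 : r < 231
  · exact allRange_elim hRootOK_E8d_16 r (by omega) h16
  by_cases h17 : r < 234
  · exact allRange_elim hRootOK_E8d_17 r (by omega) h17
  by_cases h18 : r < 237
  · exact allRange_elim hRootOK_E8d_18 r (by omega) h18
  exact allRange_elim hRootOK_E8d_19 r (by omega) hhi

end Cfsg.Agent.Lib.Helper24
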