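import Cfsg.Agent.Lib.Helper24.HAll
import Cfsg.Agent.Lib.Helper24.Range
import Cfsg.Prelude.Def_LieTypes
import Cfsg.Prelude.Def_ChevB2
import Cfsg.Prelude.Def_ChevD4

set_option autoImplicit false

namespace Cfsg.Agent.Lib.Helper24

open Cfsg.Lie

theorem hRootOK_F4_0 : allRange (hRootOK chevF4) 0 12 = true := by decide +kernel
theorem hRootOK_F4_1 : allRange (hRootOK chevF4) 12 24 = true := by decide +kernel
theorem hRootOK_F4_2 : allRange (hRootOK chevF4) 24 36 = true := by decide +kernel
theorem hRootOK_F4_3 : allRange (hRootOK chevF4) 36 48 = true := by decide +kernel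

theorem hRootOK_F4_all (r : ℕ) (hlo : 0 ≤ r) (hhi : r < 48) : (hRootOK chevF4) r = true := by
  by_cases h0 : r < 12
  · exact allRange_elim hRootOK_F4_0 r (by omega) h0
  by_cases h1 : r < 24
  · exact allRange_elim hRootOK_F4_1 r (by omega) h1
  by_cases h2 : r < 36
  · exact allRange_elim hRootOK_F4_2 r (by omega) h2
  exact allRange_elim hRootOK_F4_3 r (by omega) hhi

end Cfsg.Agent.Lib.Helper24
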