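import Cfsg.Agent.Lib.Helper24.FTAll
import Cfsg.Agent.Lib.Helper24.CFAll
import Cfsg.Agent.Lib.Helper24.HA_G2
import Cfsg.Agent.Lib.Helper24.HA_B2
import Cfsg.Agent.Lib.Helper24.HA_D4
import Cfsg.Agent.Lib.Helper24.HA_F4
import Cfsg.Agent.Lib.Helper24.HA_E6
import Cfsg.Agent.Lib.Helper24.HA_E7a
import Cfsg.Agent.Lib.Helper24.HA_E7b
import Cfsg.Agent.Lib.Helper24.HA_E8a
import Cfsg.Agent.Lib.Helper24.HA_E8b
import Cfsg.Agent.Lib.Helper24.HA_E8c
import Cfsg.Agent.Lib.Helper24.HA_E8d

set_option autoImplicit false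

namespace Cfsg.Agent.Lib.Helper24

open Cfsg.Lie

theorem hRootOK_all (D : ChevalleyDatum)
    (hD : D ∈ [chevG2, chevB2, chevD4, chevF4, chevE6, chevE7, chevE8]) :
    ∀ r < D.nroots, hRootOK D r = true := by
  simp only [List.mem_cons, List.not_mem_nil, or_false] at hD
  rcases hD with rfl | rfl | rfl | rfl | rfl | rfl | rfl
  · exact fun r hr => hRootOK_G2_all r (Nat.zero_le _) hr
  · exact fun r hr => hRootOK_B2_all r (Nat.zero_le _) hr
  · exact fun r hr => hRootOK_D4_all r (Nat.zero_le _) hr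
  · exact fun r hr => hRootOK_F4_all r (Nat.zero_le _) hr
  · exact fun r hr => hRootOK_E6_all r (Nat.zero_le _) hr
  · intro r hr
    have hr' : r < 126 := hr
    by_cases h : r < 63
    · exact hRootOK_E7a_all r (Nat.zero_le _) h
    · exact hRootOK_E7b_all r (by omega) hr'
  · intro r hr
    have hr' : r < 240 := hr
    by_cases h1 : r < 60
    · exact hRootOK_E8a_all r (Nat.zero_le _) h1
    · by_cases h2 : r < 120
      · exact hRootOK_E8b_all r (by omega) h2
      · by_cases h3 : r < 180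
        · exact hRootOK_E8c_all r (by omega) h3
        · exact hRootOK_E8d_all r (by omega) hr'

/-- every `h_r(c)` is the expected diagonal matrix -/
theorem hMat_root {F : Type*} [Field F] (D : ChevalleyDatum)
    (hD : D ∈ [chevG2, chevB2, chevD4, chevF4, chevE6, chevE7, chevE8]) (r : ℕ) (hr : r < D.nroots)
    (c : F) (hc : c ≠ 0) :
    D.hMat F r c = Matrix.diagonal (fun idx : D.Idx => c ^ AE D r (enc D idx)) :=
  hMat_of_hRootOK D (tableOK_all D hD) (cartanFOK_all D hD) r (hRootOK_all D hD r hr) c hc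

end Cfsg.Agent.Lib.Helper24
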