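import Cfsg.Agent.Lib.Helper24.Torus
import Cfsg.Agent.Lib.Helper24.FTAll
import Cfsg.Agent.Lib.Helper24.CFAll
import Cfsg.Agent.Lib.Helper24.COAll
import Cfsg.Agent.Lib.Helper24.AddAll
import Cfsg.Agent.Lib.Helper24.HAAll
import Cfsg.Agent.Lib.Helper24.TriTables
import Cfsg.Agent.Lib.Helper24.TriNegTables

set_option autoImplicit false

namespace Cfsg.Agent.Lib.Helper24

open Cfsg.Lie

theorem facts_all (D : ChevalleyDatum)
    (hD : D ∈ [chevG2, chevB2, chevD4, chevF4, chevE6, chevE7, chevE8]) : Facts D where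
  table := tableOK_all D hD
  cartanF := cartanFOK_all D hD
  cartanOK := cartanOK_all D hD
  add := addOK_all D hD
  hroot := hRootOK_all D hD
  tri := triOK_all D hD
  triNeg := triOKneg_all D hD

end Cfsg.Agent.Lib.Helper24
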