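import Cfsg.Agent.Lib.Helper24.ReflFast

set_option autoImplicit false

namespace Cfsg.Agent.Lib.Helper24

open Cfsg.Lie

/-- the verified facts about the elements `n_p(1)`, `p` fundamental -/
structure NFacts (D : ChevalleyDatum) (tab : List ℕ) : Prop where
  ntab : ∀ i < D.rank, nTabOK D (D.simple i) (tab.getD i 0) = true
  refl : ∀ i < D.rank, ∀ s < D.nroots, reflOK2 D (tab.getD i 0) i s = true

theorem reflectRoot_lt_of_reflOK2 (D : ChevalleyDatum) (P i s : ℕ) (h : reflOK2 D P i s = true) :
    D.reflectRoot i s < D.nroots := by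
  unfold reflOK2 conjPairOK2 at h
  simp only [forceNat_eq, Bool.and_eq_true, decide_eq_true_eq] at h
  exact h.1

end Cfsg.Agent.Lib.Helper24
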