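import Cfsg.Agent.Lib.Helper24.Words
import Cfsg.Agent.Lib.Helper24.NDef

set_option autoImplicit false
set_option linter.unusedSimpArgs false

namespace Cfsg.Agent.Lib.Helper24

open Cfsg.Lie

section nconj

variable {F : Type*} [Field F] {D : ChevalleyDatum} {tab : List ℕ}

/-- the element `n_{p_i}(1)` of the general linear group -/
def Facts.nS (hF : Facts D) (i : ℕ) : GL D.Idx F := hF.nGL (D.simple i) (1 : F)

theorem Facts.nS_val (hF : Facts D) (i : ℕ) :
    ((hF.nS i : GL D.Idx F) : Matrix D.Idx D.Idx F) = D.nMat F (D.simple i) 1 := by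
  unfold Facts.nS Facts.nGL
  rw [hF.wordGL_val]
  rfl

/-- conjugation of root elements by `n_{p_i}` -/
theorem Facts.nS_conj (hF : Facts D) (hN : NFacts D tab) (i : ℕ) (hi : i < D.rank) (s : ℕ)
    (hs : s < D.nroots) :
    ∃ η : ℤ, (η = 1 ∨ η = -1) ∧ ∀ t : F,
      hF.nS i * hF.xGL s t * (hF.nS i)⁻¹ = hF.xGL (D.reflectRoot i s) ((η : F) * t) := by
  obtain ⟨η, hη, h⟩ := refl_of_reflOK2 (F := F) D hF.table (tab.getD i 0) i s hs (hN.ntab i hi)
    (hN.refl i hi s hs)
  refine ⟨η, hη, fun t => ?_⟩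
  rw [mul_inv_eq_iff_eq_mul]
  apply Units.ext
  rw [Units.val_mul, Units.val_mul, hF.nS_val, Facts.xGL_val, Facts.xGL_val]
  exact h t

theorem NFacts.reflectRoot_lt (hN : NFacts D tab) (i : ℕ) (hi : i < D.rank) (s : ℕ)
    (hs : s < D.nroots) : D.reflectRoot i s < D.nroots :=
  reflectRoot_lt_of_reflOK2 D _ i s (hN.refl i hi s hs)

/-- the product of the `n_{p_i}` along a word -/
def Facts.nW (hF : Facts D) (w : List ℕ) : GL D.Idx F := (w.map fun i => (hF.nS i : GL D.Idx F)).prod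

/-- the composite of the reflections along a word -/
def rhoW (D : ChevalleyDatum) (w : List ℕ) (s : ℕ) : ℕ := w.foldr (fun i acc => D.reflectRoot i acc) s

theorem NFacts.rhoW_lt (hN : NFacts D tab) (w : List ℕ) (hw : ∀ i ∈ w, i < D.rank) (s : ℕ)
    (hs : s < D.nroots) : rhoW D w s < D.nroots := by
  induction w with
  | nil => exact hs
  | cons i w ih =>
    simp only [rhoW, List.foldr_cons]
    exact hN.reflectRoot_lt i (hw i List.mem_cons_self) _
      (ih (fun j hj => hw j (List.mem_cons_of_mem _ hj)))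

theorem Facts.nW_conj (hF : Facts D) (hN : NFacts D tab) (w : List ℕ) (hw : ∀ i ∈ w, i < D.rank)
    (s : ℕ) (hs : s < D.nroots) :
    ∃ η : ℤ, (η = 1 ∨ η = -1) ∧ ∀ t : F,
      hF.nW w * hF.xGL s t * (hF.nW w)⁻¹ = hF.xGL (rhoW D w s) ((η : F) * t) := by
  induction w with
  | nil =>
    refine ⟨1, Or.inl rfl, fun t => ?_⟩
    have e : hF.nW (F := F) [] = 1 := by simp [Facts.nW]
    rw [e]
    simp [rhoW]
  | cons i w ih =>
    obtain ⟨η₁, hη₁, h₁⟩ := ih (fun j hj => hw j (List.mem_cons_of_mem _ hj))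
    obtain ⟨η₂, hη₂, h₂⟩ := hF.nS_conj (F := F) hN i (hw i List.mem_cons_self) (rhoW D w s)
      (hN.rhoW_lt w (fun j hj => hw j (List.mem_cons_of_mem _ hj)) s hs)
    refine ⟨η₂ * η₁, ?_, fun t => ?_⟩
    · rcases hη₁ with rfl | rfl <;> rcases hη₂ with rfl | rfl <;> simp
    · have e : hF.nW (F := F) (i :: w) = hF.nS i * hF.nW w := by
        simp [Facts.nW]
      rw [e, mul_inv_rev]
      calc hF.nS i * hF.nW w * hF.xGL s t * ((hF.nW w)⁻¹ * (hF.nS i)⁻¹)
          = hF.nS i * (hF.nW w * hF.xGL s t * (hF.nW w)⁻¹) * (hF.nS i)⁻¹ := by group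
        _ = hF.xGL (rhoW D (i :: w) s) (((η₂ * η₁ : ℤ) : F) * t) := by
          rw [h₁, h₂]
          simp only [rhoW, List.foldr_cons]
          congr 1
          push_cast; ring

theorem Facts.nS_mem_monomial (hF : Facts D) (i : ℕ) (hs : D.simple i < D.nroots) :
    (hF.nS i : GL D.Idx F) ∈ D.monomialSubgroup F :=
  hF.nGL_mem_monomial (D.simple i) hs 1 one_ne_zero

theorem Facts.nW_mem_monomial (hF : Facts D) (w : List ℕ) (hw : ∀ i ∈ w, D.simple i < D.nroots) :
    (hF.nW w : GL D.Idx F) ∈ D.monomialSubgroup F := by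
  unfold Facts.nW
  apply Subgroup.list_prod_mem
  intro x hx
  simp only [List.mem_map] at hx
  obtain ⟨i, hi, rfl⟩ := hx
  exact hF.nS_mem_monomial i (hw i hi)

end nconj

end Cfsg.Agent.Lib.Helper24
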