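import Cfsg.Agent.Lib.Helper24.PairTab
import Cfsg.Agent.Lib.Helper24.NTab
import Cfsg.Prelude.Def_LieTypes
import Cfsg.Prelude.Def_ChevB2
import Cfsg.Prelude.Def_ChevD4

set_option autoImplicit false

namespace Cfsg.Agent.Lib.Helper24

open Cfsg.Lie

theorem pair_B2_0 : allFrom (fun k => pairStepOK chevB2 nTabB2 pairTabB2 pairRepsB2 k) 0 64 = true := by decide +kernel

end Cfsg.Agent.Lib.Helper24
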