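import Cfsg.Agent.Lib.Helper24.PairTab
import Cfsg.Agent.Lib.Helper24.NTab
import Cfsg.Agent.Lib.Helper24.PC_B2_0
import Cfsg.Prelude.Def_LieTypes
import Cfsg.Prelude.Def_ChevB2
import Cfsg.Prelude.Def_ChevD4

set_option autoImplicit false

namespace Cfsg.Agent.Lib.Helper24

open Cfsg.Lie

theorem pair_B2 (k : ℕ) (hk : k < chevB2.nroots * chevB2.nroots) : pairStepOK chevB2 nTabB2 pairTabB2 pairRepsB2 k = true := by
  have hk' : k < 64 := hk
  exact allFrom_elim _ _ _ pair_B2_0 k (by omega) (by omega)

theorem rep_B2_0 : commFullOK chevB2 0 1 = true := by decide +kernel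
theorem rep_B2_1 : commFullOK chevB2 0 3 = true := by decide +kernel
theorem rep_B2_2 : commFullOK chevB2 0 5 = true := by decide +kernel
theorem rep_B2_3 : commFullOK chevB2 1 0 = true := by decide +kernel
theorem rep_B2_4 : commFullOK chevB2 1 2 = true := by decide +kernel
theorem rep_B2_5 : commFullOK chevB2 1 4 = true := by decide +kernel

theorem reps_B2 (p : ℕ × ℕ) (hp : p ∈ pairRepsB2) : commFullOK chevB2 p.1 p.2 = true := by
  simp only [pairRepsB2, List.mem_cons, List.not_mem_nil, or_false] at hp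
  rcases hp with rfl | rfl | rfl | rfl | rfl | rfl
  · exact rep_B2_0
  · exact rep_B2_1
  · exact rep_B2_2
  · exact rep_B2_3
  · exact rep_B2_4
  · exact rep_B2_5

theorem chainrow_B2_0 : allFrom (fun r => chainRowOK chevB2 r) 0 8 = true := by decide +kernel

theorem chainrow_B2 (r : ℕ) (hr : r < chevB2.nroots) : chainRowOK chevB2 r = true := by
  have hr' : r < 8 := hr
  exact allFrom_elim _ _ _ chainrow_B2_0 r (by omega) (by omega)

theorem negrev_B2 : negRevOK chevB2 = true := by decide +kernel

theorem cfacts_B2 : CFacts chevB2 nTabB2 where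
  chain := chainrow_B2
  negRev := negrev_B2
  pairs := ⟨pairTabB2, pairRepsB2, pair_B2, reps_B2⟩

end Cfsg.Agent.Lib.Helper24
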