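import Cfsg.Agent.Lib.Helper24.PairTab
import Cfsg.Agent.Lib.Helper24.NTab
import Cfsg.Agent.Lib.Helper24.PC_D4_0
import Cfsg.Prelude.Def_LieTypes
import Cfsg.Prelude.Def_ChevB2
import Cfsg.Prelude.Def_ChevD4

set_option autoImplicit false

namespace Cfsg.Agent.Lib.Helper24

open Cfsg.Lie

theorem pair_D4 (k : ℕ) (hk : k < chevD4.nroots * chevD4.nroots) : pairStepOK chevD4 nTabD4 pairTabD4 pairRepsD4 k = true := by
  have hk' : k < 576 := hk
  exact allFrom_elim _ _ _ pair_D4_0 k (by omega) (by omega)

theorem rep_D4_0 : commFullOK chevD4 0 1 = true := by decide +kernel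
theorem rep_D4_1 : commFullOK chevD4 0 5 = true := by decide +kernel
theorem rep_D4_2 : commFullOK chevD4 0 10 = true := by decide +kernel
theorem rep_D4_3 : commFullOK chevD4 0 11 = true := by decide +kernel
theorem rep_D4_4 : commFullOK chevD4 0 14 = true := by decide +kernel

theorem reps_D4 (p : ℕ × ℕ) (hp : p ∈ pairRepsD4) : commFullOK chevD4 p.1 p.2 = true := by
  simp only [pairRepsD4, List.mem_cons, List.not_mem_nil, or_false] at hp
  rcases hp with rfl | rfl | rfl | rfl | rfl
  · exact rep_D4_0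
  · exact rep_D4_1
  · exact rep_D4_2
  · exact rep_D4_3
  · exact rep_D4_4

theorem chainrow_D4_0 : allFrom (fun r => chainRowOK chevD4 r) 0 24 = true := by decide +kernel

theorem chainrow_D4 (r : ℕ) (hr : r < chevD4.nroots) : chainRowOK chevD4 r = true := by
  have hr' : r < 24 := hr
  exact allFrom_elim _ _ _ chainrow_D4_0 r (by omega) (by omega)

theorem negrev_D4 : negRevOK chevD4 = true := by decide +kernel

theorem cfacts_D4 : CFacts chevD4 nTabD4 where
  chain := chainrow_D4
  negRev := negrev_D4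
  pairs := ⟨pairTabD4, pairRepsD4, pair_D4, reps_D4⟩

end Cfsg.Agent.Lib.Helper24
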