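import Cfsg.Agent.Lib.Helper24.PairTab
import Cfsg.Agent.Lib.Helper24.NTab
import Cfsg.Agent.Lib.Helper24.PC_E6_0
import Cfsg.Prelude.Def_LieTypes
import Cfsg.Prelude.Def_ChevB2
import Cfsg.Prelude.Def_ChevD4

set_option autoImplicit false

namespace Cfsg.Agent.Lib.Helper24

open Cfsg.Lie

theorem pair_E6 (k : ℕ) (hk : k < chevE6.nroots * chevE6.nroots) : pairStepOK chevE6 nTabE6 pairTabE6 pairRepsE6 k = true := by
  have hk' : k < 5184 := hk
  by_cases h0 : k < 2592
  · exact allFrom_elim _ _ _ pair_E6_0 k (by omega) (by omega)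
  exact allFrom_elim _ _ _ pair_E6_1 k (by omega) (by omega)

theorem rep_E6_0 : commFullOK chevE6 0 1 = true := by decide +kernel
theorem rep_E6_1 : commFullOK chevE6 0 11 = true := by decide +kernel
theorem rep_E6_2 : commFullOK chevE6 0 46 = true := by decide +kernel

theorem reps_E6 (p : ℕ × ℕ) (hp : p ∈ pairRepsE6) : commFullOK chevE6 p.1 p.2 = true := by
  simp only [pairRepsE6, List.mem_cons, List.not_mem_nil, or_false] at hp
  rcases hp with rfl | rfl | rfl
  · exact rep_E6_0
  · exact rep_E6_1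
  · exact rep_E6_2

theorem chainrow_E6_0 : allFrom (fun r => chainRowOK chevE6 r) 0 72 = true := by decide +kernel

theorem chainrow_E6 (r : ℕ) (hr : r < chevE6.nroots) : chainRowOK chevE6 r = true := by
  have hr' : r < 72 := hr
  exact allFrom_elim _ _ _ chainrow_E6_0 r (by omega) (by omega)

theorem negrev_E6 : negRevOK chevE6 = true := by decide +kernel

theorem cfacts_E6 : CFacts chevE6 nTabE6 where
  chain := chainrow_E6
  negRev := negrev_E6
  pairs := ⟨pairTabE6, pairRepsE6, pair_E6, reps_E6⟩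

end Cfsg.Agent.Lib.Helper24
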