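import Cfsg.Agent.Lib.Helper24.PairTab
import Cfsg.Agent.Lib.Helper24.NTab
import Cfsg.Agent.Lib.Helper24.PC_E7_0
import Cfsg.Prelude.Def_LieTypes
import Cfsg.Prelude.Def_ChevB2
import Cfsg.Prelude.Def_ChevD4

set_option autoImplicit false

namespace Cfsg.Agent.Lib.Helper24

open Cfsg.Lie

theorem pair_E7 (k : ℕ) (hk : k < chevE7.nroots * chevE7.nroots) : pairStepOK chevE7 nTabE7 pairTabE7 pairRepsE7 k = true := by
  have hk' : k < 15876 := hk
  by_cases h0 : k < 3969
  · exact allFrom_elim _ _ _ pair_E7_0 k (by omega) (by omega)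
  by_cases h1 : k < 7938
  · exact allFrom_elim _ _ _ pair_E7_1 k (by omega) (by omega)
  by_cases h2 : k < 11907
  · exact allFrom_elim _ _ _ pair_E7_2 k (by omega) (by omega)
  exact allFrom_elim _ _ _ pair_E7_3 k (by omega) (by omega)

theorem rep_E7_0 : commFullOK chevE7 0 1 = true := by decide +kernel
theorem rep_E7_1 : commFullOK chevE7 0 33 = true := by decide +kernel
theorem rep_E7_2 : commFullOK chevE7 0 93 = true := by decide +kernel

theorem reps_E7 (p : ℕ × ℕ) (hp : p ∈ pairRepsE7) : commFullOK chevE7 p.1 p.2 = true := by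
  simp only [pairRepsE7, List.mem_cons, List.not_mem_nil, or_false] at hp
  rcases hp with rfl | rfl | rfl
  · exact rep_E7_0
  · exact rep_E7_1
  · exact rep_E7_2

theorem chainrow_E7_0 : allFrom (fun r => chainRowOK chevE7 r) 0 126 = true := by decide +kernel

theorem chainrow_E7 (r : ℕ) (hr : r < chevE7.nroots) : chainRowOK chevE7 r = true := by
  have hr' : r < 126 := hr
  exact allFrom_elim _ _ _ chainrow_E7_0 r (by omega) (by omega)

theorem negrev_E7 : negRevOK chevE7 = true := by decide +kernel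

theorem cfacts_E7 : CFacts chevE7 nTabE7 where
  chain := chainrow_E7
  negRev := negrev_E7
  pairs := ⟨pairTabE7, pairRepsE7, pair_E7, reps_E7⟩

end Cfsg.Agent.Lib.Helper24
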