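import Cfsg.Agent.Lib.Helper24.PairTab
import Cfsg.Agent.Lib.Helper24.NTab
import Cfsg.Prelude.Def_LieTypes
import Cfsg.Prelude.Def_ChevB2
import Cfsg.Prelude.Def_ChevD4

set_option autoImplicit false

namespace Cfsg.Agent.Lib.Helper24

open Cfsg.Lie

theorem pair_E8_0 : allFrom (fun k => pairStepOK chevE8 nTabE8 pairTabE8 pairRepsE8 k) 0 4800 = true := by decide +kernel
theorem pair_E8_1 : allFrom (fun k => pairStepOK chevE8 nTabE8 pairTabE8 pairRepsE8 k) 4800 4800 = true := by decide +kernel
theorem pair_E8_2 : allFrom (fun k => pairStepOK chevE8 nTabE8 pairTabE8 pairRepsE8 k) 9600 4800 = true := by decide +kernel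
theorem pair_E8_3 : allFrom (fun k => pairStepOK chevE8 nTabE8 pairTabE8 pairRepsE8 k) 14400 4800 = true := by decide +kernel
theorem pair_E8_4 : allFrom (fun k => pairStepOK chevE8 nTabE8 pairTabE8 pairRepsE8 k) 19200 4800 = true := by decide +kernel
theorem pair_E8_5 : allFrom (fun k => pairStepOK chevE8 nTabE8 pairTabE8 pairRepsE8 k) 24000 4800 = true := by decide +kernel

end Cfsg.Agent.Lib.Helper24
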