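import Cfsg.Agent.Lib.Helper24.PairTab
import Cfsg.Agent.Lib.Helper24.NTab
import Cfsg.Agent.Lib.Helper24.PC_E8_0
import Cfsg.Agent.Lib.Helper24.PC_E8_1
import Cfsg.Prelude.Def_LieTypes
import Cfsg.Prelude.Def_ChevB2
import Cfsg.Prelude.Def_ChevD4

set_option autoImplicit false

namespace Cfsg.Agent.Lib.Helper24

open Cfsg.Lie

theorem pair_E8 (k : ℕ) (hk : k < chevE8.nroots * chevE8.nroots) : pairStepOK chevE8 nTabE8 pairTabE8 pairRepsE8 k = true := by
  have hk' : k < 57600 := hk
  by_cases h0 : k < 4800
  · exact allFrom_elim _ _ _ pair_E8_0 k (by omega) (by omega)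
  by_cases h1 : k < 9600
  · exact allFrom_elim _ _ _ pair_E8_1 k (by omega) (by omega)
  by_cases h2 : k < 14400
  · exact allFrom_elim _ _ _ pair_E8_2 k (by omega) (by omega)
  by_cases h3 : k < 19200
  · exact allFrom_elim _ _ _ pair_E8_3 k (by omega) (by omega)
  by_cases h4 : k < 24000
  · exact allFrom_elim _ _ _ pair_E8_4 k (by omega) (by omega)
  by_cases h5 : k < 28800
  · exact allFrom_elim _ _ _ pair_E8_5 k (by omega) (by omega)
  by_cases h6 : k < 33600
  · exact allFrom_elim _ _ _ pair_E8_6 k (by omega) (by omega)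
  by_cases h7 : k < 38400
  · exact allFrom_elim _ _ _ pair_E8_7 k (by omega) (by omega)
  by_cases h8 : k < 43200
  · exact allFrom_elim _ _ _ pair_E8_8 k (by omega) (by omega)
  by_cases h9 : k < 48000
  · exact allFrom_elim _ _ _ pair_E8_9 k (by omega) (by omega)
  by_cases h10 : k < 52800
  · exact allFrom_elim _ _ _ pair_E8_10 k (by omega) (by omega)
  exact allFrom_elim _ _ _ pair_E8_11 k (by omega) (by omega)

theorem rep_E8_0 : commFullOK chevE8 0 1 = true := by decide +kernel
theorem rep_E8_1 : commFullOK chevE8 0 13 = true := by decide +kernel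
theorem rep_E8_2 : commFullOK chevE8 0 120 = true := by decide +kernel

theorem reps_E8 (p : ℕ × ℕ) (hp : p ∈ pairRepsE8) : commFullOK chevE8 p.1 p.2 = true := by
  simp only [pairRepsE8, List.mem_cons, List.not_mem_nil, or_false] at hp
  rcases hp with rfl | rfl | rfl
  · exact rep_E8_0
  · exact rep_E8_1
  · exact rep_E8_2

theorem chainrow_E8_0 : allFrom (fun r => chainRowOK chevE8 r) 0 60 = true := by decide +kernel
theorem chainrow_E8_1 : allFrom (fun r => chainRowOK chevE8 r) 60 60 = true := by decide +kernel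
theorem chainrow_E8_2 : allFrom (fun r => chainRowOK chevE8 r) 120 60 = true := by decide +kernel
theorem chainrow_E8_3 : allFrom (fun r => chainRowOK chevE8 r) 180 60 = true := by decide +kernel

theorem chainrow_E8 (r : ℕ) (hr : r < chevE8.nroots) : chainRowOK chevE8 r = true := by
  have hr' : r < 240 := hr
  by_cases h0 : r < 60
  · exact allFrom_elim _ _ _ chainrow_E8_0 r (by omega) (by omega)
  by_cases h1 : r < 120
  · exact allFrom_elim _ _ _ chainrow_E8_1 r (by omega) (by omega)
  by_cases h2 : r < 180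
  · exact allFrom_elim _ _ _ chainrow_E8_2 r (by omega) (by omega)
  exact allFrom_elim _ _ _ chainrow_E8_3 r (by omega) (by omega)

theorem negrev_E8 : negRevOK chevE8 = true := by decide +kernel

theorem cfacts_E8 : CFacts chevE8 nTabE8 where
  chain := chainrow_E8
  negRev := negrev_E8
  pairs := ⟨pairTabE8, pairRepsE8, pair_E8, reps_E8⟩

end Cfsg.Agent.Lib.Helper24
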