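import Cfsg.Agent.Lib.Helper24.PairTab
import Cfsg.Agent.Lib.Helper24.NTab
import Cfsg.Agent.Lib.Helper24.PC_F4_0
import Cfsg.Prelude.Def_LieTypes
import Cfsg.Prelude.Def_ChevB2
import Cfsg.Prelude.Def_ChevD4

set_option autoImplicit false

namespace Cfsg.Agent.Lib.Helper24

open Cfsg.Lie

theorem pair_F4 (k : ℕ) (hk : k < chevF4.nroots * chevF4.nroots) : pairStepOK chevF4 nTabF4 pairTabF4 pairRepsF4 k = true := by
  have hk' : k < 2304 := hk
  exact allFrom_elim _ _ _ pair_F4_0 k (by omega) (by omega)

theorem rep_F4_0 : commFullOK chevF4 0 1 = true := by decide +kernel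
theorem rep_F4_1 : commFullOK chevF4 0 3 = true := by decide +kernel
theorem rep_F4_2 : commFullOK chevF4 0 6 = true := by decide +kernel
theorem rep_F4_3 : commFullOK chevF4 0 10 = true := by decide +kernel
theorem rep_F4_4 : commFullOK chevF4 0 24 = true := by decide +kernel
theorem rep_F4_5 : commFullOK chevF4 0 29 = true := by decide +kernel
theorem rep_F4_6 : commFullOK chevF4 3 0 = true := by decide +kernel
theorem rep_F4_7 : commFullOK chevF4 3 7 = true := by decide +kernel
theorem rep_F4_8 : commFullOK chevF4 3 15 = true := by decide +kernel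
theorem rep_F4_9 : commFullOK chevF4 3 18 = true := by decide +kernel
theorem rep_F4_10 : commFullOK chevF4 3 33 = true := by decide +kernel
theorem rep_F4_11 : commFullOK chevF4 3 41 = true := by decide +kernel

theorem reps_F4 (p : ℕ × ℕ) (hp : p ∈ pairRepsF4) : commFullOK chevF4 p.1 p.2 = true := by
  simp only [pairRepsF4, List.mem_cons, List.not_mem_nil, or_false] at hp
  rcases hp with rfl | rfl | rfl | rfl | rfl | rfl | rfl | rfl | rfl | rfl | rfl | rfl
  · exact rep_F4_0
  · exact rep_F4_1
  · exact rep_F4_2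
  · exact rep_F4_3
  · exact rep_F4_4
  · exact rep_F4_5
  · exact rep_F4_6
  · exact rep_F4_7
  · exact rep_F4_8
  · exact rep_F4_9
  · exact rep_F4_10
  · exact rep_F4_11

theorem chainrow_F4_0 : allFrom (fun r => chainRowOK chevF4 r) 0 48 = true := by decide +kernel

theorem chainrow_F4 (r : ℕ) (hr : r < chevF4.nroots) : chainRowOK chevF4 r = true := by
  have hr' : r < 48 := hr
  exact allFrom_elim _ _ _ chainrow_F4_0 r (by omega) (by omega)

theorem negrev_F4 : negRevOK chevF4 = true := by decide +kernel

theorem cfacts_F4 : CFacts chevF4 nTabF4 where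
  chain := chainrow_F4
  negRev := negrev_F4
  pairs := ⟨pairTabF4, pairRepsF4, pair_F4, reps_F4⟩

end Cfsg.Agent.Lib.Helper24
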