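import Cfsg.Agent.Lib.Helper24.PairTab
import Cfsg.Agent.Lib.Helper24.NTab
import Cfsg.Agent.Lib.Helper24.PC_G2_0
import Cfsg.Prelude.Def_LieTypes
import Cfsg.Prelude.Def_ChevB2
import Cfsg.Prelude.Def_ChevD4

set_option autoImplicit false

namespace Cfsg.Agent.Lib.Helper24

open Cfsg.Lie

theorem pair_G2 (k : ℕ) (hk : k < chevG2.nroots * chevG2.nroots) : pairStepOK chevG2 nTabG2 pairTabG2 pairRepsG2 k = true := by
  have hk' : k < 144 := hk
  exact allFrom_elim _ _ _ pair_G2_0 k (by omega) (by omega)

theorem rep_G2_0 : commFullOK chevG2 0 1 = true := by decide +kernel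
theorem rep_G2_1 : commFullOK chevG2 0 2 = true := by decide +kernel
theorem rep_G2_2 : commFullOK chevG2 0 4 = true := by decide +kernel
theorem rep_G2_3 : commFullOK chevG2 0 6 = true := by decide +kernel
theorem rep_G2_4 : commFullOK chevG2 0 8 = true := by decide +kernel
theorem rep_G2_5 : commFullOK chevG2 2 0 = true := by decide +kernel
theorem rep_G2_6 : commFullOK chevG2 2 3 = true := by decide +kernel
theorem rep_G2_7 : commFullOK chevG2 2 5 = true := by decide +kernel
theorem rep_G2_8 : commFullOK chevG2 2 7 = true := by decide +kernel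
theorem rep_G2_9 : commFullOK chevG2 2 10 = true := by decide +kernel

theorem reps_G2 (p : ℕ × ℕ) (hp : p ∈ pairRepsG2) : commFullOK chevG2 p.1 p.2 = true := by
  simp only [pairRepsG2, List.mem_cons, List.not_mem_nil, or_false] at hp
  rcases hp with rfl | rfl | rfl | rfl | rfl | rfl | rfl | rfl | rfl | rfl
  · exact rep_G2_0
  · exact rep_G2_1
  · exact rep_G2_2
  · exact rep_G2_3
  · exact rep_G2_4
  · exact rep_G2_5
  · exact rep_G2_6
  · exact rep_G2_7
  · exact rep_G2_8
  · exact rep_G2_9

theorem chainrow_G2_0 : allFrom (fun r => chainRowOK chevG2 r) 0 12 = true := by decide +kernel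

theorem chainrow_G2 (r : ℕ) (hr : r < chevG2.nroots) : chainRowOK chevG2 r = true := by
  have hr' : r < 12 := hr
  exact allFrom_elim _ _ _ chainrow_G2_0 r (by omega) (by omega)

theorem negrev_G2 : negRevOK chevG2 = true := by decide +kernel

theorem cfacts_G2 : CFacts chevG2 nTabG2 where
  chain := chainrow_G2
  negRev := negrev_G2
  pairs := ⟨pairTabG2, pairRepsG2, pair_G2, reps_G2⟩

end Cfsg.Agent.Lib.Helper24
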