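import Cfsg.Agent.Lib.Helper24.TriGroups

set_option autoImplicit false
set_option linter.unusedSimpArgs false

namespace Cfsg.Agent.Lib.Helper24

section groups

variable {G : Type*} [Group G]

/-- an element conjugating a generating set into the subgroup, together with its inverse, normalises it -/
theorem mem_normalizer_closure (S : Set G) (g : G)
    (h1 : ∀ x ∈ S, g * x * g⁻¹ ∈ Subgroup.closure S)
    (h2 : ∀ x ∈ S, g⁻¹ * x * g ∈ Subgroup.closure S) :
    g ∈ Subgroup.normalizer (Subgroup.closure S : Set G) := by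
  have key : ∀ (a : G), (∀ x ∈ S, a * x * a⁻¹ ∈ Subgroup.closure S) →
      ∀ n ∈ Subgroup.closure S, a * n * a⁻¹ ∈ Subgroup.closure S := by
    intro a ha n hn
    induction hn using Subgroup.closure_induction with
    | mem x hx => exact ha x hx
    | one => simp
    | mul x y _ _ hx hy =>
      have : a * (x * y) * a⁻¹ = (a * x * a⁻¹) * (a * y * a⁻¹) := by group
      rw [this]; exact Subgroup.mul_mem _ hx hy
    | inv x _ hx =>
      have : a * x⁻¹ * a⁻¹ = (a * x * a⁻¹)⁻¹ := by group
      rw [this]; exact Subgroup.inv_mem _ hx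
  rw [Subgroup.mem_normalizer_iff]
  intro n
  constructor
  · intro hn
    exact key g h1 n hn
  · intro hn
    have := key g⁻¹ (by simpa using h2) _ hn
    simpa [mul_assoc] using this

/-- if `H` normalises `V` then every element of `V ⊔ H` is a product `v * h` -/
theorem exists_mul_of_mem_sup_of_le_normalizer (V H : Subgroup G)
    (hN : H ≤ Subgroup.normalizer (V : Set G)) (g : G) (hg : g ∈ V ⊔ H) :
    ∃ v ∈ V, ∃ h ∈ H, g = v * h := by
  let K : Subgroup G :=
    { carrier := {g | ∃ v ∈ V, ∃ h ∈ H, g = v * h}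
      one_mem' := ⟨1, V.one_mem, 1, H.one_mem, by simp⟩
      mul_mem' := by
        rintro _ _ ⟨v1, hv1, h1, hh1, rfl⟩ ⟨v2, hv2, h2, hh2, rfl⟩
        refine ⟨v1 * (h1 * v2 * h1⁻¹), V.mul_mem hv1 ?_, h1 * h2, H.mul_mem hh1 hh2, by group⟩
        exact (Subgroup.mem_normalizer_iff.mp (hN hh1) v2).mp hv2
      inv_mem' := by
        rintro _ ⟨v, hv, h, hh, rfl⟩
        refine ⟨h⁻¹ * v⁻¹ * (h⁻¹)⁻¹, ?_, h⁻¹, H.inv_mem hh, by group⟩
        exact (Subgroup.mem_normalizer_iff.mp (hN (H.inv_mem hh)) v⁻¹).mp (V.inv_mem hv) }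
  have hVK : V ≤ K := fun v hv => ⟨v, hv, 1, H.one_mem, by simp⟩
  have hHK : H ≤ K := fun h hh => ⟨1, V.one_mem, h, hh, by simp⟩
  exact (sup_le hVK hHK) hg

end groups

section solv

variable {m : Type*} [Fintype m] [DecidableEq m] {F : Type*} [Field F]

/-- the diagonal entries, as a homomorphism on lower triangular matrices -/
noncomputable def diagHom (b : m → ℕ) (hb : Function.Injective b) :
    ↥(lowerTri (F := F) b) →* (m → Fˣ) where
  toFun g := fun i =>
    ⟨(g.1 : Matrix m m F) i i, ((g.1⁻¹ : GL m F) : Matrix m m F) i i, by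
      rw [← lowerTri_diag_mul b hb g.1 g.1⁻¹ g.2 ((lowerTri b).inv_mem g.2)]
      simp, by
      rw [← lowerTri_diag_mul b hb g.1⁻¹ g.1 ((lowerTri b).inv_mem g.2) g.2]
      simp⟩
  map_one' := by
    funext i
    apply Units.ext
    simp
  map_mul' := by
    intro g h
    funext i
    apply Units.ext
    simp only [Subgroup.coe_mul, Pi.mul_apply, Units.val_mul]
    exact lowerTri_diag_mul b hb g.1 h.1 g.2 h.2 i

theorem diagHom_apply (b : m → ℕ) (hb : Function.Injective b) (g : ↥(lowerTri (F := F) b)) (i : m) :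
    ((diagHom b hb g i : Fˣ) : F) = (g.1 : Matrix m m F) i i := rfl

/-- subgroups of the lower triangular group are solvable -/
theorem isSolvable_of_le_lowerTri (b : m → ℕ) (hb : Function.Injective b) (n : ℕ) (hbn : ∀ i, b i < n)
    (B : Subgroup (GL m F)) (hB : B ≤ lowerTri (F := F) b) : Group.IsSolvable B := by
  let φ : ↥B →* (m → Fˣ) := (diagHom b hb).comp (Subgroup.inclusion hB)
  have hker : ∀ g : ↥B, g ∈ φ.ker → g.1 ∈ uniTri (F := F) b hb := by
    intro g hg
    rw [MonoidHom.mem_ker] at hg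
    rw [mem_uniTri]
    refine ⟨hB g.2, ?_⟩
    intro i
    have := congrArg (fun f : m → Fˣ => ((f i : Fˣ) : F)) hg
    simpa [φ, diagHom_apply] using this
  let j : ↥φ.ker →* ↥(uniTri (F := F) b hb) :=
    { toFun := fun g => ⟨g.1.1, hker g.1 g.2⟩
      map_one' := rfl
      map_mul' := fun _ _ => rfl }
  have hj : Function.Injective j := by
    intro x y hxy
    have : x.1.1 = y.1.1 := congrArg (fun z : ↥(uniTri (F := F) b hb) => z.1) hxy
    exact Subtype.ext (Subtype.ext this)
  have : Group.IsNilpotent ↥(uniTri (F := F) b hb) :=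
    isNilpotent_of_le_uniTri b hb n hbn _ le_rfl
  have : Group.IsSolvable ↥φ.ker := Group.isSolvable_of_isSolvable_injective hj
  exact Group.isSolvable_of_ker_le_range φ.ker.subtype φ (by simp)

end solv

end Cfsg.Agent.Lib.Helper24
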