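import Cfsg.Agent.Lib.Helper24.UFact

set_option autoImplicit false
set_option linter.unusedSimpArgs false

namespace Cfsg.Agent.Lib.Helper24

open Cfsg.Lie

section ucard

variable {F : Type*} [Field F] {D : ChevalleyDatum}

/-- extend a coefficient family on the positive roots by zero -/
def extCoeff (N : ℕ) (t : Fin N → F) : ℕ → F :=
  fun r => if h : N ≤ r ∧ r < N + N then t ⟨r - N, by omega⟩ else 0

theorem extCoeff_add (N : ℕ) (t : Fin N → F) (k : Fin N) : extCoeff N t (N + k.val) = t k := by
  unfold extCoeff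
  have h : N ≤ N + k.val ∧ N + k.val < N + N := ⟨by omega, by have := k.isLt; omega⟩
  rw [dif_pos h]
  congr 1
  apply Fin.ext
  simp

/-- S1027 -/
theorem Facts.card_posUnipotent [Fintype F] (hF : Facts D) (hC : ChainOK D) (hU : UFacts D)
    (hNR : negRevOK D = true)
    (hcomm : ∀ r < D.nroots, ∀ s < D.nroots, s ≠ r → s ≠ D.neg r → hF.QF F r s) :
    Nat.card (D.posUnipotent F) = Fintype.card F ^ (D.nroots / 2) := by
  have heven := posHalf_even D hU.half
  have hposk : ∀ k : Fin (D.nroots / 2), D.IsPosRoot (D.nroots / 2 + k.val) := fun k =>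
    (posHalf_spec D hU.half _).mpr ⟨by omega, by have := k.isLt; omega⟩
  let Ψ : (Fin (D.nroots / 2) → F) → D.posUnipotent F := fun t =>
    ⟨hF.ordProd D.posRoots (extCoeff (D.nroots / 2) t), by
      rw [posUnipotent_eq_rootClosure]; exact hF.ordProd_mem _ _⟩
  have hbij : Function.Bijective Ψ := by
    constructor
    · intro t t' h
      have h1 : hF.ordProd D.posRoots (extCoeff (D.nroots / 2) t) =
          hF.ordProd D.posRoots (extCoeff (D.nroots / 2) t') := congrArg Subtype.val h
      funext k
      have h2 := hF.factorization_unique hU _ _ h1 _ (hposk k)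
      rwa [extCoeff_add, extCoeff_add] at h2
    · rintro ⟨g, hg⟩
      obtain ⟨t0, _, ht⟩ := hF.exists_factorization hC hU hNR hcomm g hg
      refine ⟨fun k => t0 (D.nroots / 2 + k.val), ?_⟩
      apply Subtype.ext
      show hF.ordProd D.posRoots (extCoeff (D.nroots / 2) fun k => t0 (D.nroots / 2 + k.val)) = g
      rw [ht]
      apply hF.ordProd_congr
      intro r hr
      obtain ⟨h1, h2⟩ := (posHalf_spec D hU.half r).mp ((mem_posRoots D r).mp hr)
      unfold extCoeff
      rw [dif_pos ⟨h1, by omega⟩]
      show t0 (D.nroots / 2 + (r - D.nroots / 2)) = t0 r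
      congr 1
      omega
  rw [← Nat.card_eq_of_bijective Ψ hbij, Nat.card_fun, Nat.card_fin, Nat.card_eq_fintype_card]

end ucard

end Cfsg.Agent.Lib.Helper24
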