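import Cfsg.Agent.Lib.Helper24.Torus

set_option autoImplicit false
set_option linter.unusedSimpArgs false

namespace Cfsg.Agent.Lib.Helper24

open Cfsg.Lie

/-- root table check: every root is positive or negative, negation exchanges the two classes and is an involution -/
def rootTableOK (D : ChevalleyDatum) : Bool :=
  (List.range D.nroots).all fun r =>
    (decide (D.IsPosRoot r) || decide (D.IsNegRoot r)) &&
    (decide (D.neg r < D.nroots) && decide (D.neg (D.neg r) = r)) &&
    ((!(decide (D.IsNegRoot r)) || decide (D.IsPosRoot (D.neg r))) &&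
     (!(decide (D.IsPosRoot r)) || decide (D.IsNegRoot (D.neg r))))

theorem rootTableOK_spec (D : ChevalleyDatum) (h : rootTableOK D = true) (r : ℕ) (hr : r < D.nroots) :
    (D.IsPosRoot r ∨ D.IsNegRoot r) ∧ D.neg r < D.nroots ∧ D.neg (D.neg r) = r ∧
      (D.IsNegRoot r → D.IsPosRoot (D.neg r)) ∧ (D.IsPosRoot r → D.IsNegRoot (D.neg r)) := by
  simp only [rootTableOK, List.all_eq_true, List.mem_range, Bool.and_eq_true, Bool.or_eq_true,
    decide_eq_true_eq, Bool.not_eq_true', decide_eq_false_iff_not] at h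
  obtain ⟨⟨h1, h2, h3⟩, h4, h5⟩ := h r hr
  refine ⟨h1, h2, h3, ?_, ?_⟩
  · intro hn; rcases h4 with h | h
    · exact absurd hn h
    · exact h
  · intro hp; rcases h5 with h | h
    · exact absurd hp h
    · exact h

section words

variable {F : Type*} [Field F] {D : ChevalleyDatum}

/-- the element of the general linear group given by a word in root elements -/
def Facts.wordGL (hF : Facts D) (w : List (ℕ × F)) : GL D.Idx F :=
  (w.map fun p => hF.xGL p.1 p.2).prod

theorem Facts.wordGL_val (hF : Facts D) (w : List (ℕ × F)) :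
    ((hF.wordGL w : GL D.Idx F) : Matrix D.Idx D.Idx F) = D.wordMat F w := by
  induction w with
  | nil => simp [Facts.wordGL, ChevalleyDatum.wordMat]
  | cons p rest ih =>
    simp only [Facts.wordGL, ChevalleyDatum.wordMat, List.map_cons, List.prod_cons, Units.val_mul,
      Facts.xGL_val] at ih ⊢
    rw [ih]

theorem Facts.eq_wordGL (hF : Facts D) (g : GL D.Idx F) (w : List (ℕ × F))
    (hg : (g : Matrix D.Idx D.Idx F) = D.wordMat F w) : g = hF.wordGL w :=
  Units.ext (by rw [hg, hF.wordGL_val])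

theorem Facts.xGL_mem_group (hF : Facts D) (s : ℕ) (t : F) : hF.xGL s t ∈ D.group F := by
  by_cases hs : s < D.nroots
  · apply Subgroup.subset_closure
    refine ⟨⟨s, hs⟩, t, ?_⟩
    simp [ChevalleyDatum.x, hs]
  · have : hF.xGL s t = 1 := by
      apply Units.ext
      simp [ChevalleyDatum.x, hs]
    rw [this]; exact Subgroup.one_mem _

theorem Facts.wordGL_mem_group (hF : Facts D) (w : List (ℕ × F)) : hF.wordGL w ∈ D.group F := by
  unfold Facts.wordGL
  apply Subgroup.list_prod_mem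
  intro x hx
  simp only [List.mem_map] at hx
  obtain ⟨p, _, rfl⟩ := hx
  exact hF.xGL_mem_group p.1 p.2

theorem Facts.xGL_mul (hF : Facts D) (s : ℕ) (t₁ t₂ : F) :
    hF.xGL s t₁ * hF.xGL s t₂ = hF.xGL s (t₁ + t₂) :=
  Units.ext (by simp [hF.x_add])

theorem Facts.xGL_zero (hF : Facts D) (s : ℕ) : hF.xGL s (0 : F) = 1 :=
  Units.ext (by simp [x_zero])

theorem Facts.xGL_inv (hF : Facts D) (s : ℕ) (t : F) : (hF.xGL s t)⁻¹ = hF.xGL s (-t) := by
  rw [inv_eq_iff_mul_eq_one, hF.xGL_mul, add_neg_cancel, hF.xGL_zero]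

theorem Facts.pos_le_group (hF : Facts D) : D.posUnipotent F ≤ D.group F := by
  unfold ChevalleyDatum.posUnipotent
  rw [Subgroup.closure_le]
  rintro g ⟨r, t, _, hg⟩
  rw [hF.eq_xGL g r t hg]
  exact hF.xGL_mem_group r t

theorem Facts.diagonal_le_group (hF : Facts D) : D.diagonalSubgroup F ≤ D.group F := by
  unfold ChevalleyDatum.diagonalSubgroup
  rw [Subgroup.closure_le]
  rintro g ⟨r, t, _, _, hg⟩
  rw [hF.eq_wordGL g (D.hWord r t) hg]
  exact hF.wordGL_mem_group _

theorem Facts.monomial_le_group (hF : Facts D) : D.monomialSubgroup F ≤ D.group F := by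
  unfold ChevalleyDatum.monomialSubgroup
  apply sup_le hF.diagonal_le_group
  rw [Subgroup.closure_le]
  rintro g ⟨r, _, hg⟩
  rw [hF.eq_wordGL g (D.nWord r 1) hg]
  exact hF.wordGL_mem_group _

theorem Facts.borel_le_group (hF : Facts D) : D.borelSubgroup F ≤ D.group F := by
  unfold ChevalleyDatum.borelSubgroup
  exact sup_le hF.pos_le_group hF.diagonal_le_group

/-- `n_s(u)` as a group element -/
def Facts.nGL (hF : Facts D) (s : ℕ) (u : F) : GL D.Idx F := hF.wordGL (D.nWord s u)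

theorem Facts.nGL_def (hF : Facts D) (s : ℕ) (u : F) :
    hF.nGL s u = hF.xGL s u * hF.xGL (D.neg s) (-u⁻¹) * hF.xGL s u := by
  simp [Facts.nGL, Facts.wordGL, ChevalleyDatum.nWord, mul_assoc]

theorem Facts.nGL_neg_one_mul (hF : Facts D) (s : ℕ) : hF.nGL s (-1 : F) * hF.nGL s 1 = 1 := by
  rw [hF.nGL_def, hF.nGL_def]
  have e1 : -(-1 : F)⁻¹ = 1 := by simp
  have e2 : -(1 : F)⁻¹ = -1 := by simp
  rw [e1, e2]
  calc hF.xGL s (-1 : F) * hF.xGL (D.neg s) (1 : F) * hF.xGL s (-1 : F) *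
        (hF.xGL s (1 : F) * hF.xGL (D.neg s) (-1 : F) * hF.xGL s (1 : F))
      = hF.xGL s (-1 : F) * hF.xGL (D.neg s) (1 : F) * (hF.xGL s (-1 : F) * hF.xGL s (1 : F)) *
          hF.xGL (D.neg s) (-1 : F) * hF.xGL s (1 : F) := by
        group
    _ = hF.xGL s (-1 : F) * (hF.xGL (D.neg s) (1 : F) * hF.xGL (D.neg s) (-1 : F)) *
          hF.xGL s (1 : F) := by
        rw [hF.xGL_mul, neg_add_cancel, hF.xGL_zero]; group
    _ = 1 := by
        rw [hF.xGL_mul, add_neg_cancel, hF.xGL_zero, mul_one, hF.xGL_mul, neg_add_cancel, hF.xGL_zero]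

theorem Facts.nGL_mem_monomial (hF : Facts D) (s : ℕ) (hs : s < D.nroots) (u : F) (hu : u ≠ 0) :
    hF.nGL s u ∈ D.monomialSubgroup F := by
  -- n_s(u) = h_s(u) * n_s(1)
  have hh : hF.wordGL (D.hWord s u) ∈ D.diagonalSubgroup F := by
    apply Subgroup.subset_closure
    exact ⟨s, u, hs, hu, by rw [hF.wordGL_val]; rfl⟩
  have hn : hF.nGL s 1 ∈ Subgroup.closure {g : GL D.Idx F | ∃ r : ℕ, r < D.nroots ∧
      (g : Matrix D.Idx D.Idx F) = D.nMat F r 1} := by
    apply Subgroup.subset_closure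
    exact ⟨s, hs, by rw [Facts.nGL, hF.wordGL_val]; rfl⟩
  have e : hF.wordGL (D.hWord s u) = hF.nGL s u * hF.nGL s (-1) := by
    simp [Facts.wordGL, Facts.nGL, ChevalleyDatum.hWord, List.map_append, List.prod_append]
  have e2 : hF.nGL s u = hF.wordGL (D.hWord s u) * hF.nGL s 1 := by
    rw [e, mul_assoc, hF.nGL_neg_one_mul, mul_one]
  rw [e2]
  unfold ChevalleyDatum.monomialSubgroup
  exact Subgroup.mul_mem _ (Subgroup.mem_sup_left hh) (Subgroup.mem_sup_right hn)

/-- S1043 -/
theorem Facts.borel_monomial (hF : Facts D) (hR : rootTableOK D = true) :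
    D.borelSubgroup F ≤ D.group F ∧ D.monomialSubgroup F ≤ D.group F ∧
      D.borelSubgroup F ⊔ D.monomialSubgroup F = D.group F := by
  refine ⟨hF.borel_le_group, hF.monomial_le_group, ?_⟩
  apply le_antisymm (sup_le hF.borel_le_group hF.monomial_le_group)
  unfold ChevalleyDatum.group
  rw [Subgroup.closure_le]
  rintro g ⟨r, t, hg⟩
  have hx : D.x F r.val t = D.xMat F r t := by simp [ChevalleyDatum.x]
  rw [← hx] at hg
  rw [hF.eq_xGL g r.val t hg]
  obtain ⟨hpn, hlt, hnn, hnp, _⟩ := rootTableOK_spec D hR r.val r.isLt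
  have hUB : D.posUnipotent F ≤ D.borelSubgroup F ⊔ D.monomialSubgroup F := by
    unfold ChevalleyDatum.borelSubgroup
    exact le_trans le_sup_left le_sup_left
  rcases hpn with hp | hn
  · exact hUB (hF.xGL_mem_pos r.val hp t)
  · by_cases ht : t = 0
    · rw [ht, hF.xGL_zero]; exact Subgroup.one_mem _
    · have hs := hnp hn
      set s := D.neg r.val with hs_def
      have key : hF.xGL r.val t = hF.xGL s t⁻¹ * hF.nGL s (-t⁻¹) * hF.xGL s t⁻¹ := by
        rw [hF.nGL_def, hnn]
        have e : -(-t⁻¹)⁻¹ = t := by rw [inv_neg, inv_inv, neg_neg]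
        rw [e]
        calc hF.xGL r.val t = (hF.xGL s t⁻¹ * hF.xGL s (-t⁻¹)) * hF.xGL r.val t *
              (hF.xGL s (-t⁻¹) * hF.xGL s t⁻¹) := by
              rw [hF.xGL_mul, hF.xGL_mul, add_neg_cancel, neg_add_cancel, hF.xGL_zero]; group
          _ = _ := by group
      rw [key]
      have h1 := hUB (hF.xGL_mem_pos s hs t⁻¹)
      have h2 : hF.nGL s (-t⁻¹) ∈ D.borelSubgroup F ⊔ D.monomialSubgroup F :=
        Subgroup.mem_sup_right (hF.nGL_mem_monomial s hlt _ (neg_ne_zero.mpr (inv_ne_zero ht)))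
      exact Subgroup.mul_mem _ (Subgroup.mul_mem _ h1 h2) h1

end words

end Cfsg.Agent.Lib.Helper24
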