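import Cfsg.Agent.Lib.Helper24.OrdS_E6

set_option autoImplicit false
set_option maxRecDepth 100000

namespace Cfsg.Agent.Lib.Helper24

open Cfsg.Lie

def ordPm_E6_0 : List ℕ := [0x47464544434241403f3e3d3c3b3a393837363534333231302f2e2d2c2b2a292827262524232221201f1e1d1c1b1a191817161514131211100f0e0d0c0b0a09080706050403020100, 0x47464544433736353433322d2c2b2a0f4241403f3e3d31302f2e3c3b3a39292827262524232221201f1e0e0d0c0b191817160a0908070605381d1c1b1a1514131211100403020100]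
def ordPar_E6_0 : List ℕ := [0]
def ordEc_E6_0 : List ℕ := [0x1f, 0xe]
def ordLam_E6_0 : List ℤ := [8, 11, 15, 21, 15, 8]
def ordLV_E6_0 : ℕ := 0x8b8a898887888786868584858483828187868585848384838281848382818382818281817f7f7e7f7e7d7f7e7d7c7f7e7d7c7d7c7b7b7a797f7e7d7c7b7c7b7a7a79787978777675
def ordSg_E6_0 : List ℕ := [0x818181818181, 0x7f8182818181]
def ordCn_E6_0 : List ℕ := [0, 1]

theorem ordTree_E6_0 : treeOK chevE6.nroots ordS_E6 [0] ordPm_E6_0 ordPar_E6_0 = true := by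
  decide +kernel
theorem ordEdge_E6_0 : edgeOK chevE6 ordS_E6 [] [0] ordPm_E6_0 ordPar_E6_0 ordEc_E6_0 = true := by
  decide +kernel
theorem ordLevT_E6_0 : levTabOK chevE6 ordLam_E6_0 ordLV_E6_0 = true := by decide +kernel
theorem ordLev_E6_0 : levOK chevE6 ordS_E6 [] ordPm_E6_0 ordLV_E6_0 = true := by decide +kernel
theorem ordSig_E6_0 : sigOK chevE6 ordLV_E6_0 ordPm_E6_0 ordSg_E6_0 ordCn_E6_0 = true := by decide +kernel

theorem ordStep_E6_0 : StepFacts chevE6 [] [0] ordPar_E6_0 ordCn_E6_0.length ∧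
    LevFacts chevE6 [] ordPar_E6_0 ordCn_E6_0.length ordLam_E6_0 ordCn_E6_0 :=
  step_of_tables nfacts_E6 hnfacts_E6 rootTableOK_E6 posHalf_E6 (by decide)
    ordS_E6 [] [0] ordPm_E6_0 ordPar_E6_0 ordEc_E6_0 ordSg_E6_0 ordCn_E6_0 ordLam_E6_0 ordLV_E6_0
    ordS_E6_ok (by decide) (by decide) ordTree_E6_0 ordEdge_E6_0 ordLevT_E6_0 ordLev_E6_0 ordSig_E6_0

end Cfsg.Agent.Lib.Helper24
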