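import Cfsg.Agent.Lib.Helper24.OrdS_E6

set_option autoImplicit false
set_option maxRecDepth 100000

namespace Cfsg.Agent.Lib.Helper24

open Cfsg.Lie

def ordPm_E6_1 : List ℕ := [0x47464544434241403f3e3d3c3b3a393837363534333231302f2e2d2c2b2a292827262524232221201f1e1d1c1b1a191817161514131211100f0e0d0c0b0a09080706050403020100, 0x47464241404544433f3e3d3c3b3a383937363531302f3433322e2928271d2d2c2b2625242322211c1b1a2a201f1e191514131817161211100e0f0d0c0b0a09080403020706050100, 0x474642414037363531302f2928271d0e4544433f3e3d3433322e3c3b3a382d2c2b2625242322211c1b1a0f0d0c0b191514130a0908040302392a201f1e1817161211100706050100]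
def ordPar_E6_1 : List ℕ := [2, 16]
def ordEc_E6_1 : List ℕ := [0x1001f, 0x2f000e, 0x1e0021]
def ordLam_E6_1 : List ℤ := [20, 30, 40, 57, 41, 22]
def ordLV_E6_1 : ℕ := 0x9e9b98959295928f8f8c898c8986838095928f8f8c898c8986838c8986838986838683837d7d7a7d7a777d7a77747d7a7774777471716e6b807d7a7774777471716e6b6e6b686562
def ordSg_E6_1 : List ℕ := [0x808383838383, 0x83837d868383, 0x7d8380868383]
def ordCn_E6_1 : List ℕ := [0, 1, 2]

theorem ordTree_E6_1 : treeOK chevE6.nroots ordS_E6 [2, 0] ordPm_E6_1 ordPar_E6_1 = true := by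
  decide +kernel
theorem ordEdge_E6_1 : edgeOK chevE6 ordS_E6 [0] [2, 0] ordPm_E6_1 ordPar_E6_1 ordEc_E6_1 = true := by
  decide +kernel
theorem ordLevT_E6_1 : levTabOK chevE6 ordLam_E6_1 ordLV_E6_1 = true := by decide +kernel
theorem ordLev_E6_1 : levOK chevE6 ordS_E6 [0] ordPm_E6_1 ordLV_E6_1 = true := by decide +kernel
theorem ordSig_E6_1 : sigOK chevE6 ordLV_E6_1 ordPm_E6_1 ordSg_E6_1 ordCn_E6_1 = true := by decide +kernel

theorem ordStep_E6_1 : StepFacts chevE6 [0] [2, 0] ordPar_E6_1 ordCn_E6_1.length ∧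
    LevFacts chevE6 [0] ordPar_E6_1 ordCn_E6_1.length ordLam_E6_1 ordCn_E6_1 :=
  step_of_tables nfacts_E6 hnfacts_E6 rootTableOK_E6 posHalf_E6 (by decide)
    ordS_E6 [0] [2, 0] ordPm_E6_1 ordPar_E6_1 ordEc_E6_1 ordSg_E6_1 ordCn_E6_1 ordLam_E6_1 ordLV_E6_1
    ordS_E6_ok (by decide) (by decide) ordTree_E6_1 ordEdge_E6_1 ordLevT_E6_1 ordLev_E6_1 ordSig_E6_1

end Cfsg.Agent.Lib.Helper24
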