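import Cfsg.Agent.Lib.Helper24.OrdS_E6

set_option autoImplicit false
set_option maxRecDepth 100000

namespace Cfsg.Agent.Lib.Helper24

open Cfsg.Lie

def ordPm_E6_2 : List ℕ := [0x47464544434241403f3e3d3c3b3a393837363534333231302f2e2d2c2b2a292827262524232221201f1e1d1c1b1a191817161514131211100f0e0d0c0b0a09080706050403020100, 0x4745464443423f3e41403d3c3b393a3837343336353231302e2f2d2c2a2b262520292824231f1e2722211c1d1b1a181917161512111413100f0d0e0c0b0a07060908050403010200, 0x4745423f3e46444341403d3c3b39383a37343331302e3635322f2625201c2d2c2a292824231f1e1d1b1a2b272221181512111917161413100d0f0e0c0b0a07060403010908050200, 0x4745423f3e37343331302e2625201c0d46444341403d3635322f3c3b39382d2c2a292824231f1e1d1b1a0f0e0c0b181512110a07060403013a2b2722211917161413100908050200]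
def ordPar_E6_2 : List ℕ := [3, 18, 32]
def ordEc_E6_2 : List ℕ := [0x10003001f, 0x11002f000e, 0x3f001e0023, 0x2e00310033]
def ordLam_E6_2 : List ℤ := [5, 8, 10, 15, 11, 6]
def ordLV_E6_2 : ℕ := 0x8887868584868584848382838281808086858484838284838281838281808382818281817f7f7e7f7e7d807f7e7d7f7e7d7c7e7d7c7c7b7a80807f7e7d7e7d7c7c7b7a7c7b7a7978
def ordSg_E6_2 : List ℕ := [0x808180818181, 0x8082817f8281, 0x81827f808281, 0x7f8280808281]
def ordCn_E6_2 : List ℕ := [0, 1, 2, 3]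

theorem ordTree_E6_2 : treeOK chevE6.nroots ordS_E6 [3, 2, 0] ordPm_E6_2 ordPar_E6_2 = true := by
  decide +kernel
theorem ordEdge_E6_2 : edgeOK chevE6 ordS_E6 [2, 0] [3, 2, 0] ordPm_E6_2 ordPar_E6_2 ordEc_E6_2 = true := by
  decide +kernel
theorem ordLevT_E6_2 : levTabOK chevE6 ordLam_E6_2 ordLV_E6_2 = true := by decide +kernel
theorem ordLev_E6_2 : levOK chevE6 ordS_E6 [2, 0] ordPm_E6_2 ordLV_E6_2 = true := by decide +kernel
theorem ordSig_E6_2 : sigOK chevE6 ordLV_E6_2 ordPm_E6_2 ordSg_E6_2 ordCn_E6_2 = true := by decide +kernel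

theorem ordStep_E6_2 : StepFacts chevE6 [2, 0] [3, 2, 0] ordPar_E6_2 ordCn_E6_2.length ∧
    LevFacts chevE6 [2, 0] ordPar_E6_2 ordCn_E6_2.length ordLam_E6_2 ordCn_E6_2 :=
  step_of_tables nfacts_E6 hnfacts_E6 rootTableOK_E6 posHalf_E6 (by decide)
    ordS_E6 [2, 0] [3, 2, 0] ordPm_E6_2 ordPar_E6_2 ordEc_E6_2 ordSg_E6_2 ordCn_E6_2 ordLam_E6_2 ordLV_E6_2
    ordS_E6_ok (by decide) (by decide) ordTree_E6_2 ordEdge_E6_2 ordLevT_E6_2 ordLev_E6_2 ordSig_E6_2

end Cfsg.Agent.Lib.Helper24
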