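import Cfsg.Agent.Lib.Helper24.OrdS_E6

set_option autoImplicit false
set_option maxRecDepth 100000

namespace Cfsg.Agent.Lib.Helper24

open Cfsg.Lie

def ordPm_E6_3 : List ℕ := [0x47464544434241403f3e3d3c3b3a393837363534333231302f2e2d2c2b2a292827262524232221201f1e1d1c1b1a191817161514131211100f0e0d0c0b0a09080706050403020100, 0x46474544434241403c3b3a3f3e3d39383736352d2c2b292827193433322a31302f2625242322211817161d1514132e201f1e1c1b1a1211100f0e0a09080d0c0b0706050403020001, 0x4645474443423c3b41403a3f3e393d38372d2c36352b2928192734332a322625183130242317162f2221151d1413202e1f1e1c12111b1a100f0a0e09080d07060c0b050403000201, 0x4645423c3b47444341403a3f3e39383d372d2c29281936352b272625181534332a3130242317161d1413322f2221201c12112e1f1e1b1a100a0f0e09080d07060403000c0b050201, 0x4645423c3b372d2c292819262518150a47444341403a36352b273f3e393834332a3130242317161d14130f0e0908201c12110d07060403003d322f22212e1f1e1b1a100c0b050201]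
def ordPar_E6_3 : List ℕ := [1, 19, 34, 48]
def ordEc_E6_3 : List ℕ := [0x100030004001f, 0x110013002f000e, 0x21003f001e0024, 0x4f002e00330034, 0x3e004100430044]
def ordLam_E6_3 : List ℤ := [3, 5, 6, 9, 7, 4]
def ordLV_E6_3 : ℕ := 0x8584848382848382838281828180808084838283828183828181828180808281808281817f7f7e807f7e80807f7e7f7f7e7d7f7e7d7e7d7c8080807f7e7f7e7d7e7d7c7e7d7c7c7b
def ordSg_E6_3 : List ℕ := [0x808180808181, 0x807f80818181, 0x8080817f8281, 0x81807f808281, 0x7f8080808281]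
def ordCn_E6_3 : List ℕ := [0, 1, 2, 3, 4]

theorem ordTree_E6_3 : treeOK chevE6.nroots ordS_E6 [1, 3, 2, 0] ordPm_E6_3 ordPar_E6_3 = true := by
  decide +kernel
theorem ordEdge_E6_3 : edgeOK chevE6 ordS_E6 [3, 2, 0] [1, 3, 2, 0] ordPm_E6_3 ordPar_E6_3 ordEc_E6_3 = true := by
  decide +kernel
theorem ordLevT_E6_3 : levTabOK chevE6 ordLam_E6_3 ordLV_E6_3 = true := by decide +kernel
theorem ordLev_E6_3 : levOK chevE6 ordS_E6 [3, 2, 0] ordPm_E6_3 ordLV_E6_3 = true := by decide +kernel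
theorem ordSig_E6_3 : sigOK chevE6 ordLV_E6_3 ordPm_E6_3 ordSg_E6_3 ordCn_E6_3 = true := by decide +kernel

theorem ordStep_E6_3 : StepFacts chevE6 [3, 2, 0] [1, 3, 2, 0] ordPar_E6_3 ordCn_E6_3.length ∧
    LevFacts chevE6 [3, 2, 0] ordPar_E6_3 ordCn_E6_3.length ordLam_E6_3 ordCn_E6_3 :=
  step_of_tables nfacts_E6 hnfacts_E6 rootTableOK_E6 posHalf_E6 (by decide)
    ordS_E6 [3, 2, 0] [1, 3, 2, 0] ordPm_E6_3 ordPar_E6_3 ordEc_E6_3 ordSg_E6_3 ordCn_E6_3 ordLam_E6_3 ordLV_E6_3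
    ordS_E6_ok (by decide) (by decide) ordTree_E6_3 ordEdge_E6_3 ordLevT_E6_3 ordLev_E6_3 ordSig_E6_3

end Cfsg.Agent.Lib.Helper24
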