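import Cfsg.Agent.Lib.Helper24.TorusCard
import Cfsg.Agent.Lib.Helper24.SimpleTables
import Cfsg.Agent.Lib.Helper24.FactsAll

set_option autoImplicit false
set_option maxRecDepth 100000

namespace Cfsg.Agent.Lib.Helper24

open Cfsg.Lie

theorem torus_h1_E6 : ∀ i k : Fin 6, ∑ j, (![![-1, 0, 0, 0, 0, 0], ![0, -1, 0, 0, 0, 0], ![2, -1, 0, 0, -1, 0], ![-1, 2, -1, 0, 0, 0], ![0, -1, 2, -1, 0, 0], ![0, 0, -1, 2, 4, -1]] : Fin 6 → Fin 6 → ℤ) i j *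
    (![![-1, 0, 0, 0, 0, 0], ![0, -1, 0, 0, 0, 0], ![1, -2, 0, -1, 0, 0], ![2, -3, 0, -2, -1, 0], ![-2, 1, -1, 0, 0, 0], ![-5, 0, -4, -3, -2, -1]] : Fin 6 → Fin 6 → ℤ) j k = if i = k then 1 else 0 := by
  decide +kernel

theorem torus_h1'_E6 : ∀ i k : Fin 6, ∑ j, (![![-1, 0, 0, 0, 0, 0], ![0, -1, 0, 0, 0, 0], ![1, -2, 0, -1, 0, 0], ![2, -3, 0, -2, -1, 0], ![-2, 1, -1, 0, 0, 0], ![-5, 0, -4, -3, -2, -1]] : Fin 6 → Fin 6 → ℤ) i j *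
    (![![-1, 0, 0, 0, 0, 0], ![0, -1, 0, 0, 0, 0], ![2, -1, 0, 0, -1, 0], ![-1, 2, -1, 0, 0, 0], ![0, -1, 2, -1, 0, 0], ![0, 0, -1, 2, 4, -1]] : Fin 6 → Fin 6 → ℤ) j k = if i = k then 1 else 0 := by
  decide +kernel

theorem torus_h2_E6 : ∀ i l : Fin 6, ∑ k, (∑ j, (![![-1, 0, 0, 0, 0, 0], ![0, -1, 0, 0, 0, 0], ![1, -2, 0, -1, 0, 0], ![2, -3, 0, -2, -1, 0], ![-2, 1, -1, 0, 0, 0], ![-5, 0, -4, -3, -2, -1]] : Fin 6 → Fin 6 → ℤ) i j *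
    torusExp chevE6 6 j ((![Sum.inr ⟨56, by decide⟩, Sum.inr ⟨46, by decide⟩, Sum.inr ⟨42, by decide⟩, Sum.inr ⟨39, by decide⟩, Sum.inr ⟨37, by decide⟩, Sum.inr ⟨36, by decide⟩] : Fin 6 → chevE6.Idx) k)) *
    (![![0, 0, 0, 0, 1, -2], ![0, 0, 0, 0, 2, -3], ![1, 0, 0, 0, 2, -4], ![0, 1, 0, 0, 4, -6], ![0, 0, 1, 0, 4, -5], ![0, 0, 0, 1, 4, -4]] : Fin 6 → Fin 6 → ℤ) k l = if i = l then (((![1, 1, 1, 1, 1, 3] : Fin 6 → ℕ) i : ℕ) : ℤ) else 0 := by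
  decide +kernel

theorem torus_h3_E6 : ∀ (i : Fin 6) (s : chevE6.Idx), (((![1, 1, 1, 1, 1, 3] : Fin 6 → ℕ) i : ℕ) : ℤ) ∣
    ∑ j, (![![-1, 0, 0, 0, 0, 0], ![0, -1, 0, 0, 0, 0], ![1, -2, 0, -1, 0, 0], ![2, -3, 0, -2, -1, 0], ![-2, 1, -1, 0, 0, 0], ![-5, 0, -4, -3, -2, -1]] : Fin 6 → Fin 6 → ℤ) i j * torusExp chevE6 6 j s := by
  decide +kernel

theorem torus_card_E6 {F : Type*} [Field F] [Fintype F] :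
    Nat.gcd 3 (Fintype.card F - 1) * Nat.card ↥(chevE6.diagonalSubgroup F) = (Fintype.card F - 1) ^ 6 := by
  have h := (facts_all chevE6 (by simp)).torus_card (F := F) simpleOK_E6 6 rfl _ _ _ _ _
    torus_h1_E6 torus_h1'_E6 torus_h2_E6 torus_h3_E6
  change _ = (Fintype.card F - 1) ^ 6 at h
  rw [← h]
  simp [Fin.prod_univ_succ, Nat.gcd_comm, pow_two]

end Cfsg.Agent.Lib.Helper24
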