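import Cfsg.Agent.Lib.Helper24.OrdFin
import Cfsg.Agent.Lib.Helper24.Torus_E6
import Cfsg.Agent.Lib.Helper24.OrdT_E6_0
import Cfsg.Agent.Lib.Helper24.OrdT_E6_1
import Cfsg.Agent.Lib.Helper24.OrdT_E6_2
import Cfsg.Agent.Lib.Helper24.OrdT_E6_3
import Cfsg.Agent.Lib.Helper24.OrdT_E6_4
import Cfsg.Agent.Lib.Helper24.OrdT_E6_5

set_option autoImplicit false
set_option maxRecDepth 100000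
set_option maxHeartbeats 4000000

namespace Cfsg.Agent.Lib.Helper24

open Cfsg.Lie

theorem ord_card_E6 {F : Type*} [Field F] [Fintype F] :
    Nat.card ↥(chevE6.group F) =
      ((ordCn_E6_5.map fun c => Fintype.card F ^ c).sum * ((ordCn_E6_4.map fun c => Fintype.card F ^ c).sum * ((ordCn_E6_3.map fun c => Fintype.card F ^ c).sum * ((ordCn_E6_2.map fun c => Fintype.card F ^ c).sum * ((ordCn_E6_1.map fun c => Fintype.card F ^ c).sum * ((ordCn_E6_0.map fun c => Fintype.card F ^ c).sum * (Fintype.card F ^ 36 * Nat.card ↥(chevE6.diagonalSubgroup F)))))))) := by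
  obtain ⟨E⟩ := env_of_facts (F := F) chevE6 (by simp) nTabE6 orbTabE6 nfacts_E6 hnfacts_E6 cfacts_E6
  have h0 := E.step_card ordCn_E6_0 ordStep_E6_0.1 ordLam_E6_0 ordStep_E6_0.2
  have h1 := E.step_card ordCn_E6_1 ordStep_E6_1.1 ordLam_E6_1 ordStep_E6_1.2
  have h2 := E.step_card ordCn_E6_2 ordStep_E6_2.1 ordLam_E6_2 ordStep_E6_2.2
  have h3 := E.step_card ordCn_E6_3 ordStep_E6_3.1 ordLam_E6_3 ordStep_E6_3.2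
  have h4 := E.step_card ordCn_E6_4 ordStep_E6_4.1 ordLam_E6_4 ordStep_E6_4.2
  have h5 := E.step_card ordCn_E6_5 ordStep_E6_5.1 ordLam_E6_5 ordStep_E6_5.2
  rw [PL_nil, E.card_borel] at h0
  rw [E.PL_all [5, 4, 1, 3, 2, 0] (by decide)] at h5
  have e : chevE6.nroots / 2 = 36 := by decide
  rw [e] at h0
  rw [h5, h4, h3, h2, h1, h0]

theorem ord_polyS_E6_0 (x : ℤ) : (x - 1) ^ 0 * (x ^ 36) = x ^ 36 := by ring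

theorem ord_polyI_E6_0 (x : ℤ) : (x ^ 36) * ((x - 1) * (x ^ 0 + (x ^ 1 + 0))) = x ^ 36 * (x ^ 2 - 1) := by ring

theorem ord_polyS_E6_1 (x : ℤ) : (x - 1) ^ 1 * ((x ^ 0 + (x ^ 1 + 0)) * (x ^ 36)) = x ^ 36 * (x ^ 2 - 1) :=
  ord_chain_step (x - 1) _ _ _ _ 0 (ord_polyS_E6_0 x) (ord_polyI_E6_0 x)

theorem ord_polyI_E6_1 (x : ℤ) : (x ^ 36 * (x ^ 2 - 1)) * ((x - 1) * (x ^ 0 + (x ^ 1 + (x ^ 2 + 0)))) = x ^ 36 * (x ^ 2 - 1) * (x ^ 3 - 1) := by ring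

theorem ord_polyS_E6_2 (x : ℤ) : (x - 1) ^ 2 * ((x ^ 0 + (x ^ 1 + (x ^ 2 + 0))) * ((x ^ 0 + (x ^ 1 + 0)) * (x ^ 36))) = x ^ 36 * (x ^ 2 - 1) * (x ^ 3 - 1) :=
  ord_chain_step (x - 1) _ _ _ _ 1 (ord_polyS_E6_1 x) (ord_polyI_E6_1 x)

theorem ord_polyI_E6_2 (x : ℤ) : (x ^ 36 * (x ^ 2 - 1) * (x ^ 3 - 1)) * ((x - 1) * (x ^ 0 + (x ^ 1 + (x ^ 2 + (x ^ 3 + 0))))) = x ^ 36 * (x ^ 2 - 1) * (x ^ 3 - 1) * (x ^ 4 - 1) := by ring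

theorem ord_polyS_E6_3 (x : ℤ) : (x - 1) ^ 3 * ((x ^ 0 + (x ^ 1 + (x ^ 2 + (x ^ 3 + 0)))) * ((x ^ 0 + (x ^ 1 + (x ^ 2 + 0))) * ((x ^ 0 + (x ^ 1 + 0)) * (x ^ 36)))) = x ^ 36 * (x ^ 2 - 1) * (x ^ 3 - 1) * (x ^ 4 - 1) :=
  ord_chain_step (x - 1) _ _ _ _ 2 (ord_polyS_E6_2 x) (ord_polyI_E6_2 x)

theorem ord_polyI_E6_3 (x : ℤ) : (x ^ 36 * (x ^ 2 - 1) * (x ^ 3 - 1) * (x ^ 4 - 1)) * ((x - 1) * (x ^ 0 + (x ^ 1 + (x ^ 2 + (x ^ 3 + (x ^ 4 + 0)))))) = x ^ 36 * (x ^ 2 - 1) * (x ^ 3 - 1) * (x ^ 4 - 1) * (x ^ 5 - 1) := by ring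

theorem ord_polyS_E6_4 (x : ℤ) : (x - 1) ^ 4 * ((x ^ 0 + (x ^ 1 + (x ^ 2 + (x ^ 3 + (x ^ 4 + 0))))) * ((x ^ 0 + (x ^ 1 + (x ^ 2 + (x ^ 3 + 0)))) * ((x ^ 0 + (x ^ 1 + (x ^ 2 + 0))) * ((x ^ 0 + (x ^ 1 + 0)) * (x ^ 36))))) = x ^ 36 * (x ^ 2 - 1) * (x ^ 3 - 1) * (x ^ 4 - 1) * (x ^ 5 - 1) :=
  ord_chain_step (x - 1) _ _ _ _ 3 (ord_polyS_E6_3 x) (ord_polyI_E6_3 x)

theorem ord_polyI_E6_4 (x : ℤ) : (x ^ 36 * (x ^ 2 - 1) * (x ^ 3 - 1) * (x ^ 4 - 1) * (x ^ 5 - 1)) * ((x - 1) * (x ^ 0 + (x ^ 1 + (x ^ 2 + (x ^ 3 + (x ^ 3 + (x ^ 4 + (x ^ 4 + (x ^ 5 + (x ^ 5 + (x ^ 6 + (x ^ 6 + (x ^ 7 + (x ^ 7 + (x ^ 8 + (x ^ 9 + (x ^ 10 + 0))))))))))))))))) = x ^ 36 * (x ^ 2 - 1) * (x ^ 4 - 1) * (x ^ 5 - 1) * (x ^ 6 - 1) * (x ^ 8 - 1) := by ring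

theorem ord_polyS_E6_5 (x : ℤ) : (x - 1) ^ 5 * ((x ^ 0 + (x ^ 1 + (x ^ 2 + (x ^ 3 + (x ^ 3 + (x ^ 4 + (x ^ 4 + (x ^ 5 + (x ^ 5 + (x ^ 6 + (x ^ 6 + (x ^ 7 + (x ^ 7 + (x ^ 8 + (x ^ 9 + (x ^ 10 + 0)))))))))))))))) * ((x ^ 0 + (x ^ 1 + (x ^ 2 + (x ^ 3 + (x ^ 4 + 0))))) * ((x ^ 0 + (x ^ 1 + (x ^ 2 + (x ^ 3 + 0)))) * ((x ^ 0 + (x ^ 1 + (x ^ 2 + 0))) * ((x ^ 0 + (x ^ 1 + 0)) * (x ^ 36)))))) = x ^ 36 * (x ^ 2 - 1) * (x ^ 4 - 1) * (x ^ 5 - 1) * (x ^ 6 - 1) * (x ^ 8 - 1) :=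
  ord_chain_step (x - 1) _ _ _ _ 4 (ord_polyS_E6_4 x) (ord_polyI_E6_4 x)

theorem ord_polyI_E6_5 (x : ℤ) : (x ^ 36 * (x ^ 2 - 1) * (x ^ 4 - 1) * (x ^ 5 - 1) * (x ^ 6 - 1) * (x ^ 8 - 1)) * ((x - 1) * (x ^ 0 + (x ^ 1 + (x ^ 2 + (x ^ 3 + (x ^ 4 + (x ^ 4 + (x ^ 5 + (x ^ 5 + (x ^ 6 + (x ^ 6 + (x ^ 7 + (x ^ 7 + (x ^ 8 + (x ^ 8 + (x ^ 8 + (x ^ 9 + (x ^ 9 + (x ^ 10 + (x ^ 10 + (x ^ 11 + (x ^ 11 + (x ^ 12 + (x ^ 12 + (x ^ 13 + (x ^ 14 + (x ^ 15 + (x ^ 16 + 0)))))))))))))))))))))))))))) = x ^ 36 * (x ^ 2 - 1) * (x ^ 5 - 1) * (x ^ 6 - 1) * (x ^ 8 - 1) * (x ^ 9 - 1) * (x ^ 12 - 1) := by ring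

theorem ord_polyS_E6_6 (x : ℤ) : (x - 1) ^ 6 * ((x ^ 0 + (x ^ 1 + (x ^ 2 + (x ^ 3 + (x ^ 4 + (x ^ 4 + (x ^ 5 + (x ^ 5 + (x ^ 6 + (x ^ 6 + (x ^ 7 + (x ^ 7 + (x ^ 8 + (x ^ 8 + (x ^ 8 + (x ^ 9 + (x ^ 9 + (x ^ 10 + (x ^ 10 + (x ^ 11 + (x ^ 11 + (x ^ 12 + (x ^ 12 + (x ^ 13 + (x ^ 14 + (x ^ 15 + (x ^ 16 + 0))))))))))))))))))))))))))) * ((x ^ 0 + (x ^ 1 + (x ^ 2 + (x ^ 3 + (x ^ 3 + (x ^ 4 + (x ^ 4 + (x ^ 5 + (x ^ 5 + (x ^ 6 + (x ^ 6 + (x ^ 7 + (x ^ 7 + (x ^ 8 + (x ^ 9 + (x ^ 10 + 0)))))))))))))))) * ((x ^ 0 + (x ^ 1 + (x ^ 2 + (x ^ 3 + (x ^ 4 + 0))))) * ((x ^ 0 + (x ^ 1 + (x ^ 2 + (x ^ 3 + 0)))) * ((x ^ 0 + (x ^ 1 + (x ^ 2 + 0))) * ((x ^ 0 + (x ^ 1 + 0)) * (x ^ 36))))))) = x ^ 36 * (x ^ 2 - 1) * (x ^ 5 - 1) * (x ^ 6 - 1) * (x ^ 8 - 1) * (x ^ 9 - 1) * (x ^ 12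 - 1) :=
  ord_chain_step (x - 1) _ _ _ _ 5 (ord_polyS_E6_5 x) (ord_polyI_E6_5 x)

theorem ord_E6 {F : Type*} [Field F] [Fintype F] {q : ℕ} (hq : Fintype.card F = q) :
    Nat.gcd 3 (q - 1) * Nat.card ↥(chevE6.group F) = q ^ 36 * (q ^ 2 - 1) * (q ^ 5 - 1) * (q ^ 6 - 1) * (q ^ 8 - 1) * (q ^ 9 - 1) * (q ^ 12 - 1) := by
  have hq1 : 1 ≤ q := hq ▸ one_le_card_field F
  have h := ord_card_E6 (F := F)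
  rw [hq] at h
  have hH : Nat.gcd 3 (q - 1) * Nat.card ↥(chevE6.diagonalSubgroup F) = (q - 1) ^ 6 := by
    have := torus_card_E6 (F := F)
    rw [hq] at this
    exact this
  have hG : Nat.gcd 3 (q - 1) * Nat.card ↥(chevE6.group F) = (q - 1) ^ 6 * ((ordCn_E6_5.map fun c => q ^ c).sum * (((ordCn_E6_4.map fun c => q ^ c).sum * (((ordCn_E6_3.map fun c => q ^ c).sum * (((ordCn_E6_2.map fun c => q ^ c).sum * (((ordCn_E6_1.map fun c => q ^ c).sum * (((ordCn_E6_0.map fun c => q ^ c).sum * (q ^ 36)))))))))))) := by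
    rw [← hH, h]; ring
  rw [hG]
  simp only [ordCn_E6_0, ordCn_E6_1, ordCn_E6_2, ordCn_E6_3, ordCn_E6_4, ordCn_E6_5, List.map_cons, List.map_nil, List.sum_cons, List.sum_nil]
  zify
  simp only [ord_cast_sub q _ hq1, ord_cast_sub' q hq1]
  exact ord_polyS_E6_6 (q : ℤ)

end Cfsg.Agent.Lib.Helper24
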