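import Cfsg.Agent.Lib.Helper24.Fast

set_option autoImplicit false

namespace Cfsg.Agent.Lib.Helper24

open Cfsg.Lie

/-- additivity of root elements for the root `r` -/
def addOK (D : ChevalleyDatum) (r : ℕ) : Bool :=
  checkWordF D false [r] [(r, Poly.x0), (r, Poly.x1)] [(r, Poly.add Poly.x0 Poly.x1)]

theorem x_add_of_addOK {F : Type*} [Field F] (D : ChevalleyDatum) (hT : TableOK D)
    (r : ℕ) (h : addOK D r = true) (t₁ t₂ : F) :
    D.x F r t₁ * D.x F r t₂ = D.x F r (t₁ + t₂) := by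
  have h1 := wordMat_eq_of_checkWordF D t₁ t₂ 1 1 hT false (by simp) [r] _ _ h
  simpa [ChevalleyDatum.wordMat, denW, Poly.den_add] using h1

end Cfsg.Agent.Lib.Helper24
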