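import Cfsg.Agent.Lib.Helper08.BNPairParabolic

set_option autoImplicit false

namespace Cfsg.Agent.Lib.Helper24

open Cfsg Cfsg.Agent.Lib.Helper08

section bnabs

variable {G : Type*} [Group G] (P : Cfsg.BNPair G)

/-- `m B n ⊆ ⋃_{m'} B m' n B`, `m'` in the subgroup generated by `J` -/
theorem dc_closure_mul {J : Set G} (hJ : J ⊆ P.S) {m : G} (hm : m ∈ Subgroup.closure J) :
    ∀ n ∈ P.N, ∀ b ∈ P.B, ∃ m' ∈ Subgroup.closure J, DC P (m' * n) (m * b * n) := by
  have hK : Subgroup.closure J ≤ P.N := (Subgroup.closure_le _).2 fun s hs => P.subset (hJ hs)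
  induction hm using Subgroup.closure_induction'' with
  | mem s hs =>
    intro n hn b hb
    rcases axL P (hJ hs) hn hb with h | h
    · exact ⟨s, Subgroup.subset_closure hs, h⟩
    · exact ⟨1, Subgroup.one_mem _, by rw [one_mul]; exact h⟩
  | inv_mem s hs =>
    intro n hn b hb
    rcases axL_inv P (hJ hs) hn hb with h | h
    · exact ⟨s, Subgroup.subset_closure hs, h⟩
    · exact ⟨1, Subgroup.one_mem _, by rw [one_mul]; exact h⟩
  | one =>
    intro n hn b hb
    exact ⟨1, Subgroup.one_mem _, b, hb, 1, P.B.one_mem, by simp⟩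
  | mul x y hx hy ihx ihy =>
    intro n hn b hb
    obtain ⟨y', hy', b1, hb1, b2, hb2, e⟩ := ihy n hn b hb
    obtain ⟨x', hx', hdc⟩ := ihx (y' * n) (P.N.mul_mem (hK hy') hn) b1 hb1
    refine ⟨x' * y', Subgroup.mul_mem _ hx' hy', ?_⟩
    have e2 : x * y * b * n = x * b1 * (y' * n) * b2 := by
      have : x * y * b * n = x * (y * b * n) := by group
      rw [this, e]; group
    rw [e2, mul_assoc x' y' n]
    exact DC_mul_right P hb2 hdc

/-- `(P_J, B)`-double cosets of elements of `N` are separated modulo `W_J` -/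
theorem parabolic_dc_unique {J : Set G} (hJ : J ⊆ P.S) {n n' : G} (hn : n ∈ P.N) (hn' : n' ∈ P.N)
    {p b : G} (hp : p ∈ P.parabolic J) (hb : b ∈ P.B) (e : n' = p * n * b) :
    ∃ m ∈ Subgroup.closure J, (m * n)⁻¹ * n' ∈ P.B := by
  have hK : Subgroup.closure J ≤ P.N := (Subgroup.closure_le _).2 fun s hs => P.subset (hJ hs)
  obtain ⟨m, hm, b1, hb1, b2, hb2, rfl⟩ := (mem_parabolic_iff P hJ p).1 hp
  obtain ⟨m', hm', hdc⟩ := dc_closure_mul P hJ hm n hn b2 hb2
  refine ⟨m', hm', ?_⟩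
  have h1 : DC P (m' * n) n' := by
    have e2 : n' = b1 * (m * b2 * n) * b := by rw [e]; group
    rw [e2]
    exact DC_mul_right P hb (DC_mul_left P hb1 hdc)
  exact bruhat_unique P (P.N.mul_mem (hK hm') hn) hn' h1

end bnabs

end Cfsg.Agent.Lib.Helper24
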