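import Cfsg.Agent.Lib.Helper24.RootAct
import Cfsg.Prelude.Def_LieExceptional

set_option autoImplicit false
set_option linter.unusedSimpArgs false

namespace Cfsg.Agent.Lib.Helper24

open Cfsg.Lie

/-- the reflection in `p_i` does not map another fundamental root `p_j` to `-p_j` -/
def simpleReflNeOK (D : ChevalleyDatum) : Bool :=
  (List.range D.rank).all fun i => (List.range D.rank).all fun j =>
    decide (i = j) || !(Nat.beq (D.reflectRoot i (D.simple j)) (D.neg (D.simple j)))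

theorem bn_algebra {G : Type*} [Group G] (ni xpt xmv xpv hh xmw xmcw n y : G)
    (E1 : ni * xpt = xmv * ni) (E2 : xmv = xpv * (hh * ni) * xpv) (E3 : ni * xpv = xmw * ni)
    (E4 : xmw * (ni * ni) = (ni * ni) * xmcw) (E5 : xmcw * n = n * y) :
    ni * xpt * n = (xpv * hh * (ni * ni)) * n * y := by
  calc ni * xpt * n = xmv * ni * n := by rw [E1]
    _ = xpv * (hh * ni) * xpv * ni * n := by rw [E2]
    _ = xpv * hh * (ni * xpv) * ni * n := by group
    _ = xpv * hh * (xmw * ni) * ni * n := by rw [E3]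
    _ = xpv * hh * (xmw * (ni * ni)) * n := by group
    _ = xpv * hh * ((ni * ni) * xmcw) * n := by rw [E4]
    _ = xpv * hh * (ni * ni) * (xmcw * n) := by group
    _ = xpv * hh * (ni * ni) * (n * y) := by rw [E5]
    _ = _ := by group

section bn

variable {F : Type*} [Field F] {D : ChevalleyDatum} {tab : List ℕ} {orb : List (ℕ × ℕ × ℕ)}

/-- the double coset axiom of a (B, N)-pair -/
theorem Facts.bn_axiom (hF : Facts D) (hN : NFacts D tab) (hH : HNFacts D tab orb)
    (hR : rootTableOK D = true) (i : ℕ) (hi : i < D.rank) (hRefl : reflPosOK D i = true)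
    (hUn : D.rootSubgroup F (D.simple i) ≤ Subgroup.normalizer (Up D F i : Set (GL D.Idx F)))
    (hUs : Up D F i ⊔ D.rootSubgroup F (D.simple i) = D.posUnipotent F)
    (n : GL D.Idx F) (hn : n ∈ D.monomialSubgroup F) (b : GL D.Idx F) (hb : b ∈ D.borelSubgroup F) :
    (∃ b₁ ∈ D.borelSubgroup F, ∃ b₂ ∈ D.borelSubgroup F,
      hF.nS i * b * n = b₁ * (hF.nS i * n) * b₂) ∨
    (∃ b₁ ∈ D.borelSubgroup F, ∃ b₂ ∈ D.borelSubgroup F, hF.nS i * b * n = b₁ * n * b₂) := by
  obtain ⟨hpos, _⟩ := reflPosOK_spec D i hRefl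
  have hUB : D.posUnipotent F ≤ D.borelSubgroup F := by
    unfold ChevalleyDatum.borelSubgroup; exact le_sup_left
  have hHB : D.diagonalSubgroup F ≤ D.borelSubgroup F := by
    unfold ChevalleyDatum.borelSubgroup; exact le_sup_right
  have hUpU : Up D F i ≤ D.posUnipotent F := by rw [← hUs]; exact le_sup_left
  unfold ChevalleyDatum.borelSubgroup at hb
  obtain ⟨u, hu, h, hh, rfl⟩ := exists_mul_of_mem_sup_of_le_normalizer _ _
    hF.diagonal_le_normalizer_pos b hb
  rw [← hUs] at hu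
  obtain ⟨u', hu', x, hx, rfl⟩ := exists_mul_of_mem_sup_of_le_normalizer _ _ hUn u hu
  obtain ⟨t, rfl⟩ := hF.exists_of_mem_rootSubgroup _ x hx
  -- the outer factors
  have h1 : hF.nS i * u' * (hF.nS i)⁻¹ ∈ D.borelSubgroup F :=
    hUB (hUpU (hF.nS_conj_Up hN i hi hRefl u' hu'))
  have h2 : n⁻¹ * h * n ∈ D.borelSubgroup F := by
    have hn' := hF.monomial_le_normalizer hN hH (Subgroup.inv_mem _ hn)
    have := (Subgroup.mem_normalizer_iff.mp hn' h).mp hh
    rw [inv_inv] at this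
    exact hHB this
  have hsplit : hF.nS i * (u' * hF.xGL (D.simple i) t * h) * n =
      (hF.nS i * u' * (hF.nS i)⁻¹) * (hF.nS i * hF.xGL (D.simple i) t * n) * (n⁻¹ * h * n) := by
    group
  rw [hsplit]
  -- the action of `n`
  obtain ⟨s', hs', c, c', _, _, e, e'⟩ := hF.monomial_conj hN hH hR n hn (D.simple i) hpos.1
  -- the action of `n_i` on `x_p`
  have hconj : ∀ a : F, hF.nS i * hF.xGL (D.simple i) a =
      hF.xGL (D.neg (D.simple i)) (((etaT D (tab.getD i 0) (D.simple i) : ℤ) : F) * a) * hF.nS i := by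
    intro a
    have := hF.nS_conj' (F := F) hN i hi (D.simple i) hpos.1 a
    rw [reflectRoot_simple] at this
    exact mul_inv_eq_iff_eq_mul.mp this
  obtain ⟨hpn, _, _, hnp, _⟩ := rootTableOK_spec D hR s' hs'
  rcases hpn with hsp | hsn
  · -- `n⁻¹ x_p n` is a positive root element
    left
    refine ⟨_, h1, hF.xGL s' (c * t) * (n⁻¹ * h * n),
      Subgroup.mul_mem _ (hUB (hF.xGL_mem_pos s' hsp _)) h2, ?_⟩
    rw [mul_assoc (hF.nS i) (hF.xGL (D.simple i) t) n, e t]
    group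
  · have hnegpos := hnp hsn
    set v : F := ((etaT D (tab.getD i 0) (D.simple i) : ℤ) : F) * t with hv
    by_cases hv0 : v = 0
    · left
      refine ⟨_, h1, _, h2, ?_⟩
      rw [hconj t, ← hv, hv0, hF.xGL_zero, one_mul]
    · right
      have hsq : hF.nS (F := F) i * hF.nS i ∈ D.diagonalSubgroup F := hF.nGL_sq_mem _ hpos.1
      obtain ⟨_, hnp', _⟩ := rootTableOK_spec D hR (D.simple i) hpos.1
      obtain ⟨χ, _, eχ⟩ := hF.diag_conj _ (Subgroup.inv_mem _ hsq) (D.neg (D.simple i)) hnp'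
      set w : F := ((etaT D (tab.getD i 0) (D.simple i) : ℤ) : F) * v⁻¹ with hw
      have hhh : hF.nGL (D.simple i) (-v⁻¹) * hF.nGL (D.simple i) (-1 : F) ∈ D.diagonalSubgroup F :=
        hF.hGL_mem _ hpos.1 _ (neg_ne_zero.mpr (inv_ne_zero hv0))
      have key := bn_algebra (hF.nS i) (hF.xGL (D.simple i) t) (hF.xGL (D.neg (D.simple i)) v)
        (hF.xGL (D.simple i) v⁻¹) (hF.nGL (D.simple i) (-v⁻¹) * hF.nGL (D.simple i) (-1 : F))
        (hF.xGL (D.neg (D.simple i)) w) (hF.xGL (D.neg (D.simple i)) (χ * w)) n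
        (hF.xGL (D.neg s') (c' * (χ * w)))
        (hconj t)
        (by
          rw [hF.xGL_neg_eq _ v, hF.nGL_neg_one_eq_inv]
          unfold Facts.nS
          group)
        (hconj v⁻¹)
        (by
          have := eχ w
          rw [inv_inv] at this
          rw [← this]
          group)
        (e' (χ * w))
      refine ⟨(hF.nS i * u' * (hF.nS i)⁻¹) * (hF.xGL (D.simple i) v⁻¹ *
          (hF.nGL (D.simple i) (-v⁻¹) * hF.nGL (D.simple i) (-1 : F)) * (hF.nS i * hF.nS i)),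
        Subgroup.mul_mem _ h1 (Subgroup.mul_mem _ (Subgroup.mul_mem _
          (hUB (hF.xGL_mem_pos _ hpos _)) (hHB hhh)) (hHB hsq)),
        hF.xGL (D.neg s') (c' * (χ * w)) * (n⁻¹ * h * n),
        Subgroup.mul_mem _ (hUB (hF.xGL_mem_pos _ hnegpos _)) h2, ?_⟩
      rw [key]
      group

/-- `n_i B n_i ⊄ B` -/
theorem Facts.nS_conj_not_borel (hF : Facts D) (hN : NFacts D tab) (hR : rootTableOK D = true)
    (hNe : negNeOK D = true) (i : ℕ) (hi : i < D.rank) (hpos : D.IsPosRoot (D.simple i)) :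
    ∃ b ∈ D.borelSubgroup F, hF.nS i * b * hF.nS i ∉ D.borelSubgroup F := by
  have hUB : D.posUnipotent F ≤ D.borelSubgroup F := by
    unfold ChevalleyDatum.borelSubgroup; exact le_sup_left
  have hHB : D.diagonalSubgroup F ≤ D.borelSubgroup F := by
    unfold ChevalleyDatum.borelSubgroup; exact le_sup_right
  refine ⟨hF.xGL (D.simple i) 1, hUB (hF.xGL_mem_pos _ hpos _), fun hmem => ?_⟩
  have hsq : hF.nS (F := F) i * hF.nS i ∈ D.diagonalSubgroup F := hF.nGL_sq_mem _ hpos.1
  have hc := hF.nS_conj' (F := F) hN i hi (D.simple i) hpos.1 1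
  rw [reflectRoot_simple, mul_one] at hc
  have e : hF.nS i * hF.xGL (D.simple i) (1 : F) * hF.nS i =
      (hF.nS i * hF.xGL (D.simple i) (1 : F) * (hF.nS i)⁻¹) * (hF.nS i * hF.nS i) := by group
  rw [e, hc] at hmem
  have h1 : hF.xGL (D.neg (D.simple i)) (((etaT D (tab.getD i 0) (D.simple i) : ℤ) : F)) ∈
      D.borelSubgroup F := by
    have := Subgroup.mul_mem _ hmem (Subgroup.inv_mem _ (hHB hsq))
    rwa [mul_inv_cancel_right] at this
  obtain ⟨_, hlt, _, _, hpn⟩ := rootTableOK_spec D hR (D.simple i) hpos.1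
  have h2 : hF.xGL (D.neg (D.simple i)) (((etaT D (tab.getD i 0) (D.simple i) : ℤ) : F)) ∈
      D.borelSubgroup F ⊓ D.negUnipotent F := ⟨h1, hF.xGL_mem_neg _ (hpn hpos) _⟩
  rw [hF.borel_inf_neg.1, Subgroup.mem_bot] at h2
  exact etaT_cast_ne_zero D _ _ (hF.xGL_eq_one hNe _ hlt _ h2)

/-- distinct fundamental reflections have distinct classes modulo `B` -/
theorem Facts.nS_inj (hF : Facts D) (hN : NFacts D tab) (hH : HNFacts D tab orb)
    (hR : rootTableOK D = true) (hNe : negNeOK D = true) (hU : corootUnitOK D = true)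
    (hBN : D.borelSubgroup F ⊓ D.monomialSubgroup F = D.diagonalSubgroup F)
    (hSR : simpleReflNeOK D = true) (i j : ℕ) (hi : i < D.rank) (hj : j < D.rank)
    (h : (hF.nS i)⁻¹ * hF.nS j ∈ D.borelSubgroup F) : i = j := by
  by_contra hij
  have hpi := Facts.simple_lt hH i hi
  have hpj := Facts.simple_lt hH j hj
  have hN' : (hF.nS (F := F) i)⁻¹ * hF.nS j ∈ D.monomialSubgroup F :=
    Subgroup.mul_mem _ (Subgroup.inv_mem _ (hF.nS_mem_monomial i hpi)) (hF.nS_mem_monomial j hpj)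
  have hH' : (hF.nS (F := F) i)⁻¹ * hF.nS j ∈ D.diagonalSubgroup F := by
    rw [← hBN]; exact ⟨h, hN'⟩
  obtain ⟨c, hc, ec⟩ := hF.diag_conj _ hH' (D.simple j) hpj
  have e1 := hF.nS_conj' (F := F) hN j hj (D.simple j) hpj 1
  rw [reflectRoot_simple] at e1
  have e2 := hF.nS_conj' (F := F) hN i hi (D.simple j) hpj (c * 1)
  have e3 : hF.nS j * hF.xGL (D.simple j) (1 : F) * (hF.nS j)⁻¹ =
      hF.nS i * (((hF.nS i)⁻¹ * hF.nS j) * hF.xGL (D.simple j) (1 : F) * ((hF.nS i)⁻¹ * hF.nS j)⁻¹) *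
        (hF.nS i)⁻¹ := by group
  rw [ec, e2, e1] at e3
  simp only [simpleReflNeOK, List.all_eq_true, List.mem_range, Bool.or_eq_true, decide_eq_true_eq,
    Bool.not_eq_true', nbeq_false] at hSR
  have hne : D.neg (D.simple j) ≠ D.reflectRoot i (D.simple j) := by
    rcases hSR i hi j hj with h | h
    · exact absurd h hij
    · exact fun h' => h h'.symm
  obtain ⟨_, hlt, _⟩ := rootTableOK_spec D hR (D.simple j) hpj
  have := hF.xGL_eq_xGL hR hNe hU _ _ hlt (hN.reflectRoot_lt i hi _ hpj) hne _ _ e3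
  rw [mul_one] at this
  exact etaT_cast_ne_zero D _ _ this

/-- `N` is generated by `H` and the `n_{p_i}` -/
theorem Facts.monomial_le_closure_sup (hF : Facts D) (hN : NFacts D tab) (hH : HNFacts D tab orb) :
    D.monomialSubgroup F ≤
      Subgroup.closure {g : GL D.Idx F | ∃ i < D.rank, g = hF.nS i} ⊔ D.diagonalSubgroup F := by
  unfold ChevalleyDatum.monomialSubgroup
  apply sup_le le_sup_right
  rw [Subgroup.closure_le]
  rintro g ⟨r, hr, hg⟩
  have : g = hF.nGL r (1 : F) := by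
    apply Units.ext
    rw [hg]
    unfold Facts.nGL
    rw [hF.wordGL_val]
    rfl
  rw [this]
  exact hF.nGL_mem_of_simple hN hH
    (Subgroup.closure {g : GL D.Idx F | ∃ i < D.rank, g = hF.nS i} ⊔ D.diagonalSubgroup F)
    (fun j hj => Subgroup.mem_sup_left (Subgroup.subset_closure ⟨j, hj, rfl⟩)) r hr

end bn

end Cfsg.Agent.Lib.Helper24
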