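import Cfsg.Agent.Lib.Helper24.BNPair

set_option autoImplicit false
set_option linter.unusedSimpArgs false

namespace Cfsg.Agent.Lib.Helper24

open Cfsg.Lie

section bn2

variable {F : Type*} [Field F] {D : ChevalleyDatum} {tab : List ℕ} {orb : List (ℕ × ℕ × ℕ)}

/-- S1042 -/
theorem Facts.exists_bnPair (hF : Facts D) (hN : NFacts D tab) (hH : HNFacts D tab orb)
    (hR : rootTableOK D = true) (hNe : negNeOK D = true) (hU : corootUnitOK D = true)
    (hSR : simpleReflNeOK D = true) (hRefl : ∀ i < D.rank, reflPosOK D i = true)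
    (hUp : ∀ i < D.rank,
      D.rootSubgroup F (D.simple i) ≤ Subgroup.normalizer (Up D F i : Set (GL D.Idx F)) ∧
      Up D F i ⊔ D.rootSubgroup F (D.simple i) = D.posUnipotent F)
    (hBN : D.borelSubgroup F ⊓ D.monomialSubgroup F = D.diagonalSubgroup F)
    (hUV : D.posUnipotent F ⊔ D.negUnipotent F = D.group F)
    (hw0 : ∃ n ∈ D.monomialSubgroup F,
      (D.posUnipotent F).map (MulAut.conj n).toMonoidHom = D.negUnipotent F) :
    ∃ P : Cfsg.BNPair ↥(D.group F),
      P.B = (D.borelSubgroup F).subgroupOf (D.group F) ∧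
      P.N = (D.monomialSubgroup F).subgroupOf (D.group F) ∧
      P.S = {n : ↥(D.group F) | ∃ i < D.rank,
        ((n : GL D.Idx F) : Matrix D.Idx D.Idx F) = D.nMat F (D.simple i) 1} := by
  have hBG := hF.borel_le_group (F := F)
  have hNG := hF.monomial_le_group (F := F)
  have hUB : D.posUnipotent F ≤ D.borelSubgroup F := by
    unfold ChevalleyDatum.borelSubgroup; exact le_sup_left
  have hHB : D.diagonalSubgroup F ≤ D.borelSubgroup F := by
    unfold ChevalleyDatum.borelSubgroup; exact le_sup_right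
  have hHN : D.diagonalSubgroup F ≤ D.monomialSubgroup F := by
    unfold ChevalleyDatum.monomialSubgroup; exact le_sup_left
  have hS : ∀ n : ↥(D.group F), n ∈ {n : ↥(D.group F) | ∃ i < D.rank,
      ((n : GL D.Idx F) : Matrix D.Idx D.Idx F) = D.nMat F (D.simple i) 1} →
      ∃ i < D.rank, (n : GL D.Idx F) = hF.nS i := by
    rintro n ⟨i, hi, hn⟩
    exact ⟨i, hi, Units.ext (by rw [hn, hF.nS_val])⟩
  have hsub : {n : ↥(D.group F) | ∃ i < D.rank,
      ((n : GL D.Idx F) : Matrix D.Idx D.Idx F) = D.nMat F (D.simple i) 1} ⊆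
      ((D.monomialSubgroup F).subgroupOf (D.group F) : Set ↥(D.group F)) := by
    intro n hn
    obtain ⟨i, hi, hni⟩ := hS n hn
    show n ∈ (D.monomialSubgroup F).subgroupOf (D.group F)
    rw [Subgroup.mem_subgroupOf, hni]
    exact hF.nS_mem_monomial i (Facts.simple_lt hH i hi)
  refine ⟨{ B := (D.borelSubgroup F).subgroupOf (D.group F)
            N := (D.monomialSubgroup F).subgroupOf (D.group F)
            S := {n : ↥(D.group F) | ∃ i < D.rank,
              ((n : GL D.Idx F) : Matrix D.Idx D.Idx F) = D.nMat F (D.simple i) 1}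
            sup_eq_top := ?_
            conj_mem := ?_
            subset := hsub
            sq_mem := ?_
            inj := ?_
            closure_sup := ?_
            mul_mem_union := ?_
            conj_ne := ?_ }, rfl, rfl, rfl⟩
  · -- `B` and `N` generate the group
    rw [← Subgroup.subgroupOf_sup hBG hNG, Subgroup.subgroupOf_eq_top, ← hUV]
    obtain ⟨n₀, hn₀, hconj⟩ := hw0
    apply sup_le
    · exact le_trans hUB le_sup_left
    · rw [← hconj]
      rintro x ⟨u, hu, rfl⟩
      simp only [MulEquiv.coe_toMonoidHom, MulAut.conj_apply]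
      exact Subgroup.mul_mem _ (Subgroup.mul_mem _ (Subgroup.mem_sup_right hn₀)
        (Subgroup.mem_sup_left (hUB hu))) (Subgroup.inv_mem _ (Subgroup.mem_sup_right hn₀))
  · -- `B ∩ N` is normal in `N`
    rintro n hn t ⟨htB, htN⟩
    rw [Subgroup.mem_subgroupOf] at hn
    have htB' : (t : GL D.Idx F) ∈ D.borelSubgroup F := Subgroup.mem_subgroupOf.mp htB
    have htN' : (t : GL D.Idx F) ∈ D.monomialSubgroup F := Subgroup.mem_subgroupOf.mp htN
    have htH : (t : GL D.Idx F) ∈ D.diagonalSubgroup F := by rw [← hBN]; exact ⟨htB', htN'⟩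
    have := (Subgroup.mem_normalizer_iff.mp (hF.monomial_le_normalizer hN hH hn) _).mp htH
    rw [Subgroup.mem_subgroupOf]
    simp only [Subgroup.coe_mul, Subgroup.coe_inv]
    exact hHB this
  · -- squares
    rintro s hs
    obtain ⟨i, hi, hsi⟩ := hS s hs
    rw [Subgroup.mem_subgroupOf, Subgroup.coe_mul, hsi]
    exact hHB (hF.nGL_sq_mem _ (Facts.simple_lt hH i hi))
  · -- injectivity
    rintro s hs s' hs' h
    obtain ⟨i, hi, hsi⟩ := hS s hs
    obtain ⟨j, hj, hsj⟩ := hS s' hs'
    rw [Subgroup.mem_subgroupOf, Subgroup.coe_mul, Subgroup.coe_inv, hsi, hsj] at h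
    have := hF.nS_inj hN hH hR hNe hU hBN hSR i j hi hj h
    subst this
    exact Subtype.ext (hsi.trans hsj.symm)
  · -- generation of `N`
    apply le_antisymm
    · apply sup_le
      · rw [Subgroup.closure_le]; exact hsub
      · exact inf_le_right
    · intro x hx
      rw [Subgroup.mem_subgroupOf] at hx
      have h1 := hF.monomial_le_closure_sup hN hH hx
      have hle : Subgroup.closure {g : GL D.Idx F | ∃ i < D.rank, g = hF.nS i} ⊔
          D.diagonalSubgroup F ≤
          (Subgroup.closure {n : ↥(D.group F) | ∃ i < D.rank,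
              ((n : GL D.Idx F) : Matrix D.Idx D.Idx F) = D.nMat F (D.simple i) 1} ⊔
            ((D.borelSubgroup F).subgroupOf (D.group F) ⊓
              (D.monomialSubgroup F).subgroupOf (D.group F))).map (D.group F).subtype := by
        apply sup_le
        · rw [Subgroup.closure_le]
          rintro g ⟨i, hi, rfl⟩
          exact ⟨⟨hF.nS i, hNG (hF.nS_mem_monomial i (Facts.simple_lt hH i hi))⟩,
            Subgroup.mem_sup_left (Subgroup.subset_closure ⟨i, hi, hF.nS_val (F := F) i⟩), rfl⟩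
        · intro h hh
          exact ⟨⟨h, hBG (hHB hh)⟩, Subgroup.mem_sup_right
            ⟨Subgroup.mem_subgroupOf.mpr (hHB hh), Subgroup.mem_subgroupOf.mpr (hHN hh)⟩, rfl⟩
      obtain ⟨y, hy, hyx⟩ := hle h1
      have : y = x := Subtype.ext hyx
      rw [← this]
      exact hy
  · -- the double coset axiom
    rintro s hs n hn b hb
    obtain ⟨i, hi, hsi⟩ := hS s hs
    have hn' : (n : GL D.Idx F) ∈ D.monomialSubgroup F := Subgroup.mem_subgroupOf.mp hn
    have hb' : (b : GL D.Idx F) ∈ D.borelSubgroup F := Subgroup.mem_subgroupOf.mp hb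
    rcases hF.bn_axiom hN hH hR i hi (hRefl i hi) (hUp i hi).1 (hUp i hi).2 _ hn' _ hb' with
      ⟨b₁, hb₁, b₂, hb₂, e⟩ | ⟨b₁, hb₁, b₂, hb₂, e⟩
    · left
      rw [DoubleCoset.mem_doubleCoset]
      refine ⟨⟨b₁, hBG hb₁⟩, Subgroup.mem_subgroupOf.mpr hb₁, ⟨b₂, hBG hb₂⟩,
        Subgroup.mem_subgroupOf.mpr hb₂, Subtype.ext ?_⟩
      simp only [Subgroup.coe_mul]
      rw [hsi]
      exact e
    · right
      rw [DoubleCoset.mem_doubleCoset]
      refine ⟨⟨b₁, hBG hb₁⟩, Subgroup.mem_subgroupOf.mpr hb₁, ⟨b₂, hBG hb₂⟩,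
        Subgroup.mem_subgroupOf.mpr hb₂, Subtype.ext ?_⟩
      simp only [Subgroup.coe_mul]
      rw [hsi]
      exact e
  · -- `s B s ≠ B`
    rintro s hs heq
    obtain ⟨i, hi, hsi⟩ := hS s hs
    obtain ⟨b, hb, hnb⟩ := hF.nS_conj_not_borel (F := F) hN hR hNe i hi
      (reflPosOK_spec D i (hRefl i hi)).1
    have h1 : s * ⟨b, hBG hb⟩ * s ∈ (fun b : ↥(D.group F) => s * b * s) ''
        ((D.borelSubgroup F).subgroupOf (D.group F) : Set ↥(D.group F)) :=
      ⟨⟨b, hBG hb⟩, Subgroup.mem_subgroupOf.mpr hb, rfl⟩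
    rw [heq] at h1
    have h2 := Subgroup.mem_subgroupOf.mp h1
    simp only [Subgroup.coe_mul] at h2
    rw [hsi] at h2
    exact hnb h2

end bn2

end Cfsg.Agent.Lib.Helper24
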