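import Cfsg.Agent.Lib.Helper24.Simple
import Cfsg.Agent.S0308
import Cfsg.Agent.S0309

set_option autoImplicit false
set_option linter.unusedSimpArgs false

namespace Cfsg.Agent.Lib.Helper24

open Cfsg.Lie

section bruhat

variable {F : Type*} [Field F] {D : ChevalleyDatum} {tab : List ℕ} {orb : List (ℕ × ℕ × ℕ)}

/-- the positive roots of index at least `k` -/
def upSet (D : ChevalleyDatum) (k : ℕ) (s : ℕ) : Prop := D.IsPosRoot s ∧ k ≤ s

/-- `X_k` normalises the subgroup generated by the `X_s`, `s > k` positive -/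
theorem Facts.rootSubgroup_le_normalizer_up (hF : Facts D) (hC : ChainOK D) (hU : UFacts D)
    (hNR : negRevOK D = true)
    (hcomm : ∀ r < D.nroots, ∀ s < D.nroots, s ≠ r → s ≠ D.neg r → hF.QF F r s)
    (k : ℕ) (hk : D.IsPosRoot k) :
    D.rootSubgroup F k ≤ Subgroup.normalizer (rootClosure D F (upSet D (k + 1)) : Set (GL D.Idx F)) := by
  have hneg : ∀ r s, D.IsPosRoot r → D.IsPosRoot s → s ≠ D.neg r := by
    intro r s hr hs h
    have h1 := (posHalf_spec D hU.half r).mp hr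
    have h2 := (posHalf_spec D hU.half s).mp hs
    have h3 : D.neg r = D.nroots - 1 - r := Nat.eq_of_beq_eq_true (allBelow_elim _ _ hNR r hr.1)
    have h4 := posHalf_even D hU.half
    omega
  unfold ChevalleyDatum.rootSubgroup
  rw [Subgroup.closure_le]
  rintro x ⟨u, hx⟩
  rw [hF.eq_xGL x k u hx]
  apply hF.xGL_mem_normalizer_rootClosure hC _ k hk.1 (fun s hs => hs.1.1)
  · intro s hs
    exact hcomm k hk.1 s hs.1.1 (by have := hs.2; omega) (hneg k s hk hs.1)
  · intro s hs c hc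
    obtain ⟨hcp, hrc⟩ := hU.convex.spec hU.half k s hk hs.1 (by have := hs.2; omega) c hc
    exact ⟨hcp, hrc⟩

/-- for an arbitrary partition of the positive roots, `U` is the product of the two subgroups
generated by the root subgroups of the two parts -/
theorem Facts.split_pos (hF : Facts D) (hC : ChainOK D) (hU : UFacts D) (hNR : negRevOK D = true)
    (hcomm : ∀ r < D.nroots, ∀ s < D.nroots, s ≠ r → s ≠ D.neg r → hF.QF F r s)
    (Ψ : ℕ → Prop) (g : GL D.Idx F) (hg : g ∈ D.posUnipotent F) :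
    ∃ a ∈ rootClosure D F (fun s => D.IsPosRoot s ∧ ¬ Ψ s),
      ∃ c ∈ rootClosure D F (fun s => D.IsPosRoot s ∧ Ψ s), g = a * c := by
  classical
  have key : ∀ m k : ℕ, D.nroots ≤ k + m → ∀ g ∈ rootClosure D F (upSet D k),
      ∃ a ∈ rootClosure D F (fun s => D.IsPosRoot s ∧ ¬ Ψ s),
        ∃ c ∈ rootClosure D F (fun s => D.IsPosRoot s ∧ Ψ s), g = a * c := by
    intro m
    induction m with
    | zero =>
      intro k hk g hg
      have h : rootClosure D F (upSet D k) = ⊥ := by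
        unfold rootClosure
        rw [Subgroup.closure_eq_bot_iff]
        rintro x ⟨s, u, hs, _⟩
        have := hs.1.1
        have := hs.2
        omega
      rw [h, Subgroup.mem_bot] at hg
      exact ⟨1, Subgroup.one_mem _, 1, Subgroup.one_mem _, by rw [hg, one_mul]⟩
    | succ m ih =>
      intro k hk g hg
      have ih' := ih (k + 1) (by omega)
      by_cases hkp : D.IsPosRoot k
      · have hle : rootClosure D F (upSet D k) ≤
            rootClosure D F (upSet D (k + 1)) ⊔ D.rootSubgroup F k := by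
          unfold rootClosure ChevalleyDatum.rootSubgroup
          rw [Subgroup.closure_le]
          rintro x ⟨s, u, hs, hx⟩
          by_cases hsk : s = k
          · subst hsk; exact Subgroup.mem_sup_right (Subgroup.subset_closure ⟨u, hx⟩)
          · exact Subgroup.mem_sup_left (Subgroup.subset_closure
              ⟨s, u, ⟨hs.1, by have := hs.2; omega⟩, hx⟩)
        have hnorm := hF.rootSubgroup_le_normalizer_up hC hU hNR hcomm k hkp
        by_cases hΨ : Ψ k
        · obtain ⟨v, hv, x, hx, hgv⟩ := exists_mul_of_mem_sup_of_le_normalizer _ _ hnorm g (hle hg)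
          obtain ⟨a, ha, c, hc, hvac⟩ := ih' v hv
          obtain ⟨t0, ht0⟩ := hF.exists_of_mem_rootSubgroup k x hx
          refine ⟨a, ha, c * x, Subgroup.mul_mem _ hc ?_, by rw [hgv, hvac, mul_assoc]⟩
          rw [ht0]
          exact hF.xGL_mem_rootClosure _ k ⟨hkp, hΨ⟩ t0
        · obtain ⟨v, hv, x, hx, hgv⟩ := exists_mul_of_mem_sup_of_le_normalizer _ _ hnorm g⁻¹
            (hle (Subgroup.inv_mem _ hg))
          obtain ⟨a, ha, c, hc, hvac⟩ := ih' v⁻¹ (Subgroup.inv_mem _ hv)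
          obtain ⟨t0, ht0⟩ := hF.exists_of_mem_rootSubgroup k x⁻¹ (Subgroup.inv_mem _ hx)
          refine ⟨x⁻¹ * a, Subgroup.mul_mem _ ?_ ha, c, hc, ?_⟩
          · rw [ht0]
            exact hF.xGL_mem_rootClosure _ k ⟨hkp, hΨ⟩ t0
          · have : g = (v * x)⁻¹ := by rw [← hgv, inv_inv]
            rw [this, mul_inv_rev, hvac, mul_assoc]
      · apply ih' g
        have hle : rootClosure D F (upSet D k) ≤ rootClosure D F (upSet D (k + 1)) := by
          unfold rootClosure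
          apply Subgroup.closure_mono
          rintro x ⟨s, u, hs, hx⟩
          refine ⟨s, u, ⟨hs.1, ?_⟩, hx⟩
          have := hs.2
          have : s ≠ k := by rintro rfl; exact hkp hs.1
          omega
        exact hle hg
  apply key D.nroots 0 (by omega) g
  have hle : D.posUnipotent F ≤ rootClosure D F (upSet D 0) := by
    unfold ChevalleyDatum.posUnipotent rootClosure
    apply Subgroup.closure_mono
    rintro x ⟨r, t, hr, hx⟩
    exact ⟨r, t, ⟨hr, Nat.zero_le _⟩, hx⟩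
  exact hle hg

/-- `U ≤ B`, `H ≤ B`, `H ≤ N` -/
theorem pos_le_borel (D : ChevalleyDatum) (F : Type*) [Field F] :
    D.posUnipotent F ≤ D.borelSubgroup F := by
  unfold ChevalleyDatum.borelSubgroup; exact le_sup_left

theorem diagonal_le_borel (D : ChevalleyDatum) (F : Type*) [Field F] :
    D.diagonalSubgroup F ≤ D.borelSubgroup F := by
  unfold ChevalleyDatum.borelSubgroup; exact le_sup_right

theorem diagonal_le_monomial (D : ChevalleyDatum) (F : Type*) [Field F] :
    D.diagonalSubgroup F ≤ D.monomialSubgroup F := by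
  unfold ChevalleyDatum.monomialSubgroup; exact le_sup_left

/-- Bruhat decomposition, existence, in `GL` -/
theorem Facts.bruhat_exists (hF : Facts D) (P : Cfsg.BNPair ↥(D.group F))
    (hB : P.B = (D.borelSubgroup F).subgroupOf (D.group F))
    (hN' : P.N = (D.monomialSubgroup F).subgroupOf (D.group F))
    (g : GL D.Idx F) (hg : g ∈ D.group F) :
    ∃ n ∈ D.monomialSubgroup F, ∃ b₁ ∈ D.borelSubgroup F, ∃ b₂ ∈ D.borelSubgroup F,
      g = b₁ * n * b₂ := by
  obtain ⟨n, hn, hdc⟩ := Cfsg.Agent.S0308.result P ⟨g, hg⟩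
  rw [DoubleCoset.mem_doubleCoset] at hdc
  obtain ⟨x, hx, y, hy, e⟩ := hdc
  rw [hN', Subgroup.mem_subgroupOf] at hn
  rw [SetLike.mem_coe, hB, Subgroup.mem_subgroupOf] at hx hy
  refine ⟨n, hn, x, hx, y, hy, ?_⟩
  have := congrArg Subtype.val e
  simpa only [Subgroup.coe_mul] using this

/-- Bruhat decomposition, uniqueness, in `GL` -/
theorem Facts.bruhat_unique (hF : Facts D) (P : Cfsg.BNPair ↥(D.group F))
    (hB : P.B = (D.borelSubgroup F).subgroupOf (D.group F))
    (hN' : P.N = (D.monomialSubgroup F).subgroupOf (D.group F))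
    (hBN : D.borelSubgroup F ⊓ D.monomialSubgroup F = D.diagonalSubgroup F)
    (n n' : GL D.Idx F) (hn : n ∈ D.monomialSubgroup F) (hn' : n' ∈ D.monomialSubgroup F)
    (b₁ b₂ b₁' b₂' : GL D.Idx F) (h1 : b₁ ∈ D.borelSubgroup F) (h2 : b₂ ∈ D.borelSubgroup F)
    (h1' : b₁' ∈ D.borelSubgroup F) (h2' : b₂' ∈ D.borelSubgroup F)
    (e : b₁ * n * b₂ = b₁' * n' * b₂') : n⁻¹ * n' ∈ D.diagonalSubgroup F := by
  have hBG := hF.borel_le_group (F := F)
  have hNG := hF.monomial_le_group (F := F)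
  have hnP : (⟨n, hNG hn⟩ : ↥(D.group F)) ∈ P.N := by
    rw [hN', Subgroup.mem_subgroupOf]; exact hn
  have hnP' : (⟨n', hNG hn'⟩ : ↥(D.group F)) ∈ P.N := by
    rw [hN', Subgroup.mem_subgroupOf]; exact hn'
  have hmem : ∀ b : GL D.Idx F, ∀ hb : b ∈ D.borelSubgroup F,
      (⟨b, hBG hb⟩ : ↥(D.group F)) ∈ P.B := by
    intro b hb
    rw [hB, Subgroup.mem_subgroupOf]; exact hb
  have hd1 : (⟨b₁, hBG h1⟩ * ⟨n, hNG hn⟩ * ⟨b₂, hBG h2⟩ : ↥(D.group F)) ∈
      DoubleCoset.doubleCoset (⟨n, hNG hn⟩ : ↥(D.group F)) (P.B : Set ↥(D.group F)) P.B := by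
    rw [DoubleCoset.mem_doubleCoset]
    exact ⟨_, hmem b₁ h1, _, hmem b₂ h2, rfl⟩
  have hd2 : (⟨b₁, hBG h1⟩ * ⟨n, hNG hn⟩ * ⟨b₂, hBG h2⟩ : ↥(D.group F)) ∈
      DoubleCoset.doubleCoset (⟨n', hNG hn'⟩ : ↥(D.group F)) (P.B : Set ↥(D.group F)) P.B := by
    rw [DoubleCoset.mem_doubleCoset]
    exact ⟨_, hmem b₁' h1', _, hmem b₂' h2', Subtype.ext e⟩
  have heq := (DoubleCoset.doubleCoset_eq_of_mem hd1).symm.trans
    (DoubleCoset.doubleCoset_eq_of_mem hd2)
  have h3 := (Cfsg.Agent.S0309.result P hnP hnP').mp heq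
  rw [hB, Subgroup.mem_subgroupOf] at h3
  rw [← hBN]
  exact ⟨h3, Subgroup.mul_mem _ (Subgroup.inv_mem _ hn) hn'⟩

/-- the positive root subgroups which `n` maps into `V` -/
def NegSet (D : ChevalleyDatum) (F : Type*) [Field F] (n : GL D.Idx F) (r : ℕ) : Prop :=
  (D.rootSubgroup F r).map (MulAut.conj n).toMonoidHom ≤ D.negUnipotent F

theorem rootClosure_neg_conj (n : GL D.Idx F) (x : GL D.Idx F)
    (hx : x ∈ rootClosure D F (fun r => D.IsPosRoot r ∧ NegSet D F n r)) :
    n * x * n⁻¹ ∈ D.negUnipotent F := by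
  unfold rootClosure at hx
  induction hx using Subgroup.closure_induction with
  | mem x hx =>
    obtain ⟨r, t, ⟨_, hr⟩, hxe⟩ := hx
    apply hr
    refine ⟨x, Subgroup.subset_closure ⟨t, hxe⟩, ?_⟩
    simp [MulAut.conj_apply]
  | one => simp
  | mul x y _ _ hx hy =>
    have : n * (x * y) * n⁻¹ = (n * x * n⁻¹) * (n * y * n⁻¹) := by group
    rw [this]; exact Subgroup.mul_mem _ hx hy
  | inv x _ hx =>
    have : n * x⁻¹ * n⁻¹ = (n * x * n⁻¹)⁻¹ := by group
    rw [this]; exact Subgroup.inv_mem _ hx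

theorem Facts.rootClosure_pos_conj (hF : Facts D) (hN : NFacts D tab) (hH : HNFacts D tab orb)
    (hR : rootTableOK D = true) (n : GL D.Idx F) (hn : n ∈ D.monomialSubgroup F) (x : GL D.Idx F)
    (hx : x ∈ rootClosure D F (fun r => D.IsPosRoot r ∧ ¬ NegSet D F n r)) :
    n * x * n⁻¹ ∈ D.posUnipotent F := by
  unfold rootClosure at hx
  induction hx using Subgroup.closure_induction with
  | mem x hx =>
    obtain ⟨r, t, ⟨hr, hnr⟩, hxe⟩ := hx
    rw [hF.eq_xGL x r t hxe]
    obtain ⟨s', hs', c, c', _, _, e, _⟩ := (hF.monomial_le_actGL hN hH hR hn).1 r hr.1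
    rw [e]
    obtain ⟨hpn, _⟩ := rootTableOK_spec D hR s' hs'
    rcases hpn with hp | hneg
    · exact hF.xGL_mem_pos s' hp _
    · exfalso
      apply hnr
      rintro y ⟨z, hz, rfl⟩
      obtain ⟨t', rfl⟩ := hF.exists_of_mem_rootSubgroup r z hz
      simp only [MulEquiv.coe_toMonoidHom, MulAut.conj_apply]
      rw [e]
      exact hF.xGL_mem_neg s' hneg _
  | one => simp
  | mul x y _ _ hx hy =>
    have : n * (x * y) * n⁻¹ = (n * x * n⁻¹) * (n * y * n⁻¹) := by group
    rw [this]; exact Subgroup.mul_mem _ hx hy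
  | inv x _ hx =>
    have : n * x⁻¹ * n⁻¹ = (n * x * n⁻¹)⁻¹ := by group
    rw [this]; exact Subgroup.inv_mem _ hx

theorem rootClosure_pos_le (D : ChevalleyDatum) (F : Type*) [Field F] (R : ℕ → Prop)
    (hR : ∀ r, R r → D.IsPosRoot r) : rootClosure D F R ≤ D.posUnipotent F := by
  unfold rootClosure ChevalleyDatum.posUnipotent
  apply Subgroup.closure_mono
  rintro x ⟨r, t, hr, hx⟩
  exact ⟨r, t, hR r hr, hx⟩

/-- S1100, existence -/
theorem Facts.normal_form_exists (hF : Facts D) (hN : NFacts D tab) (hH : HNFacts D tab orb)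
    (hR : rootTableOK D = true) (hC : ChainOK D) (hU : UFacts D) (hNR : negRevOK D = true)
    (hcomm : ∀ r < D.nroots, ∀ s < D.nroots, s ≠ r → s ≠ D.neg r → hF.QF F r s)
    (P : Cfsg.BNPair ↥(D.group F))
    (hB : P.B = (D.borelSubgroup F).subgroupOf (D.group F))
    (hN' : P.N = (D.monomialSubgroup F).subgroupOf (D.group F))
    (g : GL D.Idx F) (hg : g ∈ D.group F) :
    ∃ b ∈ D.borelSubgroup F, ∃ n ∈ D.monomialSubgroup F,
      ∃ u ∈ rootClosure D F (fun r => D.IsPosRoot r ∧ NegSet D F n r), g = b * n * u := by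
  obtain ⟨n, hn, b₁, hb₁, b₂, hb₂, e⟩ := hF.bruhat_exists P hB hN' g hg
  unfold ChevalleyDatum.borelSubgroup at hb₂
  obtain ⟨u, hu, h, hh, rfl⟩ := exists_mul_of_mem_sup_of_le_normalizer _ _
    hF.diagonal_le_normalizer_pos b₂ hb₂
  have hnh : n * h ∈ D.monomialSubgroup F :=
    Subgroup.mul_mem _ hn (diagonal_le_monomial D F hh)
  have hu2 : h⁻¹ * u * h ∈ D.posUnipotent F := by
    have := (Subgroup.mem_normalizer_iff.mp
      (hF.diagonal_le_normalizer_pos (Subgroup.inv_mem _ hh)) u).mp hu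
    rwa [inv_inv] at this
  obtain ⟨a, ha, c, hc, hac⟩ := hF.split_pos hC hU hNR hcomm (NegSet D F (n * h)) _ hu2
  refine ⟨b₁ * ((n * h) * a * (n * h)⁻¹), Subgroup.mul_mem _ hb₁ (pos_le_borel D F
    (hF.rootClosure_pos_conj hN hH hR (n * h) hnh a ha)), n * h, hnh, c, hc, ?_⟩
  rw [e]
  have : b₁ * n * (u * h) = b₁ * (n * h) * (h⁻¹ * u * h) := by group
  rw [this, hac]
  group

/-- S1100, uniqueness -/
theorem Facts.normal_form_unique (hF : Facts D) (P : Cfsg.BNPair ↥(D.group F))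
    (hB : P.B = (D.borelSubgroup F).subgroupOf (D.group F))
    (hN' : P.N = (D.monomialSubgroup F).subgroupOf (D.group F))
    (hBN : D.borelSubgroup F ⊓ D.monomialSubgroup F = D.diagonalSubgroup F)
    (b b' n n' u u' : GL D.Idx F) (hb : b ∈ D.borelSubgroup F) (hb' : b' ∈ D.borelSubgroup F)
    (hn : n ∈ D.monomialSubgroup F) (hn' : n' ∈ D.monomialSubgroup F)
    (hu : u ∈ rootClosure D F (fun r => D.IsPosRoot r ∧ NegSet D F n r))
    (hu' : u' ∈ rootClosure D F (fun r => D.IsPosRoot r ∧ NegSet D F n' r))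
    (e : b * n * u = b' * n' * u') :
    n⁻¹ * n' ∈ D.diagonalSubgroup F ∧ (n = n' → b = b' ∧ u = u') := by
  have huB : u ∈ D.borelSubgroup F :=
    pos_le_borel D F (rootClosure_pos_le D F _ (fun r hr => hr.1) hu)
  have huB' : u' ∈ D.borelSubgroup F :=
    pos_le_borel D F (rootClosure_pos_le D F _ (fun r hr => hr.1) hu')
  refine ⟨hF.bruhat_unique P hB hN' hBN n n' hn hn' b u b' u' hb huB hb' huB' e, ?_⟩
  rintro rfl
  have h1 : b'⁻¹ * b = n * (u' * u⁻¹) * n⁻¹ := by
    have : b = b' * n * u' * u⁻¹ * n⁻¹ := by rw [← e]; group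
    rw [this]; group
  have h2 : n * (u' * u⁻¹) * n⁻¹ ∈ D.negUnipotent F :=
    rootClosure_neg_conj n _ (Subgroup.mul_mem _ hu' (Subgroup.inv_mem _ hu))
  have h3 : b'⁻¹ * b ∈ D.borelSubgroup F ⊓ D.negUnipotent F :=
    ⟨Subgroup.mul_mem _ (Subgroup.inv_mem _ hb') hb, by rw [h1]; exact h2⟩
  rw [hF.borel_inf_neg.1, Subgroup.mem_bot] at h3
  have hbb : b = b' := by
    have := inv_mul_eq_one.mp h3
    exact this.symm
  refine ⟨hbb, ?_⟩
  rw [hbb] at e
  exact mul_left_cancel e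

end bruhat

end Cfsg.Agent.Lib.Helper24
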