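import Cfsg.Agent.Lib.Helper24.Bruhat

set_option autoImplicit false
set_option linter.unusedSimpArgs false

namespace Cfsg.Agent.Lib.Helper24

open Cfsg.Lie

/-- byte `s` of a packed table -/
def wq (P s : ℕ) : ℕ := Nat.land (Nat.shiftRight P (Nat.mul 8 s)) 255

theorem rhoW_append (D : ChevalleyDatum) (w : List ℕ) (i s : ℕ) :
    rhoW D (w ++ [i]) s = rhoW D w (D.reflectRoot i s) := by
  simp [rhoW, List.foldr_append]

/-- the word of the `m`-th representative, read off the list of the parents -/
def wordAt (Par : List ℕ) : ℕ → List ℕ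
  | 0 => []
  | m + 1 =>
    if _h : Par.getD m 0 / 16 ≤ m then wordAt Par (Par.getD m 0 / 16) ++ [Par.getD m 0 % 16] else []
termination_by m => m
decreasing_by omega

theorem wordAt_zero (Par : List ℕ) : wordAt Par 0 = [] := by
  rw [wordAt]

theorem wordAt_succ (Par : List ℕ) (m : ℕ) (h : Par.getD m 0 / 16 ≤ m) :
    wordAt Par (m + 1) = wordAt Par (Par.getD m 0 / 16) ++ [Par.getD m 0 % 16] := by
  rw [wordAt, dif_pos h]

/-- the packed tables of the fundamental reflections -/
def reflTabOK (D : ChevalleyDatum) (tab S : List ℕ) : Bool :=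
  (List.range D.rank).all fun i => forceNat (tab.getD i 0) fun T => forceNat (S.getD i 0) fun Si =>
    allBelow (fun s => Nat.beq (wfast D.rank T s) (wq Si s) &&
      Nat.beq (wq Si (wq Si s)) s) D.nroots

theorem reflTabOK_spec {D : ChevalleyDatum} {tab : List ℕ} {orb : List (ℕ × ℕ × ℕ)}
    (hN : NFacts D tab) (hH : HNFacts D tab orb) (S : List ℕ) (h : reflTabOK D tab S = true)
    (i : ℕ) (hi : i < D.rank) (s : ℕ) (hs : s < D.nroots) :
    wq (S.getD i 0) s = D.reflectRoot i s ∧ D.reflectRoot i (D.reflectRoot i s) = s := by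
  simp only [reflTabOK, List.all_eq_true, List.mem_range, forceNat_eq] at h
  have key : ∀ s < D.nroots, wq (S.getD i 0) s = D.reflectRoot i s ∧
      wq (S.getD i 0) (wq (S.getD i 0) s) = s := by
    intro s hs
    have h1 := allBelow_elim _ _ (h i hi) s hs
    simp only [Bool.and_eq_true, nbeq_true] at h1
    exact ⟨by rw [← h1.1, wfast_eq D _ i (hH.perm i hi) s hs], h1.2⟩
  obtain ⟨e1, e2⟩ := key s hs
  refine ⟨e1, ?_⟩
  rw [e1, (key _ (hN.reflectRoot_lt i hi s hs)).1] at e2
  exact e2

/-- the tree of the representatives: the table of the `m`-th representative is the composite of the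
table of its parent and of a fundamental reflection -/
def treeOK (n : ℕ) (S K Pm Par : List ℕ) : Bool :=
  Nat.beq Pm.length (Par.length + 1) &&
  (forceNat (Pm.getD 0 0) fun P0 => allBelow (fun s => Nat.beq (wq P0 s) s) n) &&
  allBelow (fun m => forceNat m fun m' => forceNat (Par.getD m' 0) fun c =>
    Nat.ble (c / 16) m' && K.contains (c % 16) &&
    (forceNat (Pm.getD (m' + 1) 0) fun P => forceNat (Pm.getD (c / 16) 0) fun Pp =>
      forceNat (S.getD (c % 16) 0) fun Si =>
        allBelow (fun s => Nat.beq (wq P s) (wq Pp (wq Si s))) n)) Par.length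

theorem treeOK_spec {D : ChevalleyDatum} {tab : List ℕ} (hN : NFacts D tab) (S K Pm Par : List ℕ)
    (hS : ∀ i < D.rank, ∀ s < D.nroots, wq (S.getD i 0) s = D.reflectRoot i s)
    (hK : ∀ i ∈ K, i < D.rank) (h : treeOK D.nroots S K Pm Par = true) :
    Pm.length = Par.length + 1 ∧
    (∀ m < Par.length, Par.getD m 0 / 16 ≤ m ∧ Par.getD m 0 % 16 ∈ K) ∧
    ∀ m < Pm.length, (∀ i ∈ wordAt Par m, i ∈ K) ∧
      ∀ s < D.nroots, wq (Pm.getD m 0) s = rhoW D (wordAt Par m) s := by
  simp only [treeOK, Bool.and_eq_true, nbeq_true, forceNat_eq] at h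
  obtain ⟨⟨hlen, h0⟩, hstep⟩ := h
  have hstep' : ∀ m < Par.length, Par.getD m 0 / 16 ≤ m ∧ Par.getD m 0 % 16 ∈ K ∧
      ∀ s < D.nroots, wq (Pm.getD (m + 1) 0) s =
        wq (Pm.getD (Par.getD m 0 / 16) 0) (wq (S.getD (Par.getD m 0 % 16) 0) s) := by
    intro m hm
    have h1 := allBelow_elim _ _ hstep m hm
    simp only [forceNat_eq, Bool.and_eq_true, List.contains_iff_mem] at h1
    obtain ⟨⟨h2, h3⟩, h4⟩ := h1
    refine ⟨Nat.le_of_ble_eq_true h2, h3, fun s hs => ?_⟩
    have := allBelow_elim _ _ h4 s hs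
    exact Nat.eq_of_beq_eq_true this
  refine ⟨hlen, fun m hm => ⟨(hstep' m hm).1, (hstep' m hm).2.1⟩, ?_⟩
  intro m
  induction m using Nat.strong_induction_on with
  | _ m ih =>
    intro hm
    rcases m with _ | m
    · rw [wordAt_zero]
      refine ⟨fun i hi => absurd hi List.not_mem_nil, fun s hs => ?_⟩
      have := allBelow_elim _ _ h0 s hs
      exact Nat.eq_of_beq_eq_true this
    · have hm' : m < Par.length := by omega
      obtain ⟨hp, hi, he⟩ := hstep' m hm'
      rw [wordAt_succ Par m hp]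
      obtain ⟨ihl, ihe⟩ := ih (Par.getD m 0 / 16) (by omega) (by omega)
      refine ⟨?_, fun s hs => ?_⟩
      · intro i hi'
        rcases List.mem_append.mp hi' with h | h
        · exact ihl i h
        · rw [List.mem_singleton] at h; rw [h]; exact hi
      · rw [he s hs, rhoW_append, hS _ (hK _ hi) s hs]
        exact ihe _ (hN.reflectRoot_lt _ (hK _ hi) s hs)

/-- the right multiple `w_m s_i` of a representative is again a representative, or a left multiple
`s_j w_m` with `j ∈ J` -/
def EdgeP (D : ChevalleyDatum) (J Par : List ℕ) (N m i : ℕ) : Prop :=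
  (∃ m' < N, ∀ s < D.nroots, rhoW D (wordAt Par m ++ [i]) s = rhoW D (wordAt Par m') s) ∨
  (∃ j ∈ J, rhoW D (wordAt Par m) (D.simple i) = D.simple j)

/-- the certificates for the edges: `15` child, `14` parent, `0` another representative,
`j + 1` the fundamental reflection `s_j` -/
def edgeOK (D : ChevalleyDatum) (S J K Pm Par Ec : List ℕ) : Bool :=
  forceNat Pm.length fun N =>
  allBelow (fun m => forceNat m fun m' => forceNat (Pm.getD m' 0) fun P =>
    forceNat (Ec.getD m' 0) fun E =>
    allBelow (fun t => forceNat t fun t' => forceNat (K.getD t' 0) fun i =>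
      forceNat (fld16 E t') fun code => forceNat (code / 16) fun m2 => forceNat (code % 16) fun v =>
        Nat.blt m2 N &&
        cond (Nat.beq v 15) (Nat.blt 0 m2 && Nat.beq (Par.getD (m2 - 1) 0) (m' * 16 + i))
        (cond (Nat.beq v 14) (Nat.blt 0 m' && Nat.beq (Par.getD (m' - 1) 0) (m2 * 16 + i))
        (cond (Nat.beq v 0)
          (forceNat (Pm.getD m2 0) fun P2 => forceNat (S.getD i 0) fun Si =>
            allBelow (fun s => Nat.beq (wq P (wq Si s)) (wq P2 s)) D.nroots)
          (J.contains (v - 1) && Nat.beq (wq P (D.simple i)) (D.simple (v - 1)))))) K.length) N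

theorem edgeOK_spec {D : ChevalleyDatum} {tab : List ℕ} (hN : NFacts D tab) (S J K Pm Par Ec : List ℕ)
    (hS : ∀ i < D.rank, ∀ s < D.nroots, wq (S.getD i 0) s = D.reflectRoot i s ∧
      D.reflectRoot i (D.reflectRoot i s) = s)
    (hK : ∀ i ∈ K, i < D.rank) (hr16 : D.rank ≤ 16) (hsimple : ∀ i < D.rank, D.simple i < D.nroots)
    (hlen : Pm.length = Par.length + 1)
    (hpar : ∀ m < Par.length, Par.getD m 0 / 16 ≤ m ∧ Par.getD m 0 % 16 ∈ K)
    (htab : ∀ m < Pm.length, ∀ s < D.nroots, wq (Pm.getD m 0) s = rhoW D (wordAt Par m) s)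
    (h : edgeOK D S J K Pm Par Ec = true) :
    ∀ m < Pm.length, ∀ i ∈ K, EdgeP D J Par Pm.length m i := by
  simp only [edgeOK, forceNat_eq] at h
  intro m hm i hi
  obtain ⟨t, ht, rfl⟩ := List.getElem_of_mem hi
  have h1 := allBelow_elim _ _ (allBelow_elim _ _ h m hm) t ht
  simp only [forceNat_eq, Bool.and_eq_true] at h1
  obtain ⟨h2, h3⟩ := h1
  have hgd : K.getD t 0 = K[t] := by simp [List.getD, ht]
  rw [hgd] at h3
  have hm2 : fld16 (Ec.getD m 0) t / 16 < Pm.length := by simpa [Nat.blt_eq] using h2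
  set m2 := fld16 (Ec.getD m 0) t / 16 with hm2def
  set v := fld16 (Ec.getD m 0) t % 16 with hvdef
  have hirank := hK _ hi
  cases hv15 : Nat.beq v 15 with
  | true =>
    rw [hv15, cond_true, Bool.and_eq_true] at h3
    obtain ⟨h4, h5⟩ := h3
    have h4' : 0 < m2 := by simpa [Nat.blt_eq] using h4
    have h5' := Nat.eq_of_beq_eq_true h5
    left
    refine ⟨m2, hm2, fun s _ => ?_⟩
    have hm2' : m2 - 1 < Par.length := by omega
    obtain ⟨hp, _⟩ := hpar (m2 - 1) hm2'
    have e : m2 = (m2 - 1) + 1 := by omega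
    rw [e, wordAt_succ Par (m2 - 1) hp, h5']
    have e1 : (m * 16 + K[t]) / 16 = m := by have := hirank; have := hr16; omega
    have e2 : (m * 16 + K[t]) % 16 = K[t] := by have := hirank; have := hr16; omega
    rw [e1, e2]
  | false =>
    rw [hv15, cond_false] at h3
    cases hv14 : Nat.beq v 14 with
    | true =>
      rw [hv14, cond_true, Bool.and_eq_true] at h3
      obtain ⟨h4, h5⟩ := h3
      have h4' : 0 < m := by simpa [Nat.blt_eq] using h4
      have h5' := Nat.eq_of_beq_eq_true h5
      left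
      refine ⟨m2, hm2, fun s hs => ?_⟩
      have hm' : m - 1 < Par.length := by omega
      obtain ⟨hp, _⟩ := hpar (m - 1) hm'
      have e : m = (m - 1) + 1 := by omega
      have e1 : (m2 * 16 + K[t]) / 16 = m2 := by have := hirank; have := hr16; omega
      have e2 : (m2 * 16 + K[t]) % 16 = K[t] := by have := hirank; have := hr16; omega
      have hw : wordAt Par m = wordAt Par m2 ++ [K[t]] := by
        conv_lhs => rw [e]
        rw [wordAt_succ Par (m - 1) hp, h5', e1, e2]
      rw [hw, rhoW_append, rhoW_append, (hS _ hirank s hs).2]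
    | false =>
      rw [hv14, cond_false] at h3
      cases hv0 : Nat.beq v 0 with
      | true =>
        rw [hv0, cond_true] at h3
        left
        refine ⟨m2, hm2, fun s hs => ?_⟩
        have h6 := Nat.eq_of_beq_eq_true (allBelow_elim _ _ h3 s hs)
        rw [rhoW_append, ← htab m2 hm2 s hs, ← h6, (hS _ hirank s hs).1]
        exact (htab m hm _ (hN.reflectRoot_lt _ hirank s hs)).symm
      | false =>
        rw [hv0, cond_false, Bool.and_eq_true, List.contains_iff_mem] at h3
        obtain ⟨h4, h5⟩ := h3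
        right
        refine ⟨v - 1, h4, ?_⟩
        rw [← htab m hm _ (hsimple _ hirank)]
        exact Nat.eq_of_beq_eq_true h5

/-- the packed table of the levels, shifted by `128` -/
def levTabOK (D : ChevalleyDatum) (Λ : List ℤ) (LV : ℕ) : Bool :=
  allBelow (fun s => forceNat s fun s' =>
    decide (gradeF D Λ s' = Int.sub (Int.ofNat (wq LV s')) 128)) D.nroots

theorem levTabOK_spec (D : ChevalleyDatum) (Λ : List ℤ) (LV : ℕ) (h : levTabOK D Λ LV = true) (s : ℕ)
    (hs : s < D.nroots) : gradeF D Λ s = (wq LV s : ℤ) - 128 := by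
  have := allBelow_elim _ _ h s hs
  simp only [forceNat_eq, decide_eq_true_eq] at this
  exact this

/-- the conditions on the levels -/
def levOK (D : ChevalleyDatum) (S J Pm : List ℕ) (LV : ℕ) : Bool :=
  allBelow (fun s => Nat.blt s (D.nroots / 2) || Nat.ble 128 (wq LV s)) D.nroots &&
  J.all (fun j => Nat.beq (wq LV (D.simple j)) 128 && Nat.beq (wq LV (D.neg (D.simple j))) 128) &&
  J.all (fun j => forceNat (S.getD j 0) fun Sj =>
    allBelow (fun s => Nat.beq (wq LV (wq Sj s)) (wq LV s)) D.nroots) &&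
  Pm.all (fun P => forceNat P fun P' =>
    allFrom (fun s => forceNat (wq P' s) fun ρ =>
      Nat.ble (D.nroots / 2) ρ || Nat.blt (wq LV ρ) 128) (D.nroots / 2) (D.nroots - D.nroots / 2))

def pairwiseNe : List ℕ → Bool
  | [] => true
  | a :: as => as.all (fun b => !(Nat.beq a b)) && pairwiseNe as

theorem pairwiseNe_nodup (L : List ℕ) (h : pairwiseNe L = true) : L.Nodup := by
  induction L with
  | nil => exact List.nodup_nil
  | cons a as ih =>
    simp only [pairwiseNe, Bool.and_eq_true, List.all_eq_true, Bool.not_eq_true', nbeq_false] at h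
    exact List.nodup_cons.mpr ⟨fun hm => h.1 a hm rfl, ih h.2⟩

/-- the signature of a representative: the levels of the images of the fundamental roots -/
def sigOf (D : ChevalleyDatum) (LV P : ℕ) : ℕ :=
  (List.range D.rank).foldl (fun acc i => acc * 256 + wq LV (wq P (D.simple i))) 0

def listEqMap (f : ℕ → ℕ) : List ℕ → List ℕ → Bool
  | [], [] => true
  | a :: as, b :: bs => Nat.beq a (f b) && listEqMap f as bs
  | _, _ => false

theorem listEqMap_spec (f : ℕ → ℕ) (A B : List ℕ) (h : listEqMap f A B = true) : A = B.map f := by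
  induction A generalizing B with
  | nil =>
    cases B with
    | nil => rfl
    | cons b bs => simp [listEqMap] at h
  | cons a as ih =>
    cases B with
    | nil => simp [listEqMap] at h
    | cons b bs =>
      simp only [listEqMap, Bool.and_eq_true, nbeq_true] at h
      rw [List.map_cons, h.1, ih bs h.2]

/-- the number of the positive roots made negative -/
def cntOf (n P : ℕ) : ℕ :=
  ((List.range n).filter fun r => Nat.ble (n / 2) r && Nat.blt (wq P r) (n / 2)).length

/-- the signatures are pairwise distinct; the numbers of inversions -/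
def sigOK (D : ChevalleyDatum) (LV : ℕ) (Pm Sg Cn : List ℕ) : Bool :=
  listEqMap (sigOf D LV) Sg Pm && pairwiseNe Sg && listEqMap (cntOf D.nroots) Cn Pm

/-- the number of the positive roots made negative by `w` -/
noncomputable def cntW (D : ChevalleyDatum) (w : List ℕ) : ℕ :=
  (D.posRoots.filter fun r => decide (¬ D.IsPosRoot (rhoW D w r))).length

theorem foldl_sig_congr (L : List ℕ) (f g : ℕ → ℕ) (a : ℕ) (h : ∀ i ∈ L, f i = g i) :
    L.foldl (fun acc i => acc * 256 + f i) a = L.foldl (fun acc i => acc * 256 + g i) a := by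
  induction L generalizing a with
  | nil => rfl
  | cons x xs ih =>
    simp only [List.foldl_cons]
    rw [h x List.mem_cons_self]
    exact ih _ (fun i hi => h i (List.mem_cons_of_mem _ hi))

/-- the facts on the levels used for the cell decomposition -/
structure LevFacts (D : ChevalleyDatum) (J Par : List ℕ) (N : ℕ) (Λ : List ℤ) (Cn : List ℕ) : Prop where
  pos : ∀ r, D.IsPosRoot r → 0 ≤ gradeF D Λ r
  zeroJ : ∀ j ∈ J, gradeF D Λ (D.simple j) = 0 ∧ gradeF D Λ (D.neg (D.simple j)) = 0
  inv : ∀ j ∈ J, ∀ s < D.nroots, gradeF D Λ (D.reflectRoot j s) = gradeF D Λ s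
  neg : ∀ m < N, ∀ r, D.IsPosRoot r → ¬ D.IsPosRoot (rhoW D (wordAt Par m) r) →
    gradeF D Λ (rhoW D (wordAt Par m) r) < 0
  sig : ∀ m < N, ∀ m' < N, (∀ i < D.rank, gradeF D Λ (rhoW D (wordAt Par m) (D.simple i)) =
    gradeF D Λ (rhoW D (wordAt Par m') (D.simple i))) → m = m'
  cnt : ∀ m < N, cntW D (wordAt Par m) = Cn.getD m 0

theorem levFacts_of_tables {D : ChevalleyDatum} {tab : List ℕ} (hN : NFacts D tab)
    (hR : rootTableOK D = true) (hHalf : posHalfOK D = true)
    (S J K Pm Par Sg Cn : List ℕ) (Λ : List ℤ) (LV : ℕ)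
    (hS : ∀ i < D.rank, ∀ s < D.nroots, wq (S.getD i 0) s = D.reflectRoot i s)
    (hJ : ∀ j ∈ J, j < D.rank) (hK : ∀ i ∈ K, i < D.rank)
    (hsimple : ∀ i < D.rank, D.simple i < D.nroots)
    (hwords : ∀ m < Pm.length, ∀ i ∈ wordAt Par m, i ∈ K)
    (htab : ∀ m < Pm.length, ∀ s < D.nroots, wq (Pm.getD m 0) s = rhoW D (wordAt Par m) s)
    (hLT : levTabOK D Λ LV = true) (hL : levOK D S J Pm LV = true)
    (hSg : sigOK D LV Pm Sg Cn = true) :
    LevFacts D J Par Pm.length Λ Cn := by
  have hlev := levTabOK_spec D Λ LV hLT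
  simp only [levOK, Bool.and_eq_true, List.all_eq_true, forceNat_eq, nbeq_true] at hL
  obtain ⟨⟨⟨hL1, hL2⟩, hL3⟩, hL4⟩ := hL
  simp only [sigOK, Bool.and_eq_true] at hSg
  obtain ⟨⟨hSg1, hSg2⟩, hCn⟩ := hSg
  have hrho : ∀ m < Pm.length, ∀ s < D.nroots, rhoW D (wordAt Par m) s < D.nroots :=
    fun m hm s hs => hN.rhoW_lt _ (fun i hi => hK i (hwords m hm i hi)) s hs
  have hposiff : ∀ r < D.nroots, (D.IsPosRoot r ↔ D.nroots / 2 ≤ r) := by
    intro r hr
    rw [posHalf_spec D hHalf r]
    exact ⟨fun h => h.1, fun h => ⟨h, hr⟩⟩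
  refine ⟨?_, ?_, ?_, ?_, ?_, ?_⟩
  · intro r hr
    have h1 := allBelow_elim _ _ hL1 r hr.1
    rw [hlev r hr.1]
    have h2 := (hposiff r hr.1).mp hr
    simp only [Bool.or_eq_true, Nat.blt_eq, Nat.ble_eq] at h1
    rcases h1 with h1 | h1
    · omega
    · omega
  · intro j hj
    have h1 := hL2 j hj
    obtain ⟨_, hlt, _⟩ := rootTableOK_spec D hR (D.simple j) (hsimple j (hJ j hj))
    rw [hlev _ (hsimple j (hJ j hj)), hlev _ hlt, h1.1, h1.2]
    simp
  · intro j hj s hs
    have h1 := Nat.eq_of_beq_eq_true (allBelow_elim _ _ (hL3 j hj) s hs)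
    rw [hS j (hJ j hj) s hs] at h1
    rw [hlev _ (hN.reflectRoot_lt j (hJ j hj) s hs), hlev s hs, h1]
  · intro m hm r hr hnp
    have hP : Pm.getD m 0 ∈ Pm := by
      have : Pm.getD m 0 = Pm[m] := by simp [List.getD, hm]
      rw [this]; exact List.getElem_mem hm
    have h1 := allFrom_elim _ _ _ (hL4 _ hP) r ((hposiff r hr.1).mp hr) (by have := hr.1; omega)
    simp only [forceNat_eq, Bool.or_eq_true, Nat.ble_eq, Nat.blt_eq] at h1
    rw [htab m hm r hr.1] at h1
    have hρ := hrho m hm r hr.1
    rcases h1 with h1 | h1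
    · exact absurd ((hposiff _ hρ).mpr h1) hnp
    · rw [hlev _ hρ]; omega
  · intro m hm m' hm' heq
    have e1 := listEqMap_spec _ _ _ hSg1
    have hnd := pairwiseNe_nodup Sg hSg2
    rw [e1] at hnd
    have hs : sigOf D LV (Pm.getD m 0) = sigOf D LV (Pm.getD m' 0) := by
      unfold sigOf
      apply foldl_sig_congr
      intro i hi
      have hi' := List.mem_range.mp hi
      rw [htab m hm _ (hsimple i hi'), htab m' hm' _ (hsimple i hi')]
      have h1 := heq i hi'
      rw [hlev _ (hrho m hm _ (hsimple i hi')), hlev _ (hrho m' hm' _ (hsimple i hi'))] at h1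
      omega
    have hm1 : m < (Pm.map (sigOf D LV)).length := by simpa using hm
    have hm2 : m' < (Pm.map (sigOf D LV)).length := by simpa using hm'
    have := (List.Nodup.getElem_inj_iff hnd (hi := hm1) (hj := hm2)).mp (by
      simp only [List.getElem_map]
      have a1 : Pm[m] = Pm.getD m 0 := by simp [List.getD, hm]
      have a2 : Pm[m'] = Pm.getD m' 0 := by simp [List.getD, hm']
      rw [a1, a2, hs])
    exact this
  · intro m hm
    have e1 := listEqMap_spec _ _ _ hCn
    rw [e1]
    have : (Pm.map (cntOf D.nroots)).getD m 0 = cntOf D.nroots (Pm.getD m 0) := by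
      simp [List.getD, hm]
    rw [this]
    unfold cntW cntOf ChevalleyDatum.posRoots
    rw [List.filter_filter]
    congr 1
    apply List.filter_congr
    intro r hr
    have hr' := List.mem_range.mp hr
    rw [htab m hm r hr']
    have hρ := hrho m hm r hr'
    rw [Bool.eq_iff_iff]
    simp only [Bool.and_eq_true, decide_eq_true_eq, Nat.ble_eq, Nat.blt_eq]
    rw [hposiff r hr', hposiff _ hρ]
    constructor
    · rintro ⟨h1, h2⟩; exact ⟨h2, by omega⟩
    · rintro ⟨h1, h2⟩; exact ⟨by omega, h1⟩
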