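import Cfsg.Agent.Lib.Helper24.CellDefs
import Cfsg.Agent.Lib.Helper24.BNAbs
import Cfsg.Agent.S0311

set_option autoImplicit false
set_option linter.unusedSimpArgs false

namespace Cfsg.Agent.Lib.Helper24

open Cfsg.Lie

section cells

variable {F : Type*} [Field F] {D : ChevalleyDatum} {tab : List ℕ} {orb : List (ℕ × ℕ × ℕ)}

/-- the standard parabolic subgroup attached to a list of nodes -/
abbrev PL (D : ChevalleyDatum) (F : Type*) [Field F] (J : List ℕ) : Subgroup (GL D.Idx F) :=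
  D.parabolicSubgroup F {j | j ∈ J}

theorem borel_le_PL (D : ChevalleyDatum) (F : Type*) [Field F] (J : List ℕ) :
    D.borelSubgroup F ≤ PL D F J := by
  unfold PL ChevalleyDatum.parabolicSubgroup; exact le_sup_left

theorem Facts.nS_mem_PL (hF : Facts D) (J : List ℕ) (j : ℕ) (hj : j ∈ J) (hjr : j < D.rank) :
    (hF.nS j : GL D.Idx F) ∈ PL D F J :=
  hF.nS_mem_parabolic {j | j ∈ J} j hj hjr

theorem Facts.PL_le_group (hF : Facts D) (hH : HNFacts D tab orb) (J : List ℕ) :
    PL D F J ≤ D.group F := by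
  unfold PL ChevalleyDatum.parabolicSubgroup
  apply sup_le hF.borel_le_group
  rw [Subgroup.closure_le]
  rintro g ⟨j, _, hj, hg⟩
  have hgn : g = hF.nS j := Units.ext (by rw [hg, hF.nS_val])
  rw [hgn]
  exact hF.monomial_le_group (hF.nS_mem_monomial j (Facts.simple_lt hH j hj))

/-- a subgroup of `G` containing `B` and normalising `U` is `B` -/
theorem Facts.le_borel_of_le_normalizer (hF : Facts D) (hN : NFacts D tab)
    (hR : rootTableOK D = true) (hNe : negNeOK D = true) (hS : simpleSignOK D = true)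
    (P : Cfsg.BNPair ↥(D.group F))
    (hB : P.B = (D.borelSubgroup F).subgroupOf (D.group F))
    (hPS : P.S = {n : ↥(D.group F) | ∃ i < D.rank,
      ((n : GL D.Idx F) : Matrix D.Idx D.Idx F) = D.nMat F (D.simple i) 1})
    (M : Subgroup (GL D.Idx F)) (hBM : D.borelSubgroup F ≤ M) (hMG : M ≤ D.group F)
    (hMN : M ≤ Subgroup.normalizer (D.posUnipotent F : Set (GL D.Idx F))) :
    M ≤ D.borelSubgroup F := by
  have hS' := hS
  simp only [simpleSignOK, List.all_eq_true, List.mem_range, Bool.and_eq_true, Bool.or_eq_true,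
    decide_eq_true_eq] at hS'
  intro x hxM
  have hBM' : P.B ≤ M.subgroupOf (D.group F) := by
    intro b hb
    rw [hB, Subgroup.mem_subgroupOf] at hb
    exact Subgroup.mem_subgroupOf.mpr (hBM hb)
  obtain ⟨J', hJ'S, hM⟩ := Cfsg.Agent.S0311.result P (M.subgroupOf (D.group F)) hBM'
  have hxM' : (⟨x, hMG hxM⟩ : ↥(D.group F)) ∈ M.subgroupOf (D.group F) :=
    Subgroup.mem_subgroupOf.mpr hxM
  rw [hM] at hxM'
  have hle : P.parabolic J' ≤ (D.borelSubgroup F).subgroupOf (D.group F) := by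
    unfold Cfsg.BNPair.parabolic
    apply sup_le
    · rw [hB]
    · rw [Subgroup.closure_le]
      intro s hs
      exfalso
      have hsM : s ∈ M.subgroupOf (D.group F) := by
        rw [hM]
        unfold Cfsg.BNPair.parabolic
        exact Subgroup.mem_sup_right (Subgroup.subset_closure hs)
      have hsn := hMN (Subgroup.mem_subgroupOf.mp hsM)
      have hsS := hJ'S hs
      rw [hPS] at hsS
      obtain ⟨i, hi, hsi⟩ := hsS
      have hsi' : (s : GL D.Idx F) = hF.nS i := Units.ext (by rw [hsi, hF.nS_val])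
      obtain ⟨⟨⟨hpos, _⟩, _⟩, _⟩ := hS' i hi
      rw [hsi'] at hsn
      have h2 := (Subgroup.mem_normalizer_iff.mp hsn _).mp (hF.xGL_mem_pos (D.simple i) hpos (1 : F))
      have hc := hF.nS_conj' (F := F) hN i hi (D.simple i) hpos.1 1
      rw [reflectRoot_simple] at hc
      rw [hc] at h2
      obtain ⟨_, hlt, _, _, hpn⟩ := rootTableOK_spec D hR (D.simple i) hpos.1
      have h3 : hF.xGL (D.neg (D.simple i))
          (((etaT D (tab.getD i 0) (D.simple i) : ℤ) : F) * 1) ∈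
          D.borelSubgroup F ⊓ D.negUnipotent F :=
        ⟨pos_le_borel D F h2, hF.xGL_mem_neg _ (hpn hpos) _⟩
      rw [hF.borel_inf_neg.1, Subgroup.mem_bot] at h3
      exact mul_ne_zero (etaT_cast_ne_zero D _ _) one_ne_zero (hF.xGL_eq_one hNe _ hlt _ h3)
  exact Subgroup.mem_subgroupOf.mp (hle hxM')

/-- an element of `N` which normalises every root subgroup lies in `H` -/
theorem Facts.mem_diagonal_of_trivial_action (hF : Facts D) (hN : NFacts D tab)
    (hR : rootTableOK D = true) (hNe : negNeOK D = true) (hS : simpleSignOK D = true)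
    (P : Cfsg.BNPair ↥(D.group F))
    (hB : P.B = (D.borelSubgroup F).subgroupOf (D.group F))
    (hPS : P.S = {n : ↥(D.group F) | ∃ i < D.rank,
      ((n : GL D.Idx F) : Matrix D.Idx D.Idx F) = D.nMat F (D.simple i) 1})
    (hBN : D.borelSubgroup F ⊓ D.monomialSubgroup F = D.diagonalSubgroup F)
    (n : GL D.Idx F) (hn : n ∈ D.monomialSubgroup F)
    (hact : ∀ s < D.nroots, ∃ c : F, c ≠ 0 ∧ ∀ t : F, n * hF.xGL s t * n⁻¹ = hF.xGL s (c * t)) :
    n ∈ D.diagonalSubgroup F := by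
  rw [← hBN]
  refine ⟨?_, hn⟩
  have hnU : n ∈ Subgroup.normalizer (D.posUnipotent F : Set (GL D.Idx F)) := by
    unfold ChevalleyDatum.posUnipotent
    apply mem_normalizer_closure
    · rintro x ⟨r, t, hr, hx⟩
      rw [hF.eq_xGL x r t hx]
      obtain ⟨c, _, e⟩ := hact r hr.1
      rw [e]
      exact Subgroup.subset_closure ⟨r, c * t, hr, hF.xGL_val _ _⟩
    · rintro x ⟨r, t, hr, hx⟩
      rw [hF.eq_xGL x r t hx]
      obtain ⟨c, hc, e⟩ := hact r hr.1
      have e2 : n⁻¹ * hF.xGL r t * n = hF.xGL r (c⁻¹ * t) := by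
        have := e (c⁻¹ * t)
        rw [← mul_assoc, mul_inv_cancel₀ hc, one_mul] at this
        rw [← this]; group
      rw [e2]
      exact Subgroup.subset_closure ⟨r, c⁻¹ * t, hr, hF.xGL_val _ _⟩
  have hBU : D.borelSubgroup F ≤ Subgroup.normalizer (D.posUnipotent F : Set (GL D.Idx F)) := by
    unfold ChevalleyDatum.borelSubgroup
    exact sup_le Subgroup.le_normalizer hF.diagonal_le_normalizer_pos
  have hle := hF.le_borel_of_le_normalizer hN hR hNe hS P hB hPS
    (D.borelSubgroup F ⊔ Subgroup.closure {n}) le_sup_left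
    (sup_le hF.borel_le_group (by
      rw [Subgroup.closure_le]
      intro x hx
      rw [Set.mem_singleton_iff] at hx
      rw [hx]
      exact hF.monomial_le_group hn))
    (sup_le hBU (by
      rw [Subgroup.closure_le]
      intro x hx
      rw [Set.mem_singleton_iff] at hx
      rw [hx]
      exact hnU))
  exact hle (Subgroup.mem_sup_right (Subgroup.subset_closure rfl))

/-- the double coset axiom, with the fundamental reflection on the right -/
theorem Facts.bn_axiom_right (hF : Facts D) (hN : NFacts D tab) (hH : HNFacts D tab orb)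
    (hR : rootTableOK D = true) (i : ℕ) (hi : i < D.rank) (hRefl : reflPosOK D i = true)
    (hUn : D.rootSubgroup F (D.simple i) ≤ Subgroup.normalizer (Up D F i : Set (GL D.Idx F)))
    (hUs : Up D F i ⊔ D.rootSubgroup F (D.simple i) = D.posUnipotent F)
    (n : GL D.Idx F) (hn : n ∈ D.monomialSubgroup F) (b : GL D.Idx F) (hb : b ∈ D.borelSubgroup F) :
    (∃ b₁ ∈ D.borelSubgroup F, ∃ b₂ ∈ D.borelSubgroup F,
      n * b * hF.nS i = b₁ * (n * hF.nS i) * b₂) ∨
    (∃ b₁ ∈ D.borelSubgroup F, ∃ b₂ ∈ D.borelSubgroup F, n * b * hF.nS i = b₁ * n * b₂) := by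
  have hpi := Facts.simple_lt hH i hi
  have hsq : hF.nS (F := F) i * hF.nS i ∈ D.diagonalSubgroup F := hF.nGL_sq_mem _ hpi
  have hh0 : (hF.nS (F := F) i * hF.nS i)⁻¹ ∈ D.borelSubgroup F :=
    diagonal_le_borel D F (Subgroup.inv_mem _ hsq)
  have hb' : (hF.nS (F := F) i * hF.nS i)⁻¹ * b⁻¹ ∈ D.borelSubgroup F :=
    Subgroup.mul_mem _ hh0 (Subgroup.inv_mem _ hb)
  rcases hF.bn_axiom hN hH hR i hi hRefl hUn hUs n⁻¹ (Subgroup.inv_mem _ hn) _ hb' with
    ⟨b₁, hb₁, b₂, hb₂, e⟩ | ⟨b₁, hb₁, b₂, hb₂, e⟩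
  · left
    refine ⟨b₂⁻¹, Subgroup.inv_mem _ hb₂, (hF.nS i * hF.nS i)⁻¹ * b₁⁻¹,
      Subgroup.mul_mem _ hh0 (Subgroup.inv_mem _ hb₁), ?_⟩
    have e1 : n * b * hF.nS i =
        (hF.nS i * ((hF.nS i * hF.nS i)⁻¹ * b⁻¹) * n⁻¹)⁻¹ := by group
    rw [e1, e]
    group
  · right
    refine ⟨b₂⁻¹, Subgroup.inv_mem _ hb₂, b₁⁻¹, Subgroup.inv_mem _ hb₁, ?_⟩
    have e1 : n * b * hF.nS i =
        (hF.nS i * ((hF.nS i * hF.nS i)⁻¹ * b⁻¹) * n⁻¹)⁻¹ := by group
    rw [e1, e]
    group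

theorem Facts.nW_append (hF : Facts D) (w : List ℕ) (i : ℕ) :
    hF.nW (F := F) (w ++ [i]) = hF.nW w * hF.nS i := by
  simp [Facts.nW, List.map_append, List.prod_append]

/-- conjugation of `n_s(u)` along a word -/
theorem Facts.nW_conj_nGL (hF : Facts D) (hN : NFacts D tab) (hH : HNFacts D tab orb) (w : List ℕ)
    (hw : ∀ i ∈ w, i < D.rank) (s : ℕ) (hs : s < D.nroots) :
    ∃ η : ℤ, (η = 1 ∨ η = -1) ∧ ∀ u : F,
      hF.nW w * hF.nGL s u * (hF.nW w)⁻¹ = hF.nGL (rhoW D w s) ((η : F) * u) := by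
  induction w with
  | nil =>
    refine ⟨1, Or.inl rfl, fun u => ?_⟩
    have e : hF.nW (F := F) [] = 1 := by simp [Facts.nW]
    rw [e]
    simp [rhoW]
  | cons i w ih =>
    have hw' : ∀ j ∈ w, j < D.rank := fun j hj => hw j (List.mem_cons_of_mem _ hj)
    obtain ⟨η₁, hη₁, h₁⟩ := ih hw'
    have hi := hw i List.mem_cons_self
    have hlt := hN.rhoW_lt w hw' s hs
    refine ⟨etaT D (tab.getD i 0) (rhoW D w s) * η₁, ?_, fun u => ?_⟩
    · rcases hη₁ with rfl | rfl <;> rcases etaT_cases D (tab.getD i 0) (rhoW D w s) with h | h <;>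
        rw [h] <;> simp
    · have e : hF.nW (F := F) (i :: w) = hF.nS i * hF.nW w := by
        simp [Facts.nW]
      rw [e, mul_inv_rev]
      calc hF.nS i * hF.nW w * hF.nGL s u * ((hF.nW w)⁻¹ * (hF.nS i)⁻¹)
          = hF.nS i * (hF.nW w * hF.nGL s u * (hF.nW w)⁻¹) * (hF.nS i)⁻¹ := by group
        _ = hF.nGL (rhoW D (i :: w) s)
              (((etaT D (tab.getD i 0) (rhoW D w s) * η₁ : ℤ) : F) * u) := by
          rw [h₁, hF.nS_conj_nGL hN hH i hi _ hlt]
          simp only [rhoW, List.foldr_cons]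
          congr 1
          push_cast; ring

/-- a loop of the coset graph: `n_w n_i = n_j^{±1} n_w` -/
theorem Facts.nW_mul_nS_of_loop (hF : Facts D) (hN : NFacts D tab) (hH : HNFacts D tab orb)
    (w : List ℕ) (hw : ∀ i ∈ w, i < D.rank) (i j : ℕ) (hi : i < D.rank)
    (h : rhoW D w (D.simple i) = D.simple j) :
    hF.nW (F := F) w * hF.nS i = hF.nS j * hF.nW w ∨
      hF.nW (F := F) w * hF.nS i = (hF.nS j)⁻¹ * hF.nW w := by
  obtain ⟨η, hη, e⟩ := hF.nW_conj_nGL (F := F) hN hH w hw (D.simple i) (Facts.simple_lt hH i hi)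
  have e1 := e 1
  rw [h] at e1
  have e2 : hF.nW (F := F) w * hF.nS i = hF.nGL (D.simple j) ((η : F) * 1) * hF.nW w := by
    rw [← e1]
    unfold Facts.nS
    group
  rcases hη with rfl | rfl
  · left
    rw [e2]
    simp [Facts.nS]
  · right
    rw [e2]
    have : ((-1 : ℤ) : F) * 1 = -1 := by simp
    rw [this, hF.nGL_neg_one_eq_inv]
    rfl

end cells

end Cfsg.Agent.Lib.Helper24
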