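import Cfsg.Agent.Lib.Helper24.Cells

set_option autoImplicit false
set_option linter.unusedSimpArgs false

namespace Cfsg.Agent.Lib.Helper24

open Cfsg.Lie

/-- the verified facts on a Chevalley group, bundled -/
structure Env (D : ChevalleyDatum) (F : Type*) [Field F] (tab : List ℕ) (orb : List (ℕ × ℕ × ℕ)) where
  hF : Facts D
  hN : NFacts D tab
  hH : HNFacts D tab orb
  hR : rootTableOK D = true
  hNe : negNeOK D = true
  hS : simpleSignOK D = true
  hC : ChainOK D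
  hU : UFacts D
  hNR : negRevOK D = true
  hcomm : ∀ r < D.nroots, ∀ s < D.nroots, s ≠ r → s ≠ D.neg r → hF.QF F r s
  hRefl : ∀ i < D.rank, reflPosOK D i = true
  hUp : ∀ i < D.rank,
    D.rootSubgroup F (D.simple i) ≤ Subgroup.normalizer (Up D F i : Set (GL D.Idx F)) ∧
    Up D F i ⊔ D.rootSubgroup F (D.simple i) = D.posUnipotent F
  P : Cfsg.BNPair ↥(D.group F)
  hB : P.B = (D.borelSubgroup F).subgroupOf (D.group F)
  hN' : P.N = (D.monomialSubgroup F).subgroupOf (D.group F)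
  hPS : P.S = {n : ↥(D.group F) | ∃ i < D.rank,
    ((n : GL D.Idx F) : Matrix D.Idx D.Idx F) = D.nMat F (D.simple i) 1}
  hBN : D.borelSubgroup F ⊓ D.monomialSubgroup F = D.diagonalSubgroup F

section cellsb

variable {F : Type*} [Field F] {D : ChevalleyDatum} {tab : List ℕ} {orb : List (ℕ × ℕ × ℕ)}

/-- the combinatorial data of one step of the chain of parabolic subgroups -/
structure StepFacts (D : ChevalleyDatum) (J K Par : List ℕ) (N : ℕ) : Prop where
  hJ : ∀ j ∈ J, j < D.rank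
  hK : ∀ i ∈ K, i < D.rank
  hJK : ∀ j ∈ J, j ∈ K
  hNpos : 0 < N
  words : ∀ m < N, ∀ i ∈ wordAt Par m, i ∈ K
  edge : ∀ m < N, ∀ i ∈ K, EdgeP D J Par N m i

theorem Env.word_lt (E : Env D F tab orb) {J K Par : List ℕ} {N : ℕ} (hSt : StepFacts D J K Par N)
    (m : ℕ) (hm : m < N) : ∀ i ∈ wordAt Par m, i < D.rank :=
  fun i hi => hSt.hK i (hSt.words m hm i hi)

theorem Env.nW_mem (E : Env D F tab orb) (w : List ℕ) (hw : ∀ i ∈ w, i < D.rank) :
    E.hF.nW (F := F) w ∈ D.monomialSubgroup F :=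
  E.hF.nW_mem_monomial w (fun i hi => Facts.simple_lt E.hH i (hw i hi))

/-- a cross edge of the coset graph: `n_w n_i = n_{w'} h` -/
theorem Env.nW_mul_nS_of_cross (E : Env D F tab orb) (w w' : List ℕ) (hw : ∀ i ∈ w, i < D.rank)
    (hw' : ∀ i ∈ w', i < D.rank) (i : ℕ) (hi : i < D.rank)
    (h : ∀ s < D.nroots, rhoW D (w ++ [i]) s = rhoW D w' s) :
    ∃ h ∈ D.diagonalSubgroup F, E.hF.nW (F := F) w * E.hF.nS i = E.hF.nW w' * h := by
  have hwi : ∀ j ∈ w ++ [i], j < D.rank := by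
    intro j hj
    rcases List.mem_append.mp hj with h | h
    · exact hw j h
    · rw [List.mem_singleton] at h; rw [h]; exact hi
  refine ⟨(E.hF.nW w')⁻¹ * E.hF.nW (w ++ [i]), ?_, by rw [E.hF.nW_append]; group⟩
  apply E.hF.mem_diagonal_of_trivial_action E.hN E.hR E.hNe E.hS E.P E.hB E.hPS E.hBN
  · exact Subgroup.mul_mem _ (Subgroup.inv_mem _ (E.nW_mem w' hw')) (E.nW_mem _ hwi)
  · intro s hs
    obtain ⟨η₁, hη₁, e₁⟩ := E.hF.nW_conj (F := F) E.hN (w ++ [i]) hwi s hs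
    obtain ⟨η₂, hη₂, e₂⟩ := E.hF.nW_conj (F := F) E.hN w' hw' s hs
    refine ⟨(η₂ : F) * (η₁ : F), ?_, fun t => ?_⟩
    · rcases hη₁ with rfl | rfl <;> rcases hη₂ with rfl | rfl <;> simp
    · have e3 := e₂ ((η₂ : F) * (η₁ : F) * t)
      have hsq : (η₂ : F) * ((η₂ : F) * (η₁ : F) * t) = (η₁ : F) * t := by
        rcases hη₂ with rfl | rfl <;> simp
      rw [hsq, ← h s hs, ← e₁ t] at e3
      calc (E.hF.nW w')⁻¹ * E.hF.nW (w ++ [i]) * E.hF.xGL s t * ((E.hF.nW w')⁻¹ * E.hF.nW (w ++ [i]))⁻¹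
          = (E.hF.nW w')⁻¹ * (E.hF.nW (w ++ [i]) * E.hF.xGL s t * (E.hF.nW (w ++ [i]))⁻¹) *
              E.hF.nW w' := by group
        _ = _ := by rw [← e3]; group

/-- the union of the cells `P_J n_m B` -/
def Env.cellSet (E : Env D F tab orb) (J Par : List ℕ) (N : ℕ) : Set (GL D.Idx F) :=
  {g | ∃ m < N, ∃ p ∈ PL D F J, ∃ b ∈ D.borelSubgroup F, g = p * E.hF.nW (wordAt Par m) * b}

theorem Env.cellSet_mul_borel (E : Env D F tab orb) (J Par : List ℕ) (N : ℕ) (g b : GL D.Idx F)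
    (hg : g ∈ E.cellSet J Par N) (hb : b ∈ D.borelSubgroup F) : g * b ∈ E.cellSet J Par N := by
  obtain ⟨m, hm, p, hp, b', hb', rfl⟩ := hg
  exact ⟨m, hm, p, hp, b' * b, Subgroup.mul_mem _ hb' hb, by group⟩

theorem Env.cellSet_mul_nS (E : Env D F tab orb) {J K Par : List ℕ} {N : ℕ}
    (hSt : StepFacts D J K Par N) (g : GL D.Idx F) (hg : g ∈ E.cellSet J Par N) (i : ℕ) (hi : i ∈ K) :
    g * E.hF.nS i ∈ E.cellSet J Par N := by
  obtain ⟨m, hm, p, hp, b, hb, rfl⟩ := hg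
  have hir := hSt.hK i hi
  have hwm := E.word_lt hSt m hm
  have hBP := borel_le_PL D F J
  rcases E.hF.bn_axiom_right E.hN E.hH E.hR i hir (E.hRefl i hir) (E.hUp i hir).1 (E.hUp i hir).2
    _ (E.nW_mem _ hwm) b hb with ⟨b₁, hb₁, b₂, hb₂, e⟩ | ⟨b₁, hb₁, b₂, hb₂, e⟩
  · rcases hSt.edge m hm i hi with ⟨m', hm', hcross⟩ | ⟨j, hj, hloop⟩
    · obtain ⟨h, hh, eh⟩ := E.nW_mul_nS_of_cross _ _ hwm (E.word_lt hSt m' hm') i hir hcross
      refine ⟨m', hm', p * b₁, Subgroup.mul_mem _ hp (hBP hb₁), h * b₂,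
        Subgroup.mul_mem _ (diagonal_le_borel D F hh) hb₂, ?_⟩
      calc p * E.hF.nW (wordAt Par m) * b * E.hF.nS i
          = p * (E.hF.nW (wordAt Par m) * b * E.hF.nS i) := by group
        _ = p * (b₁ * (E.hF.nW (wordAt Par m') * h) * b₂) := by rw [e, eh]
        _ = _ := by group
    · have hjr := hSt.hJ j hj
      have hnj := E.hF.nS_mem_PL (F := F) J j hj hjr
      rcases E.hF.nW_mul_nS_of_loop (F := F) E.hN E.hH _ hwm i j hir hloop with el | el
      · refine ⟨m, hm, p * b₁ * E.hF.nS j, Subgroup.mul_mem _ (Subgroup.mul_mem _ hp (hBP hb₁)) hnj,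
          b₂, hb₂, ?_⟩
        calc p * E.hF.nW (wordAt Par m) * b * E.hF.nS i
            = p * (E.hF.nW (wordAt Par m) * b * E.hF.nS i) := by group
          _ = p * (b₁ * (E.hF.nS j * E.hF.nW (wordAt Par m)) * b₂) := by rw [e, el]
          _ = _ := by group
      · refine ⟨m, hm, p * b₁ * (E.hF.nS j)⁻¹,
          Subgroup.mul_mem _ (Subgroup.mul_mem _ hp (hBP hb₁)) (Subgroup.inv_mem _ hnj), b₂, hb₂, ?_⟩
        calc p * E.hF.nW (wordAt Par m) * b * E.hF.nS i
            = p * (E.hF.nW (wordAt Par m) * b * E.hF.nS i) := by group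
          _ = p * (b₁ * ((E.hF.nS j)⁻¹ * E.hF.nW (wordAt Par m)) * b₂) := by rw [e, el]
          _ = _ := by group
  · refine ⟨m, hm, p * b₁, Subgroup.mul_mem _ hp (hBP hb₁), b₂, hb₂, ?_⟩
    calc p * E.hF.nW (wordAt Par m) * b * E.hF.nS i
        = p * (E.hF.nW (wordAt Par m) * b * E.hF.nS i) := by group
      _ = p * (b₁ * E.hF.nW (wordAt Par m) * b₂) := by rw [e]
      _ = _ := by group

/-- the subgroup of the elements which, with their inverses, map `X` into itself on the right -/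
def rstab {G : Type*} [Group G] (X : Set G) : Subgroup G where
  carrier := {g | ∀ x ∈ X, x * g ∈ X ∧ x * g⁻¹ ∈ X}
  one_mem' := by intro x hx; simp [hx]
  mul_mem' := by
    intro a b ha hb x hx
    refine ⟨?_, ?_⟩
    · rw [← mul_assoc]; exact (hb _ (ha x hx).1).1
    · rw [mul_inv_rev, ← mul_assoc]; exact (ha _ (hb x hx).2).2
  inv_mem' := by
    intro a ha x hx
    exact ⟨(ha x hx).2, by simpa using (ha x hx).1⟩

/-- the cells `P_J n_m B` cover `P_K` -/
theorem Env.cells_cover (E : Env D F tab orb) {J K Par : List ℕ} {N : ℕ}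
    (hSt : StepFacts D J K Par N) (g : GL D.Idx F) (hg : g ∈ PL D F K) :
    g ∈ E.cellSet J Par N := by
  have hle : PL D F K ≤ rstab (E.cellSet J Par N) := by
    unfold PL ChevalleyDatum.parabolicSubgroup
    apply sup_le
    · intro b hb x hx
      exact ⟨E.cellSet_mul_borel J Par N x b hx hb,
        E.cellSet_mul_borel J Par N x b⁻¹ hx (Subgroup.inv_mem _ hb)⟩
    · rw [Subgroup.closure_le]
      rintro y ⟨i, hiK, hi, hy⟩
      have hyn : y = E.hF.nS i := Units.ext (by rw [hy, E.hF.nS_val])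
      rw [hyn]
      intro x hx
      have h1 := E.cellSet_mul_nS hSt x hx i hiK
      refine ⟨h1, ?_⟩
      have hsq : E.hF.nS (F := F) i * E.hF.nS i ∈ D.diagonalSubgroup F :=
        E.hF.nGL_sq_mem _ (Facts.simple_lt E.hH i hi)
      have e : x * (E.hF.nS i)⁻¹ = x * E.hF.nS i * (E.hF.nS i * E.hF.nS i)⁻¹ := by group
      rw [e]
      exact E.cellSet_mul_borel J Par N _ _ h1 (diagonal_le_borel D F (Subgroup.inv_mem _ hsq))
  have h1 : (1 : GL D.Idx F) ∈ E.cellSet J Par N := by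
    refine ⟨0, hSt.hNpos, 1, Subgroup.one_mem _, 1, Subgroup.one_mem _, ?_⟩
    rw [wordAt_zero]
    simp [Facts.nW]
  have := (hle hg 1 h1).1
  rwa [one_mul] at this

/-- the cells `P_J n_m U_m` cover `P_K` -/
theorem Env.cells_cover' (E : Env D F tab orb) {J K Par : List ℕ} {N : ℕ}
    (hSt : StepFacts D J K Par N) (g : GL D.Idx F) (hg : g ∈ PL D F K) :
    ∃ m < N, ∃ p ∈ PL D F J,
      ∃ u ∈ rootClosure D F (fun r => D.IsPosRoot r ∧ NegSet D F (E.hF.nW (wordAt Par m)) r),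
        g = p * E.hF.nW (wordAt Par m) * u := by
  obtain ⟨m, hm, p, hp, b, hb, rfl⟩ := E.cells_cover hSt g hg
  have hn := E.nW_mem (F := F) _ (E.word_lt hSt m hm)
  set n := E.hF.nW (F := F) (wordAt Par m) with hndef
  unfold ChevalleyDatum.borelSubgroup at hb
  obtain ⟨v, hv, h, hh, rfl⟩ := exists_mul_of_mem_sup_of_le_normalizer _ _
    E.hF.diagonal_le_normalizer_pos b hb
  have hv2 : h⁻¹ * v * h ∈ D.posUnipotent F := by
    have := (Subgroup.mem_normalizer_iff.mp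
      (E.hF.diagonal_le_normalizer_pos (Subgroup.inv_mem _ hh)) v).mp hv
    rwa [inv_inv] at this
  obtain ⟨a, ha, c, hc, hac⟩ := E.hF.split_pos E.hC E.hU E.hNR E.hcomm (NegSet D F n) _ hv2
  have hnh : n * h * n⁻¹ ∈ D.diagonalSubgroup F :=
    (Subgroup.mem_normalizer_iff.mp (E.hF.monomial_le_normalizer E.hN E.hH hn) h).mp hh
  have hna : n * a * n⁻¹ ∈ D.posUnipotent F := E.hF.rootClosure_pos_conj E.hN E.hH E.hR n hn a ha
  have hBP := borel_le_PL D F J
  refine ⟨m, hm, p * (n * h * n⁻¹) * (n * a * n⁻¹),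
    Subgroup.mul_mem _ (Subgroup.mul_mem _ hp (hBP (diagonal_le_borel D F hnh)))
      (hBP (pos_le_borel D F hna)), c, hc, ?_⟩
  have : p * n * (v * h) = p * (n * h * n⁻¹) * n * (h⁻¹ * v * h) := by group
  rw [this, hac, ← hndef]
  group

end cellsb

end Cfsg.Agent.Lib.Helper24
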