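import Cfsg.Agent.Lib.Helper24.CellsB

set_option autoImplicit false
set_option linter.unusedSimpArgs false

namespace Cfsg.Agent.Lib.Helper24

open Cfsg.Lie

section matrices

variable {m : Type*} [Fintype m] [DecidableEq m] {F : Type*} [Field F]

/-- block upper triangular for the grading `g` -/
def IsBU (g : m → ℤ) (M : Matrix m m F) : Prop := ∀ a b, M a b ≠ 0 → g b ≤ g a

omit [Fintype m] in
theorem IsBU.one (g : m → ℤ) : IsBU g (1 : Matrix m m F) := by
  intro a b h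
  by_cases hab : a = b
  · rw [hab]
  · exact absurd (Matrix.one_apply_ne hab) h

omit [DecidableEq m] in
theorem IsBU.mul {g : m → ℤ} {M N : Matrix m m F} (hM : IsBU g M) (hN : IsBU g N) :
    IsBU g (M * N) := by
  intro a b h
  rw [Matrix.mul_apply] at h
  obtain ⟨k, _, hk⟩ := Finset.exists_ne_zero_of_sum_ne_zero h
  exact le_trans (hN k b (right_ne_zero_of_mul hk)) (hM a k (left_ne_zero_of_mul hk))

/-- invertible matrices which, with their inverses, are block upper triangular -/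
def buGL (g : m → ℤ) : Subgroup (GL m F) where
  carrier := {x | IsBU g (x : Matrix m m F) ∧ IsBU g ((x⁻¹ : GL m F) : Matrix m m F)}
  one_mem' := ⟨IsBU.one g, by rw [inv_one]; exact IsBU.one g⟩
  mul_mem' := by
    rintro x y ⟨hx, hx'⟩ ⟨hy, hy'⟩
    refine ⟨by rw [Units.val_mul]; exact hx.mul hy, ?_⟩
    rw [mul_inv_rev, Units.val_mul]; exact hy'.mul hx'
  inv_mem' := by
    rintro x ⟨hx, hx'⟩
    exact ⟨hx', by rw [inv_inv]; exact hx⟩

omit [Fintype m] [DecidableEq m] in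
theorem IsLevel.isBU {g : m → ℤ} {M : Matrix m m F} (h : IsLevel g M) : IsBU g M :=
  fun a b hne => le_of_eq (h a b hne).symm

omit [Fintype m] in
theorem IsUni.isBU {g : m → ℤ} {M : Matrix m m F} (h : IsUni g M) : IsBU g M := by
  intro a b hne
  by_cases hab : a = b
  · rw [hab]
  · have := h.2 a b hab hne
    omega

theorem levelGL_le_buGL (g : m → ℤ) : levelGL (F := F) g ≤ buGL g :=
  fun _ hx => ⟨hx.1.isBU, hx.2.isBU⟩

theorem uniGL_le_buGL (g : m → ℤ) : uniGL (F := F) g ≤ buGL g :=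
  fun _ hx => ⟨hx.1.isBU, hx.2.isBU⟩

/-- block upper triangular and strictly block lower unitriangular is trivial -/
theorem buGL_inf_uniGL_neg (g : m → ℤ) : buGL (F := F) g ⊓ uniGL (fun a => - g a) = ⊥ := by
  rw [eq_bot_iff]
  rintro x ⟨h1, h2⟩
  rw [Subgroup.mem_bot]
  apply Units.ext
  ext a b
  by_cases hab : a = b
  · subst hab; rw [h2.1.1 a]; simp
  · rw [Units.val_one, Matrix.one_apply_ne hab]
    by_contra hne
    have e1 := h1.1 a b hne
    have e2 := h2.1.2 a b hab hne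
    simp only at e2
    omega

end matrices

section cellsc

variable {F : Type*} [Field F] {D : ChevalleyDatum} {tab : List ℕ} {orb : List (ℕ × ℕ × ℕ)}

/-- root elements of negative level are strictly block lower unitriangular -/
theorem Facts.xGL_mem_uniGL_neg (hF : Facts D) (Λ : List ℤ) (s : ℕ) (hs : s < D.nroots)
    (h0 : gradeE D Λ (D.rank + s) < 0) (u : F) :
    hF.xGL s u ∈ uniGL (F := F) (fun a : D.Idx => - gradeE D Λ (enc D a)) := by
  have key : ∀ u : F, IsUni (fun a : D.Idx => - gradeE D Λ (enc D a)) (D.x F s u) := by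
    intro u
    refine ⟨fun a => ?_, ?_⟩
    · by_contra h
      obtain ⟨e, he, heq⟩ := hF.x_entry_sub Λ s hs u a a (by rw [if_pos rfl]; exact h)
      have h1 : (e : ℤ) * gradeE D Λ (D.rank + s) < 0 :=
        mul_neg_of_pos_of_neg (by exact_mod_cast he) h0
      linarith
    · intro a b hab h
      obtain ⟨e, he, heq⟩ := hF.x_entry_grade Λ s hs u a b hab h
      have h1 : (1 : ℤ) ≤ (e : ℤ) := by exact_mod_cast he
      have h2 : (e : ℤ) * gradeE D Λ (D.rank + s) ≤ gradeE D Λ (D.rank + s) := by nlinarith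
      simp only
      linarith
  exact ⟨by rw [hF.xGL_val]; exact key u, by rw [hF.xGL_inv, hF.xGL_val]; exact key (-u)⟩

/-- the parabolic subgroup is block upper triangular for a level function vanishing on `J` -/
theorem Facts.PL_le_buGL (hF : Facts D) (J : List ℕ) (Λ : List ℤ)
    (hpos : ∀ r, D.IsPosRoot r → 0 ≤ gradeF D Λ r)
    (hzero : ∀ j ∈ J, gradeF D Λ (D.simple j) = 0 ∧ gradeF D Λ (D.neg (D.simple j)) = 0)
    (hsimple : ∀ j ∈ J, j < D.rank → D.simple j < D.nroots ∧ D.neg (D.simple j) < D.nroots) :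
    PL D F J ≤ buGL (F := F) (fun a : D.Idx => gradeE D Λ (enc D a)) := by
  unfold PL ChevalleyDatum.parabolicSubgroup ChevalleyDatum.borelSubgroup
  apply sup_le
  · apply sup_le
    · unfold ChevalleyDatum.posUnipotent
      rw [Subgroup.closure_le]
      rintro x ⟨r, t, hr, hx⟩
      rw [hF.eq_xGL x r t hx]
      have h1 := hpos r hr
      rw [gradeF_eq D hF.cartanF Λ r hr.1] at h1
      rcases lt_or_eq_of_le h1 with h2 | h2
      · exact uniGL_le_buGL _ (hF.xGL_mem_uniGL Λ r hr.1 h2 t)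
      · exact levelGL_le_buGL _ (hF.xGL_mem_levelGL Λ r hr.1 h2.symm t)
    · exact le_trans (hF.diagonal_le_levelGL _) (levelGL_le_buGL _)
  · rw [Subgroup.closure_le]
    rintro x ⟨j, hjJ, hj, hx⟩
    have hxn : x = hF.nS j := Units.ext (by rw [hx, hF.nS_val])
    rw [hxn]
    unfold Facts.nS
    rw [hF.nGL_def]
    obtain ⟨hlt, hnlt⟩ := hsimple j hjJ hj
    obtain ⟨z1, z2⟩ := hzero j hjJ
    rw [gradeF_eq D hF.cartanF Λ _ hlt] at z1
    rw [gradeF_eq D hF.cartanF Λ _ hnlt] at z2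
    apply levelGL_le_buGL
    exact Subgroup.mul_mem _ (Subgroup.mul_mem _ (hF.xGL_mem_levelGL Λ _ hlt z1 _)
      (hF.xGL_mem_levelGL Λ _ hnlt z2 _)) (hF.xGL_mem_levelGL Λ _ hlt z1 _)

/-- two elements of `N` in the same `(P_J, B)`-double coset differ by an element of `N_J` -/
theorem Env.cell_index (E : Env D F tab orb) (J : List ℕ) (hJ : ∀ j ∈ J, j < D.rank)
    (n n' p b : GL D.Idx F) (hn : n ∈ D.monomialSubgroup F) (hn' : n' ∈ D.monomialSubgroup F)
    (hp : p ∈ PL D F J) (hb : b ∈ D.borelSubgroup F) (e : n' = p * n * b) :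
    ∃ m ∈ Subgroup.closure {g : GL D.Idx F | ∃ j ∈ J, g = E.hF.nS j},
      ∃ h ∈ D.diagonalSubgroup F, n' = m * n * h := by
  have hBG := E.hF.borel_le_group (F := F)
  have hNG := E.hF.monomial_le_group (F := F)
  let J' : Set ↥(D.group F) := {s | ∃ j ∈ J, (s : GL D.Idx F) = E.hF.nS j}
  have hJ'S : J' ⊆ E.P.S := by
    rintro s ⟨j, hj, hs⟩
    rw [E.hPS]
    exact ⟨j, hJ j hj, by rw [hs, E.hF.nS_val]⟩
  have hPle : PL D F J ≤ (E.P.parabolic J').map (D.group F).subtype := by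
    unfold PL ChevalleyDatum.parabolicSubgroup
    apply sup_le
    · intro x hx
      refine ⟨⟨x, hBG hx⟩, ?_, rfl⟩
      unfold Cfsg.BNPair.parabolic
      apply Subgroup.mem_sup_left
      rw [E.hB, Subgroup.mem_subgroupOf]
      exact hx
    · rw [Subgroup.closure_le]
      rintro x ⟨j, hjJ, hj, hx⟩
      have hxn : x = E.hF.nS j := Units.ext (by rw [hx, E.hF.nS_val])
      refine ⟨⟨x, ?_⟩, ?_, rfl⟩
      · rw [hxn]
        exact hNG (E.hF.nS_mem_monomial j (Facts.simple_lt E.hH j hj))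
      · unfold Cfsg.BNPair.parabolic
        apply Subgroup.mem_sup_right
        apply Subgroup.subset_closure
        exact ⟨j, hjJ, hxn⟩
  obtain ⟨p', hp', hpp'⟩ := hPle hp
  have hnP : (⟨n, hNG hn⟩ : ↥(D.group F)) ∈ E.P.N := by
    rw [E.hN', Subgroup.mem_subgroupOf]; exact hn
  have hnP' : (⟨n', hNG hn'⟩ : ↥(D.group F)) ∈ E.P.N := by
    rw [E.hN', Subgroup.mem_subgroupOf]; exact hn'
  have hbP : (⟨b, hBG hb⟩ : ↥(D.group F)) ∈ E.P.B := by
    rw [E.hB, Subgroup.mem_subgroupOf]; exact hb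
  have e' : (⟨n', hNG hn'⟩ : ↥(D.group F)) = p' * ⟨n, hNG hn⟩ * ⟨b, hBG hb⟩ := by
    apply Subtype.ext
    simp only [Subgroup.coe_mul]
    rw [e]
    congr 2
    exact hpp'.symm
  obtain ⟨m, hm, hmem⟩ := parabolic_dc_unique E.P hJ'S hnP hnP' hp' hbP e'
  rw [E.hB, Subgroup.mem_subgroupOf] at hmem
  simp only [Subgroup.coe_mul, Subgroup.coe_inv] at hmem
  have hmcl : (m : GL D.Idx F) ∈ Subgroup.closure {g : GL D.Idx F | ∃ j ∈ J, g = E.hF.nS j} := by
    have hle : Subgroup.closure J' ≤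
        (Subgroup.closure {g : GL D.Idx F | ∃ j ∈ J, g = E.hF.nS j}).comap (D.group F).subtype := by
      rw [Subgroup.closure_le]
      rintro s ⟨j, hj, hs⟩
      exact Subgroup.subset_closure ⟨j, hj, hs⟩
    exact hle hm
  have hmN : (m : GL D.Idx F) ∈ D.monomialSubgroup F := by
    have hle : Subgroup.closure {g : GL D.Idx F | ∃ j ∈ J, g = E.hF.nS j} ≤ D.monomialSubgroup F := by
      rw [Subgroup.closure_le]
      rintro g ⟨j, hj, rfl⟩
      exact E.hF.nS_mem_monomial j (Facts.simple_lt E.hH j (hJ j hj))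
    exact hle hmcl
  refine ⟨m, hmcl, ((m : GL D.Idx F) * n)⁻¹ * n', ?_, by group⟩
  rw [← E.hBN]
  exact ⟨hmem, Subgroup.mul_mem _ (Subgroup.inv_mem _ (Subgroup.mul_mem _ hmN hn)) hn'⟩

/-- `g` permutes the root subgroups, preserving the level -/
def LevAct (hF : Facts D) (lev : ℕ → ℤ) (g : GL D.Idx F) : Prop :=
  ∀ s < D.nroots, ∃ s' < D.nroots, lev s' = lev s ∧ ∃ c : F, c ≠ 0 ∧
    ∀ t : F, g * hF.xGL s t * g⁻¹ = hF.xGL s' (c * t)

theorem LevAct.mul {hF : Facts D} {lev : ℕ → ℤ} {g₁ g₂ : GL D.Idx F} (h₁ : LevAct hF lev g₁)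
    (h₂ : LevAct hF lev g₂) : LevAct hF lev (g₁ * g₂) := by
  intro s hs
  obtain ⟨s2, hs2, l2, c2, hc2, e2⟩ := h₂ s hs
  obtain ⟨s1, hs1, l1, c1, hc1, e1⟩ := h₁ s2 hs2
  refine ⟨s1, hs1, l1.trans l2, c1 * c2, mul_ne_zero hc1 hc2, fun t => ?_⟩
  have : g₁ * g₂ * hF.xGL s t * (g₁ * g₂)⁻¹ = g₁ * (g₂ * hF.xGL s t * g₂⁻¹) * g₁⁻¹ := by group
  rw [this, e2, e1, mul_assoc]

/-- the subgroup of the elements which, with their inverses, preserve the level -/
def levGL (hF : Facts D) (F : Type*) [Field F] (lev : ℕ → ℤ) : Subgroup (GL D.Idx F) where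
  carrier := {g | LevAct (F := F) hF lev g ∧ LevAct hF lev g⁻¹}
  one_mem' := by
    have h1 : LevAct (F := F) hF lev 1 := by
      intro s hs
      exact ⟨s, hs, rfl, 1, one_ne_zero, fun t => by simp⟩
    exact ⟨h1, by rw [inv_one]; exact h1⟩
  mul_mem' := by
    rintro x y ⟨hx, hx'⟩ ⟨hy, hy'⟩
    exact ⟨hx.mul hy, by rw [mul_inv_rev]; exact hy'.mul hx'⟩
  inv_mem' := by
    rintro x ⟨hx, hx'⟩
    exact ⟨hx', by rw [inv_inv]; exact hx⟩

theorem Facts.diag_levAct (hF : Facts D) (lev : ℕ → ℤ) (h : GL D.Idx F)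
    (hh : h ∈ D.diagonalSubgroup F) : LevAct hF lev h := by
  intro s hs
  obtain ⟨c, hc, e⟩ := hF.diag_conj h hh s hs
  exact ⟨s, hs, rfl, c, hc, e⟩

theorem Env.closure_le_levGL (E : Env D F tab orb) (J : List ℕ) (hJ : ∀ j ∈ J, j < D.rank)
    (lev : ℕ → ℤ) (hinv : ∀ j ∈ J, ∀ s < D.nroots, lev (D.reflectRoot j s) = lev s) :
    Subgroup.closure {g : GL D.Idx F | ∃ j ∈ J, g = E.hF.nS j} ≤ levGL E.hF F lev := by
  rw [Subgroup.closure_le]
  rintro g ⟨j, hj, rfl⟩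
  have hjr := hJ j hj
  have h1 : LevAct (F := F) E.hF lev (E.hF.nS j) := by
    intro s hs
    exact ⟨D.reflectRoot j s, E.hN.reflectRoot_lt j hjr s hs, hinv j hj s hs, _,
      etaT_cast_ne_zero D (tab.getD j 0) s, fun t => E.hF.nS_conj' E.hN j hjr s hs t⟩
  refine ⟨h1, ?_⟩
  have hsq : E.hF.nS (F := F) j * E.hF.nS j ∈ D.diagonalSubgroup F :=
    E.hF.nGL_sq_mem _ (Facts.simple_lt E.hH j hjr)
  have e : (E.hF.nS (F := F) j)⁻¹ = E.hF.nS j * (E.hF.nS j * E.hF.nS j)⁻¹ := by group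
  rw [e]
  exact h1.mul (E.hF.diag_levAct lev _ (Subgroup.inv_mem _ hsq))

/-- representatives in the same `(P_J, B)`-double coset have the same levels -/
theorem Env.level_eq_of_cell (E : Env D F tab orb) (J : List ℕ) (hJ : ∀ j ∈ J, j < D.rank)
    (lev : ℕ → ℤ) (hinv : ∀ j ∈ J, ∀ s < D.nroots, lev (D.reflectRoot j s) = lev s)
    (w w' : List ℕ) (hw : ∀ i ∈ w, i < D.rank) (hw' : ∀ i ∈ w', i < D.rank)
    (p b : GL D.Idx F) (hp : p ∈ PL D F J) (hb : b ∈ D.borelSubgroup F)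
    (e : E.hF.nW w' = p * E.hF.nW w * b) :
    ∀ s < D.nroots, lev (rhoW D w' s) = lev (rhoW D w s) := by
  obtain ⟨m, hm, h, hh, emh⟩ := E.cell_index J hJ _ _ p b (E.nW_mem w hw) (E.nW_mem w' hw') hp hb e
  have hmL := (E.closure_le_levGL J hJ lev hinv hm).1
  intro s hs
  obtain ⟨η', hη', e'⟩ := E.hF.nW_conj (F := F) E.hN w' hw' s hs
  obtain ⟨η, hη, e1⟩ := E.hF.nW_conj (F := F) E.hN w hw s hs
  obtain ⟨c, hc, ec⟩ := E.hF.diag_conj h hh s hs
  have hρ := E.hN.rhoW_lt w hw s hs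
  have hρ' := E.hN.rhoW_lt w' hw' s hs
  obtain ⟨s'', hs'', hlev, c'', hc'', e''⟩ := hmL (rhoW D w s) hρ
  have key : E.hF.xGL (rhoW D w' s) ((η' : F) * 1) = E.hF.xGL s'' (c'' * ((η : F) * (c * 1))) := by
    rw [← e' 1, emh, ← e'', ← e1, ← ec]
    group
  by_cases hne : rhoW D w' s = s''
  · rw [hne, hlev]
  · exfalso
    have := E.hF.xGL_eq_xGL E.hR E.hNe E.hU.unit _ _ hρ' hs'' hne _ _ key
    rcases hη' with rfl | rfl <;> simp at this

/-- uniqueness inside a cell -/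
theorem Env.cell_unique (E : Env D F tab orb) (J : List ℕ) (hJ : ∀ j ∈ J, j < D.rank) (Λ : List ℤ)
    (hpos : ∀ r, D.IsPosRoot r → 0 ≤ gradeF D Λ r)
    (hzero : ∀ j ∈ J, gradeF D Λ (D.simple j) = 0 ∧ gradeF D Λ (D.neg (D.simple j)) = 0)
    (w : List ℕ) (hw : ∀ i ∈ w, i < D.rank)
    (hneg : ∀ r, D.IsPosRoot r → ¬ D.IsPosRoot (rhoW D w r) → gradeF D Λ (rhoW D w r) < 0)
    (p p' u u' : GL D.Idx F) (hp : p ∈ PL D F J) (hp' : p' ∈ PL D F J)
    (hu : u ∈ rootClosure D F (fun r => D.IsPosRoot r ∧ NegSet D F (E.hF.nW w) r))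
    (hu' : u' ∈ rootClosure D F (fun r => D.IsPosRoot r ∧ NegSet D F (E.hF.nW w) r))
    (e : p * E.hF.nW w * u = p' * E.hF.nW w * u') : p = p' ∧ u = u' := by
  set n := E.hF.nW (F := F) w with hndef
  have hsimple : ∀ j ∈ J, j < D.rank → D.simple j < D.nroots ∧ D.neg (D.simple j) < D.nroots := by
    intro j _ hj
    have h1 := Facts.simple_lt E.hH j hj
    exact ⟨h1, (rootTableOK_spec D E.hR _ h1).2.1⟩
  -- the conjugate of `U_w` is strictly block lower unitriangular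
  have hlow : ∀ y ∈ rootClosure D F (fun r => D.IsPosRoot r ∧ NegSet D F n r),
      n * y * n⁻¹ ∈ uniGL (F := F) (fun a : D.Idx => - gradeE D Λ (enc D a)) := by
    intro y hy
    unfold rootClosure at hy
    induction hy using Subgroup.closure_induction with
    | mem x hx =>
      obtain ⟨r, t, ⟨hr, hnr⟩, hxe⟩ := hx
      rw [E.hF.eq_xGL x r t hxe]
      obtain ⟨η, hη, eη⟩ := E.hF.nW_conj (F := F) E.hN w hw r hr.1
      rw [hndef, eη]
      have hρ := E.hN.rhoW_lt w hw r hr.1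
      have hnp : ¬ D.IsPosRoot (rhoW D w r) := by
        intro hp
        have h1 : E.hF.xGL (rhoW D w r) ((η : F) * 1) ∈ D.negUnipotent F := by
          rw [← eη 1]
          apply hnr
          exact ⟨E.hF.xGL r 1, Subgroup.subset_closure ⟨1, E.hF.xGL_val _ _⟩, by
            simp only [MulEquiv.coe_toMonoidHom, MulAut.conj_apply]; rw [hndef]⟩
        have h2 : E.hF.xGL (rhoW D w r) ((η : F) * 1) ∈ D.borelSubgroup F ⊓ D.negUnipotent F :=
          ⟨pos_le_borel D F (E.hF.xGL_mem_pos _ hp _), h1⟩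
        rw [E.hF.borel_inf_neg.1, Subgroup.mem_bot] at h2
        have h3 := E.hF.xGL_eq_one E.hNe _ hρ _ h2
        rcases hη with rfl | rfl <;> simp at h3
      have hg := hneg r hr hnp
      rw [gradeF_eq D E.hF.cartanF Λ _ hρ] at hg
      exact E.hF.xGL_mem_uniGL_neg Λ _ hρ hg _
    | one => simp
    | mul x y _ _ hx hy =>
      have : n * (x * y) * n⁻¹ = (n * x * n⁻¹) * (n * y * n⁻¹) := by group
      rw [this]; exact Subgroup.mul_mem _ hx hy
    | inv x _ hx =>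
      have : n * x⁻¹ * n⁻¹ = (n * x * n⁻¹)⁻¹ := by group
      rw [this]; exact Subgroup.inv_mem _ hx
  have h1 : p'⁻¹ * p = n * (u' * u⁻¹) * n⁻¹ := by
    have : p = p' * n * u' * u⁻¹ * n⁻¹ := by rw [← e]; group
    rw [this]; group
  have h2 : p'⁻¹ * p ∈ buGL (F := F) (fun a : D.Idx => gradeE D Λ (enc D a)) ⊓
      uniGL (fun a : D.Idx => - gradeE D Λ (enc D a)) :=
    ⟨E.hF.PL_le_buGL J Λ hpos hzero hsimple (Subgroup.mul_mem _ (Subgroup.inv_mem _ hp') hp), by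
      rw [h1]; exact hlow _ (Subgroup.mul_mem _ hu' (Subgroup.inv_mem _ hu))⟩
  rw [buGL_inf_uniGL_neg, Subgroup.mem_bot] at h2
  have hpp : p = p' := (inv_mul_eq_one.mp h2).symm
  refine ⟨hpp, ?_⟩
  rw [hpp] at e
  exact mul_left_cancel e

end cellsc

end Cfsg.Agent.Lib.Helper24
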