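import Cfsg.Agent.Lib.Helper24.CellsC
import Cfsg.Agent.Lib.Helper24.UCard

set_option autoImplicit false
set_option linter.unusedSimpArgs false

namespace Cfsg.Agent.Lib.Helper24

open Cfsg.Lie

/-- counting a group decomposed into cells `Q n_i A_i` -/
theorem card_of_cells {G : Type*} [Group G] [Finite G] (M Q : Subgroup G) (N : ℕ) (n : Fin N → G)
    (A : Fin N → Subgroup G)
    (hmem : ∀ i, ∀ p ∈ Q, ∀ a ∈ A i, p * n i * a ∈ M)
    (hsurj : ∀ g ∈ M, ∃ i, ∃ p ∈ Q, ∃ a ∈ A i, g = p * n i * a)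
    (hinj : ∀ i i' p p' a a', p ∈ Q → p' ∈ Q → a ∈ A i → a' ∈ A i' →
      p * n i * a = p' * n i' * a' → i = i' ∧ p = p' ∧ a = a') :
    Nat.card M = (∑ i, Nat.card (A i)) * Nat.card Q := by
  let f : (Σ i, ↥(A i)) × ↥Q → ↥M := fun x =>
    ⟨(x.2 : G) * n x.1.1 * (x.1.2 : G), hmem x.1.1 _ x.2.2 _ x.1.2.2⟩
  have hbij : Function.Bijective f := by
    constructor
    · rintro ⟨⟨i, a⟩, p⟩ ⟨⟨i', a'⟩, p'⟩ h
      have h1 : (p : G) * n i * (a : G) = (p' : G) * n i' * (a' : G) := congrArg Subtype.val h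
      obtain ⟨hi, hp, ha⟩ := hinj i i' p p' a a' p.2 p'.2 a.2 a'.2 h1
      subst hi
      have ha' : a = a' := Subtype.ext ha
      have hp' : p = p' := Subtype.ext hp
      rw [ha', hp']
    · rintro ⟨g, hg⟩
      obtain ⟨i, p, hp, a, ha, e⟩ := hsurj g hg
      exact ⟨⟨⟨i, ⟨a, ha⟩⟩, ⟨p, hp⟩⟩, Subtype.ext e.symm⟩
  rw [← Nat.card_eq_of_bijective f hbij, Nat.card_prod, Nat.card_sigma]

theorem length_filter_range_le (n k : ℕ) :
    ((List.range n).filter fun r => decide (k ≤ r)).length = n - k := by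
  induction n with
  | zero => simp
  | succ n ih =>
    rw [List.range_succ, List.filter_append, List.length_append, ih]
    by_cases h : k ≤ n
    · simp [h]; omega
    · simp [h]; omega

theorem posRoots_length (D : ChevalleyDatum) (h : posHalfOK D = true) :
    D.posRoots.length = D.nroots / 2 := by
  unfold ChevalleyDatum.posRoots
  have e : (List.range D.nroots).filter (fun r => decide (D.IsPosRoot r)) =
      (List.range D.nroots).filter (fun r => decide (D.nroots / 2 ≤ r)) := by
    apply List.filter_congr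
    intro r hr
    have hr' := List.mem_range.mp hr
    rw [Bool.eq_iff_iff]
    simp only [decide_eq_true_eq]
    rw [posHalf_spec D h r]
    exact ⟨fun h => h.1, fun h => ⟨h, hr'⟩⟩
  rw [e, length_filter_range_le]
  have := posHalf_even D h
  omega

section cellsd

variable {F : Type*} [Field F] [Fintype F] {D : ChevalleyDatum} {tab : List ℕ}
  {orb : List (ℕ × ℕ × ℕ)}

/-- a lower bound for the order of a subgroup generated by positive root subgroups -/
theorem Env.card_rootClosure_ge (E : Env D F tab orb) (R : ℕ → Prop) (L : List ℕ)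
    (hL : L.Sublist D.posRoots) (hR : ∀ r ∈ L, R r) :
    Fintype.card F ^ L.length ≤ Nat.card (rootClosure D F R) := by
  obtain ⟨Λ, hΛ⟩ := E.hU.grade
  obtain ⟨hg0, hmono⟩ := gradeOK_spec D E.hF.cartanF Λ E.hU.half hΛ
  have hsort : L.Pairwise (· < ·) := List.Pairwise.sublist hL (posRoots_sorted D)
  have hnd : L.Nodup := hsort.imp (fun h => Nat.ne_of_lt h)
  have hpos : ∀ r ∈ L, D.IsPosRoot r := fun r hr => (mem_posRoots D r).mp (hL.subset hr)
  let tt : (Fin L.length → F) → ℕ → F := fun τ r =>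
    if h : r ∈ L then τ ⟨L.idxOf r, List.idxOf_lt_length_iff.mpr h⟩ else 0
  let Ψ : (Fin L.length → F) → ↥(rootClosure D F R) := fun τ =>
    ⟨E.hF.ordProd L (tt τ), by
      have h1 := E.hF.ordProd_mem (F := F) L (tt τ)
      have hle : rootClosure D F (· ∈ L) ≤ rootClosure D F R := by
        unfold rootClosure
        apply Subgroup.closure_mono
        rintro x ⟨s, u, hs, hx⟩
        exact ⟨s, u, hR s hs, hx⟩
      exact hle h1⟩
  have hinj : Function.Injective Ψ := by
    intro τ τ' h
    have h1 : E.hF.ordProd L (tt τ) = E.hF.ordProd L (tt τ') := congrArg Subtype.val h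
    have h2 := E.hF.ordProd_inj E.hU.negNe E.hU.unit Λ hg0 hmono L hsort hpos _ _ h1
    funext k
    have hk : L[k.val] ∈ L := List.getElem_mem k.isLt
    have h3 := h2 _ hk
    simp only [tt, dif_pos hk] at h3
    have e : (⟨L.idxOf L[k.val], List.idxOf_lt_length_iff.mpr hk⟩ : Fin L.length) = k := by
      apply Fin.ext
      exact hnd.idxOf_getElem k.val k.isLt
    rwa [e] at h3
  have := Nat.card_le_card_of_injective Ψ hinj
  rwa [Nat.card_fun, Nat.card_fin, Nat.card_eq_fintype_card] at this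

/-- the order of the subgroup `U_w` -/
theorem Env.card_Uw (E : Env D F tab orb) (w : List ℕ) (hw : ∀ i ∈ w, i < D.rank) :
    Nat.card (rootClosure D F (fun r => D.IsPosRoot r ∧ NegSet D F (E.hF.nW w) r)) =
      Fintype.card F ^ cntW D w := by
  set n := E.hF.nW (F := F) w with hndef
  have hn : n ∈ D.monomialSubgroup F := E.nW_mem w hw
  -- the link between `NegSet` and the table
  have hiff : ∀ r, D.IsPosRoot r → (NegSet D F n r ↔ ¬ D.IsPosRoot (rhoW D w r)) := by
    intro r hr
    obtain ⟨η, hη, eη⟩ := E.hF.nW_conj (F := F) E.hN w hw r hr.1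
    have hρ := E.hN.rhoW_lt w hw r hr.1
    constructor
    · intro hnr hp
      have h1 : E.hF.xGL (rhoW D w r) ((η : F) * 1) ∈ D.negUnipotent F := by
        rw [← eη 1]
        apply hnr
        exact ⟨E.hF.xGL r 1, Subgroup.subset_closure ⟨1, E.hF.xGL_val _ _⟩, by
          simp only [MulEquiv.coe_toMonoidHom, MulAut.conj_apply]; rw [hndef]⟩
      have h2 : E.hF.xGL (rhoW D w r) ((η : F) * 1) ∈ D.borelSubgroup F ⊓ D.negUnipotent F :=
        ⟨pos_le_borel D F (E.hF.xGL_mem_pos _ hp _), h1⟩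
      rw [E.hF.borel_inf_neg.1, Subgroup.mem_bot] at h2
      have h3 := E.hF.xGL_eq_one E.hNe _ hρ _ h2
      rcases hη with rfl | rfl <;> simp at h3
    · intro hnp
      obtain ⟨hpn, _⟩ := rootTableOK_spec D E.hR _ hρ
      have hneg : D.IsNegRoot (rhoW D w r) := by
        rcases hpn with h | h
        · exact absurd h hnp
        · exact h
      rintro y ⟨z, hz, rfl⟩
      obtain ⟨t', rfl⟩ := E.hF.exists_of_mem_rootSubgroup r z hz
      simp only [MulEquiv.coe_toMonoidHom, MulAut.conj_apply]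
      rw [hndef, eη]
      exact E.hF.xGL_mem_neg _ hneg _
  -- `U = U' U_w`
  have hinf : rootClosure D F (fun r => D.IsPosRoot r ∧ ¬ NegSet D F n r) ⊓
      rootClosure D F (fun r => D.IsPosRoot r ∧ NegSet D F n r) = ⊥ := by
    rw [eq_bot_iff]
    rintro x ⟨h1, h2⟩
    rw [Subgroup.mem_bot]
    have h3 := E.hF.rootClosure_pos_conj E.hN E.hH E.hR n hn x h1
    have h4 := rootClosure_neg_conj n x h2
    have h5 : n * x * n⁻¹ ∈ D.borelSubgroup F ⊓ D.negUnipotent F := ⟨pos_le_borel D F h3, h4⟩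
    rw [E.hF.borel_inf_neg.1, Subgroup.mem_bot] at h5
    have : x = n⁻¹ * (n * x * n⁻¹) * n := by group
    rw [this, h5]; group
  have hprod : Nat.card (D.posUnipotent F) =
      Nat.card (rootClosure D F (fun r => D.IsPosRoot r ∧ ¬ NegSet D F n r)) *
      Nat.card (rootClosure D F (fun r => D.IsPosRoot r ∧ NegSet D F n r)) := by
    let f : ↥(rootClosure D F (fun r => D.IsPosRoot r ∧ ¬ NegSet D F n r)) ×
        ↥(rootClosure D F (fun r => D.IsPosRoot r ∧ NegSet D F n r)) → ↥(D.posUnipotent F) :=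
      fun x => ⟨(x.1 : GL D.Idx F) * (x.2 : GL D.Idx F), Subgroup.mul_mem _
        (rootClosure_pos_le D F _ (fun r hr => hr.1) x.1.2)
        (rootClosure_pos_le D F _ (fun r hr => hr.1) x.2.2)⟩
    have hbij : Function.Bijective f := by
      constructor
      · rintro ⟨a, c⟩ ⟨a', c'⟩ h
        have h1 : (a : GL D.Idx F) * c = a' * c' := congrArg Subtype.val h
        have h2 : (a' : GL D.Idx F)⁻¹ * a = c' * (c : GL D.Idx F)⁻¹ := by
          calc (a' : GL D.Idx F)⁻¹ * a = (a' : GL D.Idx F)⁻¹ * (a * c) * (c : GL D.Idx F)⁻¹ := by group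
            _ = (a' : GL D.Idx F)⁻¹ * (a' * c') * (c : GL D.Idx F)⁻¹ := by rw [h1]
            _ = _ := by group
        have h3 : (a' : GL D.Idx F)⁻¹ * a ∈
            rootClosure D F (fun r => D.IsPosRoot r ∧ ¬ NegSet D F n r) ⊓
            rootClosure D F (fun r => D.IsPosRoot r ∧ NegSet D F n r) :=
          ⟨Subgroup.mul_mem _ (Subgroup.inv_mem _ a'.2) a.2, by
            rw [h2]; exact Subgroup.mul_mem _ c'.2 (Subgroup.inv_mem _ c.2)⟩
        rw [hinf, Subgroup.mem_bot] at h3
        have ha : (a : GL D.Idx F) = a' := (inv_mul_eq_one.mp h3).symm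
        have hc : (c : GL D.Idx F) = c' := by
          rw [ha] at h1; exact mul_left_cancel h1
        exact Prod.ext (Subtype.ext ha) (Subtype.ext hc)
      · rintro ⟨g, hg⟩
        obtain ⟨a, ha, c, hc, e⟩ := E.hF.split_pos E.hC E.hU E.hNR E.hcomm (NegSet D F n) g hg
        exact ⟨⟨⟨a, ha⟩, ⟨c, hc⟩⟩, Subtype.ext e.symm⟩
    rw [← Nat.card_eq_of_bijective f hbij, Nat.card_prod]
  -- the two lower bounds
  have hsub1 : (D.posRoots.filter fun r => decide (¬ D.IsPosRoot (rhoW D w r))).Sublist D.posRoots :=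
    List.filter_sublist
  have hsub2 : (D.posRoots.filter fun r => !decide (¬ D.IsPosRoot (rhoW D w r))).Sublist
      D.posRoots := List.filter_sublist
  have hge1 := E.card_rootClosure_ge (fun r => D.IsPosRoot r ∧ NegSet D F n r) _ hsub1 (by
    intro r hr
    rw [List.mem_filter, decide_eq_true_eq] at hr
    have hp := (mem_posRoots D r).mp hr.1
    exact ⟨hp, (hiff r hp).mpr hr.2⟩)
  have hge2 := E.card_rootClosure_ge (fun r => D.IsPosRoot r ∧ ¬ NegSet D F n r) _ hsub2 (by
    intro r hr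
    rw [List.mem_filter, Bool.not_eq_true', decide_eq_false_iff_not, not_not] at hr
    have hp := (mem_posRoots D r).mp hr.1
    exact ⟨hp, fun h => (hiff r hp).mp h hr.2⟩)
  have hlen := List.length_eq_length_filter_add (l := D.posRoots)
    (fun r => decide (¬ D.IsPosRoot (rhoW D w r)))
  rw [posRoots_length D E.hU.half] at hlen
  have hU := E.hF.card_posUnipotent (F := F) E.hC E.hU E.hNR E.hcomm
  rw [hprod, hlen, pow_add] at hU
  unfold cntW
  set a := (D.posRoots.filter fun r => decide (¬ D.IsPosRoot (rhoW D w r))).length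
  set b := (D.posRoots.filter fun r => !decide (¬ D.IsPosRoot (rhoW D w r))).length
  set x := Nat.card (rootClosure D F (fun r => D.IsPosRoot r ∧ NegSet D F n r))
  set y := Nat.card (rootClosure D F (fun r => D.IsPosRoot r ∧ ¬ NegSet D F n r))
  have hq : 0 < Fintype.card F := Fintype.card_pos
  have hb0 : 0 < Fintype.card F ^ b := pow_pos hq b
  apply le_antisymm _ hge1
  by_contra hlt
  push Not at hlt
  have : Fintype.card F ^ a * Fintype.card F ^ b < y * x := by
    calc Fintype.card F ^ a * Fintype.card F ^ b < x * Fintype.card F ^ b :=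
          Nat.mul_lt_mul_of_pos_right hlt hb0
      _ ≤ x * y := Nat.mul_le_mul_left _ hge2
      _ = y * x := Nat.mul_comm _ _
  omega

end cellsd

end Cfsg.Agent.Lib.Helper24
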