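import Cfsg.Agent.Lib.Helper24.CellsD

set_option autoImplicit false
set_option linter.unusedSimpArgs false

namespace Cfsg.Agent.Lib.Helper24

open Cfsg.Lie

section cellse

variable {F : Type*} [Field F] [Fintype F] {D : ChevalleyDatum} {tab : List ℕ}
  {orb : List (ℕ × ℕ × ℕ)}

theorem PL_mono (D : ChevalleyDatum) (F : Type*) [Field F] (J K : List ℕ) (h : ∀ j ∈ J, j ∈ K) :
    PL D F J ≤ PL D F K := by
  unfold PL ChevalleyDatum.parabolicSubgroup
  apply sup_le le_sup_left
  apply le_trans _ le_sup_right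
  apply Subgroup.closure_mono
  rintro g ⟨j, hj, hjr, hg⟩
  exact ⟨j, h j hj, hjr, hg⟩

theorem Env.nW_mem_PL (E : Env D F tab orb) (K : List ℕ) (hK : ∀ i ∈ K, i < D.rank) (w : List ℕ)
    (hw : ∀ i ∈ w, i ∈ K) : E.hF.nW (F := F) w ∈ PL D F K := by
  unfold Facts.nW
  apply Subgroup.list_prod_mem
  intro x hx
  simp only [List.mem_map] at hx
  obtain ⟨i, hi, rfl⟩ := hx
  exact E.hF.nS_mem_PL K i (hw i hi) (hK i (hw i hi))

/-- one step of the chain of parabolic subgroups -/
theorem Env.step_card (E : Env D F tab orb) {J K Par : List ℕ} (Cn : List ℕ)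
    (hSt : StepFacts D J K Par Cn.length) (Λ : List ℤ) (hL : LevFacts D J Par Cn.length Λ Cn) :
    Nat.card ↥(PL D F K) = (Cn.map fun c => Fintype.card F ^ c).sum * Nat.card ↥(PL D F J) := by
  have hcard := card_of_cells (PL D F K) (PL D F J) Cn.length
    (fun i => E.hF.nW (F := F) (wordAt Par i.val))
    (fun i => rootClosure D F (fun r => D.IsPosRoot r ∧
      NegSet D F (E.hF.nW (wordAt Par i.val)) r))
    (by
      intro i p hp a ha
      exact Subgroup.mul_mem _ (Subgroup.mul_mem _ (PL_mono D F J K hSt.hJK hp)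
        (E.nW_mem_PL K hSt.hK _ (hSt.words i.val i.isLt)))
        (borel_le_PL D F K (pos_le_borel D F (rootClosure_pos_le D F _ (fun r hr => hr.1) ha))))
    (by
      intro g hg
      obtain ⟨m, hm, p, hp, u, hu, e⟩ := E.cells_cover' hSt g hg
      exact ⟨⟨m, hm⟩, p, hp, u, hu, e⟩)
    (by
      intro i i' p p' a a' hp hp' ha ha' e
      have haB : a ∈ D.borelSubgroup F :=
        pos_le_borel D F (rootClosure_pos_le D F _ (fun r hr => hr.1) ha)
      have haB' : a' ∈ D.borelSubgroup F :=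
        pos_le_borel D F (rootClosure_pos_le D F _ (fun r hr => hr.1) ha')
      have e2 : E.hF.nW (F := F) (wordAt Par i'.val) =
          (p'⁻¹ * p) * E.hF.nW (wordAt Par i.val) * (a * a'⁻¹) := by
        have : E.hF.nW (F := F) (wordAt Par i'.val) =
            p'⁻¹ * (p' * E.hF.nW (wordAt Par i'.val) * a') * a'⁻¹ := by group
        rw [this, ← e]; group
      have hlev := E.level_eq_of_cell J hSt.hJ (fun s => gradeF D Λ s) hL.inv _ _
        (E.word_lt hSt i.val i.isLt) (E.word_lt hSt i'.val i'.isLt) _ _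
        (Subgroup.mul_mem _ (Subgroup.inv_mem _ hp') hp)
        (Subgroup.mul_mem _ haB (Subgroup.inv_mem _ haB')) e2
      have hii : i'.val = i.val := hL.sig i'.val i'.isLt i.val i.isLt
        (fun k hk => hlev _ (Facts.simple_lt E.hH k hk))
      have hii' : i = i' := Fin.ext hii.symm
      subst hii'
      refine ⟨rfl, ?_⟩
      exact E.cell_unique J hSt.hJ Λ hL.pos hL.zeroJ _ (E.word_lt hSt i.val i.isLt)
        (hL.neg i.val i.isLt) p p' a a' hp hp' ha ha' e)
  rw [hcard]
  congr 1
  have e1 : ∀ i : Fin Cn.length, Nat.card (rootClosure D F (fun r => D.IsPosRoot r ∧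
      NegSet D F (E.hF.nW (wordAt Par i.val)) r)) = Fintype.card F ^ Cn[i.val] := by
    intro i
    rw [E.card_Uw _ (E.word_lt hSt i.val i.isLt), hL.cnt i.val i.isLt]
    congr 1
    simp [List.getD, i.isLt]
  rw [Finset.sum_congr rfl (fun i _ => e1 i)]
  exact Fin.sum_univ_fun_getElem Cn (fun c => Fintype.card F ^ c)

end cellse

end Cfsg.Agent.Lib.Helper24
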