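import Cfsg.Agent.Lib.Helper24.Core
import Cfsg.Prelude.Def_LieTypes
import Cfsg.Prelude.Def_ChevB2
import Cfsg.Prelude.Def_ChevD4

set_option autoImplicit false

namespace Cfsg.Agent.Lib.Helper24

open Cfsg.Lie

theorem negNeOK_G2 : negNeOK chevG2 = true := by decide +kernel
theorem negNeOK_B2 : negNeOK chevB2 = true := by decide +kernel
theorem negNeOK_D4 : negNeOK chevD4 = true := by decide +kernel
theorem negNeOK_F4 : negNeOK chevF4 = true := by decide +kernel
theorem negNeOK_E6 : negNeOK chevE6 = true := by decide +kernel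
theorem negNeOK_E7 : negNeOK chevE7 = true := by decide +kernel
theorem negNeOK_E8 : negNeOK chevE8 = true := by decide +kernel

theorem negNeOK_all (D : ChevalleyDatum)
    (hD : D ∈ [chevG2, chevB2, chevD4, chevF4, chevE6, chevE7, chevE8]) :
    negNeOK D = true := by
  simp only [List.mem_cons, List.not_mem_nil, or_false] at hD
  rcases hD with rfl | rfl | rfl | rfl | rfl | rfl | rfl
  · exact negNeOK_G2
  · exact negNeOK_B2
  · exact negNeOK_D4
  · exact negNeOK_F4
  · exact negNeOK_E6
  · exact negNeOK_E7
  · exact negNeOK_E8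

end Cfsg.Agent.Lib.Helper24
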