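import Cfsg.Agent.Lib.Helper24.OrbTab
import Cfsg.Agent.Lib.Helper24.LT_B2
import Cfsg.Agent.Lib.Helper24.NTab
import Cfsg.Prelude.Def_LieTypes
import Cfsg.Prelude.Def_ChevB2
import Cfsg.Prelude.Def_ChevD4

set_option autoImplicit false

namespace Cfsg.Agent.Lib.Helper24

open Cfsg.Lie

theorem negc_B2_0 : negCompatOK chevB2 (nTabB2.getD 0 0) = true := by decide +kernel
theorem negc_B2_1 : negCompatOK chevB2 (nTabB2.getD 1 0) = true := by decide +kernel
theorem orbit_B2 : orbitOK chevB2 nTabB2 orbTabB2 = true := by decide +kernel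

theorem hnfacts_B2 : HNFacts chevB2 nTabB2 orbTabB2 where
  perm := lfacts_B2.perm
  negc := by
    intro i hi
    have hi' : i < 2 := hi
    interval_cases i
    · exact negc_B2_0
    · exact negc_B2_1
  orbit := orbit_B2

end Cfsg.Agent.Lib.Helper24
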