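import Cfsg.Agent.Lib.Helper24.OrbTab
import Cfsg.Agent.Lib.Helper24.LT_E6
import Cfsg.Agent.Lib.Helper24.NTab
import Cfsg.Prelude.Def_LieTypes
import Cfsg.Prelude.Def_ChevB2
import Cfsg.Prelude.Def_ChevD4

set_option autoImplicit false

namespace Cfsg.Agent.Lib.Helper24

open Cfsg.Lie

theorem negc_E6_0 : negCompatOK chevE6 (nTabE6.getD 0 0) = true := by decide +kernel
theorem negc_E6_1 : negCompatOK chevE6 (nTabE6.getD 1 0) = true := by decide +kernel
theorem negc_E6_2 : negCompatOK chevE6 (nTabE6.getD 2 0) = true := by decide +kernel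
theorem negc_E6_3 : negCompatOK chevE6 (nTabE6.getD 3 0) = true := by decide +kernel
theorem negc_E6_4 : negCompatOK chevE6 (nTabE6.getD 4 0) = true := by decide +kernel
theorem negc_E6_5 : negCompatOK chevE6 (nTabE6.getD 5 0) = true := by decide +kernel
theorem orbit_E6 : orbitOK chevE6 nTabE6 orbTabE6 = true := by decide +kernel

theorem hnfacts_E6 : HNFacts chevE6 nTabE6 orbTabE6 where
  perm := lfacts_E6.perm
  negc := by
    intro i hi
    have hi' : i < 6 := hi
    interval_cases i
    · exact negc_E6_0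
    · exact negc_E6_1
    · exact negc_E6_2
    · exact negc_E6_3
    · exact negc_E6_4
    · exact negc_E6_5
  orbit := orbit_E6

end Cfsg.Agent.Lib.Helper24
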