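import Cfsg.Agent.Lib.Helper24.LongTab
import Cfsg.Agent.Lib.Helper24.NTab
import Cfsg.Prelude.Def_LieTypes
import Cfsg.Prelude.Def_ChevB2
import Cfsg.Prelude.Def_ChevD4

set_option autoImplicit false

namespace Cfsg.Agent.Lib.Helper24

open Cfsg.Lie

theorem perm_E7_0 : permOK chevE7 (nTabE7.getD 0 0) 0 = true := by decide +kernel
theorem perm_E7_1 : permOK chevE7 (nTabE7.getD 1 0) 1 = true := by decide +kernel
theorem perm_E7_2 : permOK chevE7 (nTabE7.getD 2 0) 2 = true := by decide +kernel
theorem perm_E7_3 : permOK chevE7 (nTabE7.getD 3 0) 3 = true := by decide +kernel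
theorem perm_E7_4 : permOK chevE7 (nTabE7.getD 4 0) 4 = true := by decide +kernel
theorem perm_E7_5 : permOK chevE7 (nTabE7.getD 5 0) 5 = true := by decide +kernel
theorem perm_E7_6 : permOK chevE7 (nTabE7.getD 6 0) 6 = true := by decide +kernel
theorem w0_E7 : w0OK chevE7 nTabE7 w0WordE7 = true := by decide +kernel

theorem lfacts_E7 : LFacts chevE7 nTabE7 where
  perm := by
    intro i hi
    have hi' : i < 7 := hi
    interval_cases i
    · exact perm_E7_0
    · exact perm_E7_1
    · exact perm_E7_2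
    · exact perm_E7_3
    · exact perm_E7_4
    · exact perm_E7_5
    · exact perm_E7_6
  w0 := ⟨_, w0_E7⟩

end Cfsg.Agent.Lib.Helper24
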