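import Cfsg.Agent.Lib.Helper24.OrbTab
import Cfsg.Agent.Lib.Helper24.LT_E8
import Cfsg.Agent.Lib.Helper24.NTab
import Cfsg.Prelude.Def_LieTypes
import Cfsg.Prelude.Def_ChevB2
import Cfsg.Prelude.Def_ChevD4

set_option autoImplicit false

namespace Cfsg.Agent.Lib.Helper24

open Cfsg.Lie

theorem negc_E8_0 : negCompatOK chevE8 (nTabE8.getD 0 0) = true := by decide +kernel
theorem negc_E8_1 : negCompatOK chevE8 (nTabE8.getD 1 0) = true := by decide +kernel
theorem negc_E8_2 : negCompatOK chevE8 (nTabE8.getD 2 0) = true := by decide +kernel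
theorem negc_E8_3 : negCompatOK chevE8 (nTabE8.getD 3 0) = true := by decide +kernel
theorem negc_E8_4 : negCompatOK chevE8 (nTabE8.getD 4 0) = true := by decide +kernel
theorem negc_E8_5 : negCompatOK chevE8 (nTabE8.getD 5 0) = true := by decide +kernel
theorem negc_E8_6 : negCompatOK chevE8 (nTabE8.getD 6 0) = true := by decide +kernel
theorem negc_E8_7 : negCompatOK chevE8 (nTabE8.getD 7 0) = true := by decide +kernel
theorem orbit_E8 : orbitOK chevE8 nTabE8 orbTabE8 = true := by decide +kernel

theorem hnfacts_E8 : HNFacts chevE8 nTabE8 orbTabE8 where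
  perm := lfacts_E8.perm
  negc := by
    intro i hi
    have hi' : i < 8 := hi
    interval_cases i
    · exact negc_E8_0
    · exact negc_E8_1
    · exact negc_E8_2
    · exact negc_E8_3
    · exact negc_E8_4
    · exact negc_E8_5
    · exact negc_E8_6
    · exact negc_E8_7
  orbit := orbit_E8

end Cfsg.Agent.Lib.Helper24
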