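import Cfsg.Agent.Lib.Helper24.OrbTab
import Cfsg.Agent.Lib.Helper24.LT_F4
import Cfsg.Agent.Lib.Helper24.NTab
import Cfsg.Prelude.Def_LieTypes
import Cfsg.Prelude.Def_ChevB2
import Cfsg.Prelude.Def_ChevD4

set_option autoImplicit false

namespace Cfsg.Agent.Lib.Helper24

open Cfsg.Lie

theorem negc_F4_0 : negCompatOK chevF4 (nTabF4.getD 0 0) = true := by decide +kernel
theorem negc_F4_1 : negCompatOK chevF4 (nTabF4.getD 1 0) = true := by decide +kernel
theorem negc_F4_2 : negCompatOK chevF4 (nTabF4.getD 2 0) = true := by decide +kernel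
theorem negc_F4_3 : negCompatOK chevF4 (nTabF4.getD 3 0) = true := by decide +kernel
theorem orbit_F4 : orbitOK chevF4 nTabF4 orbTabF4 = true := by decide +kernel

theorem hnfacts_F4 : HNFacts chevF4 nTabF4 orbTabF4 where
  perm := lfacts_F4.perm
  negc := by
    intro i hi
    have hi' : i < 4 := hi
    interval_cases i
    · exact negc_F4_0
    · exact negc_F4_1
    · exact negc_F4_2
    · exact negc_F4_3
  orbit := orbit_F4

end Cfsg.Agent.Lib.Helper24
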