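import Cfsg.Agent.Lib.Helper24.LongTab
import Cfsg.Agent.Lib.Helper24.NTab
import Cfsg.Prelude.Def_LieTypes
import Cfsg.Prelude.Def_ChevB2
import Cfsg.Prelude.Def_ChevD4

set_option autoImplicit false

namespace Cfsg.Agent.Lib.Helper24

open Cfsg.Lie

theorem perm_G2_0 : permOK chevG2 (nTabG2.getD 0 0) 0 = true := by decide +kernel
theorem perm_G2_1 : permOK chevG2 (nTabG2.getD 1 0) 1 = true := by decide +kernel
theorem w0_G2 : w0OK chevG2 nTabG2 w0WordG2 = true := by decide +kernel

theorem lfacts_G2 : LFacts chevG2 nTabG2 where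
  perm := by
    intro i hi
    have hi' : i < 2 := hi
    interval_cases i
    · exact perm_G2_0
    · exact perm_G2_1
  w0 := ⟨_, w0_G2⟩

end Cfsg.Agent.Lib.Helper24
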