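import Cfsg.Agent.Lib.Helper24.OrbTab
import Cfsg.Agent.Lib.Helper24.LT_G2
import Cfsg.Agent.Lib.Helper24.NTab
import Cfsg.Prelude.Def_LieTypes
import Cfsg.Prelude.Def_ChevB2
import Cfsg.Prelude.Def_ChevD4

set_option autoImplicit false

namespace Cfsg.Agent.Lib.Helper24

open Cfsg.Lie

theorem negc_G2_0 : negCompatOK chevG2 (nTabG2.getD 0 0) = true := by decide +kernel
theorem negc_G2_1 : negCompatOK chevG2 (nTabG2.getD 1 0) = true := by decide +kernel
theorem orbit_G2 : orbitOK chevG2 nTabG2 orbTabG2 = true := by decide +kernel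

theorem hnfacts_G2 : HNFacts chevG2 nTabG2 orbTabG2 where
  perm := lfacts_G2.perm
  negc := by
    intro i hi
    have hi' : i < 2 := hi
    interval_cases i
    · exact negc_G2_0
    · exact negc_G2_1
  orbit := orbit_G2

end Cfsg.Agent.Lib.Helper24
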