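import Cfsg.Agent.Lib.Helper24.RFAll
import Cfsg.Agent.Lib.Helper24.HT_G2
import Cfsg.Agent.Lib.Helper24.HT_B2
import Cfsg.Agent.Lib.Helper24.HT_D4
import Cfsg.Agent.Lib.Helper24.HT_F4
import Cfsg.Agent.Lib.Helper24.HT_E6
import Cfsg.Agent.Lib.Helper24.HT_E7
import Cfsg.Agent.Lib.Helper24.HT_E8

set_option autoImplicit false

namespace Cfsg.Agent.Lib.Helper24

open Cfsg.Lie

theorem hnfacts_all (D : ChevalleyDatum)
    (hD : D ∈ [chevG2, chevB2, chevD4, chevF4, chevE6, chevE7, chevE8]) :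
    ∃ tab orb, NFacts D tab ∧ HNFacts D tab orb ∧ LFacts D tab := by
  simp only [List.mem_cons, List.not_mem_nil, or_false] at hD
  rcases hD with rfl | rfl | rfl | rfl | rfl | rfl | rfl
  · exact ⟨_, _, nfacts_G2, hnfacts_G2, lfacts_G2⟩
  · exact ⟨_, _, nfacts_B2, hnfacts_B2, lfacts_B2⟩
  · exact ⟨_, _, nfacts_D4, hnfacts_D4, lfacts_D4⟩
  · exact ⟨_, _, nfacts_F4, hnfacts_F4, lfacts_F4⟩
  · exact ⟨_, _, nfacts_E6, hnfacts_E6, lfacts_E6⟩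
  · exact ⟨_, _, nfacts_E7, hnfacts_E7, lfacts_E7⟩
  · exact ⟨_, _, nfacts_E8, hnfacts_E8, lfacts_E8⟩

end Cfsg.Agent.Lib.Helper24
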