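import Cfsg.Agent.Lib.Helper24.Mono
import Cfsg.Agent.Lib.Helper24.HNAll
import Cfsg.Prelude.Def_LieTypes
import Cfsg.Prelude.Def_ChevB2
import Cfsg.Prelude.Def_ChevD4

set_option autoImplicit false

namespace Cfsg.Agent.Lib.Helper24

open Cfsg.Lie

theorem monoTab_G2_0 : monoTabOK chevG2 (nTabG2.getD 0 0) = true := by decide +kernel
theorem monoTab_G2_1 : monoTabOK chevG2 (nTabG2.getD 1 0) = true := by decide +kernel

theorem monoTab_G2 (i : ℕ) (hi : i < chevG2.rank) : monoTabOK chevG2 (nTabG2.getD i 0) = true := by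
  have hi' : i < 2 := hi
  interval_cases i
  · exact monoTab_G2_0
  · exact monoTab_G2_1

theorem monoTab_B2_0 : monoTabOK chevB2 (nTabB2.getD 0 0) = true := by decide +kernel
theorem monoTab_B2_1 : monoTabOK chevB2 (nTabB2.getD 1 0) = true := by decide +kernel

theorem monoTab_B2 (i : ℕ) (hi : i < chevB2.rank) : monoTabOK chevB2 (nTabB2.getD i 0) = true := by
  have hi' : i < 2 := hi
  interval_cases i
  · exact monoTab_B2_0
  · exact monoTab_B2_1

theorem monoTab_D4_0 : monoTabOK chevD4 (nTabD4.getD 0 0) = true := by decide +kernel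
theorem monoTab_D4_1 : monoTabOK chevD4 (nTabD4.getD 1 0) = true := by decide +kernel
theorem monoTab_D4_2 : monoTabOK chevD4 (nTabD4.getD 2 0) = true := by decide +kernel
theorem monoTab_D4_3 : monoTabOK chevD4 (nTabD4.getD 3 0) = true := by decide +kernel

theorem monoTab_D4 (i : ℕ) (hi : i < chevD4.rank) : monoTabOK chevD4 (nTabD4.getD i 0) = true := by
  have hi' : i < 4 := hi
  interval_cases i
  · exact monoTab_D4_0
  · exact monoTab_D4_1
  · exact monoTab_D4_2
  · exact monoTab_D4_3

theorem monoTab_F4_0 : monoTabOK chevF4 (nTabF4.getD 0 0) = true := by decide +kernel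
theorem monoTab_F4_1 : monoTabOK chevF4 (nTabF4.getD 1 0) = true := by decide +kernel
theorem monoTab_F4_2 : monoTabOK chevF4 (nTabF4.getD 2 0) = true := by decide +kernel
theorem monoTab_F4_3 : monoTabOK chevF4 (nTabF4.getD 3 0) = true := by decide +kernel

theorem monoTab_F4 (i : ℕ) (hi : i < chevF4.rank) : monoTabOK chevF4 (nTabF4.getD i 0) = true := by
  have hi' : i < 4 := hi
  interval_cases i
  · exact monoTab_F4_0
  · exact monoTab_F4_1
  · exact monoTab_F4_2
  · exact monoTab_F4_3

theorem monoTab_E6_0 : monoTabOK chevE6 (nTabE6.getD 0 0) = true := by decide +kernel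
theorem monoTab_E6_1 : monoTabOK chevE6 (nTabE6.getD 1 0) = true := by decide +kernel
theorem monoTab_E6_2 : monoTabOK chevE6 (nTabE6.getD 2 0) = true := by decide +kernel
theorem monoTab_E6_3 : monoTabOK chevE6 (nTabE6.getD 3 0) = true := by decide +kernel
theorem monoTab_E6_4 : monoTabOK chevE6 (nTabE6.getD 4 0) = true := by decide +kernel
theorem monoTab_E6_5 : monoTabOK chevE6 (nTabE6.getD 5 0) = true := by decide +kernel

theorem monoTab_E6 (i : ℕ) (hi : i < chevE6.rank) : monoTabOK chevE6 (nTabE6.getD i 0) = true := by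
  have hi' : i < 6 := hi
  interval_cases i
  · exact monoTab_E6_0
  · exact monoTab_E6_1
  · exact monoTab_E6_2
  · exact monoTab_E6_3
  · exact monoTab_E6_4
  · exact monoTab_E6_5

theorem monoTab_E7_0 : monoTabOK chevE7 (nTabE7.getD 0 0) = true := by decide +kernel
theorem monoTab_E7_1 : monoTabOK chevE7 (nTabE7.getD 1 0) = true := by decide +kernel
theorem monoTab_E7_2 : monoTabOK chevE7 (nTabE7.getD 2 0) = true := by decide +kernel
theorem monoTab_E7_3 : monoTabOK chevE7 (nTabE7.getD 3 0) = true := by decide +kernel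
theorem monoTab_E7_4 : monoTabOK chevE7 (nTabE7.getD 4 0) = true := by decide +kernel
theorem monoTab_E7_5 : monoTabOK chevE7 (nTabE7.getD 5 0) = true := by decide +kernel
theorem monoTab_E7_6 : monoTabOK chevE7 (nTabE7.getD 6 0) = true := by decide +kernel

theorem monoTab_E7 (i : ℕ) (hi : i < chevE7.rank) : monoTabOK chevE7 (nTabE7.getD i 0) = true := by
  have hi' : i < 7 := hi
  interval_cases i
  · exact monoTab_E7_0
  · exact monoTab_E7_1
  · exact monoTab_E7_2
  · exact monoTab_E7_3
  · exact monoTab_E7_4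
  · exact monoTab_E7_5
  · exact monoTab_E7_6

theorem monoTab_E8_0 : monoTabOK chevE8 (nTabE8.getD 0 0) = true := by decide +kernel
theorem monoTab_E8_1 : monoTabOK chevE8 (nTabE8.getD 1 0) = true := by decide +kernel
theorem monoTab_E8_2 : monoTabOK chevE8 (nTabE8.getD 2 0) = true := by decide +kernel
theorem monoTab_E8_3 : monoTabOK chevE8 (nTabE8.getD 3 0) = true := by decide +kernel
theorem monoTab_E8_4 : monoTabOK chevE8 (nTabE8.getD 4 0) = true := by decide +kernel
theorem monoTab_E8_5 : monoTabOK chevE8 (nTabE8.getD 5 0) = true := by decide +kernel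
theorem monoTab_E8_6 : monoTabOK chevE8 (nTabE8.getD 6 0) = true := by decide +kernel
theorem monoTab_E8_7 : monoTabOK chevE8 (nTabE8.getD 7 0) = true := by decide +kernel

theorem monoTab_E8 (i : ℕ) (hi : i < chevE8.rank) : monoTabOK chevE8 (nTabE8.getD i 0) = true := by
  have hi' : i < 8 := hi
  interval_cases i
  · exact monoTab_E8_0
  · exact monoTab_E8_1
  · exact monoTab_E8_2
  · exact monoTab_E8_3
  · exact monoTab_E8_4
  · exact monoTab_E8_5
  · exact monoTab_E8_6
  · exact monoTab_E8_7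

theorem mfacts_all (D : ChevalleyDatum)
    (hD : D ∈ [chevG2, chevB2, chevD4, chevF4, chevE6, chevE7, chevE8]) :
    ∃ tab orb, NFacts D tab ∧ HNFacts D tab orb ∧ ∀ i < D.rank, monoTabOK D (tab.getD i 0) = true := by
  simp only [List.mem_cons, List.not_mem_nil, or_false] at hD
  rcases hD with rfl | rfl | rfl | rfl | rfl | rfl | rfl
  · exact ⟨_, _, nfacts_G2, hnfacts_G2, monoTab_G2⟩
  · exact ⟨_, _, nfacts_B2, hnfacts_B2, monoTab_B2⟩
  · exact ⟨_, _, nfacts_D4, hnfacts_D4, monoTab_D4⟩
  · exact ⟨_, _, nfacts_F4, hnfacts_F4, monoTab_F4⟩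
  · exact ⟨_, _, nfacts_E6, hnfacts_E6, monoTab_E6⟩
  · exact ⟨_, _, nfacts_E7, hnfacts_E7, monoTab_E7⟩
  · exact ⟨_, _, nfacts_E8, hnfacts_E8, monoTab_E8⟩

end Cfsg.Agent.Lib.Helper24
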