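import Cfsg.Agent.Lib.Helper24.RankOne
import Cfsg.Prelude.Def_LieTypes
import Cfsg.Prelude.Def_ChevB2
import Cfsg.Prelude.Def_ChevD4

set_option autoImplicit false

namespace Cfsg.Agent.Lib.Helper24

open Cfsg.Lie

theorem reflPos_E8_0 : reflPosOK chevE8 0 = true := by decide +kernel
theorem reflPos_E8_1 : reflPosOK chevE8 1 = true := by decide +kernel
theorem reflPos_E8_2 : reflPosOK chevE8 2 = true := by decide +kernel
theorem reflPos_E8_3 : reflPosOK chevE8 3 = true := by decide +kernel
theorem reflPos_E8_4 : reflPosOK chevE8 4 = true := by decide +kernel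
theorem reflPos_E8_5 : reflPosOK chevE8 5 = true := by decide +kernel
theorem reflPos_E8_6 : reflPosOK chevE8 6 = true := by decide +kernel
theorem reflPos_E8_7 : reflPosOK chevE8 7 = true := by decide +kernel

theorem reflPos_E8 (i : ℕ) (hi : i < chevE8.rank) : reflPosOK chevE8 i = true := by
  have hi' : i < 8 := hi
  interval_cases i
  · exact reflPos_E8_0
  · exact reflPos_E8_1
  · exact reflPos_E8_2
  · exact reflPos_E8_3
  · exact reflPos_E8_4
  · exact reflPos_E8_5
  · exact reflPos_E8_6
  · exact reflPos_E8_7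

end Cfsg.Agent.Lib.Helper24
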