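import Cfsg.Agent.Lib.Helper24.RankTabA
import Cfsg.Agent.Lib.Helper24.RankTabB

set_option autoImplicit false

namespace Cfsg.Agent.Lib.Helper24

open Cfsg.Lie

theorem reflPosOK_all (D : ChevalleyDatum)
    (hD : D ∈ [chevG2, chevB2, chevD4, chevF4, chevE6, chevE7, chevE8]) (i : ℕ) (hi : i < D.rank) :
    reflPosOK D i = true := by
  simp only [List.mem_cons, List.not_mem_nil, or_false] at hD
  rcases hD with rfl | rfl | rfl | rfl | rfl | rfl | rfl
  · exact reflPos_G2 i hi
  · exact reflPos_B2 i hi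
  · exact reflPos_D4 i hi
  · exact reflPos_F4 i hi
  · exact reflPos_E6 i hi
  · exact reflPos_E7 i hi
  · exact reflPos_E8 i hi

end Cfsg.Agent.Lib.Helper24
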