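import Cfsg.Agent.Lib.Helper24.UFact
import Cfsg.Agent.Lib.Helper24.CoreTab
import Cfsg.Prelude.Def_LieTypes
import Cfsg.Prelude.Def_ChevB2
import Cfsg.Prelude.Def_ChevD4

set_option autoImplicit false

namespace Cfsg.Agent.Lib.Helper24

open Cfsg.Lie

theorem posHalf_G2 : posHalfOK chevG2 = true := by decide +kernel
theorem corootUnit_G2 : corootUnitOK chevG2 = true := by decide +kernel
theorem gradeOK_G2 : gradeOK chevG2 [5, 8] = true := by decide +kernel
theorem convexAll_G2 : allFrom (convexRowOK chevG2) 6 6 = true := by decide +kernel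

theorem ufacts_G2 : UFacts chevG2 where
  half := posHalf_G2
  negNe := negNeOK_all chevG2 (by simp)
  unit := corootUnit_G2
  convex := by
    intro r h1 h2
    have h1' : 6 ≤ r := h1
    have h2' : r < 12 := h2
    exact allFrom_elim _ _ _ convexAll_G2 r h1' (by omega)
  grade := ⟨_, gradeOK_G2⟩

theorem posHalf_B2 : posHalfOK chevB2 = true := by decide +kernel
theorem corootUnit_B2 : corootUnitOK chevB2 = true := by decide +kernel
theorem gradeOK_B2 : gradeOK chevB2 [5, 6] = true := by decide +kernel
theorem convexAll_B2 : allFrom (convexRowOK chevB2) 4 4 = true := by decide +kernel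

theorem ufacts_B2 : UFacts chevB2 where
  half := posHalf_B2
  negNe := negNeOK_all chevB2 (by simp)
  unit := corootUnit_B2
  convex := by
    intro r h1 h2
    have h1' : 4 ≤ r := h1
    have h2' : r < 8 := h2
    exact allFrom_elim _ _ _ convexAll_B2 r h1' (by omega)
  grade := ⟨_, gradeOK_B2⟩

theorem posHalf_D4 : posHalfOK chevD4 = true := by decide +kernel
theorem corootUnit_D4 : corootUnitOK chevD4 = true := by decide +kernel
theorem gradeOK_D4 : gradeOK chevD4 [27, 38, 21, 20] = true := by decide +kernel
theorem convexAll_D4 : allFrom (convexRowOK chevD4) 12 12 = true := by decide +kernel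

theorem ufacts_D4 : UFacts chevD4 where
  half := posHalf_D4
  negNe := negNeOK_all chevD4 (by simp)
  unit := corootUnit_D4
  convex := by
    intro r h1 h2
    have h1' : 12 ≤ r := h1
    have h2' : r < 24 := h2
    exact allFrom_elim _ _ _ convexAll_D4 r h1' (by omega)
  grade := ⟨_, gradeOK_D4⟩

theorem posHalf_F4 : posHalfOK chevF4 = true := by decide +kernel
theorem corootUnit_F4 : corootUnitOK chevF4 = true := by decide +kernel
theorem gradeOK_F4 : gradeOK chevF4 [88, 149, 201, 101] = true := by decide +kernel
theorem convexAll_F4 : allFrom (convexRowOK chevF4) 24 24 = true := by decide +kernel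

theorem ufacts_F4 : UFacts chevF4 where
  half := posHalf_F4
  negNe := negNeOK_all chevF4 (by simp)
  unit := corootUnit_F4
  convex := by
    intro r h1 h2
    have h1' : 24 ≤ r := h1
    have h2' : r < 48 := h2
    exact allFrom_elim _ _ _ convexAll_F4 r h1' (by omega)
  grade := ⟨_, gradeOK_F4⟩

theorem posHalf_E6 : posHalfOK chevE6 = true := by decide +kernel
theorem corootUnit_E6 : corootUnitOK chevE6 = true := by decide +kernel
theorem gradeOK_E6 : gradeOK chevE6 [1418, 1479, 2107, 2715, 1817, 910] = true := by decide +kernel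
theorem convexAll_E6 : allFrom (convexRowOK chevE6) 36 36 = true := by decide +kernel

theorem ufacts_E6 : UFacts chevE6 where
  half := posHalf_E6
  negNe := negNeOK_all chevE6 (by simp)
  unit := corootUnit_E6
  convex := by
    intro r h1 h2
    have h1' : 36 ≤ r := h1
    have h2' : r < 72 := h2
    exact allFrom_elim _ _ _ convexAll_E6 r h1' (by omega)
  grade := ⟨_, gradeOK_E6⟩

theorem posHalf_E7 : posHalfOK chevE7 = true := by decide +kernel
theorem corootUnit_E7 : corootUnitOK chevE7 = true := by decide +kernel
theorem gradeOK_E7 : gradeOK chevE7 [4658, 5691, 7858, 10896, 8189, 5464, 2733] = true := by decide +kernel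
theorem convexAll_E7 : allFrom (convexRowOK chevE7) 63 63 = true := by decide +kernel

theorem ufacts_E7 : UFacts chevE7 where
  half := posHalf_E7
  negNe := negNeOK_all chevE7 (by simp)
  unit := corootUnit_E7
  convex := by
    intro r h1 h2
    have h1' : 63 ≤ r := h1
    have h2' : r < 126 := h2
    exact allFrom_elim _ _ _ convexAll_E7 r h1' (by omega)
  grade := ⟨_, gradeOK_E7⟩

theorem posHalf_E8 : posHalfOK chevE8 = true := by decide +kernel
theorem corootUnit_E8 : corootUnitOK chevE8 = true := by decide +kernel
theorem gradeOK_E8 : gradeOK chevE8 [15188, 20838, 28189, 40947, 32786, 24598, 16401, 8201] = true := by decide +kernel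
theorem convexAll_E8 : allFrom (convexRowOK chevE8) 120 120 = true := by decide +kernel

theorem ufacts_E8 : UFacts chevE8 where
  half := posHalf_E8
  negNe := negNeOK_all chevE8 (by simp)
  unit := corootUnit_E8
  convex := by
    intro r h1 h2
    have h1' : 120 ≤ r := h1
    have h2' : r < 240 := h2
    exact allFrom_elim _ _ _ convexAll_E8 r h1' (by omega)
  grade := ⟨_, gradeOK_E8⟩

theorem ufacts_all (D : ChevalleyDatum)
    (hD : D ∈ [chevG2, chevB2, chevD4, chevF4, chevE6, chevE7, chevE8]) : UFacts D := by
  simp only [List.mem_cons, List.not_mem_nil, or_false] at hD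
  rcases hD with rfl | rfl | rfl | rfl | rfl | rfl | rfl
  · exact ufacts_G2
  · exact ufacts_B2
  · exact ufacts_D4
  · exact ufacts_F4
  · exact ufacts_E6
  · exact ufacts_E7
  · exact ufacts_E8

end Cfsg.Agent.Lib.Helper24
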