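import Cfsg.Agent.Lib.Helper24.UpNorm
import Cfsg.Prelude.Def_LieTypes
import Cfsg.Prelude.Def_ChevB2
import Cfsg.Prelude.Def_ChevD4

set_option autoImplicit false

namespace Cfsg.Agent.Lib.Helper24

open Cfsg.Lie

theorem simpleComm_G2_0 : simpleCommOK chevG2 0 = true := by decide +kernel
theorem simpleComm_G2_1 : simpleCommOK chevG2 1 = true := by decide +kernel

theorem simpleComm_G2 (i : ℕ) (hi : i < chevG2.rank) : simpleCommOK chevG2 i = true := by
  have hi' : i < 2 := hi
  interval_cases i
  · exact simpleComm_G2_0
  · exact simpleComm_G2_1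

theorem simpleComm_B2_0 : simpleCommOK chevB2 0 = true := by decide +kernel
theorem simpleComm_B2_1 : simpleCommOK chevB2 1 = true := by decide +kernel

theorem simpleComm_B2 (i : ℕ) (hi : i < chevB2.rank) : simpleCommOK chevB2 i = true := by
  have hi' : i < 2 := hi
  interval_cases i
  · exact simpleComm_B2_0
  · exact simpleComm_B2_1

theorem simpleComm_D4_0 : simpleCommOK chevD4 0 = true := by decide +kernel
theorem simpleComm_D4_1 : simpleCommOK chevD4 1 = true := by decide +kernel
theorem simpleComm_D4_2 : simpleCommOK chevD4 2 = true := by decide +kernel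
theorem simpleComm_D4_3 : simpleCommOK chevD4 3 = true := by decide +kernel

theorem simpleComm_D4 (i : ℕ) (hi : i < chevD4.rank) : simpleCommOK chevD4 i = true := by
  have hi' : i < 4 := hi
  interval_cases i
  · exact simpleComm_D4_0
  · exact simpleComm_D4_1
  · exact simpleComm_D4_2
  · exact simpleComm_D4_3

theorem simpleComm_F4_0 : simpleCommOK chevF4 0 = true := by decide +kernel
theorem simpleComm_F4_1 : simpleCommOK chevF4 1 = true := by decide +kernel
theorem simpleComm_F4_2 : simpleCommOK chevF4 2 = true := by decide +kernel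
theorem simpleComm_F4_3 : simpleCommOK chevF4 3 = true := by decide +kernel

theorem simpleComm_F4 (i : ℕ) (hi : i < chevF4.rank) : simpleCommOK chevF4 i = true := by
  have hi' : i < 4 := hi
  interval_cases i
  · exact simpleComm_F4_0
  · exact simpleComm_F4_1
  · exact simpleComm_F4_2
  · exact simpleComm_F4_3

theorem simpleComm_E6_0 : simpleCommOK chevE6 0 = true := by decide +kernel
theorem simpleComm_E6_1 : simpleCommOK chevE6 1 = true := by decide +kernel
theorem simpleComm_E6_2 : simpleCommOK chevE6 2 = true := by decide +kernel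
theorem simpleComm_E6_3 : simpleCommOK chevE6 3 = true := by decide +kernel
theorem simpleComm_E6_4 : simpleCommOK chevE6 4 = true := by decide +kernel
theorem simpleComm_E6_5 : simpleCommOK chevE6 5 = true := by decide +kernel

theorem simpleComm_E6 (i : ℕ) (hi : i < chevE6.rank) : simpleCommOK chevE6 i = true := by
  have hi' : i < 6 := hi
  interval_cases i
  · exact simpleComm_E6_0
  · exact simpleComm_E6_1
  · exact simpleComm_E6_2
  · exact simpleComm_E6_3
  · exact simpleComm_E6_4
  · exact simpleComm_E6_5

theorem simpleComm_E7_0 : simpleCommOK chevE7 0 = true := by decide +kernel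
theorem simpleComm_E7_1 : simpleCommOK chevE7 1 = true := by decide +kernel
theorem simpleComm_E7_2 : simpleCommOK chevE7 2 = true := by decide +kernel
theorem simpleComm_E7_3 : simpleCommOK chevE7 3 = true := by decide +kernel
theorem simpleComm_E7_4 : simpleCommOK chevE7 4 = true := by decide +kernel
theorem simpleComm_E7_5 : simpleCommOK chevE7 5 = true := by decide +kernel
theorem simpleComm_E7_6 : simpleCommOK chevE7 6 = true := by decide +kernel

theorem simpleComm_E7 (i : ℕ) (hi : i < chevE7.rank) : simpleCommOK chevE7 i = true := by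
  have hi' : i < 7 := hi
  interval_cases i
  · exact simpleComm_E7_0
  · exact simpleComm_E7_1
  · exact simpleComm_E7_2
  · exact simpleComm_E7_3
  · exact simpleComm_E7_4
  · exact simpleComm_E7_5
  · exact simpleComm_E7_6

theorem simpleComm_E8_0 : simpleCommOK chevE8 0 = true := by decide +kernel
theorem simpleComm_E8_1 : simpleCommOK chevE8 1 = true := by decide +kernel
theorem simpleComm_E8_2 : simpleCommOK chevE8 2 = true := by decide +kernel
theorem simpleComm_E8_3 : simpleCommOK chevE8 3 = true := by decide +kernel
theorem simpleComm_E8_4 : simpleCommOK chevE8 4 = true := by decide +kernel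
theorem simpleComm_E8_5 : simpleCommOK chevE8 5 = true := by decide +kernel
theorem simpleComm_E8_6 : simpleCommOK chevE8 6 = true := by decide +kernel
theorem simpleComm_E8_7 : simpleCommOK chevE8 7 = true := by decide +kernel

theorem simpleComm_E8 (i : ℕ) (hi : i < chevE8.rank) : simpleCommOK chevE8 i = true := by
  have hi' : i < 8 := hi
  interval_cases i
  · exact simpleComm_E8_0
  · exact simpleComm_E8_1
  · exact simpleComm_E8_2
  · exact simpleComm_E8_3
  · exact simpleComm_E8_4
  · exact simpleComm_E8_5
  · exact simpleComm_E8_6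
  · exact simpleComm_E8_7

theorem simpleCommOK_all (D : ChevalleyDatum)
    (hD : D ∈ [chevG2, chevB2, chevD4, chevF4, chevE6, chevE7, chevE8]) (i : ℕ) (hi : i < D.rank) :
    simpleCommOK D i = true := by
  simp only [List.mem_cons, List.not_mem_nil, or_false] at hD
  rcases hD with rfl | rfl | rfl | rfl | rfl | rfl | rfl
  · exact simpleComm_G2 i hi
  · exact simpleComm_B2 i hi
  · exact simpleComm_D4 i hi
  · exact simpleComm_F4 i hi
  · exact simpleComm_E6 i hi
  · exact simpleComm_E7 i hi
  · exact simpleComm_E8 i hi

end Cfsg.Agent.Lib.Helper24
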