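import Cfsg.Agent.Lib.Helper24.CellsE
import Cfsg.Agent.S1042
import Cfsg.Agent.Lib.Helper24.ParabTab
import Cfsg.Agent.Lib.Helper24.RankTab
import Cfsg.Agent.Lib.Helper24.UpTab
import Cfsg.Agent.Lib.Helper24.MonoTab
import Cfsg.Agent.Lib.Helper24.UFTab
import Cfsg.Agent.Lib.Helper24.FactsAll
import Cfsg.Agent.Lib.Helper24.RootTables
import Cfsg.Agent.Lib.Helper24.CoreTab

set_option autoImplicit false
set_option linter.unusedSimpArgs false

namespace Cfsg.Agent.Lib.Helper24

open Cfsg.Lie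

/-- all the verified facts, for the seven exceptional data -/
theorem env_of_facts {F : Type*} [Field F] (D : ChevalleyDatum)
    (hD : D ∈ [chevG2, chevB2, chevD4, chevF4, chevE6, chevE7, chevE8]) (tab : List ℕ)
    (orb : List (ℕ × ℕ × ℕ)) (hN : NFacts D tab) (hH : HNFacts D tab orb) (hC : CFacts D tab) :
    Nonempty (Env D F tab orb) := by
  obtain ⟨T, reps, hall, hreps⟩ := hC.pairs
  have hF := facts_all D hD
  have hCh : ChainOK D := ⟨tableOK_all D hD, hC.chain⟩
  have hUF := ufacts_all D hD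
  have hcomm : ∀ r < D.nroots, ∀ s < D.nroots, s ≠ r → s ≠ D.neg r → hF.QF F r s :=
    fun r hr s hs hrs hneg => hF.QF_of_comm r s
      (fun t u => hF.comm_formula hN hH hCh hC.negRev T reps hall hreps r s hr hs hrs hneg t u)
  have hUp : ∀ i < D.rank,
      D.rootSubgroup F (D.simple i) ≤ Subgroup.normalizer (Up D F i : Set (GL D.Idx F)) ∧
      Up D F i ⊔ D.rootSubgroup F (D.simple i) = D.posUnipotent F := by
    intro i hi
    have h := hF.Up_normal (F := F) hCh i
      (fun r hr s hs hrs hneg => hcomm r hr s hs hrs hneg) (simpleCommOK_all D hD i hi)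
    exact ⟨le_trans le_sup_left h.1, h.2⟩
  have hBN : D.borelSubgroup F ⊓ D.monomialSubgroup F = D.diagonalSubgroup F := by
    obtain ⟨tab', orb', hN', hH', hM⟩ := mfacts_all D hD
    exact (hF.pos_inf_monomial hN' hH' hM hUF).2
  obtain ⟨P, hB, hN', hPS⟩ := Cfsg.Agent.S1042.result (F := F) D hD
  exact ⟨{ hF := hF, hN := hN, hH := hH, hR := rootTableOK_all D hD, hNe := negNeOK_all D hD,
           hS := simpleSignOK_all D hD, hC := hCh, hU := hUF, hNR := hC.negRev, hcomm := hcomm,
           hRefl := reflPosOK_all D hD, hUp := hUp, P := P, hB := hB, hN' := hN', hPS := hPS,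
           hBN := hBN }⟩

/-- the combinatorial facts of a step, from the tables -/
theorem step_of_tables {D : ChevalleyDatum} {tab : List ℕ} {orb : List (ℕ × ℕ × ℕ)}
    (hN : NFacts D tab) (hH : HNFacts D tab orb) (hR : rootTableOK D = true)
    (hHalf : posHalfOK D = true) (hr16 : D.rank ≤ 16)
    (S J K Pm Par Ec Sg Cn : List ℕ) (Λ : List ℤ) (LV : ℕ)
    (hS : reflTabOK D tab S = true)
    (hK : (K.all fun i => Nat.blt i D.rank) = true) (hJK : (J.all fun j => K.contains j) = true)
    (hT : treeOK D.nroots S K Pm Par = true) (hE : edgeOK D S J K Pm Par Ec = true)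
    (hLT : levTabOK D Λ LV = true) (hL : levOK D S J Pm LV = true)
    (hSg : sigOK D LV Pm Sg Cn = true) :
    StepFacts D J K Par Cn.length ∧ LevFacts D J Par Cn.length Λ Cn := by
  have hS' := reflTabOK_spec hN hH S hS
  have hK' : ∀ i ∈ K, i < D.rank := by
    intro i hi
    have := List.all_eq_true.mp hK i hi
    simpa [Nat.blt_eq] using this
  have hJK' : ∀ j ∈ J, j ∈ K := by
    intro j hj
    have := List.all_eq_true.mp hJK j hj
    simpa using this
  have hJ' : ∀ j ∈ J, j < D.rank := fun j hj => hK' j (hJK' j hj)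
  have hsimple : ∀ i < D.rank, D.simple i < D.nroots := fun i hi => Facts.simple_lt hH i hi
  obtain ⟨hlen, hpar, htree⟩ := treeOK_spec hN S K Pm Par (fun i hi s hs => (hS' i hi s hs).1) hK' hT
  have hCnlen : Cn.length = Pm.length := by
    simp only [sigOK, Bool.and_eq_true] at hSg
    have := listEqMap_spec _ _ _ hSg.2
    rw [this, List.length_map]
  rw [hCnlen]
  have hedge := edgeOK_spec hN S J K Pm Par Ec hS' hK' hr16 hsimple hlen hpar
    (fun m hm => (htree m hm).2) hE
  refine ⟨⟨hJ', hK', hJK', by omega, fun m hm => (htree m hm).1, hedge⟩, ?_⟩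
  exact levFacts_of_tables hN hR hHalf S J K Pm Par Sg Cn Λ LV (fun i hi s hs => (hS' i hi s hs).1)
    hJ' hK' hsimple (fun m hm => (htree m hm).1) (fun m hm => (htree m hm).2) hLT hL hSg

section ends

variable {F : Type*} [Field F] {D : ChevalleyDatum} {tab : List ℕ} {orb : List (ℕ × ℕ × ℕ)}

theorem PL_nil (D : ChevalleyDatum) (F : Type*) [Field F] : PL D F [] = D.borelSubgroup F := by
  unfold PL ChevalleyDatum.parabolicSubgroup
  have : {g : GL D.Idx F | ∃ j ∈ {j : ℕ | j ∈ ([] : List ℕ)}, j < D.rank ∧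
      (g : Matrix D.Idx D.Idx F) = D.nMat F (D.simple j) 1} = ∅ := by
    ext g
    simp
  rw [this, Subgroup.closure_empty, sup_bot_eq]

theorem Env.PL_all (E : Env D F tab orb) (K : List ℕ) (hK : ∀ i < D.rank, i ∈ K) :
    PL D F K = D.group F := by
  apply le_antisymm (E.hF.PL_le_group E.hH K)
  rw [← (E.hF.borel_monomial (F := F) E.hR).2.2]
  apply sup_le (borel_le_PL D F K)
  apply le_trans (E.hF.monomial_le_closure_sup E.hN E.hH)
  apply sup_le
  · rw [Subgroup.closure_le]
    rintro g ⟨i, hi, rfl⟩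
    exact E.hF.nS_mem_PL K i (hK i hi) hi
  · exact le_trans (diagonal_le_borel D F) (borel_le_PL D F K)

theorem Env.card_borel [Fintype F] (E : Env D F tab orb) :
    Nat.card ↥(D.borelSubgroup F) =
      Fintype.card F ^ (D.nroots / 2) * Nat.card ↥(D.diagonalSubgroup F) := by
  let f : ↥(D.posUnipotent F) × ↥(D.diagonalSubgroup F) → ↥(D.borelSubgroup F) := fun x =>
    ⟨(x.1 : GL D.Idx F) * (x.2 : GL D.Idx F),
      Subgroup.mul_mem _ (pos_le_borel D F x.1.2) (diagonal_le_borel D F x.2.2)⟩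
  have hbij : Function.Bijective f := by
    constructor
    · rintro ⟨a, c⟩ ⟨a', c'⟩ h
      have h1 : (a : GL D.Idx F) * c = a' * c' := congrArg Subtype.val h
      have h2 : (a' : GL D.Idx F)⁻¹ * a = c' * (c : GL D.Idx F)⁻¹ := by
        calc (a' : GL D.Idx F)⁻¹ * a = (a' : GL D.Idx F)⁻¹ * (a * c) * (c : GL D.Idx F)⁻¹ := by group
          _ = (a' : GL D.Idx F)⁻¹ * (a' * c') * (c : GL D.Idx F)⁻¹ := by rw [h1]
          _ = _ := by group
      have h3 : (a' : GL D.Idx F)⁻¹ * a ∈ D.posUnipotent F ⊓ D.diagonalSubgroup F :=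
        ⟨Subgroup.mul_mem _ (Subgroup.inv_mem _ a'.2) a.2, by
          rw [h2]; exact Subgroup.mul_mem _ c'.2 (Subgroup.inv_mem _ c.2)⟩
      rw [E.hF.borel_semidirect.2, Subgroup.mem_bot] at h3
      have ha : (a : GL D.Idx F) = a' := (inv_mul_eq_one.mp h3).symm
      have hc : (c : GL D.Idx F) = c' := by
        rw [ha] at h1; exact mul_left_cancel h1
      exact Prod.ext (Subtype.ext ha) (Subtype.ext hc)
    · rintro ⟨g, hg⟩
      unfold ChevalleyDatum.borelSubgroup at hg
      obtain ⟨v, hv, h, hh, e⟩ := exists_mul_of_mem_sup_of_le_normalizer _ _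
        E.hF.diagonal_le_normalizer_pos g hg
      exact ⟨⟨⟨v, hv⟩, ⟨h, hh⟩⟩, Subtype.ext e.symm⟩
  rw [← Nat.card_eq_of_bijective f hbij, Nat.card_prod,
    E.hF.card_posUnipotent E.hC E.hU E.hNR E.hcomm]

end ends

end Cfsg.Agent.Lib.Helper24
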