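import Cfsg.Agent.Lib.Helper24.HNormal

set_option autoImplicit false
set_option linter.unusedSimpArgs false

namespace Cfsg.Agent.Lib.Helper24

open Cfsg.Lie

/-- the fundamental roots are positive, their coroots have a non-zero coefficient at their own node,
and the coroots of their negatives are supported at that node -/
def simpleSignOK (D : ChevalleyDatum) : Bool :=
  (List.range D.rank).all fun j => decide (D.IsPosRoot (D.simple j)) &&
    decide ((D.coroot.getD (D.simple j) #[]).getD j 0 ≠ 0) &&
    decide (D.neg (D.simple j) < D.nroots) &&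
    (List.range D.rank).all fun k =>
      decide (k = j) || decide ((D.coroot.getD (D.neg (D.simple j)) #[]).getD k 0 = 0)

section parab

variable {F : Type*} [Field F] {D : ChevalleyDatum} {tab : List ℕ} {orb : List (ℕ × ℕ × ℕ)}

theorem Facts.nS_mem_parabolic (hF : Facts D) (J : Set ℕ) (j : ℕ) (hj : j ∈ J) (hjr : j < D.rank) :
    (hF.nS j : GL D.Idx F) ∈ D.parabolicSubgroup F J := by
  unfold ChevalleyDatum.parabolicSubgroup
  apply Subgroup.mem_sup_right
  apply Subgroup.subset_closure
  exact ⟨j, hj, hjr, hF.nS_val j⟩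

theorem Facts.xGL_mem_parabolic_of_pos (hF : Facts D) (J : Set ℕ) (r : ℕ) (hr : D.IsPosRoot r) (t : F) :
    hF.xGL r t ∈ D.parabolicSubgroup F J := by
  unfold ChevalleyDatum.parabolicSubgroup ChevalleyDatum.borelSubgroup
  exact Subgroup.mem_sup_left (Subgroup.mem_sup_left (hF.xGL_mem_pos r hr t))

/-- root elements of the root subsystem lie in the parabolic subgroup -/
theorem Facts.xGL_mem_parabolic (hF : Facts D) (hN : NFacts D tab) (hH : HNFacts D tab orb)
    (hS : simpleSignOK D = true) (J : Set ℕ) (r : ℕ) (hr : D.InRootSub J r) (t : F) :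
    hF.xGL r t ∈ D.parabolicSubgroup F J := by
  simp only [simpleSignOK, List.all_eq_true, List.mem_range, Bool.and_eq_true, Bool.or_eq_true,
    decide_eq_true_eq] at hS
  refine orbit_induction D tab orb hH.orbit
    (fun r => (∀ k < D.rank, k ∉ J → (D.coroot.getD r #[]).getD k 0 = 0) →
      ∀ t : F, hF.xGL r t ∈ D.parabolicSubgroup F J) ?_ ?_ r hr.1 hr.2 t
  · intro j hj _ _ _ t
    exact hF.xGL_mem_parabolic_of_pos J _ (hS j hj).1.1.1 t
  · intro r i r' hi hr' hw hsupp hQ hJ t
    rw [wfast_eq D _ i (hH.perm i hi) r' hr'] at hw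
    subst hw
    simp only [suppCond, Bool.and_eq_true, decide_eq_true_eq, List.all_eq_true, List.mem_range,
      Bool.or_eq_true] at hsupp
    obtain ⟨hi0, hsub⟩ := hsupp
    have hiJ : i ∈ J := by
      by_contra hni
      exact hi0 (hJ i hi hni)
    have hJ' : ∀ k < D.rank, k ∉ J → (D.coroot.getD r' #[]).getD k 0 = 0 := by
      intro k hk hkJ
      rcases hsub k hk with h | h
      · exact absurd (hJ k hk hkJ) h
      · exact h
    have hx := hQ hJ' (((etaT D (tab.getD i 0) r' : ℤ) : F) * t)
    have hn := hF.nS_mem_parabolic (F := F) J i hiJ hi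
    have hc := hF.nS_conj' (F := F) hN i hi r' hr' (((etaT D (tab.getD i 0) r' : ℤ) : F) * t)
    have e : ((etaT D (tab.getD i 0) r' : ℤ) : F) * (((etaT D (tab.getD i 0) r' : ℤ) : F) * t) = t := by
      rcases etaT_cases D (tab.getD i 0) r' with h | h <;> rw [h] <;> simp
    rw [e] at hc
    rw [← hc]
    exact Subgroup.mul_mem _ (Subgroup.mul_mem _ hn hx) (Subgroup.inv_mem _ hn)

/-- S1047 -/
theorem Facts.parabolic_eq (hF : Facts D) (hN : NFacts D tab) (hH : HNFacts D tab orb)
    (hS : simpleSignOK D = true) (J : Set ℕ) :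
    D.parabolicSubgroup F J = D.diagonalSubgroup F ⊔
      Subgroup.closure {g : GL D.Idx F | ∃ (r : ℕ) (t : F), (D.IsPosRoot r ∨ D.InRootSub J r) ∧
        (g : Matrix D.Idx D.Idx F) = D.x F r t} := by
  have hS' := hS
  simp only [simpleSignOK, List.all_eq_true, List.mem_range, Bool.and_eq_true, Bool.or_eq_true,
    decide_eq_true_eq] at hS'
  apply le_antisymm
  · unfold ChevalleyDatum.parabolicSubgroup ChevalleyDatum.borelSubgroup
    apply sup_le
    · apply sup_le
      · apply le_trans _ le_sup_right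
        unfold ChevalleyDatum.posUnipotent
        apply Subgroup.closure_mono
        rintro g ⟨r, t, hr, hg⟩
        exact ⟨r, t, Or.inl hr, hg⟩
      · exact le_sup_left
    · apply le_trans _ le_sup_right
      rw [Subgroup.closure_le]
      rintro g ⟨j, hjJ, hj, hg⟩
      have hgn : g = hF.nS j := Units.ext (by rw [hg, hF.nS_val])
      rw [hgn]
      unfold Facts.nS
      rw [hF.nGL_def]
      obtain ⟨⟨⟨hpos, _⟩, hneg⟩, hnegsupp⟩ := hS' j hj
      have h1 : hF.xGL (D.simple j) (1 : F) ∈ Subgroup.closure {g : GL D.Idx F | ∃ (r : ℕ) (t : F),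
          (D.IsPosRoot r ∨ D.InRootSub J r) ∧ (g : Matrix D.Idx D.Idx F) = D.x F r t} :=
        Subgroup.subset_closure ⟨_, _, Or.inl hpos, rfl⟩
      have h2 : hF.xGL (D.neg (D.simple j)) (-(1 : F)⁻¹) ∈ Subgroup.closure {g : GL D.Idx F |
          ∃ (r : ℕ) (t : F), (D.IsPosRoot r ∨ D.InRootSub J r) ∧
            (g : Matrix D.Idx D.Idx F) = D.x F r t} := by
        apply Subgroup.subset_closure
        refine ⟨_, _, Or.inr ⟨hneg, ?_⟩, rfl⟩
        intro k hk hkJ
        rcases hnegsupp k hk with h | h
        · subst h; exact absurd hjJ hkJ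
        · exact h
      exact Subgroup.mul_mem _ (Subgroup.mul_mem _ h1 h2) h1
  · apply sup_le
    · unfold ChevalleyDatum.parabolicSubgroup ChevalleyDatum.borelSubgroup
      exact le_trans le_sup_right le_sup_left
    · rw [Subgroup.closure_le]
      rintro g ⟨r, t, hr, hg⟩
      rw [hF.eq_xGL g r t hg]
      rcases hr with hr | hr
      · exact hF.xGL_mem_parabolic_of_pos J r hr t
      · exact hF.xGL_mem_parabolic hN hH hS J r hr t

end parab

end Cfsg.Agent.Lib.Helper24
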