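import Cfsg.Agent.Lib.Helper24.UFact
import Cfsg.Agent.Lib.Helper24.Parab

set_option autoImplicit false
set_option linter.unusedSimpArgs false

namespace Cfsg.Agent.Lib.Helper24

open Cfsg.Lie

section matrices

variable {m : Type*} [Fintype m] [DecidableEq m] {F : Type*} [Field F]

/-- the non-zero entries preserve the grading `g` -/
def IsLevel (g : m → ℤ) (M : Matrix m m F) : Prop := ∀ a b, M a b ≠ 0 → g a = g b

omit [Fintype m] in
theorem IsLevel.one (g : m → ℤ) : IsLevel g (1 : Matrix m m F) := by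
  intro a b h
  by_cases hab : a = b
  · rw [hab]
  · exact absurd (Matrix.one_apply_ne hab) h

omit [DecidableEq m] in
theorem IsLevel.mul {g : m → ℤ} {M N : Matrix m m F} (hM : IsLevel g M) (hN : IsLevel g N) :
    IsLevel g (M * N) := by
  intro a b h
  rw [Matrix.mul_apply] at h
  obtain ⟨k, _, hk⟩ := Finset.exists_ne_zero_of_sum_ne_zero h
  exact (hM a k (left_ne_zero_of_mul hk)).trans (hN k b (right_ne_zero_of_mul hk))

/-- ones on the diagonal, and the other non-zero entries raise the grading -/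
def IsUni (g : m → ℤ) (M : Matrix m m F) : Prop := (∀ a, M a a = 1) ∧ IsUpper g 0 M

omit [Fintype m] in
theorem IsUni.one (g : m → ℤ) : IsUni g (1 : Matrix m m F) :=
  ⟨fun a => Matrix.one_apply_eq a, IsUpper.one g 0⟩

theorem IsUni.mul {g : m → ℤ} {M N : Matrix m m F} (hM : IsUni g M) (hN : IsUni g N) :
    IsUni g (M * N) := by
  refine ⟨fun a => ?_, IsUpper.mul (le_refl 0) hM.2 hN.2⟩
  rw [Matrix.mul_apply, Finset.sum_eq_single a]
  · rw [hM.1 a, hN.1 a, mul_one]
  · intro k _ hka
    by_contra h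
    have h1 := hM.2 a k (Ne.symm hka) (left_ne_zero_of_mul h)
    have h2 := hN.2 k a hka (right_ne_zero_of_mul h)
    omega
  · intro h; exact absurd (Finset.mem_univ a) h

omit [Fintype m] in
theorem eq_one_of_isLevel_of_isUni {g : m → ℤ} {M : Matrix m m F} (hL : IsLevel g M)
    (hU : IsUni g M) : M = 1 := by
  ext a b
  by_cases hab : a = b
  · subst hab; rw [hU.1 a, Matrix.one_apply_eq]
  · rw [Matrix.one_apply_ne hab]
    by_contra h
    have h1 := hL a b h
    have h2 := hU.2 a b hab h
    omega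

/-- invertible matrices which, with their inverses, preserve the grading -/
def levelGL (g : m → ℤ) : Subgroup (GL m F) where
  carrier := {x | IsLevel g (x : Matrix m m F) ∧ IsLevel g ((x⁻¹ : GL m F) : Matrix m m F)}
  one_mem' := ⟨IsLevel.one g, by rw [inv_one]; exact IsLevel.one g⟩
  mul_mem' := by
    rintro x y ⟨hx, hx'⟩ ⟨hy, hy'⟩
    refine ⟨by rw [Units.val_mul]; exact hx.mul hy, ?_⟩
    rw [mul_inv_rev, Units.val_mul]; exact hy'.mul hx'
  inv_mem' := by
    rintro x ⟨hx, hx'⟩
    exact ⟨hx', by rw [inv_inv]; exact hx⟩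

/-- invertible matrices which, with their inverses, are unitriangular for the grading -/
def uniGL (g : m → ℤ) : Subgroup (GL m F) where
  carrier := {x | IsUni g (x : Matrix m m F) ∧ IsUni g ((x⁻¹ : GL m F) : Matrix m m F)}
  one_mem' := ⟨IsUni.one g, by rw [inv_one]; exact IsUni.one g⟩
  mul_mem' := by
    rintro x y ⟨hx, hx'⟩ ⟨hy, hy'⟩
    refine ⟨by rw [Units.val_mul]; exact hx.mul hy, ?_⟩
    rw [mul_inv_rev, Units.val_mul]; exact hy'.mul hx'
  inv_mem' := by
    rintro x ⟨hx, hx'⟩
    exact ⟨hx', by rw [inv_inv]; exact hx⟩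

theorem uniGL_inf_levelGL (g : m → ℤ) : uniGL g ⊓ levelGL g = (⊥ : Subgroup (GL m F)) := by
  rw [eq_bot_iff]
  rintro x ⟨h1, h2⟩
  rw [Subgroup.mem_bot]
  exact Units.ext (eq_one_of_isLevel_of_isUni h2.1 h1.1)

end matrices

theorem array_getD_nonneg (a : Array ℤ) (h : ∀ c ∈ a.toList, 0 ≤ c) (k : ℕ) : 0 ≤ a.getD k 0 := by
  by_cases hk : k < a.size
  · have : a.getD k 0 = a[k] := by simp [Array.getD, hk]
    rw [this]
    exact h _ (Array.getElem_mem_toList hk)
  · have : a.getD k 0 = 0 := by simp [Array.getD, hk]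
    rw [this]

theorem array_getD_nonpos (a : Array ℤ) (h : ∀ c ∈ a.toList, c ≤ 0) (k : ℕ) : a.getD k 0 ≤ 0 := by
  by_cases hk : k < a.size
  · have : a.getD k 0 = a[k] := by simp [Array.getD, hk]
    rw [this]
    exact h _ (Array.getElem_mem_toList hk)
  · have : a.getD k 0 = 0 := by simp [Array.getD, hk]
    rw [this]

/-! the `J`-grading -/

open Classical in
/-- the nodes outside `J` -/
noncomputable def outJ (D : ChevalleyDatum) (J : Set ℕ) : List ℕ :=
  (List.range D.rank).filter fun k => decide (k ∉ J)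

theorem mem_outJ (D : ChevalleyDatum) (J : Set ℕ) (k : ℕ) : k ∈ outJ D J ↔ k < D.rank ∧ k ∉ J := by
  simp [outJ]

/-- the weights of the `J`-grading -/
noncomputable def weightJ (D : ChevalleyDatum) (Λs : List (List ℤ)) (J : Set ℕ) : List ℤ :=
  (List.range D.rank).map fun i => ((outJ D J).map fun k => (Λs.getD k []).getD i 0).sum

theorem sum_exchange (K I : List ℕ) (f : ℕ → ℕ → ℤ) (E : ℕ → ℤ) :
    (I.map fun i => ((K.map fun k => f k i).sum) * E i).sum =
      (K.map fun k => (I.map fun i => f k i * E i).sum).sum := by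
  induction K with
  | nil => simp
  | cons k K ih =>
    simp only [List.map_cons, List.sum_cons]
    rw [← ih, ← List.sum_map_add]
    congr 1
    apply List.map_congr_left
    intro i _
    ring

theorem gradeE_weightJ (D : ChevalleyDatum) (Λs : List (List ℤ)) (J : Set ℕ) (a : ℕ) :
    gradeE D (weightJ D Λs J) a = ((outJ D J).map fun k => gradeE D (Λs.getD k []) a).sum := by
  unfold gradeE
  rw [← sum_exchange]
  congr 1
  apply List.map_congr_left
  intro i hi
  congr 1
  unfold weightJ
  rw [List.getD_eq_getElem?_getD, List.getElem?_map, List.getElem?_range (List.mem_range.mp hi)]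
  rfl

/-- the weight vectors `Λs` compute (positive multiples of) the coordinates of the roots, which have the
signs of the coordinates of the coroots -/
def rootCoordOK (D : ChevalleyDatum) (Λs : List (List ℤ)) : Bool :=
  allBelow (fun r => forceNat r fun r' => (List.range D.rank).all fun k =>
    (decide (0 < (D.coroot.getD r' #[]).getD k 0) == decide (0 < gradeF D (Λs.getD k []) r')) &&
    (decide ((D.coroot.getD r' #[]).getD k 0 < 0) == decide (gradeF D (Λs.getD k []) r' < 0)))
    D.nroots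

theorem rootCoordOK_spec (D : ChevalleyDatum) (hC : cartanFOK D = true) (Λs : List (List ℤ))
    (h : rootCoordOK D Λs = true) (r : ℕ) (hr : r < D.nroots) (k : ℕ) (hk : k < D.rank) :
    (0 < (D.coroot.getD r #[]).getD k 0 ↔ 0 < gradeE D (Λs.getD k []) (D.rank + r)) ∧
    ((D.coroot.getD r #[]).getD k 0 < 0 ↔ gradeE D (Λs.getD k []) (D.rank + r) < 0) := by
  have h1 := allBelow_elim _ _ h r hr
  simp only [forceNat_eq, List.all_eq_true, List.mem_range, Bool.and_eq_true, beq_iff_eq,
    decide_eq_decide] at h1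
  rw [← gradeF_eq D hC _ r hr]
  exact h1 k hk

theorem gradeJ_eq_zero (D : ChevalleyDatum) (hC : cartanFOK D = true) (Λs : List (List ℤ))
    (hRC : rootCoordOK D Λs = true) (J : Set ℕ) (r : ℕ) (hr : D.InRootSub J r) :
    gradeE D (weightJ D Λs J) (D.rank + r) = 0 := by
  rw [gradeE_weightJ]
  apply List.sum_eq_zero
  intro x hx
  simp only [List.mem_map] at hx
  obtain ⟨k, hk, rfl⟩ := hx
  obtain ⟨hk1, hk2⟩ := (mem_outJ D J k).mp hk
  have h0 := hr.2 k hk1 hk2
  obtain ⟨h1, h2⟩ := rootCoordOK_spec D hC Λs hRC r hr.1 k hk1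
  rw [h0] at h1 h2
  have h3 := h1.not.mp (lt_irrefl 0)
  have h4 := h2.not.mp (lt_irrefl 0)
  omega

theorem gradeJ_pos (D : ChevalleyDatum) (hC : cartanFOK D = true) (Λs : List (List ℤ))
    (hRC : rootCoordOK D Λs = true) (J : Set ℕ) (r : ℕ) (hr : D.IsPosRoot r)
    (hnr : ¬ D.InRootSub J r) : 0 < gradeE D (weightJ D Λs J) (D.rank + r) := by
  have hex : ∃ k, k < D.rank ∧ k ∉ J ∧ (D.coroot.getD r #[]).getD k 0 ≠ 0 := by
    by_contra hcon
    push Not at hcon
    exact hnr ⟨hr.1, hcon⟩
  obtain ⟨k0, hk0, hk0J, hne⟩ := hex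
  have hnn : ∀ k, 0 ≤ (D.coroot.getD r #[]).getD k 0 := fun k => array_getD_nonneg _ hr.2 k
  have hpos : 0 < (D.coroot.getD r #[]).getD k0 0 := lt_of_le_of_ne (hnn k0) (Ne.symm hne)
  have hM0 := (rootCoordOK_spec D hC Λs hRC r hr.1 k0 hk0).1.mp hpos
  rw [gradeE_weightJ]
  apply lt_of_lt_of_le hM0
  apply List.single_le_sum
  · intro x hx
    simp only [List.mem_map] at hx
    obtain ⟨k, hk, rfl⟩ := hx
    obtain ⟨hk1, _⟩ := (mem_outJ D J k).mp hk
    have h2 := (rootCoordOK_spec D hC Λs hRC r hr.1 k hk1).2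
    by_contra hlt
    push Not at hlt
    have := h2.mpr hlt
    have := hnn k
    omega
  · rw [List.mem_map]
    exact ⟨k0, (mem_outJ D J k0).mpr ⟨hk0, hk0J⟩, rfl⟩

/-! table checks for the normaliser of `U_J` -/

/-- the coroot of `-s` is the negative of the coroot of `s` -/
def corootNegOK (D : ChevalleyDatum) : Bool :=
  allBelow (fun s => forceNat s fun s' => forceNat (D.neg s') fun q =>
    (List.range D.rank).all fun k =>
      decide ((D.coroot.getD q #[]).getD k 0 = -((D.coroot.getD s' #[]).getD k 0))) D.nroots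

/-- every root is positive or negative -/
def posOrNegOK (D : ChevalleyDatum) : Bool :=
  allBelow (fun r => decide (D.IsPosRoot r) || decide (D.IsNegRoot r)) D.nroots

/-- for a positive root `r`, any root `s` and a term `c` of the commutator formula for `(s, r)`: a
coordinate of the coroot of `c` is positive when it is positive for `r` and non-negative for `s` -/
def leviRowOK (D : ChevalleyDatum) (r : ℕ) : Bool :=
  forceNat r fun r' => allBelow (fun s => forceNat s fun s' =>
    (commTermsQ D s' r').all fun c => forceNat c.1 fun c' =>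
      Nat.blt c' D.nroots && (List.range D.rank).all fun k =>
        !(decide (0 < (D.coroot.getD r' #[]).getD k 0)) ||
        !(decide (0 ≤ (D.coroot.getD s' #[]).getD k 0)) ||
        decide (0 < (D.coroot.getD c' #[]).getD k 0)) D.nroots

def LeviOK (D : ChevalleyDatum) : Prop :=
  ∀ r, D.nroots / 2 ≤ r → r < D.nroots → leviRowOK D r = true

theorem LeviOK.spec {D : ChevalleyDatum} (h : LeviOK D) (hH : posHalfOK D = true) (s r : ℕ)
    (hs : s < D.nroots) (hr : D.IsPosRoot r) (c : ℕ × ℤ × ℕ × ℕ) (hc : c ∈ commTermsQ D s r) :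
    c.1 < D.nroots ∧ ∀ k < D.rank, 0 < (D.coroot.getD r #[]).getD k 0 →
      0 ≤ (D.coroot.getD s #[]).getD k 0 → 0 < (D.coroot.getD c.1 #[]).getD k 0 := by
  obtain ⟨h1, h2⟩ := (posHalf_spec D hH r).mp hr
  have h3 := h r h1 h2
  simp only [leviRowOK, forceNat_eq] at h3
  have h4 := allBelow_elim _ _ h3 s hs
  simp only [forceNat_eq, List.all_eq_true, Bool.and_eq_true, Nat.blt_eq, List.mem_range,
    Bool.or_eq_true, Bool.not_eq_true', decide_eq_false_iff_not, decide_eq_true_eq] at h4
  obtain ⟨h5, h6⟩ := h4 c hc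
  refine ⟨h5, fun k hk hrk hsk => ?_⟩
  rcases h6 k hk with (h7 | h7) | h7
  · exact absurd hrk h7
  · exact absurd hsk h7
  · exact h7

section levi

variable {F : Type*} [Field F] {D : ChevalleyDatum} {tab : List ℕ} {orb : List (ℕ × ℕ × ℕ)}

/-- a refinement of `x_entry_grade` including the diagonal entries -/
theorem Facts.x_entry_sub (hF : Facts D) (Λ : List ℤ) (r : ℕ) (hr : r < D.nroots) (t : F)
    (a b : D.Idx) (hne : D.x F r t a b ≠ (if a = b then 1 else 0)) :
    ∃ e : ℕ, 1 ≤ e ∧
      gradeE D Λ (enc D a) = (e : ℤ) * gradeE D Λ (D.rank + r) + gradeE D Λ (enc D b) := by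
  unfold ChevalleyDatum.x at hne
  rw [dif_pos hr, xMat_entry] at hne
  by_contra hcon
  apply hne
  have hz : ((fullShape D r (enc D b)).map fun e =>
      if e.1 = enc D a then ((e.2.1 : ℤ) : F) * t ^ e.2.2 else 0).sum = 0 := by
    apply List.sum_eq_zero
    intro x hx
    simp only [List.mem_map] at hx
    obtain ⟨e, he, rfl⟩ := hx
    split_ifs with h
    · exfalso
      exact hcon ⟨e.2.2, fullShape_exp_pos D r _ e he, hF.gradeE_compat Λ r hr a b e he h⟩
    · rfl
  rw [hz, add_zero]
  by_cases hab : a = b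
  · subst hab; simp
  · rw [if_neg hab, if_neg (fun h => hab (enc_injective D h).symm)]

theorem Facts.x_isLevel (hF : Facts D) (Λ : List ℤ) (s : ℕ) (hs : s < D.nroots)
    (h0 : gradeE D Λ (D.rank + s) = 0) (u : F) :
    IsLevel (fun a : D.Idx => gradeE D Λ (enc D a)) (D.x F s u) := by
  intro a b h
  by_cases hab : a = b
  · rw [hab]
  · obtain ⟨e, _, heq⟩ := hF.x_entry_grade Λ s hs u a b hab h
    simp only
    rw [heq, h0, mul_zero, zero_add]

theorem Facts.x_isUni (hF : Facts D) (Λ : List ℤ) (s : ℕ) (hs : s < D.nroots)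
    (h0 : 0 < gradeE D Λ (D.rank + s)) (u : F) :
    IsUni (fun a : D.Idx => gradeE D Λ (enc D a)) (D.x F s u) := by
  refine ⟨fun a => ?_, hF.x_isUpper Λ 0 (le_refl 0) s hs h0 u⟩
  by_contra h
  obtain ⟨e, he, heq⟩ := hF.x_entry_sub Λ s hs u a a (by rw [if_pos rfl]; exact h)
  have h1 : (0 : ℤ) < (e : ℤ) * gradeE D Λ (D.rank + s) := mul_pos (by exact_mod_cast he) h0
  linarith

theorem Facts.xGL_mem_levelGL (hF : Facts D) (Λ : List ℤ) (s : ℕ) (hs : s < D.nroots)
    (h0 : gradeE D Λ (D.rank + s) = 0) (u : F) :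
    hF.xGL s u ∈ levelGL (F := F) (fun a : D.Idx => gradeE D Λ (enc D a)) :=
  ⟨hF.x_isLevel Λ s hs h0 u, by rw [hF.xGL_inv]; exact hF.x_isLevel Λ s hs h0 (-u)⟩

theorem Facts.xGL_mem_uniGL (hF : Facts D) (Λ : List ℤ) (s : ℕ) (hs : s < D.nroots)
    (h0 : 0 < gradeE D Λ (D.rank + s)) (u : F) :
    hF.xGL s u ∈ uniGL (F := F) (fun a : D.Idx => gradeE D Λ (enc D a)) :=
  ⟨hF.x_isUni Λ s hs h0 u, by rw [hF.xGL_inv]; exact hF.x_isUni Λ s hs h0 (-u)⟩

theorem Facts.diagonal_le_levelGL (hF : Facts D) (g : D.Idx → ℤ) :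
    D.diagonalSubgroup F ≤ levelGL (F := F) g := by
  intro h hh
  have h1 := hF.diagonal_le_diagSub hh
  have h2 := hF.diagonal_le_diagSub (Subgroup.inv_mem _ hh)
  constructor
  · intro a b hne
    by_contra hab
    exact hne (h1 a b (fun e => hab (by rw [e])))
  · intro a b hne
    by_contra hab
    exact hne (h2 a b (fun e => hab (by rw [e])))

theorem unipotentRadical_eq (D : ChevalleyDatum) (F : Type*) [Field F] (J : Set ℕ) :
    D.unipotentRadical F J = rootClosure D F (fun r => D.IsPosRoot r ∧ ¬ D.InRootSub J r) := by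
  unfold ChevalleyDatum.unipotentRadical rootClosure
  congr 1
  ext g
  simp only [Set.mem_setOf_eq, and_assoc]

/-- `U_J ∩ L_J = 1` -/
theorem Facts.radical_inf_levi (hF : Facts D) (Λs : List (List ℤ)) (hRC : rootCoordOK D Λs = true)
    (J : Set ℕ) : D.unipotentRadical F J ⊓ D.leviSubgroup F J = ⊥ := by
  rw [eq_bot_iff, ← uniGL_inf_levelGL (F := F) (fun a : D.Idx => gradeE D (weightJ D Λs J) (enc D a))]
  apply inf_le_inf
  · unfold ChevalleyDatum.unipotentRadical
    rw [Subgroup.closure_le]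
    rintro g ⟨r, t, hr, hnr, hg⟩
    rw [hF.eq_xGL g r t hg]
    exact hF.xGL_mem_uniGL _ r hr.1 (gradeJ_pos D hF.cartanF Λs hRC J r hr hnr) t
  · unfold ChevalleyDatum.leviSubgroup
    apply sup_le (hF.diagonal_le_levelGL _)
    rw [Subgroup.closure_le]
    rintro g ⟨r, t, hr, hg⟩
    rw [hF.eq_xGL g r t hg]
    exact hF.xGL_mem_levelGL _ r hr.1 (gradeJ_eq_zero D hF.cartanF Λs hRC J r hr) t

/-- the generators of `H` normalise the subgroup generated by the `X_s`, `s ∈ R` -/
theorem Facts.hgen_mem_normalizer_rootClosure (hF : Facts D) (R : ℕ → Prop)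
    (hR : ∀ s, R s → s < D.nroots) (g : GL D.Idx F) (r : ℕ) (hr : r < D.nroots) (c : F)
    (hc : c ≠ 0) (hg : (g : Matrix D.Idx D.Idx F) = D.hMat F r c) :
    g ∈ Subgroup.normalizer (rootClosure D F R : Set (GL D.Idx F)) := by
  unfold rootClosure
  apply mem_normalizer_closure
  · rintro x ⟨s, t, hs, hx⟩
    rw [hF.eq_xGL x s t hx, hF.hgen_mul_xGL g r hr c hc hg s (hR s hs) t]
    exact Subgroup.subset_closure ⟨s, _, hs, rfl⟩
  · rintro x ⟨s, t, hs, hx⟩
    rw [hF.eq_xGL x s t hx, hF.hgen_inv_mul_xGL g r hr c hc hg s (hR s hs) t]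
    exact Subgroup.subset_closure ⟨s, _, hs, rfl⟩

/-- the verified facts used for the Levi decomposition -/
structure LFactsJ (D : ChevalleyDatum) : Prop where
  half : posHalfOK D = true
  negNe : negNeOK D = true
  corNeg : corootNegOK D = true
  posNeg : posOrNegOK D = true
  levi : LeviOK D
  coord : ∃ Λs : List (List ℤ), rootCoordOK D Λs = true

/-- `P_J` normalises `U_J` -/
theorem Facts.parabolic_le_normalizer (hF : Facts D) (hN : NFacts D tab) (hH : HNFacts D tab orb)
    (hC : ChainOK D) (hS : simpleSignOK D = true) (hL : LFactsJ D)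
    (hcomm : ∀ r < D.nroots, ∀ s < D.nroots, s ≠ r → s ≠ D.neg r → hF.QF F r s) (J : Set ℕ) :
    D.parabolicSubgroup F J ≤ Subgroup.normalizer (D.unipotentRadical F J : Set (GL D.Idx F)) := by
  rw [hF.parabolic_eq hN hH hS J, unipotentRadical_eq]
  have hRlt : ∀ s, (D.IsPosRoot s ∧ ¬ D.InRootSub J s) → s < D.nroots := fun s hs => hs.1.1
  apply sup_le
  · unfold ChevalleyDatum.diagonalSubgroup
    rw [Subgroup.closure_le]
    rintro g ⟨r, c, hr, hc, hg⟩
    exact hF.hgen_mem_normalizer_rootClosure _ hRlt g r hr c hc hg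
  · rw [Subgroup.closure_le]
    rintro g ⟨s, u, hs, hg⟩
    rw [hF.eq_xGL g s u hg]
    by_cases hsJ : D.InRootSub J s
    · -- `s ∈ Φ_J`
      have hnegJ : D.InRootSub J (D.neg s) := by
        have h1 := allBelow_elim _ _ hL.negNe s hsJ.1
        simp only [Bool.and_eq_true, decide_eq_true_eq] at h1
        refine ⟨h1.1, fun k hk hkJ => ?_⟩
        have h2 := allBelow_elim _ _ hL.corNeg s hsJ.1
        simp only [forceNat_eq, List.all_eq_true, List.mem_range, decide_eq_true_eq] at h2
        rw [h2 k hk, hsJ.2 k hk hkJ, neg_zero]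
      apply hF.xGL_mem_normalizer_rootClosure hC _ s hsJ.1 hRlt
      · rintro r ⟨hr, hnr⟩
        apply hcomm s hsJ.1 r hr.1
        · rintro rfl; exact hnr hsJ
        · rintro rfl; exact hnr hnegJ
      · rintro r ⟨hr, hnr⟩ c hc
        obtain ⟨hclt, hck⟩ := hL.levi.spec hL.half s r hsJ.1 hr c hc
        have hex : ∃ k, k < D.rank ∧ k ∉ J ∧ (D.coroot.getD r #[]).getD k 0 ≠ 0 := by
          by_contra hcon
          push Not at hcon
          exact hnr ⟨hr.1, hcon⟩
        obtain ⟨k0, hk0, hk0J, hne⟩ := hex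
        have hpos : 0 < (D.coroot.getD r #[]).getD k0 0 :=
          lt_of_le_of_ne (array_getD_nonneg _ hr.2 k0) (Ne.symm hne)
        have hc0 := hck k0 hk0 hpos (le_of_eq (hsJ.2 k0 hk0 hk0J).symm)
        constructor
        · have h1 := allBelow_elim _ _ hL.posNeg c.1 hclt
          simp only [Bool.or_eq_true, decide_eq_true_eq] at h1
          rcases h1 with h1 | h1
          · exact h1
          · exfalso
            have := array_getD_nonpos _ h1.2 k0
            omega
        · intro hcJ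
          have := hcJ.2 k0 hk0 hk0J
          omega
    · -- `s` is a positive root outside `Φ_J`
      have hspos : D.IsPosRoot s := by
        rcases hs with h | h
        · exact h
        · exact absurd h hsJ
      apply Subgroup.le_normalizer
      exact hF.xGL_mem_rootClosure _ s ⟨hspos, hsJ⟩ u

/-- S1048 -/
theorem Facts.levi_decomposition (hF : Facts D) (hN : NFacts D tab) (hH : HNFacts D tab orb)
    (hC : ChainOK D) (hS : simpleSignOK D = true) (hL : LFactsJ D)
    (hcomm : ∀ r < D.nroots, ∀ s < D.nroots, s ≠ r → s ≠ D.neg r → hF.QF F r s) (J : Set ℕ) :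
    D.parabolicSubgroup F J ≤ Subgroup.normalizer (D.unipotentRadical F J : Set (GL D.Idx F)) ∧
      D.unipotentRadical F J ⊔ D.leviSubgroup F J = D.parabolicSubgroup F J ∧
      D.unipotentRadical F J ⊓ D.leviSubgroup F J = ⊥ := by
  refine ⟨hF.parabolic_le_normalizer hN hH hC hS hL hcomm J, ?_, ?_⟩
  · rw [hF.parabolic_eq hN hH hS J]
    apply le_antisymm
    · apply sup_le
      · apply le_trans _ le_sup_right
        unfold ChevalleyDatum.unipotentRadical
        apply Subgroup.closure_mono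
        rintro g ⟨r, t, hr, _, hg⟩
        exact ⟨r, t, Or.inl hr, hg⟩
      · unfold ChevalleyDatum.leviSubgroup
        apply sup_le le_sup_left
        apply le_trans _ le_sup_right
        apply Subgroup.closure_mono
        rintro g ⟨r, t, hr, hg⟩
        exact ⟨r, t, Or.inr hr, hg⟩
    · apply sup_le
      · apply le_trans _ le_sup_right
        unfold ChevalleyDatum.leviSubgroup
        exact le_sup_left
      · rw [Subgroup.closure_le]
        rintro g ⟨r, t, hr, hg⟩
        by_cases hrJ : D.InRootSub J r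
        · apply Subgroup.mem_sup_right
          unfold ChevalleyDatum.leviSubgroup
          apply Subgroup.mem_sup_right
          exact Subgroup.subset_closure ⟨r, t, hrJ, hg⟩
        · apply Subgroup.mem_sup_left
          have hrpos : D.IsPosRoot r := by
            rcases hr with h | h
            · exact h
            · exact absurd h hrJ
          exact Subgroup.subset_closure ⟨r, t, hrpos, hrJ, hg⟩
  · obtain ⟨Λs, hΛ⟩ := hL.coord
    exact hF.radical_inf_levi Λs hΛ J

end levi

end Cfsg.Agent.Lib.Helper24
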