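import Cfsg.Agent.Lib.Helper24.Mono

set_option autoImplicit false
set_option linter.unusedSimpArgs false

namespace Cfsg.Agent.Lib.Helper24

open Cfsg.Lie

section rootact

variable {F : Type*} [Field F] {D : ChevalleyDatum} {tab : List ℕ} {orb : List (ℕ × ℕ × ℕ)}

theorem torusEntry_ne_zero (D : ChevalleyDatum) (l : List ℕ) (c : ℕ → F) (hc : ∀ i, c i ≠ 0) (k : ℕ) :
    torusEntry D l c k ≠ 0 := by
  induction l with
  | nil => simp [torusEntry]
  | cons i rest ih =>
    simp only [torusEntry, List.map_cons, List.prod_cons] at ih ⊢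
    exact mul_ne_zero (zpow_ne_zero _ (hc i)) ih

/-- conjugation of root elements by an arbitrary element of `H` -/
theorem Facts.diag_conj (hF : Facts D) (h : GL D.Idx F) (hh : h ∈ D.diagonalSubgroup F) (s : ℕ)
    (hs : s < D.nroots) : ∃ c : F, c ≠ 0 ∧ ∀ t : F, h * hF.xGL s t * h⁻¹ = hF.xGL s (c * t) := by
  obtain ⟨cc, hcc, hdiag⟩ := hF.diagonal_torus h hh
  refine ⟨torusEntry D (List.range D.rank) cc (D.rank + s), torusEntry_ne_zero D _ cc hcc _, fun t => ?_⟩
  rw [mul_inv_eq_iff_eq_mul]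
  apply Units.ext
  rw [Units.val_mul, Units.val_mul, hdiag, Facts.xGL_val, Facts.xGL_val]
  unfold ChevalleyDatum.x
  rw [dif_pos hs, dif_pos hs]
  exact hF.torus_mul_xMat cc hcc ⟨s, hs⟩ t

/-- `g` permutes the root subgroups, compatibly with negation of roots -/
def RootAct (hF : Facts D) (g : GL D.Idx F) : Prop :=
  ∀ s < D.nroots, ∃ s' < D.nroots, ∃ c c' : F, c ≠ 0 ∧ c' ≠ 0 ∧
    (∀ t : F, g * hF.xGL s t * g⁻¹ = hF.xGL s' (c * t)) ∧
    (∀ t : F, g * hF.xGL (D.neg s) t * g⁻¹ = hF.xGL (D.neg s') (c' * t))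

theorem RootAct.mul {hF : Facts D} {g₁ g₂ : GL D.Idx F} (h₁ : RootAct hF g₁) (h₂ : RootAct hF g₂) :
    RootAct hF (g₁ * g₂) := by
  intro s hs
  obtain ⟨s2, hs2, c2, c2', hc2, hc2', e2, e2'⟩ := h₂ s hs
  obtain ⟨s1, hs1, c1, c1', hc1, hc1', e1, e1'⟩ := h₁ s2 hs2
  refine ⟨s1, hs1, c1 * c2, c1' * c2', mul_ne_zero hc1 hc2, mul_ne_zero hc1' hc2', fun t => ?_, fun t => ?_⟩
  · have : g₁ * g₂ * hF.xGL s t * (g₁ * g₂)⁻¹ = g₁ * (g₂ * hF.xGL s t * g₂⁻¹) * g₁⁻¹ := by group
    rw [this, e2, e1, mul_assoc]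
  · have : g₁ * g₂ * hF.xGL (D.neg s) t * (g₁ * g₂)⁻¹ =
        g₁ * (g₂ * hF.xGL (D.neg s) t * g₂⁻¹) * g₁⁻¹ := by group
    rw [this, e2', e1', mul_assoc]

/-- the subgroup of the elements which, with their inverses, permute the root subgroups -/
def actGL (hF : Facts D) (F : Type*) [Field F] : Subgroup (GL D.Idx F) where
  carrier := {g | RootAct (F := F) hF g ∧ RootAct hF g⁻¹}
  one_mem' := by
    have h1 : RootAct (F := F) hF 1 := by
      intro s hs
      exact ⟨s, hs, 1, 1, one_ne_zero, one_ne_zero, fun t => by simp, fun t => by simp⟩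
    exact ⟨h1, by rw [inv_one]; exact h1⟩
  mul_mem' := by
    rintro x y ⟨hx, hx'⟩ ⟨hy, hy'⟩
    exact ⟨hx.mul hy, by rw [mul_inv_rev]; exact hy'.mul hx'⟩
  inv_mem' := by
    rintro x ⟨hx, hx'⟩
    exact ⟨hx', by rw [inv_inv]; exact hx⟩

theorem Facts.diag_rootAct (hF : Facts D) (hR : rootTableOK D = true) (h : GL D.Idx F)
    (hh : h ∈ D.diagonalSubgroup F) : RootAct hF h := by
  intro s hs
  obtain ⟨_, hns, _⟩ := rootTableOK_spec D hR s hs
  obtain ⟨c, hc, e⟩ := hF.diag_conj h hh s hs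
  obtain ⟨c', hc', e'⟩ := hF.diag_conj h hh (D.neg s) hns
  exact ⟨s, hs, c, c', hc, hc', e, e'⟩

theorem Facts.diagonal_le_actGL (hF : Facts D) (hR : rootTableOK D = true) :
    D.diagonalSubgroup F ≤ actGL hF F := fun h hh =>
  ⟨hF.diag_rootAct hR h hh, hF.diag_rootAct hR _ (Subgroup.inv_mem _ hh)⟩

theorem etaT_cast_ne_zero (D : ChevalleyDatum) (P s : ℕ) : ((etaT D P s : ℤ) : F) ≠ 0 := by
  rcases etaT_cases D P s with h | h <;> rw [h] <;> simp

theorem Facts.nS_rootAct (hF : Facts D) (hN : NFacts D tab) (hH : HNFacts D tab orb) (i : ℕ)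
    (hi : i < D.rank) : RootAct (F := F) hF (hF.nS i) := by
  intro s hs
  have hc := allBelow_elim _ _ (hH.negc i hi) s hs
  simp only [Bool.and_eq_true, decide_eq_true_eq] at hc
  obtain ⟨⟨hns, hw⟩, _⟩ := hc
  have hw' := Nat.eq_of_beq_eq_true hw
  rw [wfast_eq D _ i (hH.perm i hi) s hs, wfast_eq D _ i (hH.perm i hi) _ hns] at hw'
  refine ⟨D.reflectRoot i s, hN.reflectRoot_lt i hi s hs, _, _, etaT_cast_ne_zero D (tab.getD i 0) s,
    etaT_cast_ne_zero D (tab.getD i 0) (D.neg s), fun t => hF.nS_conj' hN i hi s hs t, fun t => ?_⟩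
  rw [hF.nS_conj' hN i hi _ hns t, hw']

theorem Facts.nS_mem_actGL (hF : Facts D) (hN : NFacts D tab) (hH : HNFacts D tab orb)
    (hR : rootTableOK D = true) (i : ℕ) (hi : i < D.rank) : hF.nS i ∈ actGL hF F := by
  have h1 := hF.nS_rootAct (F := F) hN hH i hi
  refine ⟨h1, ?_⟩
  have hsq : hF.nS (F := F) i * hF.nS i ∈ D.diagonalSubgroup F :=
    hF.nGL_sq_mem _ (Facts.simple_lt hH i hi)
  have e : (hF.nS (F := F) i)⁻¹ = hF.nS i * (hF.nS i * hF.nS i)⁻¹ := by group
  rw [e]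
  exact h1.mul (hF.diag_rootAct hR _ (Subgroup.inv_mem _ hsq))

theorem Facts.monomial_le_actGL (hF : Facts D) (hN : NFacts D tab) (hH : HNFacts D tab orb)
    (hR : rootTableOK D = true) : D.monomialSubgroup F ≤ actGL hF F := by
  unfold ChevalleyDatum.monomialSubgroup
  apply sup_le (hF.diagonal_le_actGL hR)
  rw [Subgroup.closure_le]
  rintro g ⟨r, hr, hg⟩
  have : g = hF.nGL r (1 : F) := by
    apply Units.ext
    rw [hg]
    unfold Facts.nGL
    rw [hF.wordGL_val]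
    rfl
  rw [this]
  exact hF.nGL_mem_of_simple hN hH _ (fun j hj => hF.nS_mem_actGL hN hH hR j hj) r hr

/-- the action of `n⁻¹ · n` on root elements, for `n ∈ N` -/
theorem Facts.monomial_conj (hF : Facts D) (hN : NFacts D tab) (hH : HNFacts D tab orb)
    (hR : rootTableOK D = true) (n : GL D.Idx F) (hn : n ∈ D.monomialSubgroup F) (s : ℕ)
    (hs : s < D.nroots) :
    ∃ s' < D.nroots, ∃ c c' : F, c ≠ 0 ∧ c' ≠ 0 ∧
      (∀ t : F, hF.xGL s t * n = n * hF.xGL s' (c * t)) ∧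
      (∀ t : F, hF.xGL (D.neg s) t * n = n * hF.xGL (D.neg s') (c' * t)) := by
  obtain ⟨s', hs', c, c', hc, hc', e, e'⟩ := (hF.monomial_le_actGL hN hH hR hn).2 s hs
  refine ⟨s', hs', c, c', hc, hc', fun t => ?_, fun t => ?_⟩
  · rw [← e t]; group
  · rw [← e' t]; group

/-- root elements of different roots are different -/
theorem Facts.xGL_eq_xGL (hF : Facts D) (hR : rootTableOK D = true) (hNe : negNeOK D = true)
    (hU : corootUnitOK D = true) (a b : ℕ) (ha : a < D.nroots) (hb : b < D.nroots) (hab : a ≠ b)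
    (t u : F) (h : hF.xGL a t = hF.xGL b u) : t = 0 := by
  have h1 := allBelow_elim _ _ hNe a ha
  simp only [Bool.and_eq_true, decide_eq_true_eq, Bool.not_eq_true', nbeq_false] at h1
  obtain ⟨hlt, hne⟩ := h1
  apply corootUnit_spec hU a ha
  intro i
  have h2 := congrArg (fun g : GL D.Idx F => (g : Matrix D.Idx D.Idx F) (Sum.inl i)
    (Sum.inr ⟨D.neg a, hlt⟩)) h
  simp only [Facts.xGL_val] at h2
  rw [x_neg_entry a ha hlt hne] at h2
  rw [h2]
  unfold ChevalleyDatum.x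
  rw [dif_pos hb, xMat_entry]
  have e1 : enc D (Sum.inr (⟨D.neg a, hlt⟩ : Fin D.nroots)) = D.rank + D.neg a := rfl
  have e2 : enc D (Sum.inl i : D.Idx) = i.val := rfl
  rw [e1, e2, if_neg (by have := i.isLt; omega), zero_add]
  apply List.sum_eq_zero
  intro x hx
  simp only [List.mem_map] at hx
  obtain ⟨e, he, rfl⟩ := hx
  rw [if_neg]
  intro hei
  unfold fullShape at he
  rw [if_neg (by omega)] at he
  split_ifs at he with h3 h4
  · exact absurd he List.not_mem_nil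
  · -- `neg a = neg b` forces `a = b`
    exfalso
    apply hab
    have h5 : D.neg a = D.neg b := by unfold ChevalleyDatum.neg at h4 ⊢; omega
    have h6 := (rootTableOK_spec D hR a ha).2.2.1
    have h7 := (rootTableOK_spec D hR b hb).2.2.1
    rw [← h6, h5, h7]
  · simp only [List.mem_map] at he
    obtain ⟨e', _, rfl⟩ := he
    simp only at hei
    have := i.isLt
    omega

end rootact

end Cfsg.Agent.Lib.Helper24
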