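import Cfsg.Agent.Lib.Helper24.CellsF
import Cfsg.Agent.Lib.Helper24.RootAct
import Cfsg.Agent.Lib.Helper24.Levi
import Cfsg.Agent.Lib.Helper24.SimpleTables

/-! Centralisers of root elements `x_r(1)` for a dominant root `r` whose root subgroup is central in `U`:
the normaliser-type subgroup of the elements acting on `X_r` by a scalar contains `B`, hence is a parabolic
subgroup, and the torus part is read off the diagonal entries. -/

set_option autoImplicit false
set_option linter.unusedSimpArgs false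
set_option linter.unusedVariables false

namespace Cfsg.Agent.Lib.Helper24

open Cfsg.Lie

section centroot

variable {F : Type*} [Field F] {D : ChevalleyDatum} {tab : List ℕ} {orb : List (ℕ × ℕ × ℕ)}

/-- the elements acting on the root subgroup `X_r` by a non-zero scalar -/
def scalGL (hF : Facts D) (F : Type*) [Field F] (r : ℕ) : Subgroup (GL D.Idx F) where
  carrier := {g | ∃ a : F, a ≠ 0 ∧ ∀ t : F, g * hF.xGL r t * g⁻¹ = hF.xGL r (a * t)}
  one_mem' := ⟨1, one_ne_zero, fun t => by simp⟩
  mul_mem' := by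
    rintro g₁ g₂ ⟨a₁, h₁, e₁⟩ ⟨a₂, h₂, e₂⟩
    refine ⟨a₁ * a₂, mul_ne_zero h₁ h₂, fun t => ?_⟩
    have : g₁ * g₂ * hF.xGL r t * (g₁ * g₂)⁻¹ = g₁ * (g₂ * hF.xGL r t * g₂⁻¹) * g₁⁻¹ := by group
    rw [this, e₂, e₁, mul_assoc]
  inv_mem' := by
    rintro g ⟨a, h, e⟩
    refine ⟨a⁻¹, inv_ne_zero h, fun t => ?_⟩
    have := e (a⁻¹ * t)
    rw [← mul_assoc, mul_inv_cancel₀ h, one_mul] at this
    rw [← this]
    group

theorem mem_scalGL (hF : Facts D) (r : ℕ) (g : GL D.Idx F) :
    g ∈ scalGL hF F r ↔ ∃ a : F, a ≠ 0 ∧ ∀ t : F, g * hF.xGL r t * g⁻¹ = hF.xGL r (a * t) := Iff.rfl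

/-- all the terms of the commutator formula of the pair have even coefficients -/
def commEvenOK (D : ChevalleyDatum) (r s : ℕ) : Bool :=
  ((commTermsQ D r s).all fun c => decide (c.2.1 % 2 = 0)) && !(Nat.beq s r) && !(Nat.beq s (D.neg r)) &&
    Nat.blt r D.nroots && Nat.blt s D.nroots

theorem Facts.wordGL_zero (hF : Facts D) (w : List (ℕ × F)) (hw : ∀ p ∈ w, p.2 = 0) :
    hF.wordGL w = 1 := by
  induction w with
  | nil => simp [Facts.wordGL]
  | cons p w ih =>
    rw [hF.wordGL_cons, ih (fun q hq => hw q (List.mem_cons_of_mem _ hq)),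
      hw p List.mem_cons_self, hF.xGL_zero, one_mul]

/-- in characteristic two, root elements of a pair with even commutator coefficients commute -/
theorem Env.commute_of_commEvenOK [CharP F 2] (E : Env D F tab orb) (r s : ℕ)
    (h : commEvenOK D r s = true) (t u : F) : Commute (E.hF.xGL r t) (E.hF.xGL s u) := by
  simp only [commEvenOK, Bool.and_eq_true, List.all_eq_true, decide_eq_true_eq, Bool.not_eq_true',
    nbeq_false, Nat.blt_eq] at h
  obtain ⟨⟨⟨⟨h1, h2⟩, h3⟩, h4⟩, h5⟩ := h
  have hq := E.hcomm r h4 s h5 h2 h3 t u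
  have e : E.hF.wordGL (D.commWord F r s t u) = 1 := by
    apply E.hF.wordGL_zero
    intro p hp
    unfold ChevalleyDatum.commWord at hp
    rw [← E.hC.commTermsF_eq r s h4 h5, ← commTermsQ_eq, List.mem_map] at hp
    obtain ⟨c, hc, rfl⟩ := hp
    have hc2 := h1 c hc
    obtain ⟨k, hk⟩ : (2 : ℤ) ∣ c.2.1 := Int.dvd_of_emod_eq_zero hc2
    have h20 : ((2 : ℤ) : F) = 0 := by
      have : ((2 : ℕ) : F) = 0 := CharP.cast_eq_zero F 2
      exact_mod_cast this
    show ((c.2.1 : ℤ) : F) * (-t) ^ c.2.2.1 * u ^ c.2.2.2 = 0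
    rw [hk, Int.cast_mul, h20, zero_mul, zero_mul, zero_mul]
  rw [e, mul_one] at hq
  exact hq.symm

/-- `B` acts on `X_r` by scalars when `U` centralises `X_r` -/
theorem Env.borel_le_scalGL (E : Env D F tab orb) (r : ℕ) (hr : r < D.nroots)
    (hcomm : ∀ s, D.IsPosRoot s → ∀ u t' : F, Commute (E.hF.xGL s u) (E.hF.xGL r t')) :
    D.borelSubgroup F ≤ scalGL E.hF F r := by
  unfold ChevalleyDatum.borelSubgroup
  apply sup_le
  · unfold ChevalleyDatum.posUnipotent
    rw [Subgroup.closure_le]
    rintro g ⟨s, u, hs, hg⟩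
    rw [E.hF.eq_xGL g s u hg]
    refine ⟨1, one_ne_zero, fun t => ?_⟩
    rw [one_mul, (hcomm s hs u t).eq]
    group
  · unfold ChevalleyDatum.diagonalSubgroup
    rw [Subgroup.closure_le]
    rintro g ⟨r', c, hr', hc, hg⟩
    exact ⟨c ^ Aroot D r' r, zpow_ne_zero _ hc,
      fun t => E.hF.hgen_mul_xGL g r' hr' c hc hg r hr t⟩

/-- an element of `G` centralising `x_r(1)` acts on `X_r` by a scalar -/
theorem Env.centralizer_le_scalGL (E : Env D F tab orb) (r : ℕ) (hr : r < D.nroots)
    (hcomm : ∀ s, D.IsPosRoot s → ∀ u t' : F, Commute (E.hF.xGL s u) (E.hF.xGL r t'))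
    (g : GL D.Idx F) (hgG : g ∈ D.group F)
    (hgC : g ∈ Subgroup.centralizer {E.hF.xGL r (1 : F)}) : g ∈ scalGL E.hF F r := by
  obtain ⟨n, hn, b₁, hb₁, b₂, hb₂, e⟩ := E.hF.bruhat_exists E.P E.hB E.hN' g hgG
  have hB := E.borel_le_scalGL r hr hcomm
  have h1 := hB hb₁
  have h2 := hB hb₂
  obtain ⟨s', hs', c, c', hc, hc', hconj, _⟩ := E.hF.monomial_conj E.hN E.hH E.hR n hn r hr
  obtain ⟨a₁, ha₁, e₁⟩ := (scalGL E.hF F r).inv_mem h1
  have h2' := h2
  obtain ⟨a₂, ha₂, e₂⟩ := h2'
  have hx : E.hF.xGL r (1 : F) * g = g * E.hF.xGL r 1 :=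
    Subgroup.mem_centralizer_iff.mp hgC _ rfl
  have hgx : g⁻¹ * E.hF.xGL r (1 : F) * g = E.hF.xGL r 1 := by
    rw [mul_assoc, hx, ← mul_assoc, inv_mul_cancel, one_mul]
  have key : n⁻¹ * (b₁⁻¹ * E.hF.xGL r (1 : F) * b₁) * n = b₂ * E.hF.xGL r 1 * b₂⁻¹ := by
    have hn' : n = b₁⁻¹ * g * b₂⁻¹ := by rw [e]; group
    rw [hn']
    calc (b₁⁻¹ * g * b₂⁻¹)⁻¹ * (b₁⁻¹ * E.hF.xGL r (1 : F) * b₁) * (b₁⁻¹ * g * b₂⁻¹)
        = b₂ * (g⁻¹ * E.hF.xGL r (1 : F) * g) * b₂⁻¹ := by group
      _ = _ := by rw [hgx]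
  have e₁' := e₁ 1
  rw [inv_inv] at e₁'
  have hnc : ∀ a : F, n⁻¹ * E.hF.xGL r a * n = E.hF.xGL s' (c * a) := by
    intro a
    rw [mul_assoc, hconj a, ← mul_assoc, inv_mul_cancel, one_mul]
  rw [e₁', hnc, e₂ 1] at key
  have hs'r : s' = r := by
    by_contra hne
    have := E.hF.xGL_eq_xGL E.hR E.hNe E.hU.unit s' r hs' hr hne _ _ key
    rw [mul_one] at this
    exact (mul_ne_zero hc ha₁) this
  subst hs'r
  have hninv : n⁻¹ ∈ scalGL E.hF F s' :=
    ⟨c, hc, fun t => by rw [inv_inv]; exact hnc t⟩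
  have hnS : n ∈ scalGL E.hF F s' := by
    have := (scalGL E.hF F s').inv_mem hninv
    rwa [inv_inv] at this
  rw [e]
  exact Subgroup.mul_mem _ (Subgroup.mul_mem _ h1 hnS) h2

/-- a fundamental reflection acting on `X_r` by a scalar fixes `r` -/
theorem Env.reflectRoot_eq_of_mem_scalGL (E : Env D F tab orb) (r : ℕ) (hr : r < D.nroots) (i : ℕ)
    (hi : i < D.rank) (h : E.hF.nS i ∈ scalGL E.hF F r) : D.reflectRoot i r = r := by
  obtain ⟨a, ha, e⟩ := h
  have h1 := E.hF.nS_conj' (F := F) E.hN i hi r hr 1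
  rw [e 1] at h1
  by_contra hne
  have hlt := E.hN.reflectRoot_lt i hi r hr
  have := E.hF.xGL_eq_xGL E.hR E.hNe E.hU.unit _ r hlt hr hne _ _ h1.symm
  rw [mul_one] at this
  exact etaT_cast_ne_zero D _ _ this

theorem prod_map_ite_range (c : ℕ → F) (i₀ : ℕ) (n : ℕ) :
    ((List.range n).map fun i => if i = i₀ then c i₀ else (1 : F)).prod = if i₀ < n then c i₀ else 1 := by
  induction n with
  | zero => simp
  | succ n ih =>
    rw [List.range_succ, List.map_append, List.prod_append, ih]
    simp only [List.map_cons, List.map_nil, List.prod_cons, List.prod_nil, mul_one]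
    by_cases h1 : i₀ < n
    · have h2 : n ≠ i₀ := by omega
      have h3 : i₀ < n + 1 := by omega
      rw [if_pos h1, if_neg h2, if_pos h3, mul_one]
    · by_cases h2 : n = i₀
      · have h3 : i₀ < n + 1 := by omega
        rw [if_neg h1, if_pos h2, if_pos h3, one_mul]
      · have h3 : ¬ i₀ < n + 1 := by omega
        rw [if_neg h1, if_neg h2, if_neg h3, one_mul]

/-- the character value of a torus element on a root with a single non-zero Cartan integer, equal to one -/
theorem torusEntry_single (c : ℕ → F) (r i₀ : ℕ) (hi₀ : i₀ < D.rank)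
    (hcart : ∀ i < D.rank, D.cartan i r = if i = i₀ then 1 else 0) :
    torusEntry D (List.range D.rank) c (D.rank + r) = c i₀ := by
  unfold torusEntry
  have : ((List.range D.rank).map fun i => c i ^ Eexp D i (D.rank + r)) =
      (List.range D.rank).map fun i => if i = i₀ then c i₀ else (1 : F) := by
    apply List.map_congr_left
    intro i hi
    rw [Eexp_root, hcart i (List.mem_range.mp hi)]
    split_ifs with h
    · subst h; simp
    · simp
  rw [this, prod_map_ite_range, if_pos hi₀]

theorem Facts.wordGL_append' (hF : Facts D) (w₁ w₂ : List (ℕ × F)) :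
    hF.wordGL (w₁ ++ w₂) = hF.wordGL w₁ * hF.wordGL w₂ := by
  simp [Facts.wordGL, List.map_append, List.prod_append]

theorem Facts.wordGL_flatMap_mem (hF : Facts D) (K : Subgroup (GL D.Idx F)) (l : List ℕ)
    (f : ℕ → List (ℕ × F)) (h : ∀ i ∈ l, hF.wordGL (f i) ∈ K) : hF.wordGL (l.flatMap f) ∈ K := by
  induction l with
  | nil => simp [Facts.wordGL]
  | cons i l ih =>
    rw [List.flatMap_cons, hF.wordGL_append']
    exact K.mul_mem (h i List.mem_cons_self) (ih (fun j hj => h j (List.mem_cons_of_mem _ hj)))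

/-- the centraliser of `x_r(1)` for a root `r` whose root subgroup is centralised by `U` and by the
`X_{-p}`, `p` a fundamental root other than `p_{i₀}`, where `r` has Cartan integer `1` at `p_{i₀}`
and `0` at the other fundamental roots -/
theorem Env.centralizer_root (E : Env D F tab orb) (hSO : simpleOK D = true) (r i₀ : ℕ) (L : List ℕ)
    (hr : D.IsPosRoot r) (hi₀ : i₀ < D.rank)
    (hL : ∀ i < D.rank, i ≠ i₀ → D.neg (D.simple i) ∈ L)
    (hLlt : ∀ s ∈ L, s < D.nroots)
    (hcomm : ∀ s, (D.IsPosRoot s ∨ s ∈ L) → ∀ u t' : F, Commute (E.hF.xGL s u) (E.hF.xGL r t'))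
    (hrefl : D.reflectRoot i₀ r ≠ r)
    (hcart : ∀ i < D.rank, D.cartan i r = if i = i₀ then 1 else 0)
    (t : GL D.Idx F) (ht : (t : Matrix D.Idx D.Idx F) = D.x F r 1) :
    D.group F ⊓ Subgroup.centralizer {t} =
      rootClosure D F (fun s => D.IsPosRoot s ∨ s ∈ L) := by
  have htx : t = E.hF.xGL r 1 := E.hF.eq_xGL t r 1 ht
  subst htx
  set R : ℕ → Prop := fun s => D.IsPosRoot s ∨ s ∈ L with hRdef
  have hRlt : ∀ s, R s → s < D.nroots := by
    rintro s (hs | hs)
    · exact hs.1
    · exact hLlt s hs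
  have hcommU : ∀ s, D.IsPosRoot s → ∀ u t' : F, Commute (E.hF.xGL s u) (E.hF.xGL r t') :=
    fun s hs => hcomm s (Or.inl hs)
  -- `Q` centralises `x_r(1)`
  have hQC : rootClosure D F R ≤ Subgroup.centralizer {E.hF.xGL r (1 : F)} := by
    unfold rootClosure
    rw [Subgroup.closure_le]
    rintro g ⟨s, u, hs, hg⟩
    rw [E.hF.eq_xGL g s u hg, SetLike.mem_coe, Subgroup.mem_centralizer_iff]
    intro x hx
    rw [Set.mem_singleton_iff] at hx
    subst hx
    exact (hcomm s hs u 1).eq.symm
  have hQG : rootClosure D F R ≤ D.group F := by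
    unfold rootClosure
    rw [Subgroup.closure_le]
    rintro g ⟨s, u, hs, hg⟩
    rw [E.hF.eq_xGL g s u hg]
    exact E.hF.xGL_mem_group s u
  have hUQ : D.posUnipotent F ≤ rootClosure D F R := by
    unfold ChevalleyDatum.posUnipotent rootClosure
    apply Subgroup.closure_mono
    rintro g ⟨s, u, hs, hg⟩
    exact ⟨s, u, Or.inl hs, hg⟩
  -- `H` normalises `Q`
  have hHN : D.diagonalSubgroup F ≤ Subgroup.normalizer (rootClosure D F R : Set (GL D.Idx F)) := by
    unfold ChevalleyDatum.diagonalSubgroup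
    rw [Subgroup.closure_le]
    rintro g ⟨r', c, hr', hc, hg⟩
    exact E.hF.hgen_mem_normalizer_rootClosure R hRlt g r' hr' c hc hg
  apply le_antisymm
  · rintro g ⟨hgG, hgC⟩
    have hgS : g ∈ scalGL E.hF F r := E.centralizer_le_scalGL r hr.1 hcommU g hgG hgC
    let M : Subgroup ↥(D.group F) := (scalGL E.hF F r).subgroupOf (D.group F)
    have hBM : E.P.B ≤ M := by
      rw [E.hB]
      intro b hb
      rw [Subgroup.mem_subgroupOf] at hb ⊢
      exact E.borel_le_scalGL r hr.1 hcommU hb
    have hpar := Cfsg.Agent.Lib.Helper08.eq_parabolic_of_B_le E.P M hBM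
    have hgM : (⟨g, hgG⟩ : ↥(D.group F)) ∈ M := Subgroup.mem_subgroupOf.mpr hgS
    rw [hpar] at hgM
    let K : Subgroup ↥(D.group F) :=
      (rootClosure D F R ⊔ D.diagonalSubgroup F).subgroupOf (D.group F)
    have hPK : E.P.parabolic (E.P.S ∩ (M : Set ↥(D.group F))) ≤ K := by
      unfold Cfsg.BNPair.parabolic
      apply sup_le
      · rw [E.hB]
        intro b hb
        rw [Subgroup.mem_subgroupOf] at hb ⊢
        unfold ChevalleyDatum.borelSubgroup at hb
        exact (sup_le_sup_right hUQ _) hb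
      · rw [Subgroup.closure_le]
        rintro s ⟨hsS, hsM⟩
        rw [E.hPS] at hsS
        obtain ⟨i, hi, hsv⟩ := hsS
        have hs_eq : (s : GL D.Idx F) = E.hF.nS i := Units.ext (by rw [hsv, E.hF.nS_val])
        have hne : i ≠ i₀ := by
          rintro rfl
          have h1 : E.hF.nS i ∈ scalGL E.hF F r := by
            rw [← hs_eq]
            exact Subgroup.mem_subgroupOf.mp hsM
          exact hrefl (E.reflectRoot_eq_of_mem_scalGL r hr.1 i hi h1)
        rw [SetLike.mem_coe, Subgroup.mem_subgroupOf, hs_eq]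
        apply Subgroup.mem_sup_left
        unfold Facts.nS Facts.nGL
        apply E.hF.wordGL_mem_rootClosure
        intro p hp
        have hpos := (reflPosOK_spec D i (E.hRefl i hi)).1
        simp only [ChevalleyDatum.nWord, List.mem_cons, List.not_mem_nil, or_false] at hp
        rcases hp with rfl | rfl | rfl
        · exact Or.inl hpos
        · exact Or.inr (hL i hi hne)
        · exact Or.inl hpos
    have hgK := Subgroup.mem_subgroupOf.mp (hPK hgM)
    obtain ⟨q, hq, h, hh, rfl⟩ := exists_mul_of_mem_sup_of_le_normalizer _ _ hHN g hgK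
    -- `h` centralises `x_r(1)`
    have hhC : h ∈ Subgroup.centralizer {E.hF.xGL r (1 : F)} := by
      have : h = q⁻¹ * (q * h) := by group
      rw [this]
      exact Subgroup.mul_mem _ (Subgroup.inv_mem _ (hQC hq)) hgC
    have hx : E.hF.xGL r (1 : F) * h = h * E.hF.xGL r 1 :=
      Subgroup.mem_centralizer_iff.mp hhC _ rfl
    obtain ⟨c, hc, hdiag⟩ := E.hF.diagonal_torus h hh
    -- the character value at `r`
    have hτ : torusEntry D (List.range D.rank) c (D.rank + r) = 1 := by
      have h1 := E.hF.torus_mul_xMat c hc ⟨r, hr.1⟩ (1 : F)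
      have h2 : (h : Matrix D.Idx D.Idx F) * D.x F r 1 =
          D.x F r (torusEntry D (List.range D.rank) c (D.rank + r) * 1) *
            (h : Matrix D.Idx D.Idx F) := by
        rw [hdiag]
        unfold ChevalleyDatum.x
        rw [dif_pos hr.1, dif_pos hr.1]
        exact h1
      have h3 : h * E.hF.xGL r (1 : F) =
          E.hF.xGL r (torusEntry D (List.range D.rank) c (D.rank + r) * 1) * h :=
        Units.ext (by simpa using h2)
      rw [← hx] at h3
      have h4 := mul_right_cancel h3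
      have h5 : E.hF.xGL r (torusEntry D (List.range D.rank) c (D.rank + r) * 1 - 1) = 1 := by
        rw [sub_eq_add_neg, ← E.hF.xGL_mul, ← h4, E.hF.xGL_mul, add_neg_cancel, E.hF.xGL_zero]
      have h6 := E.hF.xGL_eq_one E.hNe r hr.1 _ h5
      rw [mul_one] at h6
      exact sub_eq_zero.mp h6
    rw [torusEntry_single c r i₀ hi₀ hcart] at hτ
    -- `h` as a word in the `h_{p_i}(c_i)`
    have hword : h = E.hF.wordGL
        ((List.range D.rank).flatMap fun i => D.hWord (D.simple i) (c i)) := by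
      apply E.hF.eq_wordGL
      rw [hdiag, E.hF.wordMat_simple_torus hSO c (List.range D.rank)
        (fun i hi => ⟨List.mem_range.mp hi, hc i⟩)]
    have hhQ : h ∈ rootClosure D F R := by
      rw [hword]
      apply E.hF.wordGL_flatMap_mem
      intro i hi
      have hi' := List.mem_range.mp hi
      by_cases hii : i = i₀
      · subst hii
        have : E.hF.wordGL (D.hWord (D.simple i) (c i)) = 1 := by
          apply Units.ext
          rw [E.hF.wordGL_val, hτ]
          show D.hMat F (D.simple i) 1 = 1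
          rw [E.hF.hMat_root _ (simpleOK_spec D hSO i hi').1 1 one_ne_zero]
          simp
        rw [this]
        exact Subgroup.one_mem _
      · apply E.hF.wordGL_mem_rootClosure
        intro p hp
        have hpos := (reflPosOK_spec D i (E.hRefl i hi')).1
        simp only [ChevalleyDatum.hWord, ChevalleyDatum.nWord, List.mem_append, List.mem_cons,
          List.not_mem_nil, or_false] at hp
        rcases hp with (rfl | rfl | rfl) | (rfl | rfl | rfl)
        · exact Or.inl hpos
        · exact Or.inr (hL i hi' hii)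
        · exact Or.inl hpos
        · exact Or.inl hpos
        · exact Or.inr (hL i hi' hii)
        · exact Or.inl hpos
    exact Subgroup.mul_mem _ hq hhQ
  · intro g hg
    exact ⟨hQG hg, hQC hg⟩

/-- the closure of the root elements for `U` and a list of further roots, in the form of the statements -/
theorem rootClosure_pos_or_list (D : ChevalleyDatum) (F : Type*) [Field F] (L : List ℕ) :
    rootClosure D F (fun s => D.IsPosRoot s ∨ s ∈ L) =
      D.posUnipotent F ⊔ Subgroup.closure {g : GL D.Idx F | ∃ s ∈ L, ∃ c : F,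
        (g : Matrix D.Idx D.Idx F) = D.x F s c} := by
  apply le_antisymm
  · unfold rootClosure
    rw [Subgroup.closure_le]
    rintro g ⟨s, u, hs | hs, hg⟩
    · exact Subgroup.mem_sup_left (Subgroup.subset_closure ⟨s, u, hs, hg⟩)
    · exact Subgroup.mem_sup_right (Subgroup.subset_closure ⟨s, hs, u, hg⟩)
  · apply sup_le
    · unfold ChevalleyDatum.posUnipotent rootClosure
      apply Subgroup.closure_mono
      rintro g ⟨s, u, hs, hg⟩
      exact ⟨s, u, Or.inl hs, hg⟩
    · unfold rootClosure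
      apply Subgroup.closure_mono
      rintro g ⟨s, hs, u, hg⟩
      exact ⟨s, u, Or.inr hs, hg⟩

end centroot

end Cfsg.Agent.Lib.Helper24
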