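import Cfsg.Agent.Lib.Helper24.Refl

set_option autoImplicit false
set_option linter.unusedSimpArgs false

namespace Cfsg.Agent.Lib.Helper24

open Cfsg.Lie

/-- the 48-bit field `k` of a packed table -/
def fld (X k : ℕ) : ℕ := (X / 2 ^ (48 * k)) % 2 ^ 48

theorem nbeq_true (a b : ℕ) : (Nat.beq a b = true) = (a = b) :=
  propext ⟨Nat.eq_of_beq_eq_true, fun h => h ▸ Nat.beq_refl a⟩

theorem nbeq_false (a b : ℕ) : (Nat.beq a b = false) = (a ≠ b) := by
  rw [← Bool.not_eq_true, nbeq_true]

theorem decEntry_zero (fuel j : ℕ) : decEntry fuel j 0 = [] := by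
  cases fuel <;> simp [decEntry]

theorem decEntry_single (x : ℕ) (h0 : 0 < x) (h1 : x < 65536) :
    decEntry 3 1 x = [(x % 1024 - 1, (((x / 1024) % 64 : ℕ) : ℤ) - 8, 1)] := by
  have hx : x ≠ 0 := by omega
  have h2 : x / 65536 = 0 := Nat.div_eq_of_lt h1
  simp [decEntry, hx, h2]

theorem mcolP_eq (P n k : ℕ) (hk : k < n) :
    mcolP P n k = (decEntry 3 1 (fld P k)).map (fun e => (e.1, e.2.1)) := by
  unfold mcolP fld
  rw [if_pos hk]

theorem fullShapeP_root (D : ChevalleyDatum) (r ng B k : ℕ) (h1 : D.rank ≤ k)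
    (h2 : k - D.rank ≠ r) (h3 : k - D.rank ≠ ng) :
    fullShapeP D r ng B k =
      (decEntry 3 1 (fld B (k - D.rank))).map fun e => (D.rank + e.1, e.2.1, e.2.2) := by
  unfold fullShapeP fld
  rw [if_neg (by omega), if_neg h2, if_neg h3]

/-- column `j` is not moved on either side -/
def trivColOK (rank n P s ng B s' ng' B' j : ℕ) : Bool :=
  Nat.ble rank j && Nat.blt j n && !(Nat.beq (j - rank) s) && !(Nat.beq (j - rank) ng) &&
    Nat.beq (fld B (j - rank)) 0 &&
  forceNat (fld P j) fun mj =>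
    Nat.blt 0 mj && Nat.blt mj 65536 &&
    forceNat (mj % 1024 - 1) fun k =>
      Nat.ble rank k && !(Nat.beq (k - rank) s') && !(Nat.beq (k - rank) ng') &&
        Nat.beq (fld B' (k - rank)) 0

theorem trivColOK_spec (D : ChevalleyDatum) (P s ng B s' ng' B' j : ℕ) (η : ℤ)
    (h : trivColOK D.rank (D.rank + D.nroots) P s ng B s' ng' B' j = true) :
    applyCT (D.rank + D.nroots) (mcolP P (D.rank + D.nroots)) (fullShapeP D s ng B j) = [] ∧
    applyXT (D.rank + D.nroots) (fullShapeP D s' ng' B') η (mcolP P (D.rank + D.nroots) j) = [] := by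
  simp only [trivColOK, forceNat_eq, Bool.and_eq_true, Bool.not_eq_true', Nat.ble_eq, Nat.blt_eq,
    nbeq_true, nbeq_false, and_assoc] at h
  obtain ⟨h1, h1', h2, h3, h4, h5, h6, h7, h8, h9, h10⟩ := h
  constructor
  · rw [fullShapeP_root D s ng B j h1 h2 h3, h4, decEntry_zero]
    rfl
  · rw [mcolP_eq P _ j h1', decEntry_single _ h5 h6]
    simp only [List.map_cons, List.map_nil, applyXT, List.flatMap_cons, List.flatMap_nil,
      List.append_nil]
    split_ifs with hk
    · rw [fullShapeP_root D s' ng' B' _ h7 h8 h9, h10, decEntry_zero]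
      rfl
    · rfl

/-- column `j` is a root column with one term on either side, and the terms agree -/
def fastColOK (rank n P s ng B s' ng' B' : ℕ) (η : ℤ) (j : ℕ) : Bool :=
  Nat.ble rank j && Nat.blt j n && !(Nat.beq (j - rank) s) && !(Nat.beq (j - rank) ng) &&
  forceNat (fld B (j - rank)) fun fs =>
    Nat.blt 0 fs && Nat.blt fs 65536 &&
  forceNat (rank + (fs % 1024 - 1)) fun r1 =>
    Nat.blt r1 n &&
  forceNat (fld P r1) fun m1 =>
    Nat.blt 0 m1 && Nat.blt m1 65536 &&
  forceNat (fld P j) fun mj =>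
    Nat.blt 0 mj && Nat.blt mj 65536 &&
  forceNat (mj % 1024 - 1) fun k =>
    Nat.ble rank k && Nat.blt k n && !(Nat.beq (k - rank) s') && !(Nat.beq (k - rank) ng') &&
  forceNat (fld B' (k - rank)) fun fs' =>
    Nat.blt 0 fs' && Nat.blt fs' 65536 &&
    Nat.beq (m1 % 1024 - 1) (rank + (fs' % 1024 - 1)) &&
    decide (((((m1 / 1024) % 64 : ℕ) : ℤ) - 8) * ((((fs / 1024) % 64 : ℕ) : ℤ) - 8) =
      ((((mj / 1024) % 64 : ℕ) : ℤ) - 8) * (((((fs' / 1024) % 64 : ℕ) : ℤ) - 8) * η ^ 1))

theorem fastColOK_spec (D : ChevalleyDatum) (P s ng B s' ng' B' j : ℕ) (η : ℤ)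
    (h : fastColOK D.rank (D.rank + D.nroots) P s ng B s' ng' B' η j = true) :
    applyCT (D.rank + D.nroots) (mcolP P (D.rank + D.nroots)) (fullShapeP D s ng B j) =
    applyXT (D.rank + D.nroots) (fullShapeP D s' ng' B') η (mcolP P (D.rank + D.nroots) j) := by
  simp only [fastColOK, forceNat_eq, Bool.and_eq_true, Bool.not_eq_true', Nat.ble_eq, Nat.blt_eq,
    nbeq_true, nbeq_false, decide_eq_true_eq, and_assoc] at h
  obtain ⟨h1, h1', h2, h3, ha, hb, hc, hd, he, hf, hg, hh, hi, hj, hk, hl, hm, hn, ho⟩ := h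
  rw [fullShapeP_root D s ng B j h1 h2 h3, decEntry_single _ ha hb, mcolP_eq P _ j h1',
    decEntry_single _ hf hg]
  simp only [List.map_cons, List.map_nil, applyCT, applyXT, List.flatMap_cons, List.flatMap_nil,
    List.append_nil]
  rw [if_pos hc, if_pos hi, mcolP_eq P _ _ hc, decEntry_single _ hd he,
    fullShapeP_root D s' ng' B' _ hh hj hk, decEntry_single _ hl hm]
  simp only [List.map_cons, List.map_nil]
  rw [hn, ho]

/-- the column check with the two shortcuts -/
def colOK (D : ChevalleyDatum) (P s ng B s' ng' B' : ℕ) (η : ℤ) (j : ℕ) : Bool :=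
  trivColOK D.rank (D.rank + D.nroots) P s ng B s' ng' B' j ||
  fastColOK D.rank (D.rank + D.nroots) P s ng B s' ng' B' η j ||
  conjColOK D (mcolP P (D.rank + D.nroots)) (fullShapeP D s ng B) (fullShapeP D s' ng' B') η j

section semantics

variable {F : Type*} [Field F] (D : ChevalleyDatum)

theorem colOK_spec (P s ng B s' ng' B' : ℕ) (η : ℤ) (j : ℕ)
    (h : colOK D P s ng B s' ng' B' η j = true) (t : F) :
    denT D (applyCT (D.rank + D.nroots) (mcolP P (D.rank + D.nroots)) (fullShapeP D s ng B j)) t =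
    denT D (applyXT (D.rank + D.nroots) (fullShapeP D s' ng' B') η
      (mcolP P (D.rank + D.nroots) j)) t := by
  simp only [colOK, Bool.or_eq_true] at h
  rcases h with (h | h) | h
  · obtain ⟨e1, e2⟩ := trivColOK_spec D P s ng B s' ng' B' j η h
    rw [e1, e2]
  · rw [fastColOK_spec D P s ng B s' ng' B' j η h]
  · unfold conjColOK at h
    have h1 := denT_eq_zero_of_zeroT D _ h t
    rw [denT_append, denT_negT] at h1
    exact eq_of_sub_eq_zero (by rw [sub_eq_add_neg]; exact h1)

theorem cMat_mul_xMat' (mcol : ℕ → CV) (s s' : Fin D.nroots) (η : ℤ)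
    (h : ∀ j < D.rank + D.nroots, ∀ t : F,
      denT D (applyCT (D.rank + D.nroots) mcol (fullShape D s.val j)) t =
      denT D (applyXT (D.rank + D.nroots) (fullShape D s'.val) η (mcol j)) t) (t : F) :
    cMat D mcol * D.xMat F s t = D.xMat F s' ((η : F) * t) * cMat D mcol := by
  ext i j
  have key : (cMat (F := F) D mcol * D.xMat F s t).mulVec (bv D (enc D j)) =
      (D.xMat F s' ((η : F) * t) * cMat D mcol).mulVec (bv D (enc D j)) := by
    rw [← Matrix.mulVec_mulVec, ← Matrix.mulVec_mulVec, xMat_mulVec_bv, cMat_mulVec_bv,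
      if_pos (enc_lt D j), if_pos (enc_lt D j), Matrix.mulVec_add, cMat_mulVec_bv,
      if_pos (enc_lt D j), cMat_mulVec_denT, xMat_mulVec_denC]
    congr 1
    exact h (enc D j) (enc_lt D j) t
  rw [mulVec_bv_enc, mulVec_bv_enc] at key
  exact congrFun key i

end semantics

def allBelow (p : ℕ → Bool) : ℕ → Bool
  | 0 => true
  | k + 1 => p k && allBelow p k

theorem allBelow_elim (p : ℕ → Bool) (n : ℕ) (h : allBelow p n = true) (k : ℕ) (hk : k < n) :
    p k = true := by
  induction n with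
  | zero => omega
  | succ n ih =>
    simp only [allBelow, Bool.and_eq_true] at h
    by_cases hkn : k = n
    · subst hkn; exact h.1
    · exact ih h.2 (by omega)

def conjPairOK2 (D : ChevalleyDatum) (P s s' : ℕ) : Bool :=
  forceNat P fun P' =>
  forceNat (D.negIdx.getD s 0) fun ng => forceNat (packB D s) fun B =>
  forceNat (D.negIdx.getD s' 0) fun ng' => forceNat (packB D s') fun B' =>
  forceNat s' fun s'' =>
    decide (s'' < D.nroots) &&
    allBelow (colOK D P' s ng B s'' ng' B' (etaOf (mcolP P' (D.rank + D.nroots) (D.rank + s))))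
      (D.rank + D.nroots)

def reflOK2 (D : ChevalleyDatum) (P i s : ℕ) : Bool := conjPairOK2 D P s (D.reflectRoot i s)

theorem refl_of_reflOK2 {F : Type*} [Field F] (D : ChevalleyDatum) (hT : TableOK D) (P i s : ℕ)
    (hs : s < D.nroots) (hN : nTabOK D (D.simple i) P = true) (h : reflOK2 D P i s = true) :
    ∃ η : ℤ, (η = 1 ∨ η = -1) ∧ ∀ t : F,
      D.nMat F (D.simple i) 1 * D.x F s t =
        D.x F (D.reflectRoot i s) ((η : F) * t) * D.nMat F (D.simple i) 1 := by
  unfold reflOK2 conjPairOK2 at h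
  simp only [forceNat_eq, Bool.and_eq_true, decide_eq_true_eq] at h
  obtain ⟨hs', h⟩ := h
  refine ⟨etaOf (mcolP P (D.rank + D.nroots) (D.rank + s)), etaOf_cases _, fun t => ?_⟩
  rw [nMat_eq_cMat D hT _ P hN]
  unfold ChevalleyDatum.x
  rw [dif_pos hs, dif_pos hs']
  apply cMat_mul_xMat' D _ ⟨s, hs⟩ ⟨_, hs'⟩
  intro j hj t
  have h1 := colOK_spec (F := F) D _ _ _ _ _ _ _ _ j (allBelow_elim _ _ h j hj) t
  have e1 : fullShapeP D s (D.negIdx.getD s 0) (packB D s) = fullShapeF D s := rfl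
  have e2 : fullShapeP D (D.reflectRoot i s) (D.negIdx.getD (D.reflectRoot i s) 0)
      (packB D (D.reflectRoot i s)) = fullShapeF D (D.reflectRoot i s) := rfl
  rw [e1, e2, fullShapeF_eq D hT s j hs hj,
    applyXT_congr _ (fullShapeF D (D.reflectRoot i s)) (fullShape D (D.reflectRoot i s)) _ _
      (fun k hk => fullShapeF_eq D hT _ k hs' hk)] at h1
  exact h1

end Cfsg.Agent.Lib.Helper24
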