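import Cfsg.Agent.Lib.Helper24.NTab
import Cfsg.Agent.Lib.Helper24.ReflFast
import Cfsg.Agent.Lib.Helper24.Range
import Cfsg.Prelude.Def_LieTypes
import Cfsg.Prelude.Def_ChevB2
import Cfsg.Prelude.Def_ChevD4

set_option autoImplicit false

namespace Cfsg.Agent.Lib.Helper24

open Cfsg.Lie

theorem ntab_E7_0 : nTabOK chevE7 (chevE7.simple 0) (nTabE7.getD 0 0) = true := by decide +kernel
theorem ntab_E7_1 : nTabOK chevE7 (chevE7.simple 1) (nTabE7.getD 1 0) = true := by decide +kernel
theorem ntab_E7_2 : nTabOK chevE7 (chevE7.simple 2) (nTabE7.getD 2 0) = true := by decide +kernel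
theorem ntab_E7_3 : nTabOK chevE7 (chevE7.simple 3) (nTabE7.getD 3 0) = true := by decide +kernel
theorem ntab_E7_4 : nTabOK chevE7 (chevE7.simple 4) (nTabE7.getD 4 0) = true := by decide +kernel
theorem ntab_E7_5 : nTabOK chevE7 (chevE7.simple 5) (nTabE7.getD 5 0) = true := by decide +kernel
theorem ntab_E7_6 : nTabOK chevE7 (chevE7.simple 6) (nTabE7.getD 6 0) = true := by decide +kernel

theorem ntab_E7 (i : ℕ) (hi : i < 7) : nTabOK chevE7 (chevE7.simple i) (nTabE7.getD i 0) = true := by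
  interval_cases i
  · exact ntab_E7_0
  · exact ntab_E7_1
  · exact ntab_E7_2
  · exact ntab_E7_3
  · exact ntab_E7_4
  · exact ntab_E7_5
  · exact ntab_E7_6


end Cfsg.Agent.Lib.Helper24
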