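import Cfsg.Agent.Lib.Helper24.NTab
import Cfsg.Agent.Lib.Helper24.ReflFast
import Cfsg.Agent.Lib.Helper24.Range
import Cfsg.Prelude.Def_LieTypes
import Cfsg.Prelude.Def_ChevB2
import Cfsg.Prelude.Def_ChevD4

set_option autoImplicit false

namespace Cfsg.Agent.Lib.Helper24

open Cfsg.Lie

theorem ntab_E8_0 : nTabOK chevE8 (chevE8.simple 0) (nTabE8.getD 0 0) = true := by decide +kernel
theorem ntab_E8_1 : nTabOK chevE8 (chevE8.simple 1) (nTabE8.getD 1 0) = true := by decide +kernel
theorem ntab_E8_2 : nTabOK chevE8 (chevE8.simple 2) (nTabE8.getD 2 0) = true := by decide +kernel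
theorem ntab_E8_3 : nTabOK chevE8 (chevE8.simple 3) (nTabE8.getD 3 0) = true := by decide +kernel
theorem ntab_E8_4 : nTabOK chevE8 (chevE8.simple 4) (nTabE8.getD 4 0) = true := by decide +kernel
theorem ntab_E8_5 : nTabOK chevE8 (chevE8.simple 5) (nTabE8.getD 5 0) = true := by decide +kernel
theorem ntab_E8_6 : nTabOK chevE8 (chevE8.simple 6) (nTabE8.getD 6 0) = true := by decide +kernel
theorem ntab_E8_7 : nTabOK chevE8 (chevE8.simple 7) (nTabE8.getD 7 0) = true := by decide +kernel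

theorem ntab_E8 (i : ℕ) (hi : i < 8) : nTabOK chevE8 (chevE8.simple i) (nTabE8.getD i 0) = true := by
  interval_cases i
  · exact ntab_E8_0
  · exact ntab_E8_1
  · exact ntab_E8_2
  · exact ntab_E8_3
  · exact ntab_E8_4
  · exact ntab_E8_5
  · exact ntab_E8_6
  · exact ntab_E8_7


end Cfsg.Agent.Lib.Helper24
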