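import Cfsg.Agent.Lib.Helper24.NTab
import Cfsg.Agent.Lib.Helper24.ReflFast
import Cfsg.Agent.Lib.Helper24.Range
import Cfsg.Prelude.Def_LieTypes
import Cfsg.Prelude.Def_ChevB2
import Cfsg.Prelude.Def_ChevD4

set_option autoImplicit false

namespace Cfsg.Agent.Lib.Helper24

open Cfsg.Lie

theorem ntab_D4_0 : nTabOK chevD4 (chevD4.simple 0) (nTabD4.getD 0 0) = true := by decide +kernel
theorem ntab_D4_1 : nTabOK chevD4 (chevD4.simple 1) (nTabD4.getD 1 0) = true := by decide +kernel
theorem ntab_D4_2 : nTabOK chevD4 (chevD4.simple 2) (nTabD4.getD 2 0) = true := by decide +kernel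
theorem ntab_D4_3 : nTabOK chevD4 (chevD4.simple 3) (nTabD4.getD 3 0) = true := by decide +kernel

theorem ntab_D4 (i : ℕ) (hi : i < 4) : nTabOK chevD4 (chevD4.simple i) (nTabD4.getD i 0) = true := by
  interval_cases i
  · exact ntab_D4_0
  · exact ntab_D4_1
  · exact ntab_D4_2
  · exact ntab_D4_3

theorem refl_D4_0_0 : allRange (fun s => reflOK2 chevD4 (nTabD4.getD 0 0) 0 s) 0 24 = true := by decide +kernel

theorem refl_D4_0 (s : ℕ) (hs : s < 24) : reflOK2 chevD4 (nTabD4.getD 0 0) 0 s = true := by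
  exact allRange_elim refl_D4_0_0 s (by omega) hs

theorem refl_D4_1_0 : allRange (fun s => reflOK2 chevD4 (nTabD4.getD 1 0) 1 s) 0 24 = true := by decide +kernel

theorem refl_D4_1 (s : ℕ) (hs : s < 24) : reflOK2 chevD4 (nTabD4.getD 1 0) 1 s = true := by
  exact allRange_elim refl_D4_1_0 s (by omega) hs

theorem refl_D4_2_0 : allRange (fun s => reflOK2 chevD4 (nTabD4.getD 2 0) 2 s) 0 24 = true := by decide +kernel

theorem refl_D4_2 (s : ℕ) (hs : s < 24) : reflOK2 chevD4 (nTabD4.getD 2 0) 2 s = true := by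
  exact allRange_elim refl_D4_2_0 s (by omega) hs

theorem refl_D4_3_0 : allRange (fun s => reflOK2 chevD4 (nTabD4.getD 3 0) 3 s) 0 24 = true := by decide +kernel

theorem refl_D4_3 (s : ℕ) (hs : s < 24) : reflOK2 chevD4 (nTabD4.getD 3 0) 3 s = true := by
  exact allRange_elim refl_D4_3_0 s (by omega) hs


end Cfsg.Agent.Lib.Helper24
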