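import Cfsg.Agent.Lib.Helper24.NTab
import Cfsg.Agent.Lib.Helper24.ReflFast
import Cfsg.Agent.Lib.Helper24.Range
import Cfsg.Prelude.Def_LieTypes
import Cfsg.Prelude.Def_ChevB2
import Cfsg.Prelude.Def_ChevD4

set_option autoImplicit false

namespace Cfsg.Agent.Lib.Helper24

open Cfsg.Lie

theorem ntab_E6_0 : nTabOK chevE6 (chevE6.simple 0) (nTabE6.getD 0 0) = true := by decide +kernel
theorem ntab_E6_1 : nTabOK chevE6 (chevE6.simple 1) (nTabE6.getD 1 0) = true := by decide +kernel
theorem ntab_E6_2 : nTabOK chevE6 (chevE6.simple 2) (nTabE6.getD 2 0) = true := by decide +kernel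
theorem ntab_E6_3 : nTabOK chevE6 (chevE6.simple 3) (nTabE6.getD 3 0) = true := by decide +kernel
theorem ntab_E6_4 : nTabOK chevE6 (chevE6.simple 4) (nTabE6.getD 4 0) = true := by decide +kernel
theorem ntab_E6_5 : nTabOK chevE6 (chevE6.simple 5) (nTabE6.getD 5 0) = true := by decide +kernel

theorem ntab_E6 (i : ℕ) (hi : i < 6) : nTabOK chevE6 (chevE6.simple i) (nTabE6.getD i 0) = true := by
  interval_cases i
  · exact ntab_E6_0
  · exact ntab_E6_1
  · exact ntab_E6_2
  · exact ntab_E6_3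
  · exact ntab_E6_4
  · exact ntab_E6_5

theorem refl_E6_0_0 : allRange (fun s => reflOK2 chevE6 (nTabE6.getD 0 0) 0 s) 0 72 = true := by decide +kernel

theorem refl_E6_0 (s : ℕ) (hs : s < 72) : reflOK2 chevE6 (nTabE6.getD 0 0) 0 s = true := by
  exact allRange_elim refl_E6_0_0 s (by omega) hs

theorem refl_E6_1_0 : allRange (fun s => reflOK2 chevE6 (nTabE6.getD 1 0) 1 s) 0 72 = true := by decide +kernel

theorem refl_E6_1 (s : ℕ) (hs : s < 72) : reflOK2 chevE6 (nTabE6.getD 1 0) 1 s = true := by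
  exact allRange_elim refl_E6_1_0 s (by omega) hs

theorem refl_E6_2_0 : allRange (fun s => reflOK2 chevE6 (nTabE6.getD 2 0) 2 s) 0 72 = true := by decide +kernel

theorem refl_E6_2 (s : ℕ) (hs : s < 72) : reflOK2 chevE6 (nTabE6.getD 2 0) 2 s = true := by
  exact allRange_elim refl_E6_2_0 s (by omega) hs

theorem refl_E6_3_0 : allRange (fun s => reflOK2 chevE6 (nTabE6.getD 3 0) 3 s) 0 72 = true := by decide +kernel

theorem refl_E6_3 (s : ℕ) (hs : s < 72) : reflOK2 chevE6 (nTabE6.getD 3 0) 3 s = true := by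
  exact allRange_elim refl_E6_3_0 s (by omega) hs

theorem refl_E6_4_0 : allRange (fun s => reflOK2 chevE6 (nTabE6.getD 4 0) 4 s) 0 72 = true := by decide +kernel

theorem refl_E6_4 (s : ℕ) (hs : s < 72) : reflOK2 chevE6 (nTabE6.getD 4 0) 4 s = true := by
  exact allRange_elim refl_E6_4_0 s (by omega) hs

theorem refl_E6_5_0 : allRange (fun s => reflOK2 chevE6 (nTabE6.getD 5 0) 5 s) 0 72 = true := by decide +kernel

theorem refl_E6_5 (s : ℕ) (hs : s < 72) : reflOK2 chevE6 (nTabE6.getD 5 0) 5 s = true := by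
  exact allRange_elim refl_E6_5_0 s (by omega) hs


end Cfsg.Agent.Lib.Helper24
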