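import Cfsg.Agent.Lib.Helper24.NTab
import Cfsg.Agent.Lib.Helper24.ReflFast
import Cfsg.Agent.Lib.Helper24.Range
import Cfsg.Prelude.Def_LieTypes
import Cfsg.Prelude.Def_ChevB2
import Cfsg.Prelude.Def_ChevD4

set_option autoImplicit false

namespace Cfsg.Agent.Lib.Helper24

open Cfsg.Lie

theorem refl_E7_5_0 : allRange (fun s => reflOK2 chevE7 (nTabE7.getD 5 0) 5 s) 0 63 = true := by decide +kernel
theorem refl_E7_5_1 : allRange (fun s => reflOK2 chevE7 (nTabE7.getD 5 0) 5 s) 63 126 = true := by decide +kernel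

theorem refl_E7_5 (s : ℕ) (hs : s < 126) : reflOK2 chevE7 (nTabE7.getD 5 0) 5 s = true := by
  by_cases h0 : s < 63
  · exact allRange_elim refl_E7_5_0 s (by omega) h0
  exact allRange_elim refl_E7_5_1 s (by omega) hs


end Cfsg.Agent.Lib.Helper24
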