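import Cfsg.Agent.Lib.Helper24.NTab
import Cfsg.Agent.Lib.Helper24.ReflFast
import Cfsg.Agent.Lib.Helper24.Range
import Cfsg.Prelude.Def_LieTypes
import Cfsg.Prelude.Def_ChevB2
import Cfsg.Prelude.Def_ChevD4
import Cfsg.Agent.Lib.Helper24.RF_E8_5

set_option autoImplicit false

namespace Cfsg.Agent.Lib.Helper24

open Cfsg.Lie

theorem refl_E8_6_0 : allRange (fun s => reflOK2 chevE8 (nTabE8.getD 6 0) 6 s) 0 48 = true := by decide +kernel
theorem refl_E8_6_1 : allRange (fun s => reflOK2 chevE8 (nTabE8.getD 6 0) 6 s) 48 96 = true := by decide +kernel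
theorem refl_E8_6_2 : allRange (fun s => reflOK2 chevE8 (nTabE8.getD 6 0) 6 s) 96 144 = true := by decide +kernel
theorem refl_E8_6_3 : allRange (fun s => reflOK2 chevE8 (nTabE8.getD 6 0) 6 s) 144 192 = true := by decide +kernel
theorem refl_E8_6_4 : allRange (fun s => reflOK2 chevE8 (nTabE8.getD 6 0) 6 s) 192 240 = true := by decide +kernel

theorem refl_E8_6 (s : ℕ) (hs : s < 240) : reflOK2 chevE8 (nTabE8.getD 6 0) 6 s = true := by
  by_cases h0 : s < 48
  · exact allRange_elim refl_E8_6_0 s (by omega) h0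
  by_cases h1 : s < 96
  · exact allRange_elim refl_E8_6_1 s (by omega) h1
  by_cases h2 : s < 144
  · exact allRange_elim refl_E8_6_2 s (by omega) h2
  by_cases h3 : s < 192
  · exact allRange_elim refl_E8_6_3 s (by omega) h3
  exact allRange_elim refl_E8_6_4 s (by omega) hs


end Cfsg.Agent.Lib.Helper24
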