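import Cfsg.Agent.Lib.Helper24.NTab
import Cfsg.Agent.Lib.Helper24.ReflFast
import Cfsg.Agent.Lib.Helper24.Range
import Cfsg.Prelude.Def_LieTypes
import Cfsg.Prelude.Def_ChevB2
import Cfsg.Prelude.Def_ChevD4

set_option autoImplicit false

namespace Cfsg.Agent.Lib.Helper24

open Cfsg.Lie

theorem ntab_G2_0 : nTabOK chevG2 (chevG2.simple 0) (nTabG2.getD 0 0) = true := by decide +kernel
theorem ntab_G2_1 : nTabOK chevG2 (chevG2.simple 1) (nTabG2.getD 1 0) = true := by decide +kernel

theorem ntab_G2 (i : ℕ) (hi : i < 2) : nTabOK chevG2 (chevG2.simple i) (nTabG2.getD i 0) = true := by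
  interval_cases i
  · exact ntab_G2_0
  · exact ntab_G2_1

theorem refl_G2_0_0 : allRange (fun s => reflOK2 chevG2 (nTabG2.getD 0 0) 0 s) 0 12 = true := by decide +kernel

theorem refl_G2_0 (s : ℕ) (hs : s < 12) : reflOK2 chevG2 (nTabG2.getD 0 0) 0 s = true := by
  exact allRange_elim refl_G2_0_0 s (by omega) hs

theorem refl_G2_1_0 : allRange (fun s => reflOK2 chevG2 (nTabG2.getD 1 0) 1 s) 0 12 = true := by decide +kernel

theorem refl_G2_1 (s : ℕ) (hs : s < 12) : reflOK2 chevG2 (nTabG2.getD 1 0) 1 s = true := by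
  exact allRange_elim refl_G2_1_0 s (by omega) hs


end Cfsg.Agent.Lib.Helper24
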