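import Cfsg.Agent.Lib.Helper24.NTab
import Cfsg.Agent.Lib.Helper24.NDef
import Cfsg.Agent.Lib.Helper24.RF_G2
import Cfsg.Agent.Lib.Helper24.RF_B2
import Cfsg.Agent.Lib.Helper24.RF_D4
import Cfsg.Agent.Lib.Helper24.RF_F4
import Cfsg.Agent.Lib.Helper24.RF_E6
import Cfsg.Agent.Lib.Helper24.NT_E7
import Cfsg.Agent.Lib.Helper24.RF_E7_0
import Cfsg.Agent.Lib.Helper24.RF_E7_1
import Cfsg.Agent.Lib.Helper24.RF_E7_2
import Cfsg.Agent.Lib.Helper24.RF_E7_3
import Cfsg.Agent.Lib.Helper24.RF_E7_4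
import Cfsg.Agent.Lib.Helper24.RF_E7_5
import Cfsg.Agent.Lib.Helper24.RF_E7_6
import Cfsg.Agent.Lib.Helper24.NT_E8
import Cfsg.Agent.Lib.Helper24.RF_E8_0
import Cfsg.Agent.Lib.Helper24.RF_E8_1
import Cfsg.Agent.Lib.Helper24.RF_E8_2
import Cfsg.Agent.Lib.Helper24.RF_E8_3
import Cfsg.Agent.Lib.Helper24.RF_E8_4
import Cfsg.Agent.Lib.Helper24.RF_E8_5
import Cfsg.Agent.Lib.Helper24.RF_E8_6
import Cfsg.Agent.Lib.Helper24.RF_E8_7

set_option autoImplicit false

namespace Cfsg.Agent.Lib.Helper24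

open Cfsg.Lie

theorem nfacts_G2 : NFacts chevG2 nTabG2 where
  ntab := fun i hi => ntab_G2 i hi
  refl := by
    intro i hi s hs
    have hi' : i < 2 := hi
    have hs' : s < 12 := hs
    interval_cases i
    · exact refl_G2_0 s hs'
    · exact refl_G2_1 s hs'

theorem nfacts_B2 : NFacts chevB2 nTabB2 where
  ntab := fun i hi => ntab_B2 i hi
  refl := by
    intro i hi s hs
    have hi' : i < 2 := hi
    have hs' : s < 8 := hs
    interval_cases i
    · exact refl_B2_0 s hs'
    · exact refl_B2_1 s hs'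

theorem nfacts_D4 : NFacts chevD4 nTabD4 where
  ntab := fun i hi => ntab_D4 i hi
  refl := by
    intro i hi s hs
    have hi' : i < 4 := hi
    have hs' : s < 24 := hs
    interval_cases i
    · exact refl_D4_0 s hs'
    · exact refl_D4_1 s hs'
    · exact refl_D4_2 s hs'
    · exact refl_D4_3 s hs'

theorem nfacts_F4 : NFacts chevF4 nTabF4 where
  ntab := fun i hi => ntab_F4 i hi
  refl := by
    intro i hi s hs
    have hi' : i < 4 := hi
    have hs' : s < 48 := hs
    interval_cases i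
    · exact refl_F4_0 s hs'
    · exact refl_F4_1 s hs'
    · exact refl_F4_2 s hs'
    · exact refl_F4_3 s hs'

theorem nfacts_E6 : NFacts chevE6 nTabE6 where
  ntab := fun i hi => ntab_E6 i hi
  refl := by
    intro i hi s hs
    have hi' : i < 6 := hi
    have hs' : s < 72 := hs
    interval_cases i
    · exact refl_E6_0 s hs'
    · exact refl_E6_1 s hs'
    · exact refl_E6_2 s hs'
    · exact refl_E6_3 s hs'
    · exact refl_E6_4 s hs'
    · exact refl_E6_5 s hs'

theorem nfacts_E7 : NFacts chevE7 nTabE7 where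
  ntab := fun i hi => ntab_E7 i hi
  refl := by
    intro i hi s hs
    have hi' : i < 7 := hi
    have hs' : s < 126 := hs
    interval_cases i
    · exact refl_E7_0 s hs'
    · exact refl_E7_1 s hs'
    · exact refl_E7_2 s hs'
    · exact refl_E7_3 s hs'
    · exact refl_E7_4 s hs'
    · exact refl_E7_5 s hs'
    · exact refl_E7_6 s hs'

theorem nfacts_E8 : NFacts chevE8 nTabE8 where
  ntab := fun i hi => ntab_E8 i hi
  refl := by
    intro i hi s hs
    have hi' : i < 8 := hi
    have hs' : s < 240 := hs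
    interval_cases i
    · exact refl_E8_0 s hs'
    · exact refl_E8_1 s hs'
    · exact refl_E8_2 s hs'
    · exact refl_E8_3 s hs'
    · exact refl_E8_4 s hs'
    · exact refl_E8_5 s hs'
    · exact refl_E8_6 s hs'
    · exact refl_E8_7 s hs'

theorem nfacts_all (D : ChevalleyDatum)
    (hD : D ∈ [chevG2, chevB2, chevD4, chevF4, chevE6, chevE7, chevE8]) : ∃ tab, NFacts D tab := by
  simp only [List.mem_cons, List.not_mem_nil, or_false] at hD
  rcases hD with rfl | rfl | rfl | rfl | rfl | rfl | rfl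
  · exact ⟨_, nfacts_G2⟩
  · exact ⟨_, nfacts_B2⟩
  · exact ⟨_, nfacts_D4⟩
  · exact ⟨_, nfacts_F4⟩
  · exact ⟨_, nfacts_E6⟩
  · exact ⟨_, nfacts_E7⟩
  · exact ⟨_, nfacts_E8⟩

end Cfsg.Agent.Lib.Helper24
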