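import Cfsg.Agent.Lib.Helper24.CentRoot
import Cfsg.Agent.Lib.Helper24.RFAll
import Cfsg.Agent.Lib.Helper24.HT_E6
import Cfsg.Agent.Lib.Helper24.HT_E7
import Cfsg.Agent.Lib.Helper24.HT_E8
import Cfsg.Agent.Lib.Helper24.HT_F4
import Cfsg.Agent.Lib.Helper24.HT_G2
import Cfsg.Agent.Lib.Helper24.PC_E6
import Cfsg.Agent.Lib.Helper24.PC_E7
import Cfsg.Agent.Lib.Helper24.PC_E8
import Cfsg.Agent.Lib.Helper24.PC_F4
import Cfsg.Agent.Lib.Helper24.PC_G2

/-! The tables for the centralisers of the root involutions `x_r(1)` in characteristic two. -/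

set_option autoImplicit false
set_option linter.unusedSimpArgs false
set_option maxRecDepth 100000

namespace Cfsg.Agent.Lib.Helper24

open Cfsg.Lie

/-- `X_r` commutes, in characteristic two, with the `X_s`, `s` positive or in `L` -/
def centTabOK (D : ChevalleyDatum) (r : ℕ) (L : List ℕ) : Bool :=
  allBelow (fun s => !(decide (D.IsPosRoot s) || L.contains s) || Nat.beq s r || commEvenOK D r s)
    D.nroots

section centtab

variable {F : Type*} [Field F] {D : ChevalleyDatum} {tab : List ℕ} {orb : List (ℕ × ℕ × ℕ)}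

theorem Env.comm_of_centTab [CharP F 2] (E : Env D F tab orb) (r : ℕ) (L : List ℕ)
    (hLlt : ∀ s ∈ L, s < D.nroots) (h : centTabOK D r L = true) :
    ∀ s, (D.IsPosRoot s ∨ s ∈ L) → ∀ u t' : F, Commute (E.hF.xGL s u) (E.hF.xGL r t') := by
  intro s hs u t'
  have hslt : s < D.nroots := by
    rcases hs with hs | hs
    · exact hs.1
    · exact hLlt s hs
  have h1 := allBelow_elim _ _ h s hslt
  simp only [Bool.or_eq_true, Bool.not_eq_true', decide_eq_false_iff_not, List.contains_iff_mem,
    nbeq_true] at h1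
  rcases h1 with (h1 | h1) | h1
  · exfalso
    rw [Bool.or_eq_false_iff] at h1
    rcases hs with hs | hs
    · exact absurd hs (by simpa using h1.1)
    · have := h1.2
      simp only [List.contains_eq_mem, decide_eq_false_iff_not] at this
      exact this hs
  · subst h1
    show E.hF.xGL s u * E.hF.xGL s t' = E.hF.xGL s t' * E.hF.xGL s u
    rw [E.hF.xGL_mul, E.hF.xGL_mul, add_comm]
  · exact (E.commute_of_commEvenOK r s h1 t' u).symm

end centtab

theorem centTab_E6 : centTabOK chevE6 71 [15, 29, 32, 34, 35] = true := by decide +kernel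

theorem centTab_E7 : centTabOK chevE7 125 [47, 52, 56, 59, 61, 62] = true := by decide +kernel

theorem centTab_E8 : centTabOK chevE8 239 [77, 98, 104, 109, 113, 116, 118] = true := by
  decide +kernel

theorem centTab_F4_47 : centTabOK chevF4 47 [14, 20, 22] = true := by decide +kernel

theorem centTab_F4_44 : centTabOK chevF4 44 [20, 22, 23] = true := by decide +kernel

theorem centTab_G2_11 : centTabOK chevG2 11 [4] = true := by decide +kernel

section centinst

variable {F : Type*} [Field F] [CharP F 2]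

theorem centralizer_E6 (t : GL chevE6.Idx F)
    (ht : (t : Matrix chevE6.Idx chevE6.Idx F) = chevE6.x F 71 1) :
    chevE6.group F ⊓ Subgroup.centralizer {t} =
      rootClosure chevE6 F (fun s => chevE6.IsPosRoot s ∨ s ∈ [15, 29, 32, 34, 35]) := by
  obtain ⟨E⟩ := env_of_facts (F := F) chevE6 (by simp) nTabE6 orbTabE6 nfacts_E6 hnfacts_E6
    cfacts_E6
  have hLlt : ∀ s ∈ [15, 29, 32, 34, 35], s < chevE6.nroots := by decide
  exact E.centralizer_root simpleOK_E6 71 1 [15, 29, 32, 34, 35] (by decide) (by decide)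
    (by decide) hLlt (E.comm_of_centTab 71 _ hLlt centTab_E6) (by decide) (by decide) t ht

theorem centralizer_E7 (t : GL chevE7.Idx F)
    (ht : (t : Matrix chevE7.Idx chevE7.Idx F) = chevE7.x F 125 1) :
    chevE7.group F ⊓ Subgroup.centralizer {t} =
      rootClosure chevE7 F (fun s => chevE7.IsPosRoot s ∨ s ∈ [47, 52, 56, 59, 61, 62]) := by
  obtain ⟨E⟩ := env_of_facts (F := F) chevE7 (by simp) nTabE7 orbTabE7 nfacts_E7 hnfacts_E7
    cfacts_E7
  have hLlt : ∀ s ∈ [47, 52, 56, 59, 61, 62], s < chevE7.nroots := by decide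
  exact E.centralizer_root simpleOK_E7 125 0 [47, 52, 56, 59, 61, 62] (by decide) (by decide)
    (by decide) hLlt (E.comm_of_centTab 125 _ hLlt centTab_E7) (by decide) (by decide) t ht

theorem centralizer_E8 (t : GL chevE8.Idx F)
    (ht : (t : Matrix chevE8.Idx chevE8.Idx F) = chevE8.x F 239 1) :
    chevE8.group F ⊓ Subgroup.centralizer {t} =
      rootClosure chevE8 F (fun s => chevE8.IsPosRoot s ∨ s ∈ [77, 98, 104, 109, 113, 116, 118]) := by
  obtain ⟨E⟩ := env_of_facts (F := F) chevE8 (by simp) nTabE8 orbTabE8 nfacts_E8 hnfacts_E8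
    cfacts_E8
  have hLlt : ∀ s ∈ [77, 98, 104, 109, 113, 116, 118], s < chevE8.nroots := by decide
  exact E.centralizer_root simpleOK_E8 239 7 [77, 98, 104, 109, 113, 116, 118] (by decide)
    (by decide) (by decide) hLlt (E.comm_of_centTab 239 _ hLlt centTab_E8) (by decide) (by decide)
    t ht

theorem centralizer_F4_47 (t : GL chevF4.Idx F)
    (ht : (t : Matrix chevF4.Idx chevF4.Idx F) = chevF4.x F 47 1) :
    chevF4.group F ⊓ Subgroup.centralizer {t} =
      rootClosure chevF4 F (fun s => chevF4.IsPosRoot s ∨ s ∈ [14, 20, 22]) := by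
  obtain ⟨E⟩ := env_of_facts (F := F) chevF4 (by simp) nTabF4 orbTabF4 nfacts_F4 hnfacts_F4
    cfacts_F4
  have hLlt : ∀ s ∈ [14, 20, 22], s < chevF4.nroots := by decide
  exact E.centralizer_root simpleOK_F4 47 3 [14, 20, 22] (by decide) (by decide)
    (by decide) hLlt (E.comm_of_centTab 47 _ hLlt centTab_F4_47) (by decide) (by decide) t ht

theorem centralizer_F4_44 (t : GL chevF4.Idx F)
    (ht : (t : Matrix chevF4.Idx chevF4.Idx F) = chevF4.x F 44 1) :
    chevF4.group F ⊓ Subgroup.centralizer {t} =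
      rootClosure chevF4 F (fun s => chevF4.IsPosRoot s ∨ s ∈ [20, 22, 23]) := by
  obtain ⟨E⟩ := env_of_facts (F := F) chevF4 (by simp) nTabF4 orbTabF4 nfacts_F4 hnfacts_F4
    cfacts_F4
  have hLlt : ∀ s ∈ [20, 22, 23], s < chevF4.nroots := by decide
  exact E.centralizer_root simpleOK_F4 44 0 [20, 22, 23] (by decide) (by decide)
    (by decide) hLlt (E.comm_of_centTab 44 _ hLlt centTab_F4_44) (by decide) (by decide) t ht

theorem centralizer_G2_11 (t : GL chevG2.Idx F)
    (ht : (t : Matrix chevG2.Idx chevG2.Idx F) = chevG2.x F 11 1) :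
    chevG2.group F ⊓ Subgroup.centralizer {t} =
      rootClosure chevG2 F (fun s => chevG2.IsPosRoot s ∨ s ∈ [4]) := by
  obtain ⟨E⟩ := env_of_facts (F := F) chevG2 (by simp) nTabG2 orbTabG2 nfacts_G2 hnfacts_G2
    cfacts_G2
  have hLlt : ∀ s ∈ [4], s < chevG2.nroots := by decide
  exact E.centralizer_root simpleOK_G2 11 1 [4] (by decide) (by decide)
    (by decide) hLlt (E.comm_of_centTab 11 _ hLlt centTab_G2_11) (by decide) (by decide) t ht

end centinst

/-- the closure of the root elements for `U` and three further roots, as a join of root subgroups -/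
theorem rootClosure_pos_or_three (D : ChevalleyDatum) (F : Type*) [Field F] (a b c : ℕ) :
    rootClosure D F (fun s => D.IsPosRoot s ∨ s ∈ [a, b, c]) =
      D.posUnipotent F ⊔ D.rootSubgroup F a ⊔ D.rootSubgroup F b ⊔ D.rootSubgroup F c := by
  apply le_antisymm
  · unfold rootClosure
    rw [Subgroup.closure_le]
    rintro g ⟨s, u, hs | hs, hg⟩
    · exact Subgroup.mem_sup_left (Subgroup.mem_sup_left (Subgroup.mem_sup_left
        (Subgroup.subset_closure ⟨s, u, hs, hg⟩)))
    · simp only [List.mem_cons, List.not_mem_nil, or_false] at hs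
      rcases hs with rfl | rfl | rfl
      · exact Subgroup.mem_sup_left (Subgroup.mem_sup_left (Subgroup.mem_sup_right
          (Subgroup.subset_closure ⟨u, hg⟩)))
      · exact Subgroup.mem_sup_left (Subgroup.mem_sup_right (Subgroup.subset_closure ⟨u, hg⟩))
      · exact Subgroup.mem_sup_right (Subgroup.subset_closure ⟨u, hg⟩)
  · have hroot : ∀ x, x ∈ [a, b, c] →
        D.rootSubgroup F x ≤ rootClosure D F (fun s => D.IsPosRoot s ∨ s ∈ [a, b, c]) := by
      intro x hx
      unfold ChevalleyDatum.rootSubgroup rootClosure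
      apply Subgroup.closure_mono
      rintro g ⟨u, hg⟩
      exact ⟨x, u, Or.inr hx, hg⟩
    refine sup_le (sup_le (sup_le ?_ (hroot a (by simp))) (hroot b (by simp))) (hroot c (by simp))
    unfold ChevalleyDatum.posUnipotent rootClosure
    apply Subgroup.closure_mono
    rintro g ⟨s, u, hs, hg⟩
    exact ⟨s, u, Or.inl hs, hg⟩

/-- the closure of the root elements for `U` and one further root, as a join -/
theorem rootClosure_pos_or_one (D : ChevalleyDatum) (F : Type*) [Field F] (a : ℕ) :
    rootClosure D F (fun s => D.IsPosRoot s ∨ s ∈ [a]) =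
      D.posUnipotent F ⊔ D.rootSubgroup F a := by
  apply le_antisymm
  · unfold rootClosure
    rw [Subgroup.closure_le]
    rintro g ⟨s, u, hs | hs, hg⟩
    · exact Subgroup.mem_sup_left (Subgroup.subset_closure ⟨s, u, hs, hg⟩)
    · simp only [List.mem_cons, List.not_mem_nil, or_false] at hs
      subst hs
      exact Subgroup.mem_sup_right (Subgroup.subset_closure ⟨u, hg⟩)
  · refine sup_le ?_ ?_
    · unfold ChevalleyDatum.posUnipotent rootClosure
      apply Subgroup.closure_mono
      rintro g ⟨s, u, hs, hg⟩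
      exact ⟨s, u, Or.inl hs, hg⟩
    · unfold ChevalleyDatum.rootSubgroup rootClosure
      apply Subgroup.closure_mono
      rintro g ⟨u, hg⟩
      exact ⟨a, u, Or.inr (by simp), hg⟩

end Cfsg.Agent.Lib.Helper24
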