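import Cfsg.Agent.Lib.Helper24.ReflFast

set_option autoImplicit false
set_option linter.unusedSimpArgs false

namespace Cfsg.Agent.Lib.Helper24

open Cfsg.Lie

/-- the chain table entry, read off the packed table -/
def chainEntryF (D : ChevalleyDatum) (r s : ℕ) : List (ℕ × ℤ) :=
  (shapeFast D r s).map fun e => (e.1, e.2.1)

/-- the keys of the chain row `r` are distinct and its targets are roots -/
def chainRowOK (D : ChevalleyDatum) (r : ℕ) : Bool :=
  (D.chain.getD r #[]).toList.all fun e =>
    decide (((D.chain.getD r #[]).toList.filter fun e' => e'.1 = e.1).length ≤ 1) &&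
      e.2.toList.all fun q => decide (q.1 < D.nroots)

theorem zipIdx_map_fst' {α : Type*} (l : List α) (n : ℕ) : (l.zipIdx n).map Prod.fst = l := by
  induction l generalizing n with
  | nil => rfl
  | cons a l ih => simp [List.zipIdx_cons, ih]

theorem chainEntryF_eq (D : ChevalleyDatum) (hT : TableOK D) (r s : ℕ) (hR : chainRowOK D r = true)
    (hr : r < D.nroots) (hs : s < D.nroots) : chainEntryF D r s = D.chainEntry r s := by
  unfold chainEntryF
  rw [shapeFast_eq D hT r s hr hs]
  unfold shapeSpec ChevalleyDatum.chainEntry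
  rw [← List.head?_filter]
  simp only [chainRowOK, List.all_eq_true, Bool.and_eq_true, decide_eq_true_eq] at hR
  generalize hfl : (D.chain.getD r #[]).toList.filter (fun e => decide (e.1 = s)) = fl
  cases fl with
  | nil => rfl
  | cons e rest =>
    have hmem : e ∈ (D.chain.getD r #[]).toList.filter (fun e => decide (e.1 = s)) := by
      rw [hfl]; exact List.mem_cons_self
    rw [List.mem_filter] at hmem
    obtain ⟨hel, hes⟩ := hmem
    have hes' : e.1 = s := by simpa using hes
    have hlen := (hR e hel).1
    rw [hes', hfl] at hlen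
    have hrest : rest = [] := by
      cases rest with
      | nil => rfl
      | cons _ _ => simp at hlen
    subst hrest
    simp only [List.flatMap_cons, List.flatMap_nil, List.append_nil, List.head?_cons, List.map_map]
    have : ((fun e : ℕ × ℤ × ℕ => (e.1, e.2.1)) ∘ fun q : (ℕ × ℤ) × ℕ => (q.1.1, q.1.2, q.2 + 1)) =
        Prod.fst := by
      funext q; rfl
    rw [this, zipIdx_map_fst']

theorem chainEntry_target_lt (D : ChevalleyDatum) (r s : ℕ) (hR : chainRowOK D r = true)
    (q : ℕ × ℤ) (hq : q ∈ D.chainEntry r s) : q.1 < D.nroots := by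
  unfold ChevalleyDatum.chainEntry at hq
  simp only [chainRowOK, List.all_eq_true, Bool.and_eq_true, decide_eq_true_eq] at hR
  split at hq
  · exact absurd hq (List.not_mem_nil)
  · rename_i e he
    have hel := List.mem_of_find?_eq_some he
    exact (hR e hel).2 q hq

def chainRootF (D : ChevalleyDatum) (r s i : ℕ) : Option ℕ := ((chainEntryF D r s)[i - 1]?).map Prod.fst

def chainMF (D : ChevalleyDatum) (r s i : ℕ) : ℤ := (((chainEntryF D r s)[i - 1]?).map Prod.snd).getD 0

/-- `commTerms`, read off the packed table -/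
def commTermsF (D : ChevalleyDatum) (r s : ℕ) : List (ℕ × ℤ × ℕ × ℕ) :=
  let rs := chainRootF D r s 1
  let cands : List (Option ℕ × ℤ × ℕ × ℕ) :=
    [ (chainRootF D r s 1, chainMF D r s 1, 1, 1),
      (chainRootF D r s 2, chainMF D r s 2, 2, 1),
      (chainRootF D s r 2, chainMF D s r 2, 1, 2),
      (chainRootF D r s 3, chainMF D r s 3, 3, 1),
      (chainRootF D s r 3, - chainMF D s r 3, 1, 3),
      ((chainRootF D r s 3).bind fun k => chainRootF D k s 1, (rs.map fun k => chainMF D k r 2 / 3).getD 0, 3, 2),
      ((chainRootF D s r 3).bind fun k => chainRootF D k r 1, (rs.map fun k => -2 * chainMF D k s 2 / 3).getD 0, 2, 3) ]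
  cands.filterMap fun c => c.1.map fun k => (k, c.2)

/-- the table checks behind `commTermsF` -/
structure ChainOK (D : ChevalleyDatum) : Prop where
  table : TableOK D
  rows : ∀ r < D.nroots, chainRowOK D r = true

theorem ChainOK.rootF_eq {D : ChevalleyDatum} (h : ChainOK D) (r s i : ℕ) (hr : r < D.nroots)
    (hs : s < D.nroots) : chainRootF D r s i = D.chainRoot r s i := by
  unfold chainRootF ChevalleyDatum.chainRoot
  rw [chainEntryF_eq D h.table r s (h.rows r hr) hr hs]

theorem ChainOK.mF_eq {D : ChevalleyDatum} (h : ChainOK D) (r s i : ℕ) (hr : r < D.nroots)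
    (hs : s < D.nroots) : chainMF D r s i = D.chainM r s i := by
  unfold chainMF ChevalleyDatum.chainM
  rw [chainEntryF_eq D h.table r s (h.rows r hr) hr hs]

theorem ChainOK.chainRoot_lt {D : ChevalleyDatum} (h : ChainOK D) (r s i k : ℕ) (hr : r < D.nroots)
    (hk : D.chainRoot r s i = some k) : k < D.nroots := by
  unfold ChevalleyDatum.chainRoot at hk
  rw [Option.map_eq_some_iff] at hk
  obtain ⟨q, hq, rfl⟩ := hk
  exact chainEntry_target_lt D r s (h.rows r hr) q (List.mem_of_getElem? hq)

theorem ChainOK.commTermsF_eq {D : ChevalleyDatum} (h : ChainOK D) (r s : ℕ) (hr : r < D.nroots)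
    (hs : s < D.nroots) : commTermsF D r s = D.commTerms r s := by
  unfold commTermsF ChevalleyDatum.commTerms
  simp only [h.rootF_eq r s _ hr hs, h.rootF_eq s r _ hs hr, h.mF_eq r s _ hr hs, h.mF_eq s r _ hs hr]
  have e1 : ((D.chainRoot r s 3).bind fun k => chainRootF D k s 1) =
      (D.chainRoot r s 3).bind fun k => D.chainRoot k s 1 := by
    cases hk : D.chainRoot r s 3 with
    | none => rfl
    | some k =>
      simp only [Option.bind_some]
      exact h.rootF_eq k s 1 (h.chainRoot_lt r s 3 k hr hk) hs
  have e2 : ((D.chainRoot s r 3).bind fun k => chainRootF D k r 1) =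
      (D.chainRoot s r 3).bind fun k => D.chainRoot k r 1 := by
    cases hk : D.chainRoot s r 3 with
    | none => rfl
    | some k =>
      simp only [Option.bind_some]
      exact h.rootF_eq k r 1 (h.chainRoot_lt s r 3 k hs hk) hr
  have e3 : ((D.chainRoot r s 1).map fun k => chainMF D k r 2 / 3) =
      (D.chainRoot r s 1).map fun k => D.chainM k r 2 / 3 := by
    cases hk : D.chainRoot r s 1 with
    | none => rfl
    | some k =>
      simp only [Option.map_some]
      rw [h.mF_eq k r 2 (h.chainRoot_lt r s 1 k hr hk) hr]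
  have e4 : ((D.chainRoot r s 1).map fun k => -2 * chainMF D k s 2 / 3) =
      (D.chainRoot r s 1).map fun k => -2 * D.chainM k s 2 / 3 := by
    cases hk : D.chainRoot r s 1 with
    | none => rfl
    | some k =>
      simp only [Option.map_some]
      rw [h.mF_eq k s 2 (h.chainRoot_lt r s 1 k hr hk) hs]
  rw [e1, e2, e3, e4]

end Cfsg.Agent.Lib.Helper24
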