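import Cfsg.Agent.Lib.Helper24.PairOrbit
import Cfsg.Agent.Lib.Helper24.Words

set_option autoImplicit false
set_option linter.unusedSimpArgs false

namespace Cfsg.Agent.Lib.Helper24

open Cfsg.Lie

/-- the right-hand side of the commutator formula, with `t = x0` and `u = x1` -/
def commWordS (D : ChevalleyDatum) (r s : ℕ) : List (ℕ × Poly) :=
  (D.commTerms r s).map fun c => (c.1, Poly.mul (Poly.mul (Poly.ofInt c.2.1)
    (Poly.pow (Poly.neg Poly.x0) c.2.2.1)) (Poly.pow Poly.x1 c.2.2.2))

/-- the commutator formula for the pair `(r, s)`, checked directly -/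
def commFullOK (D : ChevalleyDatum) (r s : ℕ) : Bool :=
  checkWordF D false ([r, s] ++ (D.commTerms r s).map (fun c => c.1))
    [(s, Poly.x1), (r, Poly.x0)] ([(r, Poly.x0), (s, Poly.x1)] ++ commWordS D r s)

/-- `-r` is the root with index `n - 1 - r` -/
def negRevOK (D : ChevalleyDatum) : Bool :=
  allBelow (fun r => Nat.beq (D.neg r) (D.nroots - 1 - r)) D.nroots

section comm

variable {F : Type*} [Field F] {D : ChevalleyDatum} {tab : List ℕ} {orb : List (ℕ × ℕ × ℕ)}

theorem denW_commWordS (D : ChevalleyDatum) (r s : ℕ) (t u : F) :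
    denW t u 1 1 (commWordS D r s) = D.commWord F r s t u := by
  unfold denW commWordS ChevalleyDatum.commWord
  rw [List.map_map]
  apply List.map_congr_left
  intro c _
  simp only [Function.comp, Poly.den_mul, Poly.den_ofInt, Poly.den_pow, Poly.den_neg, Poly.den_x0,
    Poly.den_x1]

theorem Facts.comm_of_commFullOK (hF : Facts D) (r s : ℕ) (h : commFullOK D r s = true) (t u : F) :
    hF.xGL s u * hF.xGL r t = hF.xGL r t * hF.xGL s u * hF.wordGL (D.commWord F r s t u) := by
  have h1 := wordMat_eq_of_checkWordF D t u 1 1 hF.table false (by simp) _ _ _ h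
  apply Units.ext
  simp only [Units.val_mul, Facts.xGL_val, hF.wordGL_val]
  have e : denW t u 1 1 ([(r, Poly.x0), (s, Poly.x1)] ++ commWordS D r s) =
      [(r, t), (s, u)] ++ D.commWord F r s t u := by
    rw [← denW_commWordS]
    simp [denW]
  rw [e] at h1
  simpa [ChevalleyDatum.wordMat, denW, mul_assoc] using h1

theorem Facts.wordGL_cons (hF : Facts D) (p : ℕ × F) (L : List (ℕ × F)) :
    hF.wordGL (p :: L) = hF.xGL p.1 p.2 * hF.wordGL L := by
  simp [Facts.wordGL]

/-- conjugation of a word by `n_{p_i}` -/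
theorem Facts.nS_conj_wordGL (hF : Facts D) (hN : NFacts D tab) (i : ℕ) (hi : i < D.rank)
    (L : List (ℕ × F)) (hL : ∀ p ∈ L, p.1 < D.nroots) :
    hF.nS i * hF.wordGL L * (hF.nS i)⁻¹ =
      hF.wordGL (L.map fun p => (D.reflectRoot i p.1, ((etaT D (tab.getD i 0) p.1 : ℤ) : F) * p.2)) := by
  induction L with
  | nil => simp [Facts.wordGL]
  | cons p L ih =>
    rw [hF.wordGL_cons, List.map_cons, hF.wordGL_cons, ← ih (fun q hq => hL q (List.mem_cons_of_mem _ hq)),
      ← hF.nS_conj' hN i hi p.1 (hL p List.mem_cons_self)]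
    group

/-- the commutator formula for a pair, as an identity in the general linear group -/
def Facts.QF (hF : Facts D) (F : Type*) [Field F] (r s : ℕ) : Prop :=
  ∀ t u : F, hF.xGL s u * hF.xGL r t = hF.xGL r t * hF.xGL s u * hF.wordGL (D.commWord F r s t u)

theorem conj_mul2 {G : Type*} [Group G] (n a b : G) :
    n * (a * b) * n⁻¹ = (n * a * n⁻¹) * (n * b * n⁻¹) := by group

theorem Facts.comm_step (hF : Facts D) (hN : NFacts D tab) (hC : ChainOK D)
    (i : ℕ) (hi : i < D.rank) (hP : permOK D (tab.getD i 0) i = true)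
    (r' s' : ℕ) (hr' : r' < D.nroots) (hs' : s' < D.nroots)
    (hterms : ∀ c ∈ commTermsF D r' s', c.1 < D.nroots)
    (hmap : termsMap D (tab.getD i 0) r' s' (commTermsF D r' s') =
      commTermsF D (wfast D.rank (tab.getD i 0) r') (wfast D.rank (tab.getD i 0) s'))
    (hQ : hF.QF F r' s') :
    hF.QF F (wfast D.rank (tab.getD i 0) r') (wfast D.rank (tab.getD i 0) s') := by
  have hwr := wfast_eq D _ i hP r' hr'
  have hws := wfast_eq D _ i hP s' hs'
  have hrlt := hN.reflectRoot_lt i hi r' hr'
  have hslt := hN.reflectRoot_lt i hi s' hs'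
  rw [hC.commTermsF_eq r' s' hr' hs', hwr, hws, hC.commTermsF_eq _ _ hrlt hslt] at hmap
  rw [hC.commTermsF_eq r' s' hr' hs'] at hterms
  rw [hwr, hws]
  intro t u
  set P := tab.getD i 0 with hPdef
  have hηr : ((etaT D P r' : ℤ) : F) * (((etaT D P r' : ℤ) : F) * t) = t := by
    rcases etaT_cases D P r' with h | h <;> rw [h] <;> simp
  have hηs : ((etaT D P s' : ℤ) : F) * (((etaT D P s' : ℤ) : F) * u) = u := by
    rcases etaT_cases D P s' with h | h <;> rw [h] <;> simp
  have h0 := hQ (((etaT D P r' : ℤ) : F) * t) (((etaT D P s' : ℤ) : F) * u)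
  have h1 := congrArg (fun x => hF.nS i * x * (hF.nS i)⁻¹) h0
  simp only [conj_mul2] at h1
  rw [hF.nS_conj' hN i hi s' hs', hF.nS_conj' hN i hi r' hr', hηr, hηs,
    hF.nS_conj_wordGL hN i hi _ (by
      intro p hp
      unfold ChevalleyDatum.commWord at hp
      simp only [List.mem_map] at hp
      obtain ⟨c, hc, rfl⟩ := hp
      exact hterms c hc)] at h1
  rw [h1]
  congr 2
  unfold ChevalleyDatum.commWord
  rw [← hmap, termsMap, List.map_map, List.map_map]
  apply List.map_congr_left
  intro c hc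
  simp only [Function.comp]
  rw [wfast_eq D _ i hP c.1 (hterms c hc)]
  congr 1
  push_cast
  ring

/-- S1025 from the table of pairs -/
theorem Facts.comm_formula (hF : Facts D) (hN : NFacts D tab) (hH : HNFacts D tab orb) (hC : ChainOK D)
    (hNeg : negRevOK D = true) (T : ℕ) (reps : List (ℕ × ℕ))
    (hall : ∀ k < D.nroots * D.nroots, pairStepOK D tab T reps k = true)
    (hreps : ∀ p ∈ reps, commFullOK D p.1 p.2 = true)
    (r s : ℕ) (hr : r < D.nroots) (hs : s < D.nroots) (hrs : s ≠ r) (hneg : s ≠ D.neg r) (t u : F) :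
    D.x F s u * D.x F r t = D.x F r t * D.x F s u * D.wordMat F (D.commWord F r s t u) := by
  have hnegrev : ∀ x < D.nroots, D.neg x = D.nroots - 1 - x := fun x hx =>
    Nat.eq_of_beq_eq_true (allBelow_elim _ _ hNeg x hx)
  have key := pair_induction D tab T reps (fun r s => hF.QF F r s) hall
    (fun p hp => hF.comm_of_commFullOK p.1 p.2 (hreps p hp))
    (by
      intro i hi x hx
      have hc := allBelow_elim _ _ (hH.negc i hi) x hx
      simp only [Bool.and_eq_true, decide_eq_true_eq] at hc
      obtain ⟨⟨hnx, hw⟩, _⟩ := hc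
      have hw' := Nat.eq_of_beq_eq_true hw
      have hwx : wfast D.rank (tab.getD i 0) x < D.nroots := by
        rw [wfast_eq D _ i (hH.perm i hi) x hx]
        exact hN.reflectRoot_lt i hi x hx
      rw [← hnegrev x hx, ← hw', hnegrev _ hwx])
    (by
      intro r s i r' s' hi hr' hs' h4 h5 h7 h8 hQ
      subst h4 h5
      exact hF.comm_step hN hC i hi (hH.perm i hi) r' s' hr' hs' h7 h8 hQ)
    r hr s hs hrs (by rw [← hnegrev r hr]; exact hneg) t u
  have h2 := congrArg (fun g : GL D.Idx F => (g : Matrix D.Idx D.Idx F)) key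
  simpa only [Units.val_mul, Facts.xGL_val, hF.wordGL_val] using h2

end comm

end Cfsg.Agent.Lib.Helper24
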