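import Cfsg.Agent.Lib.Helper24.Orbit

set_option autoImplicit false
set_option linter.unusedSimpArgs false

namespace Cfsg.Agent.Lib.Helper24

open Cfsg.Lie

/-- compatibility of the reflection and of the signs with negation of roots -/
def negCompatOK (D : ChevalleyDatum) (P : ℕ) : Bool :=
  allBelow (fun s => decide (D.neg s < D.nroots) &&
    Nat.beq (D.neg (wfast D.rank P s)) (wfast D.rank P (D.neg s)) &&
    decide (etaT D P s = etaT D P (D.neg s))) D.nroots

/-- the verified facts used for the normality of `H` in `N` -/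
structure HNFacts (D : ChevalleyDatum) (tab : List ℕ) (orb : List (ℕ × ℕ × ℕ)) : Prop where
  perm : ∀ i < D.rank, permOK D (tab.getD i 0) i = true
  negc : ∀ i < D.rank, negCompatOK D (tab.getD i 0) = true
  orbit : orbitOK D tab orb = true

section hnormal

variable {F : Type*} [Field F] {D : ChevalleyDatum} {tab : List ℕ} {orb : List (ℕ × ℕ × ℕ)}

theorem Facts.nS_conj' (hF : Facts D) (hN : NFacts D tab) (i : ℕ) (hi : i < D.rank) (s : ℕ)
    (hs : s < D.nroots) (t : F) :
    hF.nS i * hF.xGL s t * (hF.nS i)⁻¹ =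
      hF.xGL (D.reflectRoot i s) (((etaT D (tab.getD i 0) s : ℤ) : F) * t) := by
  rw [mul_inv_eq_iff_eq_mul]
  apply Units.ext
  rw [Units.val_mul, Units.val_mul, hF.nS_val, Facts.xGL_val, Facts.xGL_val]
  exact refl_explicit D hF.table (tab.getD i 0) i s hs (hN.ntab i hi) (hN.refl i hi s hs) t

theorem conj_mul3 {G : Type*} [Group G] (n a b c : G) :
    n * (a * b * c) * n⁻¹ = (n * a * n⁻¹) * (n * b * n⁻¹) * (n * c * n⁻¹) := by group

/-- conjugation of `n_s(u)` by `n_{p_i}` -/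
theorem Facts.nS_conj_nGL (hF : Facts D) (hN : NFacts D tab) (hH : HNFacts D tab orb) (i : ℕ)
    (hi : i < D.rank) (s : ℕ) (hs : s < D.nroots) (u : F) :
    hF.nS i * hF.nGL s u * (hF.nS i)⁻¹ =
      hF.nGL (D.reflectRoot i s) (((etaT D (tab.getD i 0) s : ℤ) : F) * u) := by
  have hc := allBelow_elim _ _ (hH.negc i hi) s hs
  simp only [Bool.and_eq_true, decide_eq_true_eq] at hc
  obtain ⟨⟨hns, hw⟩, hη⟩ := hc
  have hw' := Nat.eq_of_beq_eq_true hw
  rw [wfast_eq D _ i (hH.perm i hi) s hs, wfast_eq D _ i (hH.perm i hi) _ hns] at hw'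
  rw [hF.nGL_def, hF.nGL_def, conj_mul3, hF.nS_conj' hN i hi s hs, hF.nS_conj' hN i hi _ hns,
    ← hw', ← hη]
  congr 2
  rcases etaT_cases D (tab.getD i 0) s with h | h <;> rw [h] <;> simp

theorem conj_mem_closure {G : Type*} [Group G] (S : Set G) (a : G)
    (ha : ∀ x ∈ S, a * x * a⁻¹ ∈ Subgroup.closure S) :
    ∀ n ∈ Subgroup.closure S, a * n * a⁻¹ ∈ Subgroup.closure S := by
  intro n hn
  induction hn using Subgroup.closure_induction with
  | mem x hx => exact ha x hx
  | one => simp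
  | mul x y _ _ hx hy =>
    have : a * (x * y) * a⁻¹ = (a * x * a⁻¹) * (a * y * a⁻¹) := by group
    rw [this]; exact Subgroup.mul_mem _ hx hy
  | inv x _ hx =>
    have : a * x⁻¹ * a⁻¹ = (a * x * a⁻¹)⁻¹ := by group
    rw [this]; exact Subgroup.inv_mem _ hx

theorem Facts.hGL_mem (hF : Facts D) (s : ℕ) (hs : s < D.nroots) (t : F) (ht : t ≠ 0) :
    hF.nGL s t * hF.nGL s (-1 : F) ∈ D.diagonalSubgroup F := by
  apply Subgroup.subset_closure
  refine ⟨s, t, hs, ht, ?_⟩
  rw [Units.val_mul]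
  unfold Facts.nGL
  rw [hF.wordGL_val, hF.wordGL_val]
  simp [ChevalleyDatum.hMat, ChevalleyDatum.hWord, ChevalleyDatum.wordMat, List.map_append,
    List.prod_append]

theorem Facts.nGL_neg_one_eq_inv (hF : Facts D) (s : ℕ) : hF.nGL s (-1 : F) = (hF.nGL s (1 : F))⁻¹ :=
  eq_inv_of_mul_eq_one_left (hF.nGL_neg_one_mul s)

theorem Facts.nGL_sq_mem (hF : Facts D) (s : ℕ) (hs : s < D.nroots) :
    hF.nGL s (1 : F) * hF.nGL s (1 : F) ∈ D.diagonalSubgroup F := by
  have h := hF.hGL_mem s hs (-1 : F) (neg_ne_zero.mpr one_ne_zero)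
  rw [hF.nGL_neg_one_eq_inv] at h
  have h2 := Subgroup.inv_mem _ h
  rwa [mul_inv_rev, inv_inv] at h2

/-- `n_{p_i}` maps the generators of `H` into `H` -/
theorem Facts.nS_conj_hgen (hF : Facts D) (hN : NFacts D tab) (hH : HNFacts D tab orb) (i : ℕ)
    (hi : i < D.rank) (x : GL D.Idx F)
    (hx : x ∈ {g : GL D.Idx F | ∃ (r : ℕ) (t : F), r < D.nroots ∧ t ≠ 0 ∧
      (g : Matrix D.Idx D.Idx F) = D.hMat F r t}) :
    hF.nS i * x * (hF.nS i)⁻¹ ∈ D.diagonalSubgroup F := by
  obtain ⟨s, t, hs, ht, hx⟩ := hx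
  have hx' : x = hF.nGL s t * hF.nGL s (-1 : F) := by
    apply Units.ext
    rw [hx, Units.val_mul]
    unfold Facts.nGL
    rw [hF.wordGL_val, hF.wordGL_val]
    simp [ChevalleyDatum.hMat, ChevalleyDatum.hWord, ChevalleyDatum.wordMat, List.map_append,
      List.prod_append]
  have hs' := hN.reflectRoot_lt i hi s hs
  have e : hF.nS i * (hF.nGL s t * hF.nGL s (-1 : F)) * (hF.nS i)⁻¹ =
      (hF.nS i * hF.nGL s t * (hF.nS i)⁻¹) * (hF.nS i * hF.nGL s (-1 : F) * (hF.nS i)⁻¹) := by group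
  rw [hx', e, hF.nS_conj_nGL hN hH i hi s hs, hF.nS_conj_nGL hN hH i hi s hs]
  rcases etaT_cases D (tab.getD i 0) s with h | h
  · rw [h]
    simp only [Int.cast_one, one_mul]
    exact hF.hGL_mem _ hs' t ht
  · rw [h]
    simp only [Int.cast_neg, Int.cast_one, neg_mul, one_mul, neg_neg]
    -- n(-t) n(1) = (n(-t) n(-1)) (n(1) n(1))
    have e2 : hF.nGL (D.reflectRoot i s) (-t) * hF.nGL (D.reflectRoot i s) (1 : F) =
        (hF.nGL (D.reflectRoot i s) (-t) * hF.nGL (D.reflectRoot i s) (-1 : F)) *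
          (hF.nGL (D.reflectRoot i s) (1 : F) * hF.nGL (D.reflectRoot i s) (1 : F)) := by
      rw [hF.nGL_neg_one_eq_inv]; group
    rw [e2]
    exact Subgroup.mul_mem _ (hF.hGL_mem _ hs' (-t) (neg_ne_zero.mpr ht)) (hF.nGL_sq_mem _ hs')

theorem Facts.nS_mem_normalizer (hF : Facts D) (hN : NFacts D tab) (hH : HNFacts D tab orb) (i : ℕ)
    (hi : i < D.rank) (hsi : D.simple i < D.nroots) :
    hF.nS i ∈ Subgroup.normalizer (D.diagonalSubgroup F : Set (GL D.Idx F)) := by
  have key := conj_mem_closure _ (hF.nS (F := F) i) (fun x hx => hF.nS_conj_hgen hN hH i hi x hx)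
  unfold ChevalleyDatum.diagonalSubgroup
  apply mem_normalizer_closure
  · exact fun x hx => hF.nS_conj_hgen hN hH i hi x hx
  · intro x hx
    -- n⁻¹ x n = n (n⁻² x n²) n⁻¹
    have hsq : hF.nS (F := F) i * hF.nS i ∈ D.diagonalSubgroup F := hF.nGL_sq_mem _ hsi
    have hxH : x ∈ D.diagonalSubgroup F := Subgroup.subset_closure hx
    have h1 : (hF.nS (F := F) i * hF.nS i)⁻¹ * x * (hF.nS i * hF.nS i) ∈ D.diagonalSubgroup F :=
      Subgroup.mul_mem _ (Subgroup.mul_mem _ (Subgroup.inv_mem _ hsq) hxH) hsq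
    have h2 := key _ h1
    have e : (hF.nS (F := F) i)⁻¹ * x * hF.nS i =
        hF.nS i * ((hF.nS i * hF.nS i)⁻¹ * x * (hF.nS i * hF.nS i)) * (hF.nS i)⁻¹ := by group
    rw [e]
    exact h2

/-- every `n_r(1)` normalises `H` -/
theorem Facts.nGL_mem_normalizer (hF : Facts D) (hN : NFacts D tab) (hH : HNFacts D tab orb) (r : ℕ)
    (hr : r < D.nroots) :
    hF.nGL r (1 : F) ∈ Subgroup.normalizer (D.diagonalSubgroup F : Set (GL D.Idx F)) := by
  refine orbit_induction D tab orb hH.orbit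
    (fun r => r < D.nroots ∧
      hF.nGL r (1 : F) ∈ Subgroup.normalizer (D.diagonalSubgroup F : Set (GL D.Idx F))) ?_ ?_ r hr
    |>.2
  · intro j hj hsj _
    exact ⟨hsj, hF.nS_mem_normalizer hN hH j hj hsj⟩
  · intro r i r' hi hr' hw _ ⟨_, hQ⟩
    rw [wfast_eq D _ i (hH.perm i hi) r' hr'] at hw
    subst hw
    have hlt := hN.reflectRoot_lt i hi r' hr'
    refine ⟨hlt, ?_⟩
    have hsi : D.simple i < D.nroots := by
      have := hH.orbit
      simp only [orbitOK, Bool.and_eq_true, simpleSuppOK, List.all_eq_true, List.mem_range,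
        decide_eq_true_eq] at this
      exact (this.1 i hi).1
    have hn := hF.nS_mem_normalizer (F := F) hN hH i hi hsi
    have hc := hF.nS_conj_nGL (F := F) hN hH i hi r' hr' 1
    have hmem : hF.nS i * hF.nGL r' (1 : F) * (hF.nS i)⁻¹ ∈
        Subgroup.normalizer (D.diagonalSubgroup F : Set (GL D.Idx F)) :=
      Subgroup.mul_mem _ (Subgroup.mul_mem _ hn hQ) (Subgroup.inv_mem _ hn)
    rw [hc] at hmem
    rcases etaT_cases D (tab.getD i 0) r' with h | h
    · rw [h] at hmem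
      simpa using hmem
    · rw [h] at hmem
      simp only [Int.cast_neg, Int.cast_one, neg_mul, one_mul] at hmem
      rw [hF.nGL_neg_one_eq_inv] at hmem
      simpa using Subgroup.inv_mem _ hmem

/-- S1038 -/
theorem Facts.diagonal_normal (hF : Facts D) (hN : NFacts D tab) (hH : HNFacts D tab orb) :
    ((D.diagonalSubgroup F).subgroupOf (D.monomialSubgroup F)).Normal := by
  have hle : D.diagonalSubgroup F ≤ D.monomialSubgroup F := by
    unfold ChevalleyDatum.monomialSubgroup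
    exact le_sup_left
  rw [Subgroup.normal_subgroupOf_iff_le_normalizer hle]
  unfold ChevalleyDatum.monomialSubgroup
  apply sup_le Subgroup.le_normalizer
  rw [Subgroup.closure_le]
  rintro g ⟨r, hr, hg⟩
  have : g = hF.nGL r (1 : F) := by
    apply Units.ext
    rw [hg]
    unfold Facts.nGL
    rw [hF.wordGL_val]
    rfl
  rw [this]
  exact hF.nGL_mem_normalizer hN hH r hr

end hnormal

end Cfsg.Agent.Lib.Helper24
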