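import Cfsg.Agent.Lib.Helper24.HStruct
import Cfsg.Agent.Lib.Helper24.HNormal

set_option autoImplicit false
set_option linter.unusedSimpArgs false

namespace Cfsg.Agent.Lib.Helper24

open Cfsg.Lie

/-- `-r ≠ r` -/
def negNeOK (D : ChevalleyDatum) : Bool :=
  allBelow (fun r => decide (D.neg r < D.nroots) && !(Nat.beq (D.neg r) r)) D.nroots

section core

variable {F : Type*} [Field F] {D : ChevalleyDatum} {tab : List ℕ} {orb : List (ℕ × ℕ × ℕ)}

theorem Eexp_root (D : ChevalleyDatum) (i r : ℕ) : Eexp D i (D.rank + r) = D.cartan i r := by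
  unfold Eexp
  rw [if_neg (by omega)]
  congr 1
  omega

theorem torusEntry_compat (hF : Facts D) (c : ℕ → F) (hc : ∀ i, c i ≠ 0) (r : ℕ) (hr : r < D.nroots)
    (l : List ℕ) (hl : ∀ i ∈ l, i < D.rank)
    (i' j : D.Idx) (e : ℕ × ℤ × ℕ) (he : e ∈ fullShape D r (enc D j)) (hei : e.1 = enc D i') :
    torusEntry D l c (enc D i') = torusEntry D l c (D.rank + r) ^ e.2.2 * torusEntry D l c (enc D j) := by
  induction l with
  | nil => simp [torusEntry]
  | cons i l ih =>
    have hi := hl i List.mem_cons_self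
    simp only [torusEntry, List.map_cons, List.prod_cons] at ih ⊢
    rw [ih (fun k hk => hl k (List.mem_cons_of_mem _ hk)),
      Eexp_compat D hF.table hF.cartanF r hr (hF.cartanOK r hr) i hi i' j e he hei, Eexp_root,
      zpow_add₀ (hc i), mul_comm (e.2.2 : ℤ), zpow_mul, zpow_natCast, mul_pow]
    ring

/-- conjugation of root elements by a diagonal matrix of torus form -/
theorem Facts.torus_mul_xMat (hF : Facts D) (c : ℕ → F) (hc : ∀ i, c i ≠ 0) (r : Fin D.nroots) (t : F) :
    Matrix.diagonal (fun idx : D.Idx => torusEntry D (List.range D.rank) c (enc D idx)) * D.xMat F r t =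
      D.xMat F r (torusEntry D (List.range D.rank) c (D.rank + r.val) * t) *
        Matrix.diagonal (fun idx : D.Idx => torusEntry D (List.range D.rank) c (enc D idx)) := by
  apply diag_mul_xMat
  intro i' j e he hei
  exact torusEntry_compat hF c hc r.val r.isLt _ (fun i hi => List.mem_range.mp hi) i' j e he hei

/-- `x_r(a) = 1` only for `a = 0` -/
theorem xMat_eq_one (hR : negNeOK D = true) (r : Fin D.nroots) (a : F) (h : D.xMat F r a = 1) :
    a = 0 := by
  have h1 := allBelow_elim _ _ hR r.val r.isLt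
  simp only [Bool.and_eq_true, decide_eq_true_eq, Bool.not_eq_true', nbeq_false] at h1
  obtain ⟨hlt, hne⟩ := h1
  have h2 := congrFun (congrFun h (Sum.inr r)) (Sum.inr ⟨D.neg r.val, hlt⟩)
  rw [xMat_entry] at h2
  have e1 : enc D (Sum.inr (⟨D.neg r.val, hlt⟩ : Fin D.nroots)) = D.rank + D.neg r.val := rfl
  have e2 : enc D (Sum.inr r : D.Idx) = D.rank + r.val := rfl
  have hfs : fullShape D r.val (D.rank + D.neg r.val) =
      (D.rank + r.val, -1, 2) :: (List.range D.rank).map
        (fun i => (i, (D.coroot.getD r.val #[]).getD i 0, 1)) := by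
    unfold fullShape
    rw [if_neg (by omega), if_neg (by omega), if_pos (by unfold ChevalleyDatum.neg; omega)]
  rw [e1, e2, hfs] at h2
  have hne' : ¬ (D.rank + D.neg r.val = D.rank + r.val) := by omega
  have hne'' : (Sum.inr r : D.Idx) ≠ Sum.inr ⟨D.neg r.val, hlt⟩ := by
    intro h
    have := Sum.inr.inj h
    exact hne (congrArg Fin.val this).symm
  rw [Matrix.one_apply_ne hne'', if_neg hne'] at h2
  simp only [List.map_cons, List.sum_cons, if_true, List.map_map] at h2
  have hz : ((List.range D.rank).map ((fun e : ℕ × ℤ × ℕ =>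
      if e.1 = D.rank + r.val then ((e.2.1 : ℤ) : F) * a ^ e.2.2 else 0) ∘
      fun i => (i, (D.coroot.getD r.val #[]).getD i 0, 1))).sum = 0 := by
    apply List.sum_eq_zero
    intro x hx
    simp only [List.mem_map, List.mem_range, Function.comp] at hx
    obtain ⟨i, hi, rfl⟩ := hx
    rw [if_neg (by omega)]
  rw [hz] at h2
  have : a ^ 2 = 0 := by
    have := h2
    simp only [zero_add, add_zero, Int.cast_neg, Int.cast_one, neg_mul, one_mul, neg_eq_zero] at this
    exact this
  exact pow_eq_zero_iff (two_ne_zero) |>.mp this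

theorem Facts.xGL_eq_one (hF : Facts D) (hR : negNeOK D = true) (r : ℕ) (hr : r < D.nroots) (a : F)
    (h : hF.xGL r a = 1) : a = 0 := by
  have h1 := congrArg (fun g : GL D.Idx F => (g : Matrix D.Idx D.Idx F)) h
  simp only [Facts.xGL_val, Units.val_one] at h1
  unfold ChevalleyDatum.x at h1
  rw [dif_pos hr] at h1
  exact xMat_eq_one hR ⟨r, hr⟩ a h1

theorem Facts.monomial_le_normalizer (hF : Facts D) (hN : NFacts D tab) (hH : HNFacts D tab orb) :
    D.monomialSubgroup F ≤ Subgroup.normalizer (D.diagonalSubgroup F : Set (GL D.Idx F)) := by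
  unfold ChevalleyDatum.monomialSubgroup
  apply sup_le Subgroup.le_normalizer
  rw [Subgroup.closure_le]
  rintro g ⟨r, hr, hg⟩
  have : g = hF.nGL r (1 : F) := by
    apply Units.ext
    rw [hg]
    unfold Facts.nGL
    rw [hF.wordGL_val]
    rfl
  rw [this]
  exact hF.nGL_mem_normalizer hN hH r hr

/-- an element of the group all of whose conjugates lie in `B` lies in `H` -/
theorem Facts.core_le_diagonal (hF : Facts D) (hN : NFacts D tab) (hH : HNFacts D tab orb)
    (n₀ : GL D.Idx F) (hn₀ : n₀ ∈ D.monomialSubgroup F)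
    (hconj : (D.posUnipotent F).map (MulAut.conj n₀).toMonoidHom = D.negUnipotent F)
    (κ : GL D.Idx F) (h1 : κ ∈ D.borelSubgroup F) (h2 : n₀⁻¹ * κ * n₀ ∈ D.borelSubgroup F) :
    κ ∈ D.diagonalSubgroup F := by
  have hnorm := hF.monomial_le_normalizer hN hH hn₀
  have hHmap : (D.diagonalSubgroup F).map (MulAut.conj n₀).toMonoidHom = D.diagonalSubgroup F := by
    have := Subgroup.mem_normalizer_iff_map_conj_eq.mp hnorm
    exact this
  have h3 : κ ∈ (D.borelSubgroup F).map (MulAut.conj n₀).toMonoidHom := by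
    refine ⟨n₀⁻¹ * κ * n₀, h2, ?_⟩
    simp only [MulEquiv.coe_toMonoidHom, MulAut.conj_apply]
    group
  unfold ChevalleyDatum.borelSubgroup at h3
  rw [Subgroup.map_sup, hconj, hHmap] at h3
  have h4 : κ ∈ D.borelSubgroup F ⊓ (D.negUnipotent F ⊔ D.diagonalSubgroup F) := ⟨h1, h3⟩
  rw [hF.borel_inf_neg.2] at h4
  exact h4

/-- S1051 -/
theorem Facts.core_eq_bot (hF : Facts D) (hN : NFacts D tab) (hH : HNFacts D tab orb)
    (hR : rootTableOK D = true) (hNe : negNeOK D = true)
    (n₀ : GL D.Idx F) (hn₀ : n₀ ∈ D.monomialSubgroup F)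
    (hconj : (D.posUnipotent F).map (MulAut.conj n₀).toMonoidHom = D.negUnipotent F) :
    ((D.borelSubgroup F).subgroupOf (D.group F)).normalCore = ⊥ := by
  rw [eq_bot_iff]
  intro k hk
  rw [Subgroup.mem_bot]
  -- every element of the core lies in `H`
  have hcoreH : ∀ k' ∈ ((D.borelSubgroup F).subgroupOf (D.group F)).normalCore,
      (k' : GL D.Idx F) ∈ D.diagonalSubgroup F := by
    intro k' hk'
    have hn₀G : n₀ ∈ D.group F := hF.monomial_le_group hn₀
    have a1 := hk' 1
    have a2 := hk' ⟨n₀⁻¹, Subgroup.inv_mem _ hn₀G⟩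
    rw [Subgroup.mem_subgroupOf] at a1 a2
    simp only [one_mul, inv_one, mul_one] at a1
    have a2' : n₀⁻¹ * (k' : GL D.Idx F) * n₀ ∈ D.borelSubgroup F := by
      simpa using a2
    exact hF.core_le_diagonal hN hH n₀ hn₀ hconj _ a1 a2'
  have hκ := hcoreH k hk
  obtain ⟨c, hc, hdiag⟩ := hF.diagonal_torus _ hκ
  -- the character values are trivial
  have hchar : ∀ r < D.nroots, torusEntry D (List.range D.rank) c (D.rank + r) = 1 := by
    intro r hr
    set d := torusEntry D (List.range D.rank) c (D.rank + r) with hd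
    have hxG : hF.xGL r (1 : F) ∈ D.group F := hF.xGL_mem_group r 1
    have hnorm : (⟨hF.xGL r (1 : F), hxG⟩ : ↥(D.group F)) * k * (⟨hF.xGL r (1 : F), hxG⟩)⁻¹ ∈
        ((D.borelSubgroup F).subgroupOf (D.group F)).normalCore :=
      (Subgroup.normalCore_normal _).conj_mem k hk _
    have h5 := hcoreH _ hnorm
    have h5' : hF.xGL r (1 : F) * (k : GL D.Idx F) * (hF.xGL r (1 : F))⁻¹ ∈ D.diagonalSubgroup F := by
      simpa using h5
    -- k x_r(-1) k⁻¹ = x_r(-d)
    have hconjk : (k : GL D.Idx F) * hF.xGL r (-1 : F) * (k : GL D.Idx F)⁻¹ = hF.xGL r (d * (-1 : F)) := by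
      rw [mul_inv_eq_iff_eq_mul]
      apply Units.ext
      rw [Units.val_mul, Units.val_mul, hdiag, Facts.xGL_val, Facts.xGL_val]
      unfold ChevalleyDatum.x
      rw [dif_pos hr, dif_pos hr]
      exact hF.torus_mul_xMat c hc ⟨r, hr⟩ (-1)
    have h6 : hF.xGL r (1 : F) * (k : GL D.Idx F) * (hF.xGL r (1 : F))⁻¹ * (k : GL D.Idx F)⁻¹ ∈
        D.diagonalSubgroup F := Subgroup.mul_mem _ h5' (Subgroup.inv_mem _ hκ)
    have e : hF.xGL r (1 : F) * (k : GL D.Idx F) * (hF.xGL r (1 : F))⁻¹ * (k : GL D.Idx F)⁻¹ =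
        hF.xGL r (1 + d * (-1 : F)) := by
      rw [hF.xGL_inv, ← hF.xGL_mul, ← hconjk]
      group
    rw [e] at h6
    have h7 : hF.xGL r (1 + d * (-1 : F)) = 1 := by
      obtain ⟨hpn, _⟩ := rootTableOK_spec D hR r hr
      rcases hpn with hp | hn
      · have : hF.xGL r (1 + d * (-1 : F)) ∈ D.posUnipotent F ⊓ D.diagonalSubgroup F :=
          ⟨hF.xGL_mem_pos r hp _, h6⟩
        rw [hF.borel_semidirect.2, Subgroup.mem_bot] at this
        exact this
      · have hB : hF.xGL r (1 + d * (-1 : F)) ∈ D.borelSubgroup F := by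
          unfold ChevalleyDatum.borelSubgroup
          exact Subgroup.mem_sup_right h6
        have : hF.xGL r (1 + d * (-1 : F)) ∈ D.borelSubgroup F ⊓ D.negUnipotent F :=
          ⟨hB, hF.xGL_mem_neg r hn _⟩
        rw [hF.borel_inf_neg.1, Subgroup.mem_bot] at this
        exact this
    have h8 := hF.xGL_eq_one hNe r hr _ h7
    have : d = 1 := by
      have : 1 - d = 0 := by rw [← h8]; ring
      exact (sub_eq_zero.mp this).symm
    exact this
  -- hence `k = 1`
  apply Subtype.ext
  apply Units.ext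
  rw [hdiag]
  simp only [Subgroup.coe_one, Units.val_one]
  rw [← Matrix.diagonal_one]
  congr 1
  funext idx
  rcases idx with i | s
  · have : enc D (Sum.inl i : D.Idx) < D.rank := i.isLt
    unfold torusEntry
    apply List.prod_eq_one
    intro x hx
    simp only [List.mem_map] at hx
    obtain ⟨j, _, rfl⟩ := hx
    simp [Eexp, this]
  · exact hchar s.val s.isLt

end core

end Cfsg.Agent.Lib.Helper24
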