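import Mathlib

/-! Cyclic Sylow subgroups from a large cyclic subgroup. -/

set_option autoImplicit false

namespace Cfsg.Agent.Lib.Helper24

/-- if the `p`-part of `|G|` divides the order of a cyclic subgroup, the Sylow `p`-subgroups of `G`
are cyclic -/
theorem sylow_isCyclic_of_cyclic_subgroup {G : Type*} [Group G] [Finite G] {p : ℕ} [Fact p.Prime]
    (C : Subgroup G) (hC : IsCyclic C)
    (h : ∀ k : ℕ, p ^ k ∣ Nat.card G → p ^ k ∣ Nat.card C) (P : Sylow p G) :
    IsCyclic (P : Subgroup G) := by
  have hp : p.Prime := Fact.out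
  -- a Sylow subgroup of `C`
  obtain ⟨Q₀⟩ : Nonempty (Sylow p C) := inferInstance
  have hQ₀ : Nat.card Q₀ = p ^ (Nat.card C).factorization p := Sylow.card_eq_multiplicity Q₀
  set Q : Subgroup G := (Q₀ : Subgroup C).map C.subtype with hQdef
  have hQcard : Nat.card Q = p ^ (Nat.card C).factorization p := by
    rw [← hQ₀, hQdef]
    exact Nat.card_congr ((Q₀ : Subgroup C).equivMapOfInjective C.subtype
      (Subgroup.subtype_injective C)).symm.toEquiv
  have hCG : Nat.card C ∣ Nat.card G := Subgroup.card_subgroup_dvd_card C
  have hle : (Nat.card C).factorization p ≤ (Nat.card G).factorization p := by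
    have := (Nat.factorization_le_iff_dvd Nat.card_pos.ne' Nat.card_pos.ne').mpr hCG
    exact this p
  have hge : (Nat.card G).factorization p ≤ (Nat.card C).factorization p := by
    have h1 : p ^ (Nat.card G).factorization p ∣ Nat.card G := Nat.ordProj_dvd _ _
    exact (hp.pow_dvd_iff_le_factorization Nat.card_pos.ne').mp (h _ h1)
  have heq : (Nat.card C).factorization p = (Nat.card G).factorization p := le_antisymm hle hge
  rw [heq] at hQcard
  set QS : Sylow p G := Sylow.ofCard Q hQcard with hQS
  have hQcyc : IsCyclic Q := by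
    haveI : IsCyclic (Q₀ : Subgroup C) := Subgroup.isCyclic _
    exact isCyclic_of_surjective ((Q₀ : Subgroup C).equivMapOfInjective C.subtype
      (Subgroup.subtype_injective C)).toMonoidHom
      ((Q₀ : Subgroup C).equivMapOfInjective C.subtype (Subgroup.subtype_injective C)).surjective
  obtain ⟨g, hg⟩ := MulAction.exists_smul_eq G QS P
  have hPQ : (P : Subgroup G) = Q.map (MulAut.conj g).toMonoidHom := by
    rw [← hg, Sylow.coe_subgroup_smul, hQS]
    rfl
  rw [hPQ]
  haveI := hQcyc
  exact isCyclic_of_surjective (Q.equivMapOfInjective (MulAut.conj g).toMonoidHom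
    (MulAut.conj g).injective).toMonoidHom
    (Q.equivMapOfInjective (MulAut.conj g).toMonoidHom (MulAut.conj g).injective).surjective

/-- subgroups of a group with cyclic Sylow `p`-subgroups, pulled back along an injective map -/
theorem sylow_isCyclic_of_injective {G G' : Type*} [Group G] [Group G'] [Finite G'] {p : ℕ}
    [Fact p.Prime] (f : G →* G') (hf : Function.Injective f)
    (h : ∀ P' : Sylow p G', IsCyclic (P' : Subgroup G')) (P : Sylow p G) :
    IsCyclic (P : Subgroup G) := by
  have hP : IsPGroup p ((P : Subgroup G).map f) := P.isPGroup'.map f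
  obtain ⟨P', hP'⟩ := hP.exists_le_sylow
  haveI := h P'
  -- `P.map f` is a subgroup of the cyclic group `P'`
  haveI : IsCyclic ((P : Subgroup G).map f) := by
    have : IsCyclic (((P : Subgroup G).map f).subgroupOf (P' : Subgroup G')) := Subgroup.isCyclic _
    exact isCyclic_of_surjective (Subgroup.subgroupOfEquivOfLe hP').toMonoidHom
      (Subgroup.subgroupOfEquivOfLe hP').surjective
  exact isCyclic_of_surjective ((P : Subgroup G).equivMapOfInjective f hf).symm.toMonoidHom
    ((P : Subgroup G).equivMapOfInjective f hf).symm.surjective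

end Cfsg.Agent.Lib.Helper24
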