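import Cfsg.Agent.Lib.Helper24.Sound

set_option autoImplicit false
set_option linter.unusedSimpArgs false

namespace Cfsg.Agent.Lib.Helper24

open Cfsg.Lie

/-- the columns on which `x_r` may act non-trivially -/
def suppList (D : ChevalleyDatum) (r : ℕ) : List ℕ :=
  List.range D.rank ++ (D.rank + D.negIdx.getD r 0) :: ((D.chain.getD r #[]).toList.map fun e => D.rank + e.1)

theorem colX_of_notin_supp (D : ChevalleyDatum) (r : ℕ) (a : Poly) (k : ℕ)
    (hk : k ∉ suppList D r) : colX D r a k = [(k, Poly.one)] := by
  simp only [suppList, List.mem_append, List.mem_range, List.mem_cons, List.mem_map, not_or] at hk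
  obtain ⟨h1, h2, h3⟩ := hk
  unfold colX
  rw [if_neg h1]
  split_ifs with h4 h5
  · rfl
  · exfalso; apply h2; omega
  · have : (D.chain.getD r #[]).toList.filter (fun e => e.1 = k - D.rank) = [] := by
      rw [List.filter_eq_nil_iff]
      intro e he
      simp only [decide_eq_true_eq]
      intro hek
      apply h3
      exact ⟨e, he, by omega⟩
    rw [this]
    rfl

/-- compare two vector transformers on a list of columns -/
def checkCols (red : Bool) (cols : List ℕ) (T1 T2 : SV → SV) : Bool :=
  cols.all fun k => vecIsZero red (subV (T1 [(k, Poly.one)]) (T2 [(k, Poly.one)]))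

section semantics

variable {F : Type*} [Field F] (D : ChevalleyDatum) (y0 y1 y2 y3 : F)

theorem denV_scaleV_one (v : SV) : denV D y0 y1 y2 y3 (scaleV Poly.one v) = denV D y0 y1 y2 y3 v := by
  rw [denV_scaleV]; simp

theorem applyX_fix (r : ℕ) (a : Poly) (k : ℕ) (hk : k ∉ suppList D r) :
    denV D y0 y1 y2 y3 (applyX D r a [(k, Poly.one)]) = denV D y0 y1 y2 y3 [(k, Poly.one)] := by
  unfold applyX
  split_ifs with h
  · simp only [List.flatMap_cons, List.flatMap_nil, List.append_nil]
    split_ifs with h2
    · rw [denV_scaleV_one, colX_of_notin_supp D r a k hk]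
    · funext i
      have : ¬ (k = enc D i) := fun e => h2 (e ▸ enc_lt D i)
      simp [denV, this]
  · rfl

theorem applyWord_fix (w : List (ℕ × Poly)) (k : ℕ) (hk : ∀ ra ∈ w, k ∉ suppList D ra.1) :
    denV D y0 y1 y2 y3 (applyWord D w [(k, Poly.one)]) = denV D y0 y1 y2 y3 [(k, Poly.one)] := by
  induction w with
  | nil => rfl
  | cons ra rest ih =>
    have h1 := ih (fun x hx => hk x (List.mem_cons_of_mem _ hx))
    have h2 := hk ra (List.mem_cons_self)
    simp only [applyWord, List.foldr_cons] at h1 ⊢
    rw [← x_mulVec_denV, h1, x_mulVec_denV]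
    exact applyX_fix D y0 y1 y2 y3 ra.1 ra.2 k h2

/-- columns to be checked for a pair of words -/
def wordCols (D : ChevalleyDatum) (w1 w2 : List (ℕ × Poly)) : List ℕ :=
  (w1 ++ w2).flatMap fun ra => suppList D ra.1

theorem wordMat_eq_of_checkCols (red : Bool) (hred : red = true → y0 * y1 = 1) (w1 w2 : List (ℕ × Poly))
    (h : checkCols red (wordCols D w1 w2) (applyWord D w1) (applyWord D w2) = true) :
    D.wordMat F (denW y0 y1 y2 y3 w1) = D.wordMat F (denW y0 y1 y2 y3 w2) := by
  simp only [checkCols, List.all_eq_true] at h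
  ext i j
  have key : denV D y0 y1 y2 y3 (applyWord D w1 [(enc D j, Poly.one)]) =
      denV D y0 y1 y2 y3 (applyWord D w2 [(enc D j, Poly.one)]) := by
    by_cases hj : enc D j ∈ wordCols D w1 w2
    · have h1 := h (enc D j) hj
      have h2 := denV_eq_zero_of_vecIsZero D y0 y1 y2 y3 red hred _ h1
      rw [denV_subV] at h2
      exact sub_eq_zero.mp h2
    · simp only [wordCols, List.mem_flatMap, not_exists, not_and, List.mem_append] at hj
      rw [applyWord_fix D y0 y1 y2 y3 w1 _ (fun ra hra => hj ra (Or.inl hra)),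
        applyWord_fix D y0 y1 y2 y3 w2 _ (fun ra hra => hj ra (Or.inr hra))]
  rw [← wordMat_mulVec_denV, ← wordMat_mulVec_denV, denV_single,
    Matrix.mulVec_single_one, Matrix.mulVec_single_one] at key
  have h3 := congrFun key i
  simpa only [Matrix.col_apply] using h3

end semantics

end Cfsg.Agent.Lib.Helper24
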