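import Cfsg.Agent.Lib.Helper24.TwU

set_option autoImplicit false
set_option linter.unusedSimpArgs false

namespace Cfsg.Agent.Lib.Helper24

open Cfsg.Lie

section twcount

variable {F : Type*} [Field F] {D : ChevalleyDatum} {tab : List ℕ} {orb : List (ℕ × ℕ × ℕ)}
variable {E : Env D F tab orb} {T : Tw D F E.hF} {Hd : List (ℕ × ℕ)} {Lc : List ℕ} {Λ : List ℤ}

theorem Tw.step_zero {hF : Facts D} (T : Tw D F hF) (h : ℕ) : T.step (h, (0 : F)) = (T.R h, 0) := by
  unfold Tw.step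
  simp

theorem Tw.cls_zero {hF : Facts D} (T : Tw D F hF) (k h : ℕ) : T.cls k (h, (0 : F)) = 1 := by
  induction k generalizing h with
  | zero => rfl
  | succ k ih =>
    rw [Tw.cls, T.step_zero, ih]
    unfold Tw.xp
    simp only
    rw [hF.xGL_zero, mul_one]

theorem TwU.grade_iter (hT : TwU E T Hd Lc Λ) (j s : ℕ) (hs : s < D.nroots) :
    gradeE D Λ (D.rank + T.R^[j] s) = gradeE D Λ (D.rank + s) := by
  induction j generalizing s with
  | zero => rfl
  | succ j ih => rw [Function.iterate_succ_apply, ih _ (T.hRlt s hs), hT.gR s hs]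

theorem rootClosure_mono (D : ChevalleyDatum) (F : Type*) [Field F] (Ψ Ψ' : ℕ → Prop)
    (h : ∀ s, Ψ s → Ψ' s) : rootClosure D F Ψ ≤ rootClosure D F Ψ' := by
  unfold rootClosure
  apply Subgroup.closure_mono
  rintro x ⟨s, u, hs, hx⟩
  exact ⟨s, u, h s hs, hx⟩

/-- the decomposition `cls · a` with `a` in later root subgroups is unique -/
theorem TwU.cls_mul_inj (hT : TwU E T Hd Lc Λ) (p : ℕ × ℕ) (hp : p ∈ Hd) (Later : ℕ → Prop)
    (hL : ∀ s, Later s → D.IsPosRoot s ∧ s ≠ p.1 ∧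
      gradeE D Λ (D.rank + p.1) ≤ gradeE D Λ (D.rank + s))
    (t t' : F) (a a' : GL D.Idx F) (ha : a ∈ rootClosure D F Later) (ha' : a' ∈ rootClosure D F Later)
    (e : T.cls p.2 (p.1, t) * a = T.cls p.2 (p.1, t') * a') : t = t' ∧ a = a' := by
  obtain ⟨hpos, hk⟩ := hT.hd p hp
  obtain ⟨k, hk'⟩ : ∃ k, p.2 = k + 1 := ⟨p.2 - 1, by omega⟩
  rw [hk'] at e
  rw [Tw.cls, Tw.cls] at e
  set Ψ : ℕ → Prop := fun s => s ∈ orbitL T.R k (T.R p.1) ∨ Later s with hΨ
  have hr : ∀ t : F, T.cls k (T.step (p.1, t)) ∈ rootClosure D F Ψ := fun t =>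
    rootClosure_mono D F _ _ (fun s hs => Or.inl hs) (T.cls_mem k (T.step (p.1, t)))
  have hΨa : ∀ a ∈ rootClosure D F Later, a ∈ rootClosure D F Ψ := fun a ha =>
    rootClosure_mono D F _ _ (fun s hs => Or.inr hs) ha
  have h1 : E.hF.xGL p.1 (t - t') = (T.cls k (T.step (p.1, t')) * a') *
      (T.cls k (T.step (p.1, t)) * a)⁻¹ := by
    have e1 : E.hF.xGL p.1 (t - t') = (E.hF.xGL p.1 t')⁻¹ * E.hF.xGL p.1 t := by
      rw [E.hF.xGL_inv, E.hF.xGL_mul]; congr 1; ring
    rw [e1, eq_mul_inv_iff_mul_eq]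
    have e2 : T.xp (p.1, t) = E.hF.xGL p.1 t := rfl
    have e3 : T.xp (p.1, t') = E.hF.xGL p.1 t' := rfl
    rw [e2, e3] at e
    rw [mul_assoc, mul_assoc] at e
    rw [mul_assoc, e]; group
  have h2 : E.hF.xGL p.1 (t - t') ∈ rootClosure D F Ψ := by
    rw [h1]
    exact Subgroup.mul_mem _ (Subgroup.mul_mem _ (hr t') (hΨa a' ha'))
      (Subgroup.inv_mem _ (Subgroup.mul_mem _ (hr t) (hΨa a ha)))
  have h3 := E.hF.eq_zero_of_xGL_mem_closure_tie E.hU.negNe E.hU.unit Λ Ψ p.1 hpos.1 (hT.g0 _ hpos)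
    (by
      rintro s (hs | hs)
      · obtain ⟨j, hj, rfl⟩ := (mem_orbitL T.R k _ s).mp hs
        rw [← Function.iterate_succ_apply]
        have hjpos := T.iter_pos (j + 1) _ hpos
        refine ⟨hjpos.1, fun hh => ?_, ?_⟩
        · exact (hT.comm p hp (j + 1) (by omega) (by omega)).2
            (E.neg_inj_pos _ _ hpos hjpos hh).symm
        · rw [hT.grade_iter (j + 1) _ hpos.1]
      · obtain ⟨h4, h5, h6⟩ := hL s hs
        exact ⟨h4.1, fun hh => h5 (E.neg_inj_pos _ _ hpos h4 hh).symm, h6⟩) _ h2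
  have h4 : t = t' := sub_eq_zero.mp h3
  subst h4
  exact ⟨rfl, mul_left_cancel e⟩

/-- the admissible parameters of a class -/
def Tw.Tpar {hF : Facts D} (T : Tw D F hF) (Ψ : ℕ → Prop) (p : ℕ × ℕ) : Set F :=
  {t | (T.step^[p.2] (p.1, t)).2 = t ∧ (¬ Ψ p.1 → t = 0)}

/-- the set of the products of `cls` elements with admissible parameters -/
def Tw.eltSet {hF : Facts D} (T : Tw D F hF) (Ψ : ℕ → Prop) : List (ℕ × ℕ) → Set (GL D.Idx F)
  | [] => {1}
  | p :: Hd => (fun x : F × GL D.Idx F => T.cls p.2 (p.1, x.1) * x.2) '' (T.Tpar Ψ p ×ˢ T.eltSet Ψ Hd)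

theorem Tw.eltSet_sub {hF : Facts D} (T : Tw D F hF) (Ψ : ℕ → Prop) (Hd : List (ℕ × ℕ)) :
    T.eltSet Ψ Hd ⊆ (rootClosure D F (· ∈ Hd.flatMap (fun p => orbitL T.R p.2 p.1)) : Set (GL D.Idx F)) := by
  induction Hd with
  | nil =>
    intro x hx
    rw [Tw.eltSet, Set.mem_singleton_iff] at hx
    rw [hx]; exact Subgroup.one_mem _
  | cons p Hd ih =>
    rintro x ⟨⟨t, a⟩, ⟨_, ha⟩, rfl⟩
    simp only
    rw [List.flatMap_cons]
    apply Subgroup.mul_mem
    · exact rootClosure_mono D F _ _ (fun s hs => List.mem_append_left _ hs) (T.cls_mem p.2 (p.1, t))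
    · exact rootClosure_mono D F _ _ (fun s hs => List.mem_append_right _ hs) (ih ha)

/-- the number of the elements of `eltSet` -/
theorem TwU.ncard_eltSet (hT : TwU E T Hd Lc Λ) (Ψ : ℕ → Prop) (pre Hd' : List (ℕ × ℕ))
    (hsplit : Hd = pre ++ Hd') :
    (T.eltSet Ψ Hd').ncard = (Hd'.map fun p => (T.Tpar Ψ p).ncard).prod := by
  induction Hd' generalizing pre with
  | nil => simp [Tw.eltSet]
  | cons p Hd' ih =>
    have hp : p ∈ Hd := by rw [hsplit]; simp
    rw [Tw.eltSet, List.map_cons, List.prod_cons, ← ih (pre ++ [p]) (by rw [hsplit]; simp),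
      ← Set.ncard_prod]
    apply Set.InjOn.ncard_image
    rintro ⟨t, a⟩ ⟨_, ha⟩ ⟨t', a'⟩ ⟨_, ha'⟩ e
    simp only at e
    -- the later roots
    have hLc := hT.hLc
    rw [hsplit, List.flatMap_append, List.flatMap_cons] at hLc
    obtain ⟨hpos, hk⟩ := hT.hd p hp
    obtain ⟨k, hk'⟩ : ∃ k, p.2 = k + 1 := ⟨p.2 - 1, by omega⟩
    have hmem : p.1 ∈ orbitL T.R p.2 p.1 := by rw [hk', orbitL]; exact List.mem_cons_self
    have hsorted := gradeSortedOK_spec Λ Lc hT.sorted
    have hnd := hT.nodup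
    rw [hLc] at hsorted hnd
    have hs2 := (List.pairwise_append.mp (List.pairwise_append.mp hsorted).2.1)
    have hn2 := (List.nodup_append.mp (List.nodup_append.mp hnd).2.1)
    have hL : ∀ s, s ∈ Hd'.flatMap (fun p => orbitL T.R p.2 p.1) → D.IsPosRoot s ∧ s ≠ p.1 ∧
        gradeE D Λ (D.rank + p.1) ≤ gradeE D Λ (D.rank + s) := by
      intro s hs
      refine ⟨hT.Lc_lt s (by rw [hLc]; simp [hs]), ?_, hs2.2.2 _ hmem _ hs⟩
      rintro rfl
      exact hn2.2.2 _ hmem _ hs rfl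
    obtain ⟨h1, h2⟩ := hT.cls_mul_inj p hp _ hL t t' a a' (T.eltSet_sub Ψ Hd' ha)
      (T.eltSet_sub Ψ Hd' ha') e
    rw [h1, h2]


theorem Tw.commute_cls {hF : Facts D} (T : Tw D F hF) (g : GL D.Idx F) (k : ℕ) (p : ℕ × F)
    (h : ∀ j < k, ∀ u : F, Commute g (hF.xGL (T.R^[j] p.1) u)) : Commute g (T.cls k p) := by
  induction k generalizing p with
  | zero => exact Commute.one_right g
  | succ k ih =>
    rw [Tw.cls]
    apply Commute.mul_right
    · exact h 0 (by omega) p.2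
    · apply ih
      intro j hj u
      have := h (j + 1) (by omega) u
      rwa [Function.iterate_succ_apply] at this

/-- the `cls` elements with admissible parameters are fixed -/
theorem TwU.cls_fixed (hT : TwU E T Hd Lc Λ) (p : ℕ × ℕ) (hp : p ∈ Hd) (t : F)
    (ht : (T.step^[p.2] (p.1, t)).2 = t) : T.σ (T.cls p.2 (p.1, t)) = T.cls p.2 (p.1, t) := by
  obtain ⟨hpos, hk⟩ := hT.hd p hp
  apply T.map_cls_of_closed p.2 (p.1, t) hpos.1
  · apply Prod.ext
    · rw [T.step_iter_fst]; exact hT.closed p hp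
    · exact ht
  · obtain ⟨k, hk'⟩ : ∃ k, p.2 = k + 1 := ⟨p.2 - 1, by omega⟩
    rw [hk', Tw.cls]
    apply Commute.mul_right (Commute.refl _)
    apply T.commute_cls
    intro j hj u
    have e : (T.step (p.1, t)).1 = T.R p.1 := rfl
    rw [e, ← Function.iterate_succ_apply]
    exact hT.commute_head p hp t u (j + 1) (by omega) (by omega)

theorem TwU.eltSet_sub_fix (hT : TwU E T Hd Lc Λ) (Ψ : ℕ → Prop)
    (hΨ : ∀ s < D.nroots, Ψ s → Ψ (T.R s)) (pre Hd' : List (ℕ × ℕ)) (hsplit : Hd = pre ++ Hd') :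
    T.eltSet Ψ Hd' ⊆ ((rootClosure D F (fun s => D.IsPosRoot s ∧ Ψ s) ⊓ T.Fx : Subgroup (GL D.Idx F)) :
      Set (GL D.Idx F)) := by
  induction Hd' generalizing pre with
  | nil =>
    intro x hx
    rw [Tw.eltSet, Set.mem_singleton_iff] at hx
    rw [hx]; exact Subgroup.one_mem _
  | cons p Hd' ih =>
    have hp : p ∈ Hd := by rw [hsplit]; simp
    obtain ⟨hpos, hk⟩ := hT.hd p hp
    rintro x ⟨⟨t, a⟩, ⟨⟨ht1, ht2⟩, ha⟩, rfl⟩
    simp only
    apply Subgroup.mul_mem _ _ (ih (pre ++ [p]) (by rw [hsplit]; simp) ha)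
    by_cases hΨp : Ψ p.1
    · refine ⟨?_, hT.cls_fixed p hp t ht1⟩
      apply rootClosure_mono D F _ _ _ (T.cls_mem p.2 (p.1, t))
      intro s hs
      obtain ⟨j, _, rfl⟩ := (mem_orbitL T.R p.2 p.1 s).mp hs
      refine ⟨T.iter_pos j _ hpos, ?_⟩
      have key : ∀ j : ℕ, Ψ (T.R^[j] p.1) := by
        intro j
        induction j with
        | zero => exact hΨp
        | succ j ihj =>
          rw [Function.iterate_succ_apply']
          exact hΨ _ (T.iter_lt j _ hpos.1) ihj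
      exact key j
    · have h0 : t = 0 := ht2 hΨp
      rw [h0, T.cls_zero]
      exact Subgroup.one_mem _

theorem TwU.fix_sub_eltSet (hT : TwU E T Hd Lc Λ) (u : GL D.Idx F) (hu : u ∈ D.posUnipotent F)
    (hfix : T.σ u = u) : u ∈ T.eltSet (fun _ => True) Hd := by
  obtain ⟨c, hc, htw⟩ := hT.exists_twisted u hu hfix
  rw [hc, hT.ordProd_eq_elt c htw]
  unfold Tw.elt
  have key : ∀ Hd' : List (ℕ × ℕ), (∀ p ∈ Hd', p ∈ Hd) →
      (Hd'.map fun p => T.cls p.2 (p.1, c p.1)).prod ∈ T.eltSet (fun _ => True) Hd' := by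
    intro Hd'
    induction Hd' with
    | nil => intro _; simp [Tw.eltSet]
    | cons p Hd' ih =>
      intro h
      rw [List.map_cons, List.prod_cons, Tw.eltSet]
      refine ⟨(c p.1, _), ⟨⟨?_, fun h => absurd trivial h⟩,
        ih (fun q hq => h q (List.mem_cons_of_mem _ hq))⟩, rfl⟩
      have hp := h p List.mem_cons_self
      rw [T.step_iter_twisted c htw p.1 (hT.hd p hp).1, hT.closed p hp]
  exact key Hd (fun _ h => h)

end twcount

section twcount2

variable {F : Type*} [Field F] [Fintype F] {D : ChevalleyDatum} {tab : List ℕ} {orb : List (ℕ × ℕ × ℕ)}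
variable {E : Env D F tab orb} {T : Tw D F E.hF} {Hd : List (ℕ × ℕ)} {Lc : List ℕ} {Λ : List ℤ}

open Classical in
/-- the exponent of the order of the fixed points in the subgroup of the roots in `Ψ` -/
noncomputable def twExp (Ψ : ℕ → Prop) (Hd : List (ℕ × ℕ)) : ℕ :=
  (Hd.map fun p => if Ψ p.1 then p.2 else 0).sum

theorem TwU.prod_Tpar (hT : TwU E T Hd Lc Λ) (q : ℕ)
    (hpar : ∀ p ∈ Hd, {t : F | (T.step^[p.2] (p.1, t)).2 = t}.ncard = q ^ p.2) (Ψ : ℕ → Prop)
    (Hd' : List (ℕ × ℕ)) (hsub : ∀ p ∈ Hd', p ∈ Hd) :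
    (Hd'.map fun p => (T.Tpar Ψ p).ncard).prod = q ^ twExp Ψ Hd' := by
  classical
  induction Hd' with
  | nil => simp [twExp]
  | cons p Hd' ih =>
    have hp := hsub p List.mem_cons_self
    rw [List.map_cons, List.prod_cons, ih (fun q hq => hsub q (List.mem_cons_of_mem _ hq))]
    unfold twExp
    rw [List.map_cons, List.sum_cons, pow_add]
    congr 1
    by_cases hΨ : Ψ p.1
    · rw [if_pos hΨ, ← hpar p hp]
      congr 1
      ext t
      simp only [Tw.Tpar, Set.mem_ofPred_eq]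
      exact ⟨fun h => h.1, fun h => ⟨h, fun h' => absurd hΨ h'⟩⟩
    · rw [if_neg hΨ, pow_zero]
      have : T.Tpar Ψ p = {0} := by
        ext t
        simp only [Tw.Tpar, Set.mem_ofPred_eq, Set.mem_singleton_iff]
        constructor
        · intro h; exact h.2 hΨ
        · rintro rfl
          refine ⟨?_, fun _ => rfl⟩
          have : ∀ k h, T.step^[k] (h, (0 : F)) = (T.R^[k] h, 0) := by
            intro k
            induction k with
            | zero => intro h; rfl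
            | succ k ih => intro h; rw [Function.iterate_succ_apply, T.step_zero, ih,
                Function.iterate_succ_apply]
          rw [this]
      rw [this, Set.ncard_singleton]

/-- the order of the group of the fixed points of `U` -/
theorem TwU.card_fix (hT : TwU E T Hd Lc Λ) (q : ℕ)
    (hpar : ∀ p ∈ Hd, {t : F | (T.step^[p.2] (p.1, t)).2 = t}.ncard = q ^ p.2) :
    Nat.card ↥(D.posUnipotent F ⊓ T.Fx) = q ^ twExp (fun _ => True) Hd := by
  have h1 : ((D.posUnipotent F ⊓ T.Fx : Subgroup (GL D.Idx F)) : Set (GL D.Idx F)) =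
      T.eltSet (fun _ => True) Hd := by
    apply Set.Subset.antisymm
    · rintro u ⟨hu, hfix⟩
      exact hT.fix_sub_eltSet u hu hfix
    · intro u hu
      have := hT.eltSet_sub_fix (fun _ => True) (fun _ _ _ => trivial) [] Hd rfl hu
      refine ⟨?_, this.2⟩
      exact rootClosure_pos_le D F _ (fun r hr => hr.1) this.1
  rw [← hT.prod_Tpar q hpar _ Hd (fun _ h => h), ← hT.ncard_eltSet _ [] Hd rfl, ← h1]
  rfl

/-- a lower bound for the order of the group of the fixed points in the subgroup of a stable set of roots -/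
theorem TwU.card_fix_ge (hT : TwU E T Hd Lc Λ) (q : ℕ)
    (hpar : ∀ p ∈ Hd, {t : F | (T.step^[p.2] (p.1, t)).2 = t}.ncard = q ^ p.2) (Ψ : ℕ → Prop)
    (hΨ : ∀ s < D.nroots, Ψ s → Ψ (T.R s)) :
    q ^ twExp Ψ Hd ≤ Nat.card ↥(rootClosure D F (fun s => D.IsPosRoot s ∧ Ψ s) ⊓ T.Fx) := by
  rw [← hT.prod_Tpar q hpar _ Hd (fun _ h => h), ← hT.ncard_eltSet _ [] Hd rfl]
  have := Set.ncard_le_ncard (hT.eltSet_sub_fix Ψ hΨ [] Hd rfl) (Set.toFinite _)
  exact this

theorem twExp_add (Ψ : ℕ → Prop) (Hd : List (ℕ × ℕ)) :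
    twExp Ψ Hd + twExp (fun s => ¬ Ψ s) Hd = twExp (fun _ => True) Hd := by
  classical
  unfold twExp
  induction Hd with
  | nil => rfl
  | cons p Hd ih =>
    simp only [List.map_cons, List.sum_cons, if_true] at ih ⊢
    by_cases h : Ψ p.1
    · rw [if_pos h, if_neg (not_not.mpr h)]; omega
    · rw [if_neg h, if_pos h]; omega

end twcount2

end Cfsg.Agent.Lib.Helper24
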