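import Cfsg.Agent.Lib.Helper24.PeelGen
import Cfsg.Agent.Lib.Helper33.F4Ext

/-! K-2F4-B2 (keystone 108903, architect helper33): peeling the 8 classes of positive roots of `F₄`
in angular order; fixed points of `σ` in `U` and uniqueness of the factorisation. -/

set_option autoImplicit false
set_option linter.unusedSimpArgs false
set_option maxRecDepth 100000

namespace Cfsg.Agent.Lib.Helper24.F4

open Cfsg.Lie Cfsg.Agent.Lib.Helper24 Cfsg.Agent.Lib.Helper33.F4

/-- the positive roots of `F₄` sorted by height -/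
def f4L0 : List ℕ :=
  [24, 25, 27, 33, 26, 28, 34, 29, 30, 35, 31, 36, 37, 32, 38, 41, 39, 42, 40, 43, 44, 45, 46, 47]

/-- the weights of the height grading (`ρ^∨` in the basis of the fundamental coroots) -/
def f4Lam : List ℤ := [8, 15, 21, 11]

/-- the roots of the classes `k, ..., 7` -/
def f4R (k : ℕ) : List ℕ := (classesF.drop k).flatten

def f4pA (k : ℕ) : ℕ → Bool := fun r => decide (r ∈ classesF.getD k [])

def f4pB (k : ℕ) : ℕ → Bool := fun r => decide (r ∈ f4R (k + 1))

/-- the roots of the classes `k, ..., 7` sorted by height -/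
def f4M (k : ℕ) : List ℕ := f4L0.filter (fun r => decide (r ∈ f4R k))

theorem f4L0_nodup : f4L0.Nodup := by decide

theorem f4L0_pos : ∀ r ∈ f4L0, chevF4.IsPosRoot r := by decide

theorem f4L0_sorted : gradeSortedOK chevF4 f4Lam f4L0 = true := by decide +kernel

theorem f4_g0 : ∀ r < 48, chevF4.IsPosRoot r → 0 < gradeE chevF4 f4Lam (chevF4.rank + r) := by
  decide +kernel

theorem f4M_goodA : ∀ k < 7, goodListOK chevF4 ((f4M k).filter (f4pA k)) = true := by
  decide +kernel

theorem f4M_goodB : ∀ k < 7, goodListOK chevF4 ((f4M k).filter (f4pB k)) = true := by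
  decide +kernel

theorem f4M_dis : ∀ k < 7, ∀ r ∈ f4M k, f4pA k r = true → f4pB k r = false := by decide

theorem f4M_memA : ∀ k < 7, ∀ r ∈ classesF.getD k [], r ∈ (f4M k).filter (f4pA k) := by decide

theorem f4M_memB : ∀ k < 7, ∀ r ∈ f4R (k + 1), r ∈ (f4M k).filter (f4pB k) := by decide

theorem f4R_mem : ∀ k < 8, ∀ j < 8, k ≤ j → ∀ r ∈ classesF.getD j [], r ∈ f4R k := by decide

theorem f4R_sub : ∀ k < 8, ∀ r ∈ f4R (k + 1), r ∈ f4R k := by decide

theorem f4Lang_good : goodListOK chevF4 classesF.flatten = true := by decide +kernel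

theorem f4Lang_all : ∀ r < 48, chevF4.IsPosRoot r → r ∈ classesF.flatten := by decide

theorem f4Lang_pos : ∀ r ∈ classesF.flatten, chevF4.IsPosRoot r := by decide

theorem f4Lang_nodup : classesF.flatten.Nodup := by decide

theorem f4Lang_flatMap : (List.range 8).flatMap (fun k => classesF.getD k []) = classesF.flatten := by
  decide

theorem f4_class_bar : ∀ k < 8, ∀ r ∈ classesF.getD k [], barF r ∈ classesF.getD k [] ∧ r < 48 := by
  decide

section peel

variable {K : Type*} [Field K]

theorem f4M_nodup (k : ℕ) : (f4M k).Nodup := f4L0_nodup.filter _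

theorem f4M_pos (k : ℕ) : ∀ r ∈ f4M k, chevF4.IsPosRoot r :=
  fun r hr => f4L0_pos r (List.mem_filter.mp hr).1

theorem f4M_sorted (k : ℕ) : (f4M k).Pairwise (fun r s =>
    gradeE chevF4 f4Lam (chevF4.rank + r) ≤ gradeE chevF4 f4Lam (chevF4.rank + s)) :=
  (gradeSortedOK_spec f4Lam f4L0 f4L0_sorted).filter _

/-- the subgroups of a class and of the later classes intersect trivially -/
theorem f4_inf (k : ℕ) (hk : k < 7) (z : GL chevF4.Idx K)
    (hzA : z ∈ rootClosure chevF4 K (· ∈ classesF.getD k []))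
    (hzB : z ∈ rootClosure chevF4 K (· ∈ f4R (k + 1))) : z = 1 := by
  refine (envF4 K).hF.rootClosure_inf_eq_one (envF4 K).hC (envF4 K).hcomm
    (fun r s hr hs => (envF4 K).pos_ne_neg r s hr hs) (envF4 K).hU.negNe (envF4 K).hU.unit
    (fun r s hr hs h => (envF4 K).neg_inj_pos r s hr hs h) f4Lam
    (fun r hr => f4_g0 r hr.1 hr) (f4M k) (f4M_nodup k) (f4M_sorted k) (f4M_pos k)
    (f4pA k) (f4pB k) (f4M_dis k hk) (f4M_goodA k hk) (f4M_goodB k hk) z ?_ ?_
  · exact rootClosure_mono' _ _ (f4M_memA k hk) hzA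
  · exact rootClosure_mono' _ _ (f4M_memB k hk) hzB

/-- the product `x k * x (k+1) * ... * x (k+n-1)` -/
def tailProd (x : ℕ → GL chevF4.Idx K) (k n : ℕ) : GL chevF4.Idx K :=
  ((List.range' k n).map x).prod

theorem tailProd_zero (x : ℕ → GL chevF4.Idx K) (k : ℕ) : tailProd x k 0 = 1 := rfl

theorem tailProd_succ (x : ℕ → GL chevF4.Idx K) (k n : ℕ) :
    tailProd x k (n + 1) = x k * tailProd x (k + 1) n := by
  unfold tailProd
  rw [List.range'_succ, List.map_cons, List.prod_cons]

theorem tailProd_mem (x : ℕ → GL chevF4.Idx K) (n : ℕ) : ∀ k, k + n = 8 →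
    (∀ j, k ≤ j → j < 8 → x j ∈ rootClosure chevF4 K (· ∈ classesF.getD j [])) →
    tailProd x k n ∈ rootClosure chevF4 K (· ∈ f4R k) := by
  induction n with
  | zero => intro k _ _; rw [tailProd_zero]; exact Subgroup.one_mem _
  | succ n ih =>
    intro k hk hx
    rw [tailProd_succ]
    apply Subgroup.mul_mem
    · exact rootClosure_mono' _ _ (f4R_mem k (by omega) k (by omega) le_rfl) (hx k le_rfl (by omega))
    · have := ih (k + 1) (by omega) (fun j hj hj8 => hx j (by omega) hj8)
      exact rootClosure_mono' _ _ (f4R_sub k (by omega)) this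

theorem tailProd_unique (x x' : ℕ → GL chevF4.Idx K) (n : ℕ) : ∀ k, k + n = 8 →
    (∀ j, k ≤ j → j < 8 → x j ∈ rootClosure chevF4 K (· ∈ classesF.getD j [])) →
    (∀ j, k ≤ j → j < 8 → x' j ∈ rootClosure chevF4 K (· ∈ classesF.getD j [])) →
    tailProd x k n = tailProd x' k n → ∀ j, k ≤ j → j < 8 → x j = x' j := by
  induction n with
  | zero => intro k hk _ _ _ j hj hj8; omega
  | succ n ih =>
    intro k hk hx hx' h j hj hj8
    rw [tailProd_succ, tailProd_succ] at h
    have hy := tailProd_mem x n (k + 1) (by omega) (fun j hj hj8 => hx j (by omega) hj8)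
    have hy' := tailProd_mem x' n (k + 1) (by omega) (fun j hj hj8 => hx' j (by omega) hj8)
    -- `x' k⁻¹ * x k = y' * y⁻¹`
    have e1 : (x' k)⁻¹ * x k = tailProd x' (k + 1) n * (tailProd x (k + 1) n)⁻¹ := by
      rw [eq_mul_inv_iff_mul_eq, mul_assoc, h]
      group
    have hk8 : k < 8 := by omega
    have hz1 : (x' k)⁻¹ * x k = 1 := by
      by_cases hk7 : k < 7
      · refine f4_inf k hk7 _ ?_ ?_
        · exact Subgroup.mul_mem _ (Subgroup.inv_mem _ (hx' k le_rfl hk8)) (hx k le_rfl hk8)
        · rw [e1]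
          exact Subgroup.mul_mem _ hy' (Subgroup.inv_mem _ hy)
      · have hn : n = 0 := by omega
        subst hn
        rw [e1, tailProd_zero, tailProd_zero, inv_one, mul_one]
    have hxk : x k = x' k := by
      have := congrArg (fun g => x' k * g) hz1
      simpa using this
    rcases Nat.eq_or_lt_of_le hj with rfl | hlt
    · exact hxk
    · rw [hxk] at h
      have h' := mul_left_cancel h
      exact ih (k + 1) (by omega) (fun j hj hj8 => hx j (by omega) hj8)
        (fun j hj hj8 => hx' j (by omega) hj8) h' j hlt hj8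

theorem tailProd_range (x : ℕ → GL chevF4.Idx K) :
    ((List.range 8).map x).prod = tailProd x 0 8 := by
  unfold tailProd
  rw [List.range_eq_range']

/-- K-2F4-B2'. uniqueness of the factorisation -/
theorem peel_unique (x x' : ℕ → GL chevF4.Idx K)
    (hx : ∀ k < 8, x k ∈ rootClosure chevF4 K (· ∈ classesF.getD k []))
    (hx' : ∀ k < 8, x' k ∈ rootClosure chevF4 K (· ∈ classesF.getD k []))
    (h : ((List.range 8).map x).prod = ((List.range 8).map x').prod) : ∀ k < 8, x k = x' k := by
  rw [tailProd_range, tailProd_range] at h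
  intro k hk
  exact tailProd_unique x x' 8 0 rfl (fun j _ hj => hx j hj) (fun j _ hj => hx' j hj) h k
    (Nat.zero_le _) hk

/-- existence of the factorisation -/
theorem peel_exists (g : GL chevF4.Idx K) (hg : g ∈ chevF4.posUnipotent K) :
    ∃ x : ℕ → GL chevF4.Idx K, (∀ k, x k ∈ rootClosure chevF4 K (· ∈ classesF.getD k [])) ∧
      g = ((List.range 8).map x).prod := by
  have hg' : g ∈ rootClosure chevF4 K (· ∈ classesF.flatten) := by
    revert hg g
    show chevF4.posUnipotent K ≤ rootClosure chevF4 K (· ∈ classesF.flatten)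
    unfold ChevalleyDatum.posUnipotent rootClosure
    apply Subgroup.closure_mono
    rintro g ⟨r, t, hr, hg⟩
    exact ⟨r, t, f4Lang_all r hr.1 hr, hg⟩
  obtain ⟨t, _, hgt⟩ := (envF4 K).hF.exists_ordProd_gen (envF4 K).hC (envF4 K).hcomm
    (fun r s hr hs => (envF4 K).pos_ne_neg r s hr hs) classesF.flatten f4Lang_nodup f4Lang_pos
    f4Lang_good g hg'
  refine ⟨fun k => (envF4 K).hF.ordProd (classesF.getD k []) t, fun k => ?_, ?_⟩
  · exact (envF4 K).hF.ordProd_mem _ t
  · rw [hgt, ← f4Lang_flatMap, (envF4 K).hF.ordProd_flatMap]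

variable [CharP K 2] {e : ℕ} (S : SigmaF K e)

theorem rootClosure_le_group (R : ℕ → Prop) : rootClosure chevF4 K R ≤ chevF4.group K := by
  unfold rootClosure
  rw [Subgroup.closure_le]
  rintro g ⟨s, u, _, hg⟩
  have : g = xF K s u := Units.ext (by rw [hg]; rfl)
  rw [this]
  exact xF_mem s u

/-- `σ` preserves the subgroup of a class -/
theorem ext_class (k : ℕ) (hk : k < 8) (x : GL chevF4.Idx K)
    (hx : x ∈ rootClosure chevF4 K (· ∈ classesF.getD k [])) :
    S.ext x ∈ rootClosure chevF4 K (· ∈ classesF.getD k []) := by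
  have key : ∀ y ∈ rootClosure chevF4 K (· ∈ classesF.getD k []),
      y ∈ chevF4.group K ∧ S.ext y ∈ rootClosure chevF4 K (· ∈ classesF.getD k []) := by
    intro y hy
    unfold rootClosure at hy
    induction hy using Subgroup.closure_induction with
    | mem y hy =>
      obtain ⟨s, u, hs, hyv⟩ := hy
      have e1 : y = xF K s u := Units.ext (by rw [hyv]; rfl)
      rw [e1]
      refine ⟨xF_mem s u, ?_⟩
      rw [S.ext_xF s (f4_class_bar k hk s hs).2]
      exact (envF4 K).hF.xGL_mem_rootClosure _ _ (f4_class_bar k hk s hs).1 _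
    | one => exact ⟨Subgroup.one_mem _, by rw [S.ext_one]; exact Subgroup.one_mem _⟩
    | mul a b _ _ iha ihb =>
      exact ⟨Subgroup.mul_mem _ iha.1 ihb.1, by
        rw [S.ext_mul iha.1 ihb.1]; exact Subgroup.mul_mem _ iha.2 ihb.2⟩
    | inv a _ iha =>
      exact ⟨Subgroup.inv_mem _ iha.1, by rw [S.ext_inv iha.1]; exact Subgroup.inv_mem _ iha.2⟩
  exact (key x hx).2

theorem ext_list_prod (l : List (GL chevF4.Idx K)) (hl : ∀ y ∈ l, y ∈ chevF4.group K) :
    S.ext l.prod = (l.map S.ext).prod := by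
  induction l with
  | nil => simp only [List.prod_nil, List.map_nil]; exact S.ext_one
  | cons a l ih =>
    rw [List.prod_cons, List.map_cons, List.prod_cons,
      S.ext_mul (hl a List.mem_cons_self)
        (Subgroup.list_prod_mem _ (fun y hy => hl y (List.mem_cons_of_mem _ hy))),
      ih (fun y hy => hl y (List.mem_cons_of_mem _ hy))]

/-- K-2F4-B2. a fixed element of `U` is a product of fixed elements of the classes -/
theorem fix_peel (g : GL chevF4.Idx K) (hg : g ∈ chevF4.posUnipotent K) (hfix : S.ext g = g) :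
    ∃ x : ℕ → GL chevF4.Idx K, (∀ k < 8, x k ∈ rootClosure chevF4 K (· ∈ classesF.getD k []) ∧ S.ext (x k) = x k) ∧
      g = ((List.range 8).map x).prod := by
  obtain ⟨x, hx, hgx⟩ := peel_exists g hg
  refine ⟨x, ?_, hgx⟩
  have h1 : S.ext g = ((List.range 8).map (fun k => S.ext (x k))).prod := by
    rw [hgx, ext_list_prod S]
    · rw [List.map_map]
      rfl
    · intro y hy
      rw [List.mem_map] at hy
      obtain ⟨k, _, rfl⟩ := hy
      exact rootClosure_le_group _ (hx k)
  rw [hfix, hgx] at h1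
  have h2 := peel_unique (fun k => S.ext (x k)) x (fun k hk => ext_class S k hk (x k) (hx k))
    (fun k _ => hx k) h1.symm
  intro k hk
  exact ⟨hx k, h2 k hk⟩

end peel

end Cfsg.Agent.Lib.Helper24.F4
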