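import Cfsg.Agent.Lib.Helper24.Engine

set_option autoImplicit false
set_option linter.unusedSimpArgs false

namespace Cfsg.Agent.Lib.Helper24

open Cfsg.Lie

/-- shape of the chain part of column `rank + s` of `x_r`: entries (row root, coefficient, power) -/
def shapeSpec (D : ChevalleyDatum) (r s : ℕ) : List (ℕ × ℤ × ℕ) :=
  ((D.chain.getD r #[]).toList.filter (fun e => e.1 = s)).flatMap fun e =>
    e.2.toList.zipIdx.map fun q => (q.1.1, q.1.2, q.2 + 1)

def instShape (D : ChevalleyDatum) (a : Poly) (sh : List (ℕ × ℤ × ℕ)) : SV :=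
  sh.map fun e => (D.rank + e.1, Poly.mul (Poly.ofInt e.2.1) (Poly.pow a e.2.2))

theorem colX_chain_eq (D : ChevalleyDatum) (r : ℕ) (a : Poly) (s : ℕ) :
    (((D.chain.getD r #[]).toList.filter (fun e => e.1 = s)).flatMap fun e =>
      e.2.toList.zipIdx.map fun q => (D.rank + q.1.1, Poly.mul (Poly.ofInt q.1.2) (Poly.pow a (q.2 + 1)))) =
    instShape D a (shapeSpec D r s) := by
  unfold instShape shapeSpec
  rw [List.map_flatMap]
  congr 1
  funext e
  rw [List.map_map]
  rfl

/-! packed tables -/

def encField (u : ℕ) (M : ℤ) : ℕ := (u + 1) + 1024 * (M + 8).toNat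

def encEntry : List (ℕ × ℤ) → ℕ
  | [] => 0
  | uM :: rest => encField uM.1 uM.2 + 65536 * encEntry rest

def packRow (es : List (ℕ × Array (ℕ × ℤ))) : ℕ :=
  es.foldr (fun e acc => encEntry e.2.toList * 2 ^ (48 * e.1) + acc) 0

def packB (D : ChevalleyDatum) (r : ℕ) : ℕ := packRow (D.chain.getD r #[]).toList

def decEntry : ℕ → ℕ → ℕ → List (ℕ × ℤ × ℕ)
  | 0, _, _ => []
  | fuel + 1, j, x =>
    if x = 0 then [] else (x % 1024 - 1, (((x / 1024) % 64 : ℕ) : ℤ) - 8, j) :: decEntry fuel (j + 1) (x / 65536)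

def shapeFast (D : ChevalleyDatum) (r s : ℕ) : List (ℕ × ℤ × ℕ) :=
  decEntry 3 1 ((packB D r / 2 ^ (48 * s)) % 2 ^ 48)

def eqShape : List (ℕ × ℤ × ℕ) → List (ℕ × ℤ × ℕ) → Bool
  | [], [] => true
  | a :: l, b :: l' => (Nat.beq a.1 b.1 && (decide (a.2.1 = b.2.1) && Nat.beq a.2.2 b.2.2)) && eqShape l l'
  | _, _ => false

theorem eq_of_eqShape : ∀ (l l' : List (ℕ × ℤ × ℕ)), eqShape l l' = true → l = l'
  | [], [], _ => rfl
  | [], _ :: _, h => by simp [eqShape] at h
  | _ :: _, [], h => by simp [eqShape] at h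
  | a :: l, b :: l', h => by
    simp only [eqShape, Bool.and_eq_true, decide_eq_true_eq] at h
    obtain ⟨⟨h1, h2, h3⟩, h4⟩ := h
    have e1 := Nat.eq_of_beq_eq_true h1
    have e3 := Nat.eq_of_beq_eq_true h3
    have := eq_of_eqShape l l' h4
    subst this
    obtain ⟨a1, a2, a3⟩ := a
    obtain ⟨b1, b2, b3⟩ := b
    simp only at e1 h2 e3
    subst e1 h2 e3
    rfl

/-- the packed table agrees with the chain table -/
def rowOK (D : ChevalleyDatum) (r : ℕ) : Bool :=
  (List.range D.nroots).all fun s => eqShape (shapeFast D r s) (shapeSpec D r s)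

/-- the packed table agrees with the chain table -/
def TableOK (D : ChevalleyDatum) : Prop := ∀ r < D.nroots, rowOK D r = true

theorem shapeFast_eq (D : ChevalleyDatum) (h : TableOK D) (r s : ℕ) (hr : r < D.nroots)
    (hs : s < D.nroots) : shapeFast D r s = shapeSpec D r s := by
  have h1 := h r hr
  simp only [rowOK, List.all_eq_true, List.mem_range] at h1
  exact eq_of_eqShape _ _ (h1 s hs)

/-! cheap polynomial operations without normalisation -/

namespace Poly

def mulD (p q : Poly) : Poly := p.flatMap fun mc => q.map fun mc' => (Mono.mul mc.1 mc'.1, mc.2 * mc'.2)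

def powD (p : Poly) : ℕ → Poly
  | 0 => one
  | n + 1 => mulD p (powD p n)

def constD (z : ℤ) : Poly := [(Mono.one, z)]

variable {F : Type*} [CommRing F] (y0 y1 y2 y3 : F)

theorem den_append (p q : Poly) : den y0 y1 y2 y3 (p ++ q) = den y0 y1 y2 y3 p + den y0 y1 y2 y3 q := by
  simp [den]

theorem den_map_mul (mc : Mono × ℤ) (q : Poly) :
    den y0 y1 y2 y3 (q.map fun mc' => (Mono.mul mc.1 mc'.1, mc.2 * mc'.2)) =
      (mc.2 : F) * Mono.den y0 y1 y2 y3 mc.1 * den y0 y1 y2 y3 q := by
  induction q with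
  | nil => simp
  | cons mc' rest' ih' =>
    simp only [List.map_cons, den_cons, Mono.den_mul, ih']
    push_cast; ring

theorem den_mulD (p q : Poly) : den y0 y1 y2 y3 (mulD p q) = den y0 y1 y2 y3 p * den y0 y1 y2 y3 q := by
  induction p with
  | nil => simp [mulD]
  | cons mc rest ih =>
    simp only [mulD, List.flatMap_cons] at ih ⊢
    rw [den_append, ih, den_cons, add_mul, den_map_mul]

theorem den_powD (p : Poly) (n : ℕ) : den y0 y1 y2 y3 (powD p n) = den y0 y1 y2 y3 p ^ n := by
  induction n with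
  | zero => simp [powD]
  | succ n ih => simp only [powD, den_mulD, ih, pow_succ]; ring

theorem den_constD (z : ℤ) : den y0 y1 y2 y3 (constD z) = (z : F) := by
  simp [constD, Mono.den_one]

end Poly

def instShapeD (D : ChevalleyDatum) (a : Poly) (sh : List (ℕ × ℤ × ℕ)) : SV :=
  sh.map fun e => (D.rank + e.1, Poly.mulD (Poly.ofInt e.2.1) (Poly.powD a e.2.2))

def scaleVD (p : Poly) (v : SV) : SV := v.map fun jc => (jc.1, Poly.mulD jc.2 p)

/-- fast version of `colX` -/
def colXF (D : ChevalleyDatum) (r : ℕ) (a : Poly) (k : ℕ) : SV :=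
  if k < D.rank then
    [(k, Poly.one), (D.rank + r, Poly.mulD (Poly.ofInt (-((D.cartanSR.getD k #[]).getD r 0))) a)]
  else if k - D.rank = r then [(k, Poly.one)]
  else if k - D.rank = D.negIdx.getD r 0 then
    (k, Poly.one) :: (D.rank + r, Poly.mulD (Poly.ofInt (-1)) (Poly.mulD a a)) ::
      (List.range D.rank).map (fun i => (i, Poly.mulD (Poly.ofInt ((D.coroot.getD r #[]).getD i 0)) a))
  else
    (k, Poly.one) :: instShapeD D a (shapeFast D r (k - D.rank))

def applyXF (D : ChevalleyDatum) (r : ℕ) (a : Poly) (v : SV) : SV :=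
  if r < D.nroots then
    v.flatMap fun kp => if kp.1 < D.rank + D.nroots then scaleVD kp.2 (colXF D r a kp.1) else []
  else v

def applyWordF (D : ChevalleyDatum) (w : List (ℕ × Poly)) (v : SV) : SV :=
  w.foldr (fun ra acc => applyXF D ra.1 ra.2 acc) v

def insertVD (k : ℕ) (p : Poly) : SV → SV
  | [] => [(k, p)]
  | (k', p') :: rest => if k = k' then (k', p ++ p') :: rest else (k', p') :: insertVD k p rest

def collectD (v : SV) : SV := v.foldr (fun kp acc => insertVD kp.1 kp.2 acc) []

def vecIsZeroD (red : Bool) (v : SV) : Bool :=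
  (collectD v).all fun kp => (if red then kp.2.reduce else Poly.add kp.2 []).isZero

def checkColsD (red : Bool) (cols : List ℕ) (T1 T2 : SV → SV) : Bool :=
  cols.all fun k => vecIsZeroD red (subV (T1 [(k, Poly.one)]) (T2 [(k, Poly.one)]))

/-- columns for a list of roots -/
def rootCols (D : ChevalleyDatum) (roots : List ℕ) : List ℕ := roots.flatMap (suppList D)

def rootsOK (roots : List ℕ) (w : List (ℕ × Poly)) : Bool := w.all fun ra => roots.contains ra.1

/-- fast check of a word identity, on the columns of the given roots -/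
def checkWordF (D : ChevalleyDatum) (red : Bool) (roots : List ℕ) (w1 w2 : List (ℕ × Poly)) : Bool :=
  rootsOK roots w1 && rootsOK roots w2 &&
    checkColsD red (rootCols D roots) (applyWordF D w1) (applyWordF D w2)

section semantics

variable {F : Type*} [Field F] (D : ChevalleyDatum) (y0 y1 y2 y3 : F)

theorem denV_congr_map {α : Type*} (v : List α) (f g : α → ℕ × Poly)
    (h : ∀ kp ∈ v, (f kp).1 = (g kp).1 ∧ (f kp).2.den y0 y1 y2 y3 = (g kp).2.den y0 y1 y2 y3) :
    denV D y0 y1 y2 y3 (v.map f) = denV D y0 y1 y2 y3 (v.map g) := by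
  induction v with
  | nil => rfl
  | cons kp rest ih =>
    simp only [List.map_cons]
    rw [denV_cons, denV_cons, ih (fun x hx => h x (List.mem_cons_of_mem _ hx))]
    obtain ⟨h1, h2⟩ := h kp List.mem_cons_self
    rw [h1, h2]

theorem denV_scaleVD (p : Poly) (v : SV) :
    denV D y0 y1 y2 y3 (scaleVD p v) = denV D y0 y1 y2 y3 (scaleV p v) := by
  unfold scaleVD scaleV
  apply denV_congr_map
  intro kp _
  exact ⟨rfl, by simp only [Poly.den_mulD, Poly.den_mul]⟩

theorem denV_colXF (hT : TableOK D) (r : ℕ) (a : Poly) (k : ℕ)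
    (hr : r < D.nroots) (hk : k < D.rank + D.nroots) :
    denV D y0 y1 y2 y3 (colXF D r a k) = denV D y0 y1 y2 y3 (colX D r a k) := by
  unfold colXF colX
  split_ifs with h1 h2 h3
  · rw [denV_cons, denV_cons, denV_cons, denV_cons]
    simp only [Poly.den_mulD, Poly.den_mul, Poly.den_ofInt]
  · rfl
  · rw [denV_cons, denV_cons, denV_cons, denV_cons]
    congr 1
    congr 1
    · simp only [Poly.den_mulD, Poly.den_mul, Poly.den_ofInt, Poly.den_neg]
      funext i; split_ifs <;> simp
    · apply denV_congr_map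
      intro i _
      exact ⟨rfl, by simp only [Poly.den_mulD, Poly.den_mul, Poly.den_ofInt]⟩
  · rw [colX_chain_eq, shapeFast_eq D hT r _ hr (by omega), denV_cons, denV_cons]
    congr 1
    unfold instShapeD instShape
    apply denV_congr_map
    intro e _
    exact ⟨rfl, by simp only [Poly.den_mulD, Poly.den_mul, Poly.den_ofInt,
      Poly.den_powD, Poly.den_pow]⟩

theorem denV_flatMap_congr (v : SV) (f g : ℕ × Poly → SV)
    (h : ∀ kp ∈ v, denV D y0 y1 y2 y3 (f kp) = denV D y0 y1 y2 y3 (g kp)) :
    denV D y0 y1 y2 y3 (v.flatMap f) = denV D y0 y1 y2 y3 (v.flatMap g) := by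
  induction v with
  | nil => rfl
  | cons kp rest ih =>
    rw [List.flatMap_cons, List.flatMap_cons, denV_append, denV_append,
      ih (fun x hx => h x (List.mem_cons_of_mem _ hx)), h kp List.mem_cons_self]

theorem denV_applyXF (hT : TableOK D) (r : ℕ) (a : Poly) (v : SV) :
    denV D y0 y1 y2 y3 (applyXF D r a v) = denV D y0 y1 y2 y3 (applyX D r a v) := by
  unfold applyXF applyX
  split_ifs with hr
  · apply denV_flatMap_congr
    intro kp _
    split_ifs with hk
    · rw [denV_scaleVD, denV_scaleV, denV_scaleV, denV_colXF D y0 y1 y2 y3 hT r a kp.1 hr hk]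
    · rfl
  · rfl

theorem denV_applyX_congr (r : ℕ) (a : Poly) (v v' : SV)
    (h : denV D y0 y1 y2 y3 v = denV D y0 y1 y2 y3 v') :
    denV D y0 y1 y2 y3 (applyX D r a v) = denV D y0 y1 y2 y3 (applyX D r a v') := by
  rw [← x_mulVec_denV, ← x_mulVec_denV, h]

theorem denV_applyWordF (hT : TableOK D) (w : List (ℕ × Poly)) (v : SV) :
    denV D y0 y1 y2 y3 (applyWordF D w v) = denV D y0 y1 y2 y3 (applyWord D w v) := by
  induction w with
  | nil => rfl
  | cons ra rest ih =>
    simp only [applyWordF, applyWord, List.foldr_cons] at ih ⊢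
    rw [denV_applyXF D y0 y1 y2 y3 hT]
    exact denV_applyX_congr D y0 y1 y2 y3 _ _ _ _ ih

theorem denV_insertVD (k : ℕ) (p : Poly) (v : SV) :
    denV D y0 y1 y2 y3 (insertVD k p v) = denV D y0 y1 y2 y3 ((k, p) :: v) := by
  induction v with
  | nil => simp [insertVD]
  | cons kp rest ih =>
    obtain ⟨k', p'⟩ := kp
    simp only [insertVD]
    split_ifs with h
    · subst h
      funext i
      simp only [denV_cons, Pi.add_apply, Poly.den_append]
      split_ifs <;> ring
    · rw [denV_cons, ih, denV_cons, denV_cons, denV_cons]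
      funext i
      simp only [Pi.add_apply]
      ring

theorem denV_collectD (v : SV) : denV D y0 y1 y2 y3 (collectD v) = denV D y0 y1 y2 y3 v := by
  induction v with
  | nil => simp [collectD]
  | cons kp rest ih =>
    simp only [collectD, List.foldr_cons] at ih ⊢
    rw [denV_insertVD, denV_cons, ih, denV_cons]

theorem denV_eq_zero_of_vecIsZeroD (red : Bool) (hred : red = true → y0 * y1 = 1) (v : SV)
    (h : vecIsZeroD red v = true) : denV D y0 y1 y2 y3 v = 0 := by
  rw [← denV_collectD]
  simp only [vecIsZeroD, List.all_eq_true] at h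
  funext i
  simp only [denV, Pi.zero_apply]
  apply List.sum_eq_zero
  intro x hx
  simp only [List.mem_map] at hx
  obtain ⟨kp, hkp, rfl⟩ := hx
  have h1 := h kp hkp
  split_ifs with hk
  · cases red with
    | false =>
      simp only [Bool.false_eq_true, if_false] at h1
      have := Poly.den_eq_zero_of_isZero y0 y1 y2 y3 _ h1
      rw [Poly.den_add] at this
      simpa using this
    | true =>
      simp only [if_true] at h1
      rw [← Poly.den_reduce _ _ _ _ (hred rfl)]
      exact Poly.den_eq_zero_of_isZero _ _ _ _ _ h1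
  · rfl

theorem wordMat_eq_of_checkWordF (hT : TableOK D) (red : Bool) (hred : red = true → y0 * y1 = 1)
    (roots : List ℕ) (w1 w2 : List (ℕ × Poly)) (h : checkWordF D red roots w1 w2 = true) :
    D.wordMat F (denW y0 y1 y2 y3 w1) = D.wordMat F (denW y0 y1 y2 y3 w2) := by
  simp only [checkWordF, Bool.and_eq_true] at h
  obtain ⟨⟨hr1, hr2⟩, h⟩ := h
  simp only [rootsOK, List.all_eq_true, List.contains_iff_mem] at hr1 hr2
  simp only [checkColsD, List.all_eq_true] at h
  ext i j
  have key : denV D y0 y1 y2 y3 (applyWord D w1 [(enc D j, Poly.one)]) =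
      denV D y0 y1 y2 y3 (applyWord D w2 [(enc D j, Poly.one)]) := by
    by_cases hj : enc D j ∈ rootCols D roots
    · have h1 := h (enc D j) hj
      have h2 := denV_eq_zero_of_vecIsZeroD D y0 y1 y2 y3 red hred _ h1
      rw [denV_subV, denV_applyWordF D y0 y1 y2 y3 hT, denV_applyWordF D y0 y1 y2 y3 hT] at h2
      exact sub_eq_zero.mp h2
    · simp only [rootCols, List.mem_flatMap, not_exists, not_and] at hj
      rw [applyWord_fix D y0 y1 y2 y3 w1 _ (fun ra hra => hj ra.1 (hr1 ra hra)),
        applyWord_fix D y0 y1 y2 y3 w2 _ (fun ra hra => hj ra.1 (hr2 ra hra))]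
  rw [← wordMat_mulVec_denV, ← wordMat_mulVec_denV, denV_single,
    Matrix.mulVec_single_one, Matrix.mulVec_single_one] at key
  have h3 := congrFun key i
  simpa only [Matrix.col_apply] using h3

end semantics

end Cfsg.Agent.Lib.Helper24
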