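import Mathlib

/-! Restriction of matrices preserving a coordinate subspace. -/

set_option autoImplicit false

namespace Cfsg.Agent.Lib.Helper24

section restrict

variable {ι : Type*} [Fintype ι] [DecidableEq ι] {K : Type*} [Field K] (J : ι → Prop)
  [DecidablePred J]

/-- the columns in `J` have their support in `J` -/
def PresJ (M : Matrix ι ι K) : Prop := ∀ i j, J j → ¬ J i → M i j = 0

theorem PresJ.one : PresJ J (1 : Matrix ι ι K) := by
  intro i j hj hi
  apply Matrix.one_apply_ne
  rintro rfl
  exact hi hj

variable {J}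

theorem PresJ.mul {M N : Matrix ι ι K} (hM : PresJ J M) (hN : PresJ J N) : PresJ J (M * N) := by
  intro i j hj hi
  rw [Matrix.mul_apply]
  apply Finset.sum_eq_zero
  intro k _
  by_cases hk : J k
  · rw [hM i k hk hi, zero_mul]
  · rw [hN k j hj hk, mul_zero]

variable (J)

/-- the block of a matrix on `J` -/
def subJ (M : Matrix ι ι K) : Matrix {j // J j} {j // J j} K := M.submatrix (↑) (↑)

theorem subJ_one : subJ J (1 : Matrix ι ι K) = 1 := by
  ext i j
  simp only [subJ, Matrix.submatrix_apply, Matrix.one_apply, Subtype.ext_iff]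

variable {J}

theorem subJ_mul (M : Matrix ι ι K) {N : Matrix ι ι K} (hN : PresJ J N) :
    subJ J (M * N) = subJ J M * subJ J N := by
  ext i j
  simp only [subJ, Matrix.submatrix_apply, Matrix.mul_apply]
  have h1 : ∑ k : {k // J k}, M i k * N k j = ∑ k ∈ Finset.univ.filter J, M i k * N k j := by
    rw [← Finset.sum_subtype_eq_sum_filter (s := Finset.univ) (p := J) (fun k => M i k * N k j),
      Finset.subtype_univ]
  rw [h1, Finset.sum_filter]
  apply Finset.sum_congr rfl
  intro k _
  split_ifs with hk
  · rfl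
  · rw [hN k j j.2 hk, mul_zero]

variable (J)

/-- the invertible matrices preserving the coordinate subspace `J` (with their inverses) -/
def presSubgroup : Subgroup (GL ι K) where
  carrier := {g | PresJ J (g : Matrix ι ι K) ∧ PresJ J ((g⁻¹ : GL ι K) : Matrix ι ι K)}
  one_mem' := by
    refine ⟨?_, ?_⟩
    · exact PresJ.one J
    · rw [inv_one]
      exact PresJ.one J
  mul_mem' := by
    rintro a b ⟨ha, ha'⟩ ⟨hb, hb'⟩
    refine ⟨?_, ?_⟩
    · rw [Units.val_mul]
      exact ha.mul hb
    · rw [mul_inv_rev, Units.val_mul]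
      exact hb'.mul ha'
  inv_mem' := by
    rintro a ⟨ha, ha'⟩
    refine ⟨ha', ?_⟩
    rw [inv_inv]
    exact ha

/-- the restriction homomorphism -/
def restrictHom : presSubgroup (K := K) J →* GL {j // J j} K where
  toFun g := ⟨subJ J ((g : GL ι K) : Matrix ι ι K), subJ J (((g : GL ι K)⁻¹ : GL ι K) : Matrix ι ι K), by
      rw [← subJ_mul _ g.2.2, ← Units.val_mul, mul_inv_cancel, Units.val_one, subJ_one], by
      rw [← subJ_mul _ g.2.1, ← Units.val_mul, inv_mul_cancel, Units.val_one, subJ_one]⟩
  map_one' := by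
    apply Units.ext
    show subJ J (((1 : presSubgroup (K := K) J) : GL ι K) : Matrix ι ι K) = 1
    rw [Subgroup.coe_one, Units.val_one, subJ_one]
  map_mul' := by
    intro a b
    apply Units.ext
    show subJ J (((a * b : presSubgroup (K := K) J) : GL ι K) : Matrix ι ι K) =
      subJ J ((a : GL ι K) : Matrix ι ι K) * subJ J ((b : GL ι K) : Matrix ι ι K)
    rw [Subgroup.coe_mul, Units.val_mul, subJ_mul _ b.2.1]

theorem restrictHom_val (g : presSubgroup (K := K) J) :
    ((restrictHom J g : GL {j // J j} K) : Matrix {j // J j} {j // J j} K) =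
      subJ J ((g : GL ι K) : Matrix ι ι K) := rfl

end restrict

end Cfsg.Agent.Lib.Helper24
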