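import Cfsg.Agent.Lib.Helper24.ReeU2

set_option autoImplicit false
set_option linter.unusedSimpArgs false

namespace Cfsg.Agent.Lib.Helper24

open Cfsg.Lie Cfsg.Agent.Lib.Helper33.Ree

/-- the positive roots of `G2` in the order of the generating words -/
def reeL : List ℕ := [7, 6, 8, 9, 10, 11]

theorem reeL_all : ∀ r < 12, chevG2.IsPosRoot r → r ∈ reeL := by decide

theorem reeL_pos : ∀ r ∈ reeL, chevG2.IsPosRoot r := by decide

theorem reeL_nodup : reeL.Nodup := by decide

theorem reeL_good : goodListOK chevG2 reeL = true := by decide +kernel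

theorem reeL_sorted : gradeSortedOK chevG2 [3, 5] reeL = true := by decide +kernel

theorem reeL_g0 : ∀ r < 12, chevG2.IsPosRoot r → 0 < gradeE chevG2 [3, 5] (chevG2.rank + r) := by
  decide +kernel

section reeu3

variable {K : Type*} [Field K] {e : ℕ}

theorem ree_pos_le : chevG2.posUnipotent K ≤ rootClosure chevG2 K (· ∈ reeL) := by
  unfold ChevalleyDatum.posUnipotent rootClosure
  apply Subgroup.closure_mono
  rintro g ⟨r, t, hr, hg⟩
  exact ⟨r, t, reeL_all r hr.1 hr, hg⟩

/-- the coefficient function of a word of six root elements along `reeL` -/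
def reeC (c7 c6 c8 c9 c10 c11 : K) : ℕ → K := fun r =>
  if r = 7 then c7 else if r = 6 then c6 else if r = 8 then c8 else if r = 9 then c9
  else if r = 10 then c10 else if r = 11 then c11 else 0

theorem ordProd_reeL (c : ℕ → K) : (envG2 K).hF.ordProd reeL c =
    (envG2 K).hF.wordGL [(7, c 7), (6, c 6), (8, c 8), (9, c 9), (10, c 10), (11, c 11)] := rfl

theorem ordProd_reeC (c7 c6 c8 c9 c10 c11 : K) :
    (envG2 K).hF.ordProd reeL (reeC c7 c6 c8 c9 c10 c11) =
      (envG2 K).hF.wordGL [(7, c7), (6, c6), (8, c8), (9, c9), (10, c10), (11, c11)] := rfl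

/-- the ordered product along `reeL` determines the coefficients -/
theorem ree_ordProd_inj (c c' : ℕ → K)
    (h : (envG2 K).hF.ordProd reeL c = (envG2 K).hF.ordProd reeL c') : ∀ r ∈ reeL, c r = c' r :=
  (envG2 K).hF.ordProd_inj_gen (envG2 K).hU.negNe (envG2 K).hU.unit
    (fun r s hr hs h => (envG2 K).neg_inj_pos r s hr hs h) [3, 5]
    (fun r hr => reeL_g0 r hr.1 hr) reeL reeL_nodup (gradeSortedOK_spec [3, 5] reeL reeL_sorted)
    reeL_pos c c' h

theorem reeWordU_eq (t u v : K) : reeWordU e t u v =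
    [(7, t ^ e), (6, t), (8, t ^ (e + 1) + u ^ e), (9, t ^ (2 * e + 1) + v ^ e), (10, u), (11, v)] := rfl

/-- the fixed points of `σ` in `U` are the generators -/
theorem ree_fix_pos (S : Sigma K e) (hE : ReeExp K e) (g : GL chevG2.Idx K)
    (hg : g ∈ chevG2.posUnipotent K) (hfx : g ∈ S.Fx) :
    ∃ t u v : K, g = (envG2 K).hF.wordGL (reeWordU e t u v) := by
  obtain ⟨c, _, hc⟩ := (envG2 K).hF.exists_ordProd_gen (envG2 K).hC (envG2 K).hcomm
    (fun r s hr hs => (envG2 K).pos_ne_neg r s hr hs) reeL reeL_nodup reeL_pos reeL_good g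
    (ree_pos_le hg)
  have h1 : S.ap g = g := ((S.mem_Fx_iff_ap g).mp hfx).2
  rw [hc, ordProd_reeL, S.ap_wordGL _ (by
    intro p hp
    simp only [List.mem_cons, List.not_mem_nil, or_false] at hp
    rcases hp with rfl | rfl | rfl | rfl | rfl | rfl <;> norm_num)] at h1
  have e1 : ([(7, c 7), (6, c 6), (8, c 8), (9, c 9), (10, c 10), (11, c 11)] : List (ℕ × K)).map
      (fun p => (bar p.1, p.2 ^ (lam p.1 * e))) =
      [(6, c 7 ^ (3 * e)), (7, c 6 ^ (1 * e)), (10, c 8 ^ (3 * e)), (11, c 9 ^ (3 * e)),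
        (8, c 10 ^ (1 * e)), (9, c 11 ^ (1 * e))] := rfl
  rw [e1, g2_reorder_pos_w hE.h3, ← ordProd_reeC, ← ordProd_reeL] at h1
  have h2 := ree_ordProd_inj _ _ h1
  have h7 : c 6 ^ e = c 7 := by
    have := h2 7 (by decide)
    simpa [reeC] using this
  have h6 : c 7 ^ (3 * e) = c 6 := by
    have := h2 6 (by decide)
    simpa [reeC] using this
  have h8 : c 6 ^ e * c 6 + c 10 ^ e = c 8 := by
    have := h2 8 (by decide)
    simp only [reeC, one_mul] at this
    rw [h6] at this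
    simpa using this
  have h9 : (c 6 ^ e) ^ 2 * c 6 + c 11 ^ e = c 9 := by
    have := h2 9 (by decide)
    simp only [reeC, one_mul] at this
    rw [h6] at this
    simpa using this
  refine ⟨c 6, c 10, c 11, ?_⟩
  rw [hc, ordProd_reeL, reeWordU_eq, ← h7, ← h8, ← h9]
  congr 1
  refine list6_eq rfl rfl (Prod.ext rfl ?_) (Prod.ext rfl ?_) rfl rfl
  · show c 6 ^ e * c 6 + c 10 ^ e = c 6 ^ (e + 1) + c 10 ^ e
    rw [pow_succ]
  · show (c 6 ^ e) ^ 2 * c 6 + c 11 ^ e = c 6 ^ (2 * e + 1) + c 11 ^ e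
    rw [pow_succ (c 6) (2 * e), mul_comm 2 e, pow_mul]

/-- the parameters of a generator are determined -/
theorem reeWordU_inj (t u v t' u' v' : K)
    (h : (envG2 K).hF.wordGL (reeWordU e t u v) = (envG2 K).hF.wordGL (reeWordU e t' u' v')) :
    t = t' ∧ u = u' ∧ v = v' := by
  rw [reeWordU_eq, reeWordU_eq, ← ordProd_reeC, ← ordProd_reeC] at h
  have h2 := ree_ordProd_inj _ _ h
  refine ⟨?_, ?_, ?_⟩
  · have := h2 6 (by decide)
    simpa [reeC] using this
  · have := h2 10 (by decide)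
    simpa [reeC] using this
  · have := h2 11 (by decide)
    simpa [reeC] using this

theorem reeWordU_mem_pos (t u v : K) :
    (envG2 K).hF.wordGL (reeWordU e t u v) ∈ chevG2.posUnipotent K := by
  unfold Facts.wordGL
  apply Subgroup.list_prod_mem
  intro x hx
  simp only [List.mem_map] at hx
  obtain ⟨p, hp, rfl⟩ := hx
  apply (envG2 K).hF.xGL_mem_pos
  rw [reeWordU_eq] at hp
  simp only [List.mem_cons, List.not_mem_nil, or_false] at hp
  rcases hp with rfl | rfl | rfl | rfl | rfl | rfl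
  · exact (by decide : chevG2.IsPosRoot 7)
  · exact (by decide : chevG2.IsPosRoot 6)
  · exact (by decide : chevG2.IsPosRoot 8)
  · exact (by decide : chevG2.IsPosRoot 9)
  · exact (by decide : chevG2.IsPosRoot 10)
  · exact (by decide : chevG2.IsPosRoot 11)

theorem reeWordU_mem_tw (t u v : K) :
    (envG2 K).hF.wordGL (reeWordU e t u v) ∈ twistedG2 K e := by
  unfold twistedG2 ChevalleyDatum.genSubgroup
  apply Subgroup.subset_closure
  exact ⟨_, ⟨t, u, v, Or.inl rfl⟩, (envG2 K).hF.wordGL_val _⟩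

theorem reeWordV_mem_tw (t u v : K) :
    (envG2 K).hF.wordGL (reeWordV e t u v) ∈ twistedG2 K e := by
  unfold twistedG2 ChevalleyDatum.genSubgroup
  apply Subgroup.subset_closure
  exact ⟨_, ⟨t, u, v, Or.inr rfl⟩, (envG2 K).hF.wordGL_val _⟩

/-- `U ⊓ G¹` is the set of the generators `reeWordU` -/
theorem ree_U_inf (S : Sigma K e) (hE : ReeExp K e) (g : GL chevG2.Idx K) :
    g ∈ chevG2.posUnipotent K ⊓ twistedG2 K e ↔
      ∃ t u v : K, (g : Matrix chevG2.Idx chevG2.Idx K) = chevG2.wordMat K (reeWordU e t u v) := by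
  constructor
  · rintro ⟨h1, h2⟩
    obtain ⟨t, u, v, h⟩ := ree_fix_pos S hE g h1 (ree_le_Fx S hE h2)
    exact ⟨t, u, v, by rw [h, Facts.wordGL_val]⟩
  · rintro ⟨t, u, v, h⟩
    rw [(envG2 K).hF.eq_wordGL g _ h]
    exact ⟨reeWordU_mem_pos t u v, reeWordU_mem_tw t u v⟩

/-- `|U ⊓ G¹| = |K| ^ 3` -/
theorem ree_card_U [Fintype K] (S : Sigma K e) (hE : ReeExp K e) :
    Nat.card ↥(chevG2.posUnipotent K ⊓ twistedG2 K e) = Fintype.card K ^ 3 := by
  have hb : Function.Bijective (fun x : K × K × K =>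
      (⟨(envG2 K).hF.wordGL (reeWordU e x.1 x.2.1 x.2.2),
        ⟨reeWordU_mem_pos _ _ _, reeWordU_mem_tw _ _ _⟩⟩ :
        ↥(chevG2.posUnipotent K ⊓ twistedG2 K e))) := by
    constructor
    · rintro ⟨t, u, v⟩ ⟨t', u', v'⟩ h
      have h' := congrArg Subtype.val h
      obtain ⟨h1, h2, h3⟩ := reeWordU_inj t u v t' u' v' h'
      rw [h1, h2, h3]
    · rintro ⟨g, hg⟩
      obtain ⟨t, u, v, h⟩ := (ree_U_inf S hE g).mp hg
      refine ⟨(t, u, v), ?_⟩
      apply Subtype.ext
      exact ((envG2 K).hF.eq_wordGL g _ h).symm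
  rw [← Nat.card_congr (Equiv.ofBijective _ hb), Nat.card_eq_fintype_card, Fintype.card_prod,
    Fintype.card_prod]
  ring

end reeu3

end Cfsg.Agent.Lib.Helper24
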