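import Cfsg.Agent.Lib.Helper24.DiagConj
import Cfsg.Agent.Lib.Helper24.MatRestrict
import Cfsg.Agent.Lib.Helper24.ReeU3

/-! In characteristic 3 the short root vectors span (with `h_a`) a 7-dimensional submodule of the
adjoint module of `G₂`; the Ree group acts on it. -/

set_option autoImplicit false
set_option linter.unusedSimpArgs false

namespace Cfsg.Agent.Lib.Helper24

open Cfsg.Lie Cfsg.Agent.Lib.Helper33.Ree

/-- the encoded coordinates `h_a`, `e_s` (`s` short) -/
def g2J : List ℕ := [0, 4, 5, 6, 9, 10, 11]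

/-- the coordinates of the short ideal -/
def g2ShortJ (i : chevG2.Idx) : Prop := enc chevG2 i ∈ g2J

instance : DecidablePred g2ShortJ := fun i => by unfold g2ShortJ; infer_instance

theorem g2ShortJ_card : Fintype.card {j // g2ShortJ j} = 7 := by decide

def g2IdealOK : Bool :=
  (List.range 12).all fun r => g2J.all fun k => (fullShape chevG2 r k).all fun e =>
    decide (e.1 ∈ g2J) || decide (e.2.1 % 3 = 0)

theorem g2IdealOK_true : g2IdealOK = true := by decide +kernel

section

variable {K : Type*} [Field K]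

theorem g2_xMat_pres (h3 : (3 : K) = 0) (r : Fin chevG2.nroots) (t : K) :
    PresJ g2ShortJ (chevG2.xMat K r t) := by
  intro i j hj hi
  rw [xMat_entry]
  have hne : enc chevG2 j ≠ enc chevG2 i := by
    intro h
    have := enc_injective chevG2 h
    subst this
    exact hi hj
  rw [if_neg hne, zero_add]
  apply List.sum_eq_zero
  intro x hx
  rw [List.mem_map] at hx
  obtain ⟨e, he, rfl⟩ := hx
  split_ifs with h1
  · have hok := g2IdealOK_true
    unfold g2IdealOK at hok
    simp only [List.all_eq_true, List.mem_range, Bool.or_eq_true, decide_eq_true_eq] at hok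
    have hr : r.val < 12 := r.isLt
    rcases hok r.val hr (enc chevG2 j) hj e he with h | h
    · exfalso
      apply hi
      unfold g2ShortJ
      rw [← h1]
      exact h
    · obtain ⟨c, hc⟩ := Int.dvd_of_emod_eq_zero h
      rw [hc]
      push_cast
      rw [h3, zero_mul, zero_mul]
  · rfl

theorem g2_x_pres (h3 : (3 : K) = 0) (r : ℕ) (t : K) : PresJ g2ShortJ (chevG2.x K r t) := by
  unfold ChevalleyDatum.x
  split_ifs with h
  · exact g2_xMat_pres h3 _ t
  · exact PresJ.one _

theorem g2_xGL_mem_pres (h3 : (3 : K) = 0) (r : ℕ) (t : K) :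
    (envG2 K).hF.xGL r t ∈ presSubgroup (K := K) g2ShortJ := by
  refine ⟨?_, ?_⟩
  · exact g2_x_pres h3 r t
  · show PresJ g2ShortJ (chevG2.x K r (-t))
    exact g2_x_pres h3 r (-t)

theorem g2_wordGL_mem_pres (h3 : (3 : K) = 0) (w : List (ℕ × K)) :
    (envG2 K).hF.wordGL w ∈ presSubgroup (K := K) g2ShortJ := by
  unfold Facts.wordGL
  apply Subgroup.list_prod_mem
  intro x hx
  rw [List.mem_map] at hx
  obtain ⟨p, _, rfl⟩ := hx
  exact g2_xGL_mem_pres h3 _ _

theorem twistedG2_le_pres (h3 : (3 : K) = 0) (e : ℕ) :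
    twistedG2 K e ≤ presSubgroup (K := K) g2ShortJ := by
  unfold twistedG2 ChevalleyDatum.genSubgroup
  rw [Subgroup.closure_le]
  rintro g ⟨w, _, hg⟩
  have : g = (envG2 K).hF.wordGL w := by
    apply Units.ext
    rw [hg, (envG2 K).hF.wordGL_val]
  rw [this]
  exact g2_wordGL_mem_pres h3 w

/-- the action of the Ree group on the short ideal -/
def reeShortHom (h3 : (3 : K) = 0) (e : ℕ) : ↥(twistedG2 K e) →* GL {j // g2ShortJ j} K :=
  (restrictHom (K := K) g2ShortJ).comp (Subgroup.inclusion (twistedG2_le_pres h3 e))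

theorem reeShortHom_val (h3 : (3 : K) = 0) (e : ℕ) (g : ↥(twistedG2 K e)) :
    ((reeShortHom h3 e g : GL {j // g2ShortJ j} K) : Matrix {j // g2ShortJ j} {j // g2ShortJ j} K) =
      subJ g2ShortJ ((g : GL chevG2.Idx K) : Matrix chevG2.Idx chevG2.Idx K) := rfl

theorem fullShape_10_5 : fullShape chevG2 10 5 = [] := by decide +kernel

theorem fullShape_8_5 : fullShape chevG2 8 5 = [(10, -1, 2), (0, 1, 1), (1, 3, 1)] := by
  decide +kernel

/-- the coordinate `e_{a+b}` -/
def g2i8 : chevG2.Idx := Sum.inr ⟨8, by decide⟩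

/-- the coordinate `e_{-a-b}` -/
def g2i3 : chevG2.Idx := Sum.inr ⟨3, by decide⟩

theorem g2i8_enc : enc chevG2 g2i8 = 10 := by decide

theorem g2i3_enc : enc chevG2 g2i3 = 5 := by decide

/-- the action on the short ideal is not trivial -/
theorem reeShortHom_ne_one (h3 : (3 : K) = 0) {e : ℕ} (he : e ≠ 0) :
    ∃ g : ↥(twistedG2 K e), reeShortHom h3 e g ≠ 1 := by
  have hmem : (envG2 K).hF.xGL 8 1 * (envG2 K).hF.xGL 10 1 ∈ twistedG2 K e := by
    have := reeWordU_mem_tw (K := K) (e := e) 0 1 0
    rw [reeWordU_eq] at this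
    simpa [Facts.wordGL, Facts.xGL_zero, he] using this
  refine ⟨⟨_, hmem⟩, ?_⟩
  intro h
  have h1 := congrArg (fun g : GL {j // g2ShortJ j} K =>
    (g : Matrix {j // g2ShortJ j} {j // g2ShortJ j} K) ⟨g2i8, by decide⟩ ⟨g2i3, by decide⟩) h
  simp only [reeShortHom_val, subJ, Matrix.submatrix_apply, Units.val_one] at h1
  rw [Matrix.one_apply_ne (by decide)] at h1
  rw [Units.val_mul, Matrix.mul_apply] at h1
  -- the column `e_{-a-b}` of `x_{3a+b}(1)` is a unit vector
  have hcol : ∀ k : chevG2.Idx, ((envG2 K).hF.xGL 10 1 : GL chevG2.Idx K).val k g2i3 =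
      if k = g2i3 then 1 else 0 := by
    intro k
    show chevG2.x K 10 1 k g2i3 = _
    unfold ChevalleyDatum.x
    rw [dif_pos (by decide : 10 < chevG2.nroots), xMat_entry]
    rw [g2i3_enc, fullShape_10_5, List.map_nil, List.sum_nil, add_zero]
    by_cases hk : k = g2i3
    · subst hk
      rw [if_pos g2i3_enc.symm, if_pos rfl]
    · rw [if_neg hk, if_neg]
      intro h5
      apply hk
      apply enc_injective chevG2
      rw [← h5, g2i3_enc]
  simp only [hcol, mul_ite, mul_one, mul_zero, Finset.sum_ite_eq', Finset.mem_univ, if_true] at h1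
  -- the entry of `x_{a+b}(1)`
  have hent : ((envG2 K).hF.xGL 8 1 : GL chevG2.Idx K).val g2i8 g2i3 = -1 := by
    show chevG2.x K 8 1 g2i8 g2i3 = _
    unfold ChevalleyDatum.x
    rw [dif_pos (by decide : 8 < chevG2.nroots), xMat_entry]
    rw [g2i3_enc, g2i8_enc, fullShape_8_5]
    simp
  rw [hent] at h1
  have : (1 : K) = 0 := by
    have := congrArg Neg.neg h1
    simpa using this
  exact one_ne_zero this

end

end Cfsg.Agent.Lib.Helper24
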