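import Mathlib

/-! Singer cycles: elements of order `q^n - 1` in `GL_N(q)` (`n ≤ N`) and of order `q + 1` in
`SL_2(q)`, from the extension of degree `n` of a finite field. -/

set_option autoImplicit false

namespace Cfsg.Agent.Lib.Helper24

open Module

/-- a finite-dimensional algebra embeds multiplicatively in the matrices of any larger size -/
theorem exists_matrix_hom {K : Type*} [Field K] (L : Type*) [Ring L] [Algebra K L]
    [Module.Finite K L] (ι : Type*) [Fintype ι] [DecidableEq ι]
    (h : Module.finrank K L ≤ Fintype.card ι) :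
    ∃ f : L →* Matrix ι ι K, Function.Injective f := by
  obtain ⟨d, hd⟩ : ∃ d, Fintype.card ι = Module.finrank K L + d := ⟨_, (Nat.add_sub_cancel' h).symm⟩
  have hfr : Module.finrank K (L × (Fin d → K)) = Fintype.card ι := by
    rw [Module.finrank_prod, Module.finrank_fin_fun, hd]
  let b0 : Basis (Fin (Fintype.card ι)) K (L × (Fin d → K)) := Module.finBasisOfFinrankEq K _ hfr
  let b : Basis ι K (L × (Fin d → K)) := b0.reindex (Fintype.equivFin ι).symm
  let F : L → ((L × (Fin d → K)) →ₗ[K] (L × (Fin d → K))) :=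
    fun a => (LinearMap.mulLeft K a).prodMap LinearMap.id
  have hF1 : F 1 = LinearMap.id := by
    simp only [F]
    rw [LinearMap.mulLeft_one, LinearMap.prodMap_id]
  have hFm : ∀ a a', F (a * a') = (F a).comp (F a') := by
    intro a a'
    simp only [F]
    rw [LinearMap.mulLeft_mul, LinearMap.prodMap_comp, LinearMap.comp_id]
  refine ⟨{ toFun := fun a => LinearMap.toMatrix b b (F a)
            map_one' := by rw [hF1, LinearMap.toMatrix_id]
            map_mul' := fun a a' => by rw [hFm, LinearMap.toMatrix_comp b b b] }, ?_⟩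
  intro a a' haa
  have h1 : F a = F a' := (LinearMap.toMatrix b b).injective haa
  have h2 := congrArg (fun φ => (φ ((1 : L), (0 : Fin d → K))).1) h1
  simpa [F] using h2

/-- a Singer cycle of degree `n` in `GL_N(q)`, `n ≤ N` -/
theorem exists_GL_orderOf_singer {K : Type*} [Field K] [Fintype K] (ι : Type*) [Fintype ι]
    [DecidableEq ι] (n : ℕ) (hn : 0 < n) (hι : n ≤ Fintype.card ι) :
    ∃ g : GL ι K, orderOf g = Fintype.card K ^ n - 1 := by
  have hp := CharP.char_is_prime K (ringChar K)
  haveI : Fact (ringChar K).Prime := ⟨hp⟩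
  haveI : NeZero n := ⟨hn.ne'⟩
  let L := FiniteField.Extension K (ringChar K) n
  have hfr : Module.finrank K L = n := FiniteField.finrank_extension K (ringChar K) n
  have hcard : Nat.card L = Nat.card K ^ n := FiniteField.natCard_extension K (ringChar K) n
  obtain ⟨f, hf⟩ := exists_matrix_hom (K := K) L ι (by rw [hfr]; exact hι)
  obtain ⟨ζ, hζ⟩ := IsCyclic.exists_generator (α := Lˣ)
  have hord : orderOf ζ = Nat.card Lˣ := orderOf_eq_card_of_forall_mem_zpowers hζ
  refine ⟨Units.map f ζ, ?_⟩
  rw [orderOf_injective (Units.map f) (Units.map_injective hf) ζ, hord, Nat.card_units, hcard,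
    Nat.card_eq_fintype_card]

/-- an element of order `q + 1` in `SL_2(q)` -/
theorem exists_SL2_orderOf_singer {K : Type*} [Field K] [Fintype K] :
    ∃ g : Matrix.SpecialLinearGroup (Fin 2) K, orderOf g = Fintype.card K + 1 := by
  have hp := CharP.char_is_prime K (ringChar K)
  haveI : Fact (ringChar K).Prime := ⟨hp⟩
  let L := FiniteField.Extension K (ringChar K) 2
  have hfr : Module.finrank K L = 2 := FiniteField.finrank_extension K (ringChar K) 2
  have hcard : Nat.card L = Nat.card K ^ 2 := FiniteField.natCard_extension K (ringChar K) 2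
  let b : Basis (Fin 2) K L := Module.finBasisOfFinrankEq K L hfr
  obtain ⟨ζ, hζ⟩ := IsCyclic.exists_generator (α := Lˣ)
  have hord : orderOf ζ = Nat.card Lˣ := orderOf_eq_card_of_forall_mem_zpowers hζ
  set q := Fintype.card K with hq
  have hq2 : 2 ≤ q := Fintype.one_lt_card
  have hordζ : orderOf ζ = q ^ 2 - 1 := by
    rw [hord, Nat.card_units, hcard, Nat.card_eq_fintype_card]
  set α : L := ((ζ ^ (q - 1) : Lˣ) : L) with hα
  have hnorm : Algebra.norm K α = 1 := by
    rw [hα, Units.val_pow_eq_pow_val, map_pow]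
    apply FiniteField.pow_card_sub_one_eq_one
    intro h0
    have := (Algebra.norm_eq_zero_iff (R := K)).mp h0
    exact ζ.ne_zero this
  have hdet : (Algebra.leftMulMatrix b α).det = 1 := by
    rw [← Algebra.norm_eq_matrix_det, hnorm]
  let g : Matrix.SpecialLinearGroup (Fin 2) K := ⟨Algebra.leftMulMatrix b α, hdet⟩
  have hgval : (g : Matrix (Fin 2) (Fin 2) K) = Algebra.leftMulMatrix b α := rfl
  have hpow : ∀ k : ℕ, ((g ^ k : Matrix.SpecialLinearGroup (Fin 2) K) : Matrix (Fin 2) (Fin 2) K) =
      Algebra.leftMulMatrix b (α ^ k) := by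
    intro k
    rw [Matrix.SpecialLinearGroup.coe_pow, hgval, map_pow]
  refine ⟨g, ?_⟩
  have hordα : orderOf (ζ ^ (q - 1)) = q + 1 := by
    rw [orderOf_pow' ζ (by omega), hordζ]
    have e0 : ∀ r : ℕ, (r + 1) ^ 2 - 1 = (r + 1 - 1) * (r + 1 + 1) := by
      intro r
      simp only [Nat.add_sub_cancel]
      have : (r + 1) ^ 2 = r * (r + 1 + 1) + 1 := by ring
      omega
    have e1 : q ^ 2 - 1 = (q - 1) * (q + 1) := by
      have := e0 (q - 1)
      rwa [Nat.sub_add_cancel (by omega)] at this
    rw [e1, Nat.gcd_mul_right_left, Nat.mul_div_cancel_left _ (by omega)]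
  rw [← hordα, ← orderOf_units (y := ζ ^ (q - 1))]
  refine orderOf_eq_orderOf_iff.mpr ?_
  intro k
  rw [← hα]
  constructor
  · intro h
    have h1 := congrArg Subtype.val h
    rw [hpow k] at h1
    have h2 : Algebra.leftMulMatrix b (α ^ k) = Algebra.leftMulMatrix b 1 := by
      rw [h1, map_one]
      rfl
    exact Algebra.leftMulMatrix_injective b h2
  · intro h
    apply Subtype.ext
    rw [hpow k, h, map_one]
    rfl

end Cfsg.Agent.Lib.Helper24
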