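import Cfsg.Agent.Lib.Helper24.CycSylow
import Cfsg.Agent.Lib.Helper24.Singer

/-! For a prime `p` with `q` of order `6` modulo `p`, the Sylow `p`-subgroups of `GL_7(q)` are cyclic. -/

set_option autoImplicit false

namespace Cfsg.Agent.Lib.Helper24

theorem pow_add_sub_pow (q a b : ℕ) : q ^ (a + b) - q ^ a = q ^ a * (q ^ b - 1) := by
  rw [pow_add, Nat.mul_sub_one]

/-- the order of `GL_7(q)` -/
theorem card_GL_seven {K : Type*} [Field K] [Fintype K] (ι : Type*) [Fintype ι] [DecidableEq ι]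
    (hι : Fintype.card ι = 7) :
    Nat.card (GL ι K) = (Fintype.card K ^ 21 * (Fintype.card K ^ 7 - 1) * (Fintype.card K ^ 5 - 1) *
      (Fintype.card K ^ 4 - 1) * (Fintype.card K ^ 3 - 1) * (Fintype.card K ^ 2 - 1) *
      (Fintype.card K - 1)) * (Fintype.card K ^ 6 - 1) := by
  have e : ι ≃ Fin 7 := Fintype.equivFinOfCardEq hι
  have h1 : Nat.card (GL ι K) = Nat.card (GL (Fin 7) K) :=
    Nat.card_congr (Units.mapEquiv (Matrix.reindexAlgEquiv K K e).toMulEquiv).toEquiv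
  rw [h1, Matrix.card_GL_field, Fin.prod_univ_seven]
  set q := Fintype.card K
  have e0 : q ^ 7 - q ^ ((0 : Fin 7) : ℕ) = q ^ 7 - 1 := by simp
  have e1 : q ^ 7 - q ^ ((1 : Fin 7) : ℕ) = q ^ 1 * (q ^ 6 - 1) := pow_add_sub_pow q 1 6
  have e2 : q ^ 7 - q ^ ((2 : Fin 7) : ℕ) = q ^ 2 * (q ^ 5 - 1) := pow_add_sub_pow q 2 5
  have e3 : q ^ 7 - q ^ ((3 : Fin 7) : ℕ) = q ^ 3 * (q ^ 4 - 1) := pow_add_sub_pow q 3 4
  have e4 : q ^ 7 - q ^ ((4 : Fin 7) : ℕ) = q ^ 4 * (q ^ 3 - 1) := pow_add_sub_pow q 4 3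
  have e5 : q ^ 7 - q ^ ((5 : Fin 7) : ℕ) = q ^ 5 * (q ^ 2 - 1) := pow_add_sub_pow q 5 2
  have e6 : q ^ 7 - q ^ ((6 : Fin 7) : ℕ) = q ^ 6 * (q ^ 1 - 1) := pow_add_sub_pow q 6 1
  rw [e0, e1, e2, e3, e4, e5, e6, pow_one]
  ring

/-- if `q` has order `6` modulo `p`, the Sylow `p`-subgroups of `GL_7(q)` are cyclic -/
theorem GL7_sylow_isCyclic {K : Type*} [Field K] [Fintype K] (ι : Type*) [Fintype ι]
    [DecidableEq ι] (hι : Fintype.card ι = 7) {p : ℕ} [Fact p.Prime]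
    (h0 : ¬ p ∣ Fintype.card K) (h1 : ¬ p ∣ Fintype.card K - 1)
    (h2 : ¬ p ∣ Fintype.card K ^ 2 - 1) (h3 : ¬ p ∣ Fintype.card K ^ 3 - 1)
    (h4 : ¬ p ∣ Fintype.card K ^ 4 - 1) (h5 : ¬ p ∣ Fintype.card K ^ 5 - 1)
    (h7 : ¬ p ∣ Fintype.card K ^ 7 - 1) (P : Sylow p (GL ι K)) :
    IsCyclic (P : Subgroup (GL ι K)) := by
  have hp : p.Prime := Fact.out
  obtain ⟨g, hg⟩ := exists_GL_orderOf_singer (K := K) ι 6 (by norm_num) (by rw [hι]; norm_num)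
  refine sylow_isCyclic_of_cyclic_subgroup (Subgroup.zpowers g) inferInstance ?_ P
  intro k hk
  rw [Nat.card_zpowers, hg]
  rw [card_GL_seven ι hι] at hk
  refine Nat.Coprime.dvd_of_dvd_mul_left ?_ hk
  apply Nat.Coprime.pow_left
  have c := fun {n : ℕ} (h : ¬ p ∣ n) => (Nat.Prime.coprime_iff_not_dvd hp).mpr h
  refine Nat.Coprime.mul_right (Nat.Coprime.mul_right (Nat.Coprime.mul_right (Nat.Coprime.mul_right
    (Nat.Coprime.mul_right (Nat.Coprime.mul_right ?_ (c h7)) (c h5)) (c h4)) (c h3)) (c h2)) (c h1)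
  exact Nat.Coprime.pow_right _ (c h0)

end Cfsg.Agent.Lib.Helper24
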