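import Cfsg.Agent.Lib.Helper24.Core

set_option autoImplicit false
set_option linter.unusedSimpArgs false

namespace Cfsg.Agent.Lib.Helper24

open Cfsg.Lie

/-- integer grading of the encoded indices given by the weights `Λ` on the characters of the `h_{p_i}` -/
def gradeE (D : ChevalleyDatum) (Λ : List ℤ) (k : ℕ) : ℤ :=
  ((List.range D.rank).map fun i => Λ.getD i 0 * Eexp D i k).sum

theorem fullShape_exp_pos (D : ChevalleyDatum) (r k : ℕ) (e : ℕ × ℤ × ℕ) (he : e ∈ fullShape D r k) :
    1 ≤ e.2.2 := by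
  unfold fullShape at he
  split_ifs at he with h1 h2 h3
  · simp only [List.mem_singleton] at he
    rw [he]
  · simp at he
  · simp only [List.mem_cons, List.mem_map, List.mem_range] at he
    rcases he with rfl | ⟨i, _, rfl⟩ <;> simp
  · simp only [List.mem_map] at he
    obtain ⟨e', he', rfl⟩ := he
    unfold shapeSpec at he'
    simp only [List.mem_flatMap, List.mem_map] at he'
    obtain ⟨_, _, q, _, rfl⟩ := he'
    simp

theorem sum_map_affine (l : List ℕ) (a c b : ℕ → ℤ) (e : ℤ) :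
    (l.map fun i => a i * (e * c i + b i)).sum =
      e * (l.map fun i => a i * c i).sum + (l.map fun i => a i * b i).sum := by
  induction l with
  | nil => simp
  | cons x l ih =>
    simp only [List.map_cons, List.sum_cons, ih]
    ring

section graded

variable {F : Type*} [Field F] {D : ChevalleyDatum}

theorem Facts.gradeE_compat (hF : Facts D) (Λ : List ℤ) (r : ℕ) (hr : r < D.nroots) (i' j : D.Idx)
    (e : ℕ × ℤ × ℕ) (he : e ∈ fullShape D r (enc D j)) (hei : e.1 = enc D i') :
    gradeE D Λ (enc D i') = (e.2.2 : ℤ) * gradeE D Λ (D.rank + r) + gradeE D Λ (enc D j) := by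
  unfold gradeE
  rw [← sum_map_affine]
  congr 1
  apply List.map_congr_left
  intro i hi
  rw [Eexp_compat D hF.table hF.cartanF r hr (hF.cartanOK r hr) i (List.mem_range.mp hi) i' j e he hei,
    Eexp_root]

/-- a non-zero off-diagonal entry of `x_r(t)` raises the grading by a positive multiple of the grade of `r` -/
theorem Facts.x_entry_grade (hF : Facts D) (Λ : List ℤ) (r : ℕ) (hr : r < D.nroots) (t : F)
    (a b : D.Idx) (hab : a ≠ b) (hne : D.x F r t a b ≠ 0) :
    ∃ e : ℕ, 1 ≤ e ∧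
      gradeE D Λ (enc D a) = (e : ℤ) * gradeE D Λ (D.rank + r) + gradeE D Λ (enc D b) := by
  unfold ChevalleyDatum.x at hne
  rw [dif_pos hr, xMat_entry] at hne
  have h1 : enc D b ≠ enc D a := fun h => hab (enc_injective D h).symm
  rw [if_neg h1, zero_add] at hne
  by_contra hcon
  apply hne
  apply List.sum_eq_zero
  intro x hx
  simp only [List.mem_map] at hx
  obtain ⟨e, he, rfl⟩ := hx
  split_ifs with h
  · exfalso
    exact hcon ⟨e.2.2, fullShape_exp_pos D r _ e he, hF.gradeE_compat Λ r hr a b e he h⟩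
  · rfl

end graded

section upper

variable {m : Type*} [Fintype m] [DecidableEq m] {F : Type*} [Field F]

/-- the non-zero off-diagonal entries raise the grading `g` by more than `c` -/
def IsUpper (g : m → ℤ) (c : ℤ) (M : Matrix m m F) : Prop :=
  ∀ a b, a ≠ b → M a b ≠ 0 → c < g a - g b

omit [Fintype m] in
theorem IsUpper.one (g : m → ℤ) (c : ℤ) : IsUpper g c (1 : Matrix m m F) :=
  fun _ _ hab h => absurd (Matrix.one_apply_ne hab) h

theorem IsUpper.mul {g : m → ℤ} {c : ℤ} (hc : 0 ≤ c) {M N : Matrix m m F} (hM : IsUpper g c M)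
    (hN : IsUpper g c N) : IsUpper g c (M * N) := by
  intro a b hab h
  rw [Matrix.mul_apply] at h
  obtain ⟨k, _, hk⟩ := Finset.exists_ne_zero_of_sum_ne_zero h
  have hk1 : M a k ≠ 0 := left_ne_zero_of_mul hk
  have hk2 : N k b ≠ 0 := right_ne_zero_of_mul hk
  by_cases hak : a = k
  · subst hak; exact hN a b hab hk2
  by_cases hkb : k = b
  · subst hkb; exact hM a k hab hk1
  have h1 := hM a k hak hk1
  have h2 := hN k b hkb hk2
  omega

end upper

section graded2

variable {F : Type*} [Field F] {D : ChevalleyDatum}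

theorem Facts.x_isUpper (hF : Facts D) (Λ : List ℤ) (c : ℤ) (hc : 0 ≤ c) (s : ℕ) (hs : s < D.nroots)
    (hcs : c < gradeE D Λ (D.rank + s)) (u : F) :
    IsUpper (fun a : D.Idx => gradeE D Λ (enc D a)) c (D.x F s u) := by
  intro a b hab h
  obtain ⟨e, he, heq⟩ := hF.x_entry_grade Λ s hs u a b hab h
  have h1 : (1 : ℤ) ≤ (e : ℤ) := by exact_mod_cast he
  have h2 : gradeE D Λ (D.rank + s) ≤ (e : ℤ) * gradeE D Λ (D.rank + s) := by nlinarith
  simp only
  linarith

theorem Facts.closure_isUpper (hF : Facts D) (Λ : List ℤ) (c : ℤ) (hc : 0 ≤ c) (R : ℕ → Prop)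
    (hR : ∀ s, R s → s < D.nroots ∧ c < gradeE D Λ (D.rank + s))
    (x : GL D.Idx F)
    (hx : x ∈ Subgroup.closure {g : GL D.Idx F | ∃ (s : ℕ) (u : F), R s ∧
      (g : Matrix D.Idx D.Idx F) = D.x F s u}) :
    IsUpper (fun a : D.Idx => gradeE D Λ (enc D a)) c (x : Matrix D.Idx D.Idx F) := by
  induction hx using Subgroup.closure_induction'' with
  | mem x hx =>
    obtain ⟨s, u, hs, hx⟩ := hx
    rw [hx]
    exact hF.x_isUpper Λ c hc s (hR s hs).1 (hR s hs).2 u
  | inv_mem x hx =>
    obtain ⟨s, u, hs, hx⟩ := hx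
    rw [hF.eq_xGL x s u hx, hF.xGL_inv]
    exact hF.x_isUpper Λ c hc s (hR s hs).1 (hR s hs).2 (-u)
  | one => exact IsUpper.one _ _
  | mul x y _ _ hx hy =>
    rw [Units.val_mul]
    exact IsUpper.mul hc hx hy

/-- the entry of `x_r(t)` in the row of `h_{p_i}` and the column of `e_{-r}` -/
theorem x_neg_entry (r : ℕ) (hr : r < D.nroots) (hlt : D.neg r < D.nroots) (hne : D.neg r ≠ r) (t : F)
    (i : Fin D.rank) :
    D.x F r t (Sum.inl i) (Sum.inr ⟨D.neg r, hlt⟩) =
      (((D.coroot.getD r #[]).getD i.val 0 : ℤ) : F) * t := by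
  unfold ChevalleyDatum.x
  rw [dif_pos hr]
  unfold ChevalleyDatum.xMat
  simp only [Matrix.of_apply]
  have h1 : ¬ ((⟨D.neg r, hlt⟩ : Fin D.nroots) = ⟨r, hr⟩) := by
    intro h; exact hne (congrArg Fin.val h)
  rw [if_neg h1, if_pos (by rfl)]

/-- two of the coefficients of every coroot are coprime -/
def corootUnitOK (D : ChevalleyDatum) : Bool :=
  allBelow (fun r => (List.range D.rank).any fun i => (List.range D.rank).any fun j =>
    Nat.beq (Int.gcd ((D.coroot.getD r #[]).getD i 0) ((D.coroot.getD r #[]).getD j 0)) 1) D.nroots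

theorem corootUnit_spec (hU : corootUnitOK D = true) (r : ℕ) (hr : r < D.nroots) (t : F)
    (h : ∀ i : Fin D.rank, (((D.coroot.getD r #[]).getD i.val 0 : ℤ) : F) * t = 0) : t = 0 := by
  have h1 := allBelow_elim _ _ hU r hr
  simp only [List.any_eq_true, List.mem_range, nbeq_true] at h1
  obtain ⟨i, hi, j, hj, hg⟩ := h1
  by_contra ht
  have hi0 : (((D.coroot.getD r #[]).getD i 0 : ℤ) : F) = 0 := by
    rcases mul_eq_zero.mp (h ⟨i, hi⟩) with h | h
    · exact h
    · exact absurd h ht
  have hj0 : (((D.coroot.getD r #[]).getD j 0 : ℤ) : F) = 0 := by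
    rcases mul_eq_zero.mp (h ⟨j, hj⟩) with h | h
    · exact h
    · exact absurd h ht
  have hb := Int.gcd_eq_gcd_ab ((D.coroot.getD r #[]).getD i 0) ((D.coroot.getD r #[]).getD j 0)
  rw [hg] at hb
  have hb' := congrArg (fun z : ℤ => (z : F)) hb
  simp only [Nat.cast_one, Int.cast_one, Int.cast_add, Int.cast_mul, hi0, hj0, zero_mul, add_zero] at hb'
  exact one_ne_zero hb'

/-- `x_r(t)` lies in the subgroup generated by root subgroups of higher grade only for `t = 0` -/
theorem Facts.eq_zero_of_xGL_mem_closure (hF : Facts D) (hNe : negNeOK D = true)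
    (hU : corootUnitOK D = true) (Λ : List ℤ) (R : ℕ → Prop) (r : ℕ) (hr : r < D.nroots)
    (hr0 : 0 ≤ gradeE D Λ (D.rank + r))
    (hR : ∀ s, R s → s < D.nroots ∧ gradeE D Λ (D.rank + r) < gradeE D Λ (D.rank + s)) (t : F)
    (h : hF.xGL r t ∈ Subgroup.closure {g : GL D.Idx F | ∃ (s : ℕ) (u : F), R s ∧
      (g : Matrix D.Idx D.Idx F) = D.x F s u}) : t = 0 := by
  have hup := hF.closure_isUpper Λ _ hr0 R hR _ h
  have h1 := allBelow_elim _ _ hNe r hr
  simp only [Bool.and_eq_true, decide_eq_true_eq, Bool.not_eq_true', nbeq_false] at h1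
  obtain ⟨hlt, hne⟩ := h1
  apply corootUnit_spec hU r hr
  intro i
  by_contra hne0
  have h2 := hup (Sum.inl i) (Sum.inr ⟨D.neg r, hlt⟩) (by simp)
    (by rw [Facts.xGL_val, x_neg_entry r hr hlt hne]; exact hne0)
  have hfs : fullShape D r (D.rank + D.neg r) =
      (D.rank + r, -1, 2) :: (List.range D.rank).map
        (fun i => (i, (D.coroot.getD r #[]).getD i 0, 1)) := by
    unfold fullShape
    rw [if_neg (by omega), if_neg (by omega), if_pos (by unfold ChevalleyDatum.neg; omega)]
  have hmem : ((i.val, (D.coroot.getD r #[]).getD i.val 0, 1) : ℕ × ℤ × ℕ) ∈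
      fullShape D r (enc D (Sum.inr (⟨D.neg r, hlt⟩ : Fin D.nroots))) := by
    have e1 : enc D (Sum.inr (⟨D.neg r, hlt⟩ : Fin D.nroots)) = D.rank + D.neg r := rfl
    rw [e1, hfs]
    apply List.mem_cons_of_mem
    rw [List.mem_map]
    exact ⟨i.val, List.mem_range.mpr i.isLt, rfl⟩
  have hc := hF.gradeE_compat Λ r hr (Sum.inl i) (Sum.inr ⟨D.neg r, hlt⟩) _ hmem rfl
  simp only at h2 hc
  push_cast at hc
  linarith

end graded2

end Cfsg.Agent.Lib.Helper24
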