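import Cfsg.Agent.Lib.Helper24.Words
import Cfsg.Agent.Lib.Helper24.NDef

set_option autoImplicit false
set_option linter.unusedSimpArgs false

namespace Cfsg.Agent.Lib.Helper24

open Cfsg.Lie

/-- conjugation of `x_s(t)` by the constant matrix given by a packed table -/
theorem conj_of_conjPairOK2 {F : Type*} [Field F] (D : ChevalleyDatum) (hT : TableOK D) (P s s' : ℕ)
    (hs : s < D.nroots) (h : conjPairOK2 D P s s' = true) (t : F) :
    cMat D (mcolP P (D.rank + D.nroots)) * D.x F s t =
      D.x F s' (((etaOf (mcolP P (D.rank + D.nroots) (D.rank + s)) : ℤ) : F) * t) *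
        cMat D (mcolP P (D.rank + D.nroots)) := by
  unfold conjPairOK2 at h
  simp only [forceNat_eq, Bool.and_eq_true, decide_eq_true_eq] at h
  obtain ⟨hs', h⟩ := h
  unfold ChevalleyDatum.x
  rw [dif_pos hs, dif_pos hs']
  apply cMat_mul_xMat' D _ ⟨s, hs⟩ ⟨_, hs'⟩
  intro j hj t
  have h1 := colOK_spec (F := F) D _ _ _ _ _ _ _ _ j (allBelow_elim _ _ h j hj) t
  have e1 : fullShapeP D s (D.negIdx.getD s 0) (packB D s) = fullShapeF D s := rfl
  have e2 : fullShapeP D s' (D.negIdx.getD s' 0) (packB D s') = fullShapeF D s' := rfl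
  rw [e1, e2, fullShapeF_eq D hT s j hs hj,
    applyXT_congr _ (fullShapeF D s') (fullShape D s') _ _
      (fun k hk => fullShapeF_eq D hT _ k hs' hk)] at h1
  exact h1

theorem lt_of_conjPairOK2 (D : ChevalleyDatum) (P s s' : ℕ) (h : conjPairOK2 D P s s' = true) :
    s' < D.nroots := by
  unfold conjPairOK2 at h
  simp only [forceNat_eq, Bool.and_eq_true, decide_eq_true_eq] at h
  exact h.1

/-- the packed tables `P`, `P'` describe mutually inverse monomial matrices -/
def invTabOK (n P P' : ℕ) : Bool :=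
  allBelow (fun k => forceNat k fun k' =>
    match mcolP P' n k' with
    | [(j, c')] =>
      (match mcolP P n j with
       | [(k'', c)] => Nat.beq k'' k' && decide (c * c' = 1) && Nat.blt j n
       | _ => false)
    | _ => false) n

section graph

variable {F : Type*} [Field F] {D : ChevalleyDatum}

theorem denC_single (D : ChevalleyDatum) (j : ℕ) (c : ℤ) :
    denC (F := F) D [(j, c)] = ((c : ℤ) : F) • bv D j := by
  funext i
  simp only [denC, bv, List.map_cons, List.map_nil, List.sum_cons, List.sum_nil, add_zero,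
    Pi.smul_apply, smul_eq_mul]
  split_ifs <;> simp

theorem cMat_mul_cMat_eq_one (D : ChevalleyDatum) (P P' : ℕ)
    (h : invTabOK (D.rank + D.nroots) P P' = true) :
    cMat (F := F) D (mcolP P (D.rank + D.nroots)) * cMat D (mcolP P' (D.rank + D.nroots)) = 1 := by
  ext i j
  have key : (cMat (F := F) D (mcolP P (D.rank + D.nroots)) *
      cMat D (mcolP P' (D.rank + D.nroots))).mulVec (bv D (enc D j)) =
      (1 : Matrix D.Idx D.Idx F).mulVec (bv D (enc D j)) := by
    rw [← Matrix.mulVec_mulVec, cMat_mulVec_bv, if_pos (enc_lt D j), Matrix.one_mulVec]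
    have h1 := allBelow_elim _ _ h (enc D j) (enc_lt D j)
    simp only [forceNat_eq] at h1
    split at h1
    · rename_i j' c' hcol'
      split at h1
      · rename_i k'' c hcol
        simp only [Bool.and_eq_true, nbeq_true, decide_eq_true_eq, Nat.blt_eq] at h1
        obtain ⟨⟨hk, hcc⟩, hj'⟩ := h1
        rw [hcol', denC_single, Matrix.mulVec_smul, cMat_mulVec_bv, if_pos hj', hcol, denC_single, hk,
          smul_smul]
        have : ((c' : ℤ) : F) * ((c : ℤ) : F) = 1 := by
          rw [← Int.cast_mul, mul_comm, hcc, Int.cast_one]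
        rw [this, one_smul]
      · exact absurd h1 (by simp)
    · exact absurd h1 (by simp)
  rw [mulVec_bv_enc, mulVec_bv_enc] at key
  exact congrFun key i

/-- the automorphism of the Chevalley group induced by a monomial matrix permuting the root elements -/
theorem Facts.exists_graph_aut (hF : Facts D) (P P' : ℕ) (R Rinv : List ℕ)
    (hinv : invTabOK (D.rank + D.nroots) P P' = true)
    (hconj : ∀ s < D.nroots, conjPairOK2 D P s (R.getD s 0) = true)
    (hR : ∀ r < D.nroots, Rinv.getD r 0 < D.nroots ∧ R.getD (Rinv.getD r 0) 0 = r) :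
    ∃ α : ↥(D.group F) ≃* ↥(D.group F), ∀ (g : ↥(D.group F)) (s : ℕ) (t : F), s < D.nroots →
      ((g : GL D.Idx F) : Matrix D.Idx D.Idx F) = D.x F s t →
      ((α g : GL D.Idx F) : Matrix D.Idx D.Idx F) =
        D.x F (R.getD s 0) (((etaOf (mcolP P (D.rank + D.nroots) (D.rank + s)) : ℤ) : F) * t) := by
  have hMM := cMat_mul_cMat_eq_one (F := F) D P P' hinv
  have hMM' := _root_.mul_eq_one_comm.mp hMM
  let g0 : GL D.Idx F := ⟨cMat D (mcolP P (D.rank + D.nroots)), cMat D (mcolP P' (D.rank + D.nroots)),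
    hMM, hMM'⟩
  have hrel : ∀ s < D.nroots, ∀ t : F, g0 * hF.xGL s t * g0⁻¹ =
      hF.xGL (R.getD s 0) (((etaOf (mcolP P (D.rank + D.nroots) (D.rank + s)) : ℤ) : F) * t) := by
    intro s hs t
    rw [mul_inv_eq_iff_eq_mul]
    apply Units.ext
    rw [Units.val_mul, Units.val_mul, Facts.xGL_val, Facts.xGL_val]
    exact conj_of_conjPairOK2 D hF.table P s _ hs (hconj s hs) t
  have hgen : ∀ g : GL D.Idx F, g ∈ {g : GL D.Idx F | ∃ (r : Fin D.nroots) (t : F),
      (g : Matrix D.Idx D.Idx F) = D.xMat F r t} → ∃ (r : ℕ) (t : F), r < D.nroots ∧ g = hF.xGL r t := by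
    rintro g ⟨r, t, hg⟩
    refine ⟨r.val, t, r.isLt, Units.ext ?_⟩
    rw [hg, Facts.xGL_val]
    unfold ChevalleyDatum.x
    rw [dif_pos r.isLt]
  have hmap : (D.group F).map ((MulAut.conj g0 : GL D.Idx F ≃* GL D.Idx F) : GL D.Idx F →* GL D.Idx F) =
      D.group F := by
    apply le_antisymm
    · rw [Subgroup.map_le_iff_le_comap]
      unfold ChevalleyDatum.group
      rw [Subgroup.closure_le]
      intro g hg
      obtain ⟨r, t, hr, rfl⟩ := hgen g hg
      rw [SetLike.mem_coe, Subgroup.mem_comap]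
      have e : ((MulAut.conj g0 : GL D.Idx F ≃* GL D.Idx F) : GL D.Idx F →* GL D.Idx F) (hF.xGL r t) =
          g0 * hF.xGL r t * g0⁻¹ := rfl
      rw [e, hrel r hr t]
      exact hF.xGL_mem_group _ _
    · unfold ChevalleyDatum.group
      rw [Subgroup.closure_le]
      intro g hg
      obtain ⟨r, t, hr, rfl⟩ := hgen g hg
      obtain ⟨hs, hRs⟩ := hR r hr
      set s := Rinv.getD r 0 with hsdef
      set η : ℤ := etaOf (mcolP P (D.rank + D.nroots) (D.rank + s)) with hη
      refine ⟨hF.xGL s ((η : F) * t), hF.xGL_mem_group _ _, ?_⟩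
      have e : ((MulAut.conj g0 : GL D.Idx F ≃* GL D.Idx F) : GL D.Idx F →* GL D.Idx F)
          (hF.xGL s ((η : F) * t)) = g0 * hF.xGL s ((η : F) * t) * g0⁻¹ := rfl
      rw [e, hrel s hs, hRs, ← hη, ← mul_assoc]
      congr 1
      rcases etaOf_cases (mcolP P (D.rank + D.nroots) (D.rank + s)) with h | h <;> rw [hη, h] <;> simp
  refine ⟨(MulEquiv.subgroupMap (MulAut.conj g0) (D.group F)).trans (MulEquiv.subgroupCongr hmap), ?_⟩
  intro g s t hs hg
  have hg' : (g : GL D.Idx F) = hF.xGL s t := Units.ext (by rw [hg, Facts.xGL_val])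
  have : ((((MulEquiv.subgroupMap (MulAut.conj g0) (D.group F)).trans (MulEquiv.subgroupCongr hmap)) g :
      ↥(D.group F)) : GL D.Idx F) = g0 * (g : GL D.Idx F) * g0⁻¹ := rfl
  rw [this, hg', hrel s hs t, Facts.xGL_val]

end graph

end Cfsg.Agent.Lib.Helper24
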