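import Cfsg.Agent.Lib.Helper24.Norm
import Cfsg.Agent.Lib.Helper24.DiagConj

set_option autoImplicit false
set_option linter.unusedSimpArgs false

namespace Cfsg.Agent.Lib.Helper24

open Cfsg.Lie

/-- `A_{r,s} = Σ_i c_i(r) A_{p_i,s}` -/
def Aroot (D : ChevalleyDatum) (r s : ℕ) : ℤ :=
  ((List.range D.rank).map fun i => (D.coroot.getD r #[]).getD i 0 * D.cartan i s).sum

def ArootF (D : ChevalleyDatum) (r s : ℕ) : ℤ :=
  ((List.range D.rank).map fun i => Int.mul ((D.coroot.getD r #[]).getD i 0) (cartanF D i s)).sum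

theorem ArootF_eq (D : ChevalleyDatum) (hC : cartanFOK D = true) (r s : ℕ) (hs : s < D.nroots) :
    ArootF D r s = Aroot D r s := by
  unfold ArootF Aroot
  congr 1
  apply List.map_congr_left
  intro i hi
  rw [List.mem_range] at hi
  rw [cartanF_eq D hC i s hi hs]
  rfl

/-- exponent of the character of `h_r` on the encoded index `k` -/
def AE (D : ChevalleyDatum) (r k : ℕ) : ℤ := if k < D.rank then 0 else Aroot D r (k - D.rank)

def hRootDiagF (D : ChevalleyDatum) (r k : ℕ) : Poly :=
  if k < D.rank then Poly.one else dPoly (ArootF D r (k - D.rank))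

/-- `h_r(c)` acts diagonally with the expected entries, on all columns -/
def hRootOK (D : ChevalleyDatum) (r : ℕ) : Bool :=
  (List.range (D.rank + D.nroots)).all fun k => checkDiagN D true (hWordS D r) (hRootDiagF D r) k

theorem hMat_of_hRootOK {F : Type*} [Field F] (D : ChevalleyDatum) (hT : TableOK D)
    (hC : cartanFOK D = true) (r : ℕ) (h : hRootOK D r = true) (c : F) (hc : c ≠ 0) :
    D.hMat F r c = Matrix.diagonal (fun idx : D.Idx => c ^ AE D r (enc D idx)) := by
  simp only [hRootOK, List.all_eq_true, List.mem_range] at h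
  have h1 := wordMat_eq_diag_of_checkDiagN D c c⁻¹ 1 1 hT true (fun _ => mul_inv_cancel₀ hc) _ _ h
  rw [denW_hWordS] at h1
  unfold ChevalleyDatum.hMat
  rw [h1]
  congr 1
  funext j
  unfold hRootDiagF AE
  split_ifs with hj
  · simp
  · rw [den_dPoly, ArootF_eq D hC r _ (by have := enc_lt D j; omega)]

end Cfsg.Agent.Lib.Helper24
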