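import Cfsg.Agent.Lib.Helper24.Bruhat

set_option autoImplicit false
set_option linter.unusedSimpArgs false

namespace Cfsg.Agent.Lib.Helper24

open Cfsg.Lie

section hconj

variable {F : Type*} [Field F] {D : ChevalleyDatum} {tab : List ℕ} {orb : List (ℕ × ℕ × ℕ)}

/-- `H` normalises every subgroup generated by root subgroups -/
theorem Facts.diagonal_le_normalizer_rootClosure (hF : Facts D) (R : ℕ → Prop)
    (hR : ∀ s, R s → s < D.nroots) :
    D.diagonalSubgroup F ≤ Subgroup.normalizer (rootClosure D F R : Set (GL D.Idx F)) := by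
  unfold ChevalleyDatum.diagonalSubgroup
  rw [Subgroup.closure_le]
  rintro g ⟨r, c, hr, hc, hg⟩
  exact hF.hgen_mem_normalizer_rootClosure R hR g r hr c hc hg

/-- S1046 -/
theorem Facts.diagonal_conj_in_monomial (hF : Facts D) (hN : NFacts D tab) (hH : HNFacts D tab orb)
    (hR : rootTableOK D = true) (hC : ChainOK D) (hU : UFacts D) (hNR : negRevOK D = true)
    (hcomm : ∀ r < D.nroots, ∀ s < D.nroots, s ≠ r → s ≠ D.neg r → hF.QF F r s)
    (P : Cfsg.BNPair ↥(D.group F))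
    (hB : P.B = (D.borelSubgroup F).subgroupOf (D.group F))
    (hN' : P.N = (D.monomialSubgroup F).subgroupOf (D.group F))
    (hBN : D.borelSubgroup F ⊓ D.monomialSubgroup F = D.diagonalSubgroup F)
    (h₁ h₂ g : GL D.Idx F) (h1 : h₁ ∈ D.diagonalSubgroup F) (h2 : h₂ ∈ D.diagonalSubgroup F)
    (hg : g ∈ D.group F) (hc : g * h₁ * g⁻¹ = h₂) :
    ∃ n ∈ D.monomialSubgroup F, n * h₁ * n⁻¹ = h₂ := by
  obtain ⟨b, hb, n, hn, u, hu, e⟩ :=
    hF.normal_form_exists hN hH hR hC hU hNR hcomm P hB hN' g hg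
  unfold ChevalleyDatum.borelSubgroup at hb
  obtain ⟨v, hv, h, hh, rfl⟩ := exists_mul_of_mem_sup_of_le_normalizer _ _
    hF.diagonal_le_normalizer_pos b hb
  refine ⟨n, hn, ?_⟩
  have e1 : g * h₁ = h₂ * g := by rw [← hc]; group
  have hu1 : h₁⁻¹ * u * h₁ ∈ rootClosure D F (fun r => D.IsPosRoot r ∧ NegSet D F n r) := by
    have := (Subgroup.mem_normalizer_iff.mp
      (hF.diagonal_le_normalizer_rootClosure _ (fun s hs => hs.1.1) (Subgroup.inv_mem _ h1)) u).mp hu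
    rwa [inv_inv] at this
  have hnh : n * h₁ * n⁻¹ ∈ D.diagonalSubgroup F :=
    (Subgroup.mem_normalizer_iff.mp (hF.monomial_le_normalizer hN hH hn) h₁).mp h1
  have hv2 : h₂ * v * h₂⁻¹ ∈ D.posUnipotent F :=
    (Subgroup.mem_normalizer_iff.mp (hF.diagonal_le_normalizer_pos h2) v).mp hv
  have eL : g * h₁ = (v * (h * (n * h₁ * n⁻¹))) * n * (h₁⁻¹ * u * h₁) := by rw [e]; group
  have eR : h₂ * g = ((h₂ * v * h₂⁻¹) * (h₂ * h)) * n * u := by rw [e]; group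
  have key := hF.normal_form_unique P hB hN' hBN _ _ n n _ _
    (Subgroup.mul_mem _ (pos_le_borel D F hv)
      (diagonal_le_borel D F (Subgroup.mul_mem _ hh hnh)))
    (Subgroup.mul_mem _ (pos_le_borel D F hv2)
      (diagonal_le_borel D F (Subgroup.mul_mem _ h2 hh)))
    hn hn hu1 hu (eL.symm.trans (e1.trans eR))
  obtain ⟨hbb, _⟩ := key.2 rfl
  have h3 : (h₂ * v * h₂⁻¹)⁻¹ * v = (h₂ * h) * (h * (n * h₁ * n⁻¹))⁻¹ := by
    calc (h₂ * v * h₂⁻¹)⁻¹ * v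
        = (h₂ * v * h₂⁻¹)⁻¹ * (v * (h * (n * h₁ * n⁻¹))) * (h * (n * h₁ * n⁻¹))⁻¹ := by group
      _ = (h₂ * v * h₂⁻¹)⁻¹ * (h₂ * v * h₂⁻¹ * (h₂ * h)) * (h * (n * h₁ * n⁻¹))⁻¹ := by rw [hbb]
      _ = _ := by group
  have h4 : (h₂ * v * h₂⁻¹)⁻¹ * v ∈ D.posUnipotent F ⊓ D.diagonalSubgroup F :=
    ⟨Subgroup.mul_mem _ (Subgroup.inv_mem _ hv2) hv, by
      rw [h3]
      exact Subgroup.mul_mem _ (Subgroup.mul_mem _ h2 hh)
        (Subgroup.inv_mem _ (Subgroup.mul_mem _ hh hnh))⟩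
  rw [hF.borel_semidirect.2, Subgroup.mem_bot, h3] at h4
  have h5 : h₂ * h = h * (n * h₁ * n⁻¹) := mul_inv_eq_one.mp h4
  have h6 : h₂ * h = h * h₂ :=
    diagSub_comm _ _ (hF.diagonal_le_diagSub h2) (hF.diagonal_le_diagSub hh)
  rw [h6] at h5
  exact (mul_left_cancel h5).symm

end hconj

end Cfsg.Agent.Lib.Helper24
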