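import Cfsg.Agent.Lib.Helper24.Fast

set_option autoImplicit false
set_option linter.unusedSimpArgs false

namespace Cfsg.Agent.Lib.Helper24

open Cfsg.Lie

/-- `c ^ A` as a polynomial in `x0 = c`, `x1 = c⁻¹` -/
def dPoly : ℤ → Poly
  | Int.ofNat n => Poly.powD Poly.x0 n
  | Int.negSucc n => Poly.powD Poly.x1 (n + 1)

theorem den_dPoly {F : Type*} [Field F] (c : F) (y2 y3 : F) (A : ℤ) :
    (dPoly A).den c c⁻¹ y2 y3 = c ^ A := by
  cases A with
  | ofNat n => simp [dPoly, Poly.den_powD]
  | negSucc n => simp [dPoly, Poly.den_powD, zpow_negSucc]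

/-- the symbolic word `h_r(c)` with `x0 = c`, `x1 = c⁻¹` -/
def hWordS (D : ChevalleyDatum) (r : ℕ) : List (ℕ × Poly) :=
  [(r, Poly.x0), (D.neg r, Poly.neg Poly.x1), (r, Poly.x0),
   (r, Poly.ofInt (-1)), (D.neg r, Poly.ofInt 1), (r, Poly.ofInt (-1))]

theorem denW_hWordS {F : Type*} [Field F] (D : ChevalleyDatum) (r : ℕ) (c : F) (y2 y3 : F) :
    denW c c⁻¹ y2 y3 (hWordS D r) = D.hWord r c := by
  simp [denW, hWordS, ChevalleyDatum.hWord, ChevalleyDatum.nWord, Poly.den_neg, Poly.den_ofInt]

/-- check that a word acts diagonally, with diagonal entries `d k` -/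
def checkDiagF (D : ChevalleyDatum) (red : Bool) (w : List (ℕ × Poly)) (d : ℕ → Poly) : Bool :=
  (List.range (D.rank + D.nroots)).all fun k =>
    vecIsZeroD red (subV (applyWordF D w [(k, Poly.one)]) [(k, d k)])

section semantics

variable {F : Type*} [Field F] (D : ChevalleyDatum) (y0 y1 y2 y3 : F)

theorem wordMat_eq_diag_of_checkDiagF (hT : TableOK D) (red : Bool) (hred : red = true → y0 * y1 = 1)
    (w : List (ℕ × Poly)) (d : ℕ → Poly) (h : checkDiagF D red w d = true) :
    D.wordMat F (denW y0 y1 y2 y3 w) = Matrix.diagonal (fun j => (d (enc D j)).den y0 y1 y2 y3) := by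
  simp only [checkDiagF, List.all_eq_true, List.mem_range] at h
  ext i j
  have h1 := h (enc D j) (enc_lt D j)
  have h2 := denV_eq_zero_of_vecIsZeroD D y0 y1 y2 y3 red hred _ h1
  rw [denV_subV, denV_applyWordF D y0 y1 y2 y3 hT, ← wordMat_mulVec_denV, denV_single,
    Matrix.mulVec_single_one] at h2
  have h3 := congrFun h2 i
  simp only [Pi.sub_apply, Pi.zero_apply, Matrix.col_apply] at h3
  rw [sub_eq_zero] at h3
  rw [h3]
  simp only [denV, List.map_cons, List.map_nil, List.sum_cons, List.sum_nil, add_zero]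
  by_cases hij : i = j
  · subst hij; simp
  · have : ¬ (enc D j = enc D i) := fun e => hij (enc_injective D e).symm
    simp [this, Matrix.diagonal_apply_ne _ hij]

end semantics

/-- diagonal entries of `h_{p_i}(c)` -/
def hSimpleDiag (D : ChevalleyDatum) (i : ℕ) (k : ℕ) : Poly :=
  if k < D.rank then Poly.one else dPoly (D.cartan i (k - D.rank))

def hSimpleCheck (D : ChevalleyDatum) : Bool :=
  (List.range D.rank).all fun i => checkDiagF D true (hWordS D (D.simple i)) (hSimpleDiag D i)

theorem hMat_simple_of_check {F : Type*} [Field F] (D : ChevalleyDatum) (hT : TableOK D)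
    (h : hSimpleCheck D = true) (i : ℕ) (hi : i < D.rank) (c : F) (hc : c ≠ 0) :
    D.hMat F (D.simple i) c =
      Matrix.diagonal (Sum.elim (fun _ => (1 : F)) (fun s : Fin D.nroots => c ^ (D.cartan i s))) := by
  simp only [hSimpleCheck, List.all_eq_true, List.mem_range] at h
  have h1 := wordMat_eq_diag_of_checkDiagF D c c⁻¹ 1 1 hT true (fun _ => mul_inv_cancel₀ hc) _ _ (h i hi)
  rw [denW_hWordS] at h1
  unfold ChevalleyDatum.hMat
  rw [h1]
  congr 1
  funext j
  rcases j with j | s
  · have : enc D (Sum.inl j) < D.rank := j.isLt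
    simp [hSimpleDiag, this]
  · have h2 : ¬ (enc D (Sum.inr s) < D.rank) := by simp only [enc]; omega
    have h3 : enc D (Sum.inr s) - D.rank = s.val := by simp only [enc]; omega
    simp only [hSimpleDiag, h2, if_false, h3, den_dPoly, Sum.elim_inr]

end Cfsg.Agent.Lib.Helper24
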