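import Cfsg.Agent.Lib.Helper24.Norm
import Cfsg.Agent.Lib.Helper24.Range
import Cfsg.Prelude.Def_LieTypes
import Cfsg.Prelude.Def_ChevB2
import Cfsg.Prelude.Def_ChevD4

set_option autoImplicit false

namespace Cfsg.Agent.Lib.Helper24

open Cfsg.Lie

theorem hSimpleOK_F4_0 : allRange (hSimpleOK chevF4 0) 0 52 = true := by decide +kernel
theorem hSimpleOK_F4_1 : allRange (hSimpleOK chevF4 1) 0 52 = true := by decide +kernel
theorem hSimpleOK_F4_2 : allRange (hSimpleOK chevF4 2) 0 52 = true := by decide +kernel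
theorem hSimpleOK_F4_3 : allRange (hSimpleOK chevF4 3) 0 52 = true := by decide +kernel

theorem hSimpleOK_F4_all (i : ℕ) (hi : i < 4) (k : ℕ) (hk : k < 52) : hSimpleOK chevF4 i k = true := by
  interval_cases i
  · exact allRange_elim hSimpleOK_F4_0 k (Nat.zero_le _) hk
  · exact allRange_elim hSimpleOK_F4_1 k (Nat.zero_le _) hk
  · exact allRange_elim hSimpleOK_F4_2 k (Nat.zero_le _) hk
  · exact allRange_elim hSimpleOK_F4_3 k (Nat.zero_le _) hk

end Cfsg.Agent.Lib.Helper24
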