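import Cfsg.Agent.Lib.Helper24.FTAll
import Cfsg.Agent.Lib.Helper24.HS_G2
import Cfsg.Agent.Lib.Helper24.HS_B2
import Cfsg.Agent.Lib.Helper24.HS_D4
import Cfsg.Agent.Lib.Helper24.HS_F4
import Cfsg.Agent.Lib.Helper24.HS_E6
import Cfsg.Agent.Lib.Helper24.HS_E7
import Cfsg.Agent.Lib.Helper24.HS_E8

set_option autoImplicit false

namespace Cfsg.Agent.Lib.Helper24

open Cfsg.Lie

theorem hSimpleOK_all (D : ChevalleyDatum)
    (hD : D ∈ [chevG2, chevB2, chevD4, chevF4, chevE6, chevE7, chevE8]) :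
    ∀ i < D.rank, ∀ k < D.rank + D.nroots, hSimpleOK D i k = true := by
  simp only [List.mem_cons, List.not_mem_nil, or_false] at hD
  rcases hD with rfl | rfl | rfl | rfl | rfl | rfl | rfl
  · exact hSimpleOK_G2_all
  · exact hSimpleOK_B2_all
  · exact hSimpleOK_D4_all
  · exact hSimpleOK_F4_all
  · exact hSimpleOK_E6_all
  · exact hSimpleOK_E7_all
  · exact hSimpleOK_E8_all

/-- `h_p(c)` is diagonal for fundamental roots `p` -/
theorem hMat_simple {F : Type*} [Field F] (D : ChevalleyDatum)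
    (hD : D ∈ [chevG2, chevB2, chevD4, chevF4, chevE6, chevE7, chevE8]) (i : ℕ) (hi : i < D.rank)
    (c : F) (hc : c ≠ 0) :
    D.hMat F (D.simple i) c =
      Matrix.diagonal (Sum.elim (fun _ => (1 : F)) (fun s : Fin D.nroots => c ^ (D.cartan i s))) :=
  hMat_simple_of_hSimpleOK D (tableOK_all D hD) i (hSimpleOK_all D hD i hi) c hc

end Cfsg.Agent.Lib.Helper24
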