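import Cfsg.Agent.Lib.Helper24.Torus

set_option autoImplicit false
set_option linter.unusedSimpArgs false

namespace Cfsg.Agent.Lib.Helper24

open Cfsg.Lie

/-- table check: the character of `h_{p_i}` computed from the coroot table is the Cartan integer row -/
def simpleOK (D : ChevalleyDatum) : Bool :=
  (List.range D.rank).all fun i => decide (D.simple i < D.nroots) &&
    (List.range D.nroots).all fun s => decide (Aroot D (D.simple i) s = D.cartan i s)

theorem simpleOK_spec (D : ChevalleyDatum) (h : simpleOK D = true) (i : ℕ) (hi : i < D.rank) :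
    D.simple i < D.nroots ∧ ∀ s < D.nroots, Aroot D (D.simple i) s = D.cartan i s := by
  simp only [simpleOK, List.all_eq_true, List.mem_range, Bool.and_eq_true, decide_eq_true_eq] at h
  exact h i hi

theorem AE_simple (D : ChevalleyDatum) (h : simpleOK D = true) (i : ℕ) (hi : i < D.rank) (k : ℕ)
    (hk : k < D.rank + D.nroots) : AE D (D.simple i) k = Eexp D i k := by
  unfold AE Eexp
  split_ifs with h1
  · rfl
  · exact (simpleOK_spec D h i hi).2 _ (by omega)

section torus

variable {F : Type*} [Field F] {D : ChevalleyDatum}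

/-- the diagonal entries of `∏_i h_{p_i}(c_i)` over a list of indices -/
def torusEntry (D : ChevalleyDatum) (l : List ℕ) (c : ℕ → F) (k : ℕ) : F :=
  (l.map fun i => c i ^ Eexp D i k).prod

theorem wordMat_append' (D : ChevalleyDatum) (w1 w2 : List (ℕ × F)) :
    D.wordMat F (w1 ++ w2) = D.wordMat F w1 * D.wordMat F w2 := by
  simp [ChevalleyDatum.wordMat, List.map_append, List.prod_append]

theorem Facts.wordMat_simple_torus (hF : Facts D) (hS : simpleOK D = true) (c : ℕ → F) (l : List ℕ)
    (hl : ∀ i ∈ l, i < D.rank ∧ c i ≠ 0) :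
    D.wordMat F (l.flatMap fun i => D.hWord (D.simple i) (c i)) =
      Matrix.diagonal (fun idx : D.Idx => torusEntry D l c (enc D idx)) := by
  induction l with
  | nil =>
    simp only [List.flatMap_nil, torusEntry, List.map_nil, List.prod_nil]
    simp [ChevalleyDatum.wordMat]
  | cons i rest ih =>
    have hi := hl i (List.mem_cons_self)
    rw [List.flatMap_cons, wordMat_append', ih (fun j hj => hl j (List.mem_cons_of_mem _ hj))]
    have h1 : D.wordMat F (D.hWord (D.simple i) (c i)) = D.hMat F (D.simple i) (c i) := rfl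
    rw [h1, hF.hMat_root _ (simpleOK_spec D hS i hi.1).1 _ hi.2, Matrix.diagonal_mul_diagonal]
    congr 1
    funext idx
    simp only [torusEntry, List.map_cons, List.prod_cons]
    rw [AE_simple D hS i hi.1 _ (enc_lt D idx)]

theorem torusEntry_mul (l : List ℕ) (c₁ c₂ : ℕ → F) (k : ℕ) :
    torusEntry D l (fun i => c₁ i * c₂ i) k = torusEntry D l c₁ k * torusEntry D l c₂ k := by
  induction l with
  | nil => simp [torusEntry]
  | cons i rest ih =>
    simp only [torusEntry, List.map_cons, List.prod_cons] at ih ⊢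
    rw [ih, mul_zpow]
    ring

theorem torusEntry_inv (l : List ℕ) (c : ℕ → F) (k : ℕ) :
    torusEntry D l (fun i => (c i)⁻¹) k = (torusEntry D l c k)⁻¹ := by
  induction l with
  | nil => simp [torusEntry]
  | cons i rest ih =>
    simp only [torusEntry, List.map_cons, List.prod_cons] at ih ⊢
    rw [ih, inv_zpow, mul_inv]

theorem torusEntry_one (l : List ℕ) (k : ℕ) :
    torusEntry D l (fun _ => (1 : F)) k = 1 := by
  induction l with
  | nil => simp [torusEntry]
  | cons i rest ih =>
    simp only [torusEntry, List.map_cons, List.prod_cons] at ih ⊢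
    rw [ih, one_zpow, one_mul]

theorem torusEntry_pow (l : List ℕ) (t : F) (ht : t ≠ 0) (e : ℕ → ℤ) (k : ℕ) :
    torusEntry D l (fun i => t ^ e i) k = t ^ (l.map fun i => e i * Eexp D i k).sum := by
  induction l with
  | nil => simp [torusEntry]
  | cons i rest ih =>
    simp only [torusEntry, List.map_cons, List.prod_cons, List.sum_cons] at ih ⊢
    rw [ih, zpow_add₀ ht, zpow_mul]

/-- every element of `H` is diagonal with entries given by a family of non-zero scalars -/
theorem Facts.diagonal_torus (hF : Facts D) (g : GL D.Idx F) (hg : g ∈ D.diagonalSubgroup F) :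
    ∃ c : ℕ → F, (∀ i, c i ≠ 0) ∧ (g : Matrix D.Idx D.Idx F) =
      Matrix.diagonal (fun idx : D.Idx => torusEntry D (List.range D.rank) c (enc D idx)) := by
  unfold ChevalleyDatum.diagonalSubgroup at hg
  induction hg using Subgroup.closure_induction with
  | mem x hx =>
    obtain ⟨r, t, hr, ht, hx⟩ := hx
    refine ⟨fun i => t ^ ((D.coroot.getD r #[]).getD i 0), fun i => zpow_ne_zero _ ht, ?_⟩
    rw [hx, hF.hMat_root r hr t ht]
    congr 1
    funext idx
    rw [torusEntry_pow _ t ht, AE_eq_sum]
  | one =>
    refine ⟨fun _ => 1, fun _ => one_ne_zero, ?_⟩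
    simp only [torusEntry_one]
    simp
  | mul x y _ _ hx hy =>
    obtain ⟨c₁, hc₁, hx⟩ := hx
    obtain ⟨c₂, hc₂, hy⟩ := hy
    refine ⟨fun i => c₁ i * c₂ i, fun i => mul_ne_zero (hc₁ i) (hc₂ i), ?_⟩
    rw [Units.val_mul, hx, hy, Matrix.diagonal_mul_diagonal]
    congr 1
    funext idx
    rw [torusEntry_mul]
  | inv x _ hx =>
    obtain ⟨c, hc, hx⟩ := hx
    refine ⟨fun i => (c i)⁻¹, fun i => inv_ne_zero (hc i), ?_⟩
    have hne : ∀ idx : D.Idx, torusEntry D (List.range D.rank) c (enc D idx) ≠ 0 := by
      intro idx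
      unfold torusEntry
      apply List.prod_ne_zero
      simp only [List.mem_map, not_exists, not_and]
      intro i _ h0
      exact zpow_ne_zero _ (hc i) h0
    have hinv : ((x⁻¹ : GL D.Idx F) : Matrix D.Idx D.Idx F) =
        Matrix.diagonal (fun idx : D.Idx => (torusEntry D (List.range D.rank) c (enc D idx))⁻¹) := by
      have h1 : (x : Matrix D.Idx D.Idx F) * Matrix.diagonal
          (fun idx : D.Idx => (torusEntry D (List.range D.rank) c (enc D idx))⁻¹) = 1 := by
        rw [hx, Matrix.diagonal_mul_diagonal]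
        rw [← Matrix.diagonal_one]
        congr 1
        funext idx
        exact mul_inv_cancel₀ (hne idx)
      rw [← Matrix.inv_eq_right_inv h1]
      exact Matrix.coe_units_inv x
    rw [hinv]
    congr 1
    funext idx
    rw [torusEntry_inv]

/-- S1034 -/
theorem Facts.diagonal_simple_word (hF : Facts D) (hS : simpleOK D = true) (g : GL D.Idx F)
    (hg : g ∈ D.diagonalSubgroup F) :
    ∃ c : ℕ → F, (∀ i < D.rank, c i ≠ 0) ∧
      (g : Matrix D.Idx D.Idx F) =
        D.wordMat F ((List.range D.rank).flatMap fun i => D.hWord (D.simple i) (c i)) := by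
  obtain ⟨c, hc, hg⟩ := hF.diagonal_torus g hg
  refine ⟨c, fun i _ => hc i, ?_⟩
  rw [hg, hF.wordMat_simple_torus hS c (List.range D.rank)
    (fun i hi => ⟨List.mem_range.mp hi, hc i⟩)]

end torus

end Cfsg.Agent.Lib.Helper24
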