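import Cfsg.Agent.Lib.Helper24.NConj

set_option autoImplicit false
set_option linter.unusedSimpArgs false

namespace Cfsg.Agent.Lib.Helper24

open Cfsg.Lie

/-- the reflected root, read off the packed matrix of `n_p(1)` -/
def wfast (rank P s : ℕ) : ℕ := fld P (rank + s) % 1024 - 1 - rank

/-- the packed matrix gives the reflection `reflectRoot i` -/
def permOK (D : ChevalleyDatum) (P i : ℕ) : Bool :=
  allBelow (fun s => Nat.beq (D.reflectRoot i s) (wfast D.rank P s)) D.nroots

theorem wfast_eq (D : ChevalleyDatum) (P i : ℕ) (h : permOK D P i = true) (s : ℕ) (hs : s < D.nroots) :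
    wfast D.rank P s = D.reflectRoot i s := by
  have := allBelow_elim _ _ h s hs
  exact (Nat.eq_of_beq_eq_true this).symm

/-- the composite of the reflections along a word, computed from the packed matrices -/
def rhoF (rank : ℕ) (tab : List ℕ) (w : List ℕ) (s : ℕ) : ℕ :=
  w.foldr (fun i acc => wfast rank (tab.getD i 0) acc) s

/-- the word `w` gives an element mapping the positive roots onto the negative roots -/
def w0OK (D : ChevalleyDatum) (tab w : List ℕ) : Bool :=
  w.all (fun i => decide (i < D.rank) && decide (D.simple i < D.nroots)) &&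
  allBelow (fun r =>
    (!(decide (D.IsPosRoot r)) || decide (D.IsNegRoot (rhoF D.rank tab w r))) &&
    (!(decide (D.IsNegRoot r)) || (decide (D.IsPosRoot (rhoF D.rank tab w.reverse r)) &&
      Nat.beq (rhoF D.rank tab w (rhoF D.rank tab w.reverse r)) r))) D.nroots

section longest

variable {F : Type*} [Field F] {D : ChevalleyDatum} {tab : List ℕ}

theorem NFacts.rhoF_eq (hN : NFacts D tab) (hP : ∀ i < D.rank, permOK D (tab.getD i 0) i = true)
    (w : List ℕ) (hw : ∀ i ∈ w, i < D.rank) (s : ℕ) (hs : s < D.nroots) :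
    rhoF D.rank tab w s = rhoW D w s := by
  induction w with
  | nil => rfl
  | cons i w ih =>
    have hw' : ∀ j ∈ w, j < D.rank := fun j hj => hw j (List.mem_cons_of_mem _ hj)
    simp only [rhoF, rhoW, List.foldr_cons] at ih ⊢
    rw [ih hw']
    exact wfast_eq D _ i (hP i (hw i List.mem_cons_self)) _ (hN.rhoW_lt w hw' s hs)

/-- S1053 -/
theorem Facts.longest (hF : Facts D) (hN : NFacts D tab)
    (hP : ∀ i < D.rank, permOK D (tab.getD i 0) i = true) (w : List ℕ) (h : w0OK D tab w = true) :
    ∃ n ∈ D.monomialSubgroup F,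
      (D.posUnipotent F).map (MulAut.conj n).toMonoidHom = D.negUnipotent F := by
  simp only [w0OK, Bool.and_eq_true, List.all_eq_true, decide_eq_true_eq] at h
  obtain ⟨hw, hr⟩ := h
  have hw1 : ∀ i ∈ w, i < D.rank := fun i hi => (hw i hi).1
  have hw2 : ∀ i ∈ w, D.simple i < D.nroots := fun i hi => (hw i hi).2
  have hw1r : ∀ i ∈ w.reverse, i < D.rank := fun i hi => hw1 i (List.mem_reverse.mp hi)
  refine ⟨hF.nW w, hF.nW_mem_monomial w hw2, ?_⟩
  unfold ChevalleyDatum.posUnipotent ChevalleyDatum.negUnipotent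
  rw [MonoidHom.map_closure]
  congr 1
  ext g
  simp only [Set.mem_image, Set.mem_setOf_eq]
  constructor
  · rintro ⟨x, ⟨r, t, hr1, hx⟩, rfl⟩
    rw [hF.eq_xGL x r t hx]
    obtain ⟨η, _, hc⟩ := hF.nW_conj (F := F) hN w hw1 r hr1.1
    have h1 := allBelow_elim _ _ hr r hr1.1
    simp only [Bool.and_eq_true, Bool.or_eq_true, Bool.not_eq_true', decide_eq_false_iff_not,
      decide_eq_true_eq] at h1
    have h2 : D.IsNegRoot (rhoF D.rank tab w r) := by
      rcases h1.1 with h | h
      · exact absurd hr1 h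
      · exact h
    rw [hN.rhoF_eq hP w hw1 r hr1.1] at h2
    refine ⟨rhoW D w r, (η : F) * t, h2, ?_⟩
    simp only [MulEquiv.coe_toMonoidHom, MulAut.conj_apply]
    rw [hc t]
    rfl
  · rintro ⟨r', t', hr1, hg⟩
    rw [hF.eq_xGL g r' t' hg]
    have h1 := allBelow_elim _ _ hr r' hr1.1
    simp only [Bool.and_eq_true, Bool.or_eq_true, Bool.not_eq_true', decide_eq_false_iff_not,
      decide_eq_true_eq] at h1
    have h2 : D.IsPosRoot (rhoF D.rank tab w.reverse r') ∧
        Nat.beq (rhoF D.rank tab w (rhoF D.rank tab w.reverse r')) r' = true := by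
      rcases h1.2 with h | h
      · exact absurd hr1 h
      · exact h
    obtain ⟨h3, h4⟩ := h2
    have h5 := Nat.eq_of_beq_eq_true h4
    set r := rhoF D.rank tab w.reverse r' with hr_def
    rw [hN.rhoF_eq hP w hw1 r h3.1] at h5
    obtain ⟨η, hη, hc⟩ := hF.nW_conj (F := F) hN w hw1 r h3.1
    refine ⟨hF.xGL r ((η : F) * t'), ⟨r, (η : F) * t', h3, rfl⟩, ?_⟩
    simp only [MulEquiv.coe_toMonoidHom, MulAut.conj_apply]
    rw [hc, h5]
    congr 1
    rcases hη with rfl | rfl <;> simp

end longest

end Cfsg.Agent.Lib.Helper24
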