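import Cfsg.Agent.Lib.Helper24.Levi

set_option autoImplicit false
set_option linter.unusedSimpArgs false

namespace Cfsg.Agent.Lib.Helper24

open Cfsg.Lie

section mono

variable {F : Type*} [Field F] {D : ChevalleyDatum} {tab : List ℕ} {orb : List (ℕ × ℕ × ℕ)}

/-- monomial on the root vectors, and preserving the span of the `h_{p_i}` -/
def IsMono (D : ChevalleyDatum) (M : Matrix D.Idx D.Idx F) : Prop :=
  (∀ s : Fin D.nroots, ∃ s' : Fin D.nroots, ∀ a : D.Idx, a ≠ Sum.inr s' → M a (Sum.inr s) = 0) ∧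
  (∀ (i : Fin D.rank) (s : Fin D.nroots), M (Sum.inr s) (Sum.inl i) = 0)

theorem IsMono.mul {M N : Matrix D.Idx D.Idx F} (hM : IsMono D M) (hN : IsMono D N) :
    IsMono D (M * N) := by
  constructor
  · intro s
    obtain ⟨s1, h1⟩ := hN.1 s
    obtain ⟨s2, h2⟩ := hM.1 s1
    refine ⟨s2, fun a ha => ?_⟩
    rw [Matrix.mul_apply, Finset.sum_eq_single (Sum.inr s1)]
    · rw [h2 a ha, zero_mul]
    · intro b _ hb
      rw [h1 b hb, mul_zero]
    · intro h; exact absurd (Finset.mem_univ _) h
  · intro i s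
    rw [Matrix.mul_apply]
    apply Finset.sum_eq_zero
    intro b _
    rcases b with j | s'
    · rw [hM.2 j s, zero_mul]
    · rw [hN.2 i s', mul_zero]

theorem IsMono.of_diag {M : Matrix D.Idx D.Idx F} (h : ∀ a b, a ≠ b → M a b = 0) : IsMono D M :=
  ⟨fun s => ⟨s, fun a ha => h a _ ha⟩, fun i s => h _ _ (by simp)⟩

/-- invertible matrices which, with their inverses, are monomial -/
def monoGL (D : ChevalleyDatum) (F : Type*) [Field F] : Subgroup (GL D.Idx F) where
  carrier := {x | IsMono D (x : Matrix D.Idx D.Idx F) ∧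
    IsMono D ((x⁻¹ : GL D.Idx F) : Matrix D.Idx D.Idx F)}
  one_mem' := by
    refine ⟨IsMono.of_diag (fun a b hab => ?_), ?_⟩
    · exact Matrix.one_apply_ne hab
    · rw [inv_one]; exact IsMono.of_diag (fun a b hab => Matrix.one_apply_ne hab)
  mul_mem' := by
    rintro x y ⟨hx, hx'⟩ ⟨hy, hy'⟩
    refine ⟨by rw [Units.val_mul]; exact hx.mul hy, ?_⟩
    rw [mul_inv_rev, Units.val_mul]; exact hy'.mul hx'
  inv_mem' := by
    rintro x ⟨hx, hx'⟩
    exact ⟨hx', by rw [inv_inv]; exact hx⟩

theorem Facts.diagonal_le_monoGL (hF : Facts D) : D.diagonalSubgroup F ≤ monoGL D F := by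
  intro h hh
  exact ⟨IsMono.of_diag (hF.diagonal_le_diagSub hh),
    IsMono.of_diag (hF.diagonal_le_diagSub (Subgroup.inv_mem _ hh))⟩

/-- the column `k` of a packed table has the monomial shape -/
def monoColOK (D : ChevalleyDatum) (k : ℕ) (col : CV) : Bool :=
  cond (Nat.blt k D.rank) (col.all fun e => Nat.blt e.1 D.rank)
    (match col with
     | [e] => Nat.ble D.rank e.1 && Nat.blt e.1 (D.rank + D.nroots)
     | _ => false)

def monoTabOK (D : ChevalleyDatum) (P : ℕ) : Bool :=
  allBelow (fun k => forceNat k fun k' => monoColOK D k' (mcolP P (D.rank + D.nroots) k'))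
    (D.rank + D.nroots)

theorem cMat_isMono (P : ℕ) (h : monoTabOK D P = true) :
    IsMono D (cMat (F := F) D (mcolP P (D.rank + D.nroots))) := by
  have hcol : ∀ k, k < D.rank + D.nroots →
      monoColOK D k (mcolP P (D.rank + D.nroots) k) = true := by
    intro k hk
    have := allBelow_elim _ _ h k hk
    simpa only [forceNat_eq] using this
  constructor
  · intro s
    have h1 := hcol (D.rank + s.val) (by have := s.isLt; omega)
    unfold monoColOK at h1
    have hb : Nat.blt (D.rank + s.val) D.rank = false := by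
      rw [Bool.eq_false_iff, ne_eq, Nat.blt_eq]; omega
    rw [hb, cond_false] at h1
    split at h1
    · rename_i e hcoleq
      simp only [Bool.and_eq_true, Nat.blt_eq, decide_eq_true_eq] at h1
      have h2 : D.rank ≤ e.1 := Nat.le_of_ble_eq_true h1.1
      refine ⟨⟨e.1 - D.rank, by omega⟩, fun a ha => ?_⟩
      show denC D (mcolP P (D.rank + D.nroots) (enc D (Sum.inr s))) a = 0
      have e1 : enc D (Sum.inr s : D.Idx) = D.rank + s.val := rfl
      rw [e1, hcoleq]
      simp only [denC, List.map_cons, List.map_nil, List.sum_cons, List.sum_nil, add_zero]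
      rw [if_neg]
      intro he
      apply ha
      apply enc_injective D
      rw [← he]
      simp only [enc]
      omega
    · exact absurd h1 (by simp)
  · intro i s
    have h1 := hcol i.val (by have := i.isLt; omega)
    unfold monoColOK at h1
    have hb : Nat.blt i.val D.rank = true := by
      rw [Nat.blt_eq]; exact i.isLt
    rw [hb, cond_true] at h1
    simp only [List.all_eq_true, Nat.blt_eq, decide_eq_true_eq] at h1
    show denC D (mcolP P (D.rank + D.nroots) (enc D (Sum.inl i))) (Sum.inr s) = 0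
    have e1 : enc D (Sum.inl i : D.Idx) = i.val := rfl
    rw [e1]
    unfold denC
    apply List.sum_eq_zero
    intro x hx
    simp only [List.mem_map] at hx
    obtain ⟨e, he, rfl⟩ := hx
    rw [if_neg]
    intro hee
    have := h1 e he
    simp only [enc] at hee
    omega

/-- a subgroup containing the `n_{p_i}` contains every `n_r` -/
theorem Facts.nGL_mem_of_simple (hF : Facts D) (hN : NFacts D tab) (hH : HNFacts D tab orb)
    (K : Subgroup (GL D.Idx F)) (hK : ∀ j < D.rank, hF.nS j ∈ K) (r : ℕ) (hr : r < D.nroots) :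
    hF.nGL r (1 : F) ∈ K := by
  refine orbit_induction D tab orb hH.orbit
    (fun r => r < D.nroots ∧ hF.nGL r (1 : F) ∈ K) ?_ ?_ r hr |>.2
  · intro j hj hsj _
    exact ⟨hsj, hK j hj⟩
  · intro r i r' hi hr' hw _ ⟨_, hQ⟩
    rw [wfast_eq D _ i (hH.perm i hi) r' hr'] at hw
    subst hw
    have hlt := hN.reflectRoot_lt i hi r' hr'
    refine ⟨hlt, ?_⟩
    have hn := hK i hi
    have hc := hF.nS_conj_nGL (F := F) hN hH i hi r' hr' 1
    have hmem : hF.nS i * hF.nGL r' (1 : F) * (hF.nS i)⁻¹ ∈ K :=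
      Subgroup.mul_mem _ (Subgroup.mul_mem _ hn hQ) (Subgroup.inv_mem _ hn)
    rw [hc] at hmem
    rcases etaT_cases D (tab.getD i 0) r' with h | h
    · rw [h] at hmem
      simpa using hmem
    · rw [h] at hmem
      simp only [Int.cast_neg, Int.cast_one, neg_mul, one_mul] at hmem
      rw [hF.nGL_neg_one_eq_inv] at hmem
      simpa using Subgroup.inv_mem _ hmem

theorem Facts.simple_lt (hH : HNFacts D tab orb) (i : ℕ) (hi : i < D.rank) : D.simple i < D.nroots := by
  have := hH.orbit
  simp only [orbitOK, Bool.and_eq_true, simpleSuppOK, List.all_eq_true, List.mem_range,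
    decide_eq_true_eq] at this
  exact (this.1 i hi).1

theorem Facts.nS_mem_monoGL (hF : Facts D) (hN : NFacts D tab) (hH : HNFacts D tab orb)
    (hM : ∀ i < D.rank, monoTabOK D (tab.getD i 0) = true) (i : ℕ) (hi : i < D.rank) :
    hF.nS i ∈ monoGL D F := by
  have h1 : IsMono D ((hF.nS i : GL D.Idx F) : Matrix D.Idx D.Idx F) := by
    rw [hF.nS_val, nMat_eq_cMat D hF.table _ _ (hN.ntab i hi)]
    exact cMat_isMono _ (hM i hi)
  refine ⟨h1, ?_⟩
  have hsq : hF.nS (F := F) i * hF.nS i ∈ D.diagonalSubgroup F :=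
    hF.nGL_sq_mem _ (Facts.simple_lt hH i hi)
  have e : (hF.nS (F := F) i)⁻¹ = hF.nS i * (hF.nS i * hF.nS i)⁻¹ := by group
  rw [e, Units.val_mul]
  exact h1.mul (hF.diagonal_le_monoGL (Subgroup.inv_mem _ hsq)).1

theorem Facts.monomial_le_monoGL (hF : Facts D) (hN : NFacts D tab) (hH : HNFacts D tab orb)
    (hM : ∀ i < D.rank, monoTabOK D (tab.getD i 0) = true) :
    D.monomialSubgroup F ≤ monoGL D F := by
  unfold ChevalleyDatum.monomialSubgroup
  apply sup_le hF.diagonal_le_monoGL
  rw [Subgroup.closure_le]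
  rintro g ⟨r, hr, hg⟩
  have : g = hF.nGL r (1 : F) := by
    apply Units.ext
    rw [hg]
    unfold Facts.nGL
    rw [hF.wordGL_val]
    rfl
  rw [this]
  exact hF.nGL_mem_of_simple hN hH _ (fun j hj => hF.nS_mem_monoGL hN hH hM j hj) r hr

theorem gradeE_cartan (D : ChevalleyDatum) (Λ : List ℤ) (j : Fin D.rank) :
    gradeE D Λ (enc D (Sum.inl j : D.Idx)) = 0 := by
  unfold gradeE
  apply List.sum_eq_zero
  intro x hx
  simp only [List.mem_map] at hx
  obtain ⟨i, _, rfl⟩ := hx
  have : Eexp D i (enc D (Sum.inl j : D.Idx)) = 0 := by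
    unfold Eexp
    rw [if_pos]
    exact j.isLt
  rw [this, mul_zero]

/-- a matrix which is unitriangular for a grading vanishing on the `h_{p_i}` and monomial is the identity -/
theorem eq_one_of_isUni_of_isMono (g : D.Idx → ℤ) (hg : ∀ j : Fin D.rank, g (Sum.inl j) = 0)
    (M : Matrix D.Idx D.Idx F) (hU : IsUni g M) (hM : IsMono D M) : M = 1 := by
  ext a b
  by_cases hab : a = b
  · subst hab; rw [hU.1 a, Matrix.one_apply_eq]
  · rw [Matrix.one_apply_ne hab]
    rcases b with i | s
    · rcases a with j | s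
      · by_contra h
        have := hU.2 _ _ hab h
        rw [hg j, hg i] at this
        omega
      · exact hM.2 i s
    · obtain ⟨s', hs'⟩ := hM.1 s
      have h1 : (Sum.inr s : D.Idx) = Sum.inr s' := by
        by_contra hne
        have := hs' (Sum.inr s) hne
        rw [hU.1] at this
        exact one_ne_zero this
      rw [← h1] at hs'
      exact hs' a hab

/-- S1040 -/
theorem Facts.pos_inf_monomial (hF : Facts D) (hN : NFacts D tab) (hH : HNFacts D tab orb)
    (hM : ∀ i < D.rank, monoTabOK D (tab.getD i 0) = true) (hU : UFacts D) :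
    D.posUnipotent F ⊓ D.monomialSubgroup F = ⊥ ∧
      D.borelSubgroup F ⊓ D.monomialSubgroup F = D.diagonalSubgroup F := by
  obtain ⟨Λ, hΛ⟩ := hU.grade
  obtain ⟨hg0, _⟩ := gradeOK_spec D hF.cartanF Λ hU.half hΛ
  have hUN : D.posUnipotent F ⊓ D.monomialSubgroup F = ⊥ := by
    rw [eq_bot_iff]
    rintro x ⟨hxU, hxN⟩
    rw [Subgroup.mem_bot]
    have h1 : x ∈ uniGL (F := F) (fun a : D.Idx => gradeE D Λ (enc D a)) := by
      have hle : D.posUnipotent F ≤ uniGL (F := F) (fun a : D.Idx => gradeE D Λ (enc D a)) := by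
        unfold ChevalleyDatum.posUnipotent
        rw [Subgroup.closure_le]
        rintro g ⟨r, t, hr, hg⟩
        rw [hF.eq_xGL g r t hg]
        exact hF.xGL_mem_uniGL Λ r hr.1 (hg0 r hr) t
      exact hle hxU
    have h2 := hF.monomial_le_monoGL hN hH hM hxN
    exact Units.ext (eq_one_of_isUni_of_isMono _ (fun j => gradeE_cartan D Λ j) _ h1.1 h2.1)
  refine ⟨hUN, ?_⟩
  have hHN : D.diagonalSubgroup F ≤ D.monomialSubgroup F := by
    unfold ChevalleyDatum.monomialSubgroup; exact le_sup_left
  apply le_antisymm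
  · rintro g ⟨hgB, hgN⟩
    unfold ChevalleyDatum.borelSubgroup at hgB
    obtain ⟨u, hu, h, hh, rfl⟩ := exists_mul_of_mem_sup_of_le_normalizer _ _
      hF.diagonal_le_normalizer_pos g hgB
    have huN : u ∈ D.monomialSubgroup F := by
      have := Subgroup.mul_mem _ hgN (Subgroup.inv_mem _ (hHN hh))
      simpa using this
    have hu1 : u ∈ D.posUnipotent F ⊓ D.monomialSubgroup F := ⟨hu, huN⟩
    rw [hUN, Subgroup.mem_bot] at hu1
    rw [hu1, one_mul]
    exact hh
  · apply le_inf
    · unfold ChevalleyDatum.borelSubgroup; exact le_sup_right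
    · exact hHN

end mono

end Cfsg.Agent.Lib.Helper24
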