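import Cfsg.Agent.Lib.Helper24.HNormal
import Cfsg.Agent.Lib.Helper24.HStruct

set_option autoImplicit false
set_option linter.unusedSimpArgs false

namespace Cfsg.Agent.Lib.Helper24

open Cfsg.Lie

/-- the coefficient of a row in a constant sparse column -/
def coefC (L : CV) (k : ℕ) : ℤ := (L.map fun kc => if kc.1 = k then kc.2 else 0).sum

theorem denC_eq_coefC {F : Type*} [Field F] (D : ChevalleyDatum) (L : CV) (i : D.Idx) :
    denC (F := F) D L i = ((coefC L (enc D i) : ℤ) : F) := by
  unfold denC coefC
  induction L with
  | nil => simp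
  | cons kc L ih =>
    simp only [List.map_cons, List.sum_cons, Int.cast_add]
    rw [ih]
    congr 1
    split_ifs <;> simp

theorem coefC_of_rows_lt (L : CV) (n k : ℕ) (h : L.all (fun kc => Nat.blt kc.1 n) = true) (hk : n ≤ k) :
    coefC L k = 0 := by
  unfold coefC
  apply List.sum_eq_zero
  intro x hx
  obtain ⟨kc, hkc, rfl⟩ := List.mem_map.mp hx
  have := List.all_eq_true.mp h kc hkc
  have h1 : kc.1 < n := by simpa [Nat.blt_eq] using this
  rw [if_neg (by omega)]

/-- a column with a single entry `±1` in the given row -/
def rootColOK (L : CV) (target : ℕ) : Bool :=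
  match L with
  | [(k, c)] => Nat.beq k target && (decide (c = 1) || decide (c = -1))
  | _ => false

theorem rootColOK_spec (L : CV) (target : ℕ) (h : rootColOK L target = true) :
    ∃ c : ℤ, (c = 1 ∨ c = -1) ∧ L = [(target, c)] := by
  match L, h with
  | [(k, c)], h =>
    simp only [rootColOK, Bool.and_eq_true, nbeq_true, Bool.or_eq_true, decide_eq_true_eq] at h
    exact ⟨c, h.2, by rw [h.1]⟩

/-- a column of the Cartan part -/
def cartColOK (D : ChevalleyDatum) (L : CV) (i j : ℕ) : Bool :=
  L.all (fun kc => Nat.blt kc.1 D.rank) &&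
  allBelow (fun k => decide (coefC L k =
    (if k = j then (1 : ℤ) else 0) - (if k = i then D.cartan j (D.simple i) else 0))) D.rank

/-- the shape of the matrix of `n_{p_i}`, read off the packed table -/
def nShapeOK (D : ChevalleyDatum) (P i : ℕ) : Bool :=
  allBelow (fun j => cartColOK D (mcolP P (D.rank + D.nroots) j) i j) D.rank &&
  allBelow (fun s => rootColOK (mcolP P (D.rank + D.nroots) (D.rank + s))
    (D.rank + D.reflectRoot i s)) D.nroots

/-- the relations between the signs -/
def etaSignOK (D : ChevalleyDatum) (P i : ℕ) : Bool :=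
  decide (etaT D P (D.simple i) = -1) && decide (etaT D P (D.neg (D.simple i)) = -1) &&
  allBelow (fun s => decide (etaT D P s * etaT D P (D.reflectRoot i s) = (-1) ^ (D.cartan i s).natAbs) &&
    decide (etaT D P s * etaT D P (D.neg s) = 1)) D.nroots

theorem etaOf_single (k : ℕ) (c : ℤ) (hc : c = 1 ∨ c = -1) : etaOf [(k, c)] = c := by
  rcases hc with rfl | rfl <;> simp [etaOf]

/-- the explicit matrix of `n_{p_i}` -/
theorem nMat_explicit {F : Type*} [Field F] (D : ChevalleyDatum) (hT : TableOK D) (P i : ℕ)
    (hN : nTabOK D (D.simple i) P = true) (hS : nShapeOK D P i = true) :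
    D.nMat F (D.simple i) 1 = Matrix.of (fun (row col : D.Idx) =>
        Sum.elim
          (fun j' : Fin D.rank => Sum.elim
            (fun j : Fin D.rank => (if j' = j then (1 : F) else 0) -
              (if (j' : ℕ) = i then ((D.cartan j (D.simple i) : ℤ) : F) else 0))
            (fun _ => (0 : F)) col)
          (fun s' : Fin D.nroots => Sum.elim
            (fun _ => (0 : F))
            (fun s : Fin D.nroots => if (s' : ℕ) = D.reflectRoot i s then ((etaT D P s : ℤ) : F) else 0) col)
          row) := by
  rw [nMat_eq_cMat D hT _ P hN]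
  simp only [nShapeOK, Bool.and_eq_true] at hS
  obtain ⟨hS1, hS2⟩ := hS
  ext row col
  simp only [cMat, Matrix.of_apply]
  rw [denC_eq_coefC]
  rcases col with j | s
  · have hc := allBelow_elim _ _ hS1 j.val j.isLt
    simp only [cartColOK, Bool.and_eq_true] at hc
    obtain ⟨hrows, hvals⟩ := hc
    rcases row with j' | s'
    · have hv := allBelow_elim _ _ hvals j'.val j'.isLt
      simp only [decide_eq_true_eq] at hv
      simp only [enc, Sum.elim_inl]
      rw [hv]
      have e : (j' = j) ↔ (j'.val = j.val) := Fin.ext_iff
      simp only [e]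
      push_cast
      split_ifs <;> simp
    · simp only [enc, Sum.elim_inl, Sum.elim_inr]
      rw [coefC_of_rows_lt _ D.rank _ hrows (by omega)]
      simp
  · have hc := allBelow_elim _ _ hS2 s.val s.isLt
    obtain ⟨c, hc1, hL⟩ := rootColOK_spec _ _ hc
    have hη : etaT D P s.val = c := by
      unfold etaT
      rw [hL, etaOf_single _ _ hc1]
    rcases row with j' | s'
    · simp only [enc, Sum.elim_inl, Sum.elim_inr]
      rw [hL]
      simp only [coefC, List.map_cons, List.map_nil, List.sum_cons, List.sum_nil, add_zero]
      rw [if_neg (by have := j'.isLt; omega)]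
      simp
    · simp only [enc, Sum.elim_inr]
      rw [hL, hη]
      simp only [coefC, List.map_cons, List.map_nil, List.sum_cons, List.sum_nil, add_zero]
      by_cases h : (s' : ℕ) = D.reflectRoot i s.val
      · rw [if_pos (by omega), if_pos h]
      · rw [if_neg (by omega), if_neg h]
        simp

end Cfsg.Agent.Lib.Helper24
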