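import Cfsg.Agent.Lib.Helper24.NShape

set_option autoImplicit false
set_option linter.unusedSimpArgs false

namespace Cfsg.Agent.Lib.Helper24

open Cfsg.Lie

/-- invariance of the pairing under a fundamental reflection -/
def arootInvOK (D : ChevalleyDatum) (i : ℕ) : Bool :=
  allBelow (fun j => forceNat (D.simple j) fun r => forceNat (D.reflectRoot i r) fun r' =>
    allBelow (fun s => decide (Aroot D r s = Aroot D r' (D.reflectRoot i s))) D.nroots) D.rank

structure NShapeFacts (D : ChevalleyDatum) (tab : List ℕ) : Prop where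
  shape : ∀ i < D.rank, nShapeOK D (tab.getD i 0) i = true
  eta : ∀ i < D.rank, etaSignOK D (tab.getD i 0) i = true
  inv : ∀ i < D.rank, arootInvOK D i = true

variable {F : Type*} [Field F] {D : ChevalleyDatum} {tab : List ℕ}

theorem AE_inl (r : ℕ) (a : Fin D.rank) : AE D r (enc D (Sum.inl a)) = 0 := by
  unfold AE
  split_ifs with h
  · rfl
  · exact absurd a.isLt (by simpa [enc] using h)

theorem AE_inr (r : ℕ) (s : Fin D.nroots) : AE D r (enc D (Sum.inr s)) = Aroot D r s := by
  unfold AE
  split_ifs with h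
  · simp only [enc] at h; omega
  · congr 1
    simp only [enc]; omega

/-- S1095 -/
theorem Facts.nMat_signed (hF : Facts D) (hN : NFacts D tab) (hS : NShapeFacts D tab) (i : ℕ)
    (hi : i < D.rank) :
    ∃ η : ℕ → ℤ, (∀ s < D.nroots, η s = 1 ∨ η s = -1) ∧ η (D.simple i) = -1 ∧
      η (D.neg (D.simple i)) = -1 ∧
      (∀ s < D.nroots, η s * η (D.reflectRoot i s) = (-1) ^ (D.cartan i s).natAbs ∧
        η s * η (D.neg s) = 1) ∧
      D.nMat F (D.simple i) 1 = Matrix.of (fun (row col : D.Idx) =>
        Sum.elim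
          (fun j' : Fin D.rank => Sum.elim
            (fun j : Fin D.rank => (if j' = j then (1 : F) else 0) -
              (if (j' : ℕ) = i then ((D.cartan j (D.simple i) : ℤ) : F) else 0))
            (fun _ => (0 : F)) col)
          (fun s' : Fin D.nroots => Sum.elim
            (fun _ => (0 : F))
            (fun s : Fin D.nroots => if (s' : ℕ) = D.reflectRoot i s then ((η s : ℤ) : F) else 0) col)
          row) := by
  have he := hS.eta i hi
  simp only [etaSignOK, Bool.and_eq_true, decide_eq_true_eq] at he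
  obtain ⟨⟨h1, h2⟩, h3⟩ := he
  refine ⟨etaT D (tab.getD i 0), fun s _ => etaT_cases D _ s, h1, h2, ?_, ?_⟩
  · intro s hs
    have := allBelow_elim _ _ h3 s hs
    simp only [Bool.and_eq_true, decide_eq_true_eq] at this
    exact this
  · exact nMat_explicit D hF.table (tab.getD i 0) i (hN.ntab i hi) (hS.shape i hi)

/-- S1096 -/
theorem Facts.nMat_mul_hMat (hF : Facts D) (hN : NFacts D tab) (hS : NShapeFacts D tab)
    (hsimple : ∀ j < D.rank, D.simple j < D.nroots) (i j : ℕ)
    (hi : i < D.rank) (hj : j < D.rank) (t : F) (ht : t ≠ 0) :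
    D.nMat F (D.simple i) 1 * D.hMat F (D.simple j) t =
      D.hMat F (D.reflectRoot i (D.simple j)) t * D.nMat F (D.simple i) 1 := by
  have hr := hsimple j hj
  have hr' := hN.reflectRoot_lt i hi _ hr
  rw [hF.hMat_root _ hr t ht, hF.hMat_root _ hr' t ht,
    nMat_explicit D hF.table (tab.getD i 0) i (hN.ntab i hi) (hS.shape i hi)]
  have hinv := allBelow_elim _ _ (hS.inv i hi) j hj
  simp only [forceNat_eq] at hinv
  ext a b
  rw [Matrix.mul_diagonal, Matrix.diagonal_mul]
  simp only [Matrix.of_apply]
  rcases a with a | a <;> rcases b with b | b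
  · simp only [Sum.elim_inl, AE_inl, zpow_zero, mul_one, one_mul]
  · simp only [Sum.elim_inl, Sum.elim_inr, zero_mul, mul_zero]
  · simp only [Sum.elim_inl, Sum.elim_inr, zero_mul, mul_zero]
  · simp only [Sum.elim_inr]
    by_cases h : (a : ℕ) = D.reflectRoot i b
    · rw [if_pos h]
      have e := allBelow_elim _ _ hinv b.val b.isLt
      simp only [decide_eq_true_eq] at e
      rw [AE_inr, AE_inr, h, e]
      ring
    · rw [if_neg h]
      simp

end Cfsg.Agent.Lib.Helper24
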