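import Cfsg.Agent.Lib.Helper24.NShape2
import Cfsg.Agent.Lib.Helper24.RFAll

set_option autoImplicit false
set_option maxRecDepth 100000

namespace Cfsg.Agent.Lib.Helper24

open Cfsg.Lie

theorem nshape_B2_0 : nShapeOK chevB2 (nTabB2.getD 0 0) 0 = true := by decide +kernel
theorem neta_B2_0 : etaSignOK chevB2 (nTabB2.getD 0 0) 0 = true := by decide +kernel
theorem nainv_B2_0 : arootInvOK chevB2 0 = true := by decide +kernel
theorem nshape_B2_1 : nShapeOK chevB2 (nTabB2.getD 1 0) 1 = true := by decide +kernel
theorem neta_B2_1 : etaSignOK chevB2 (nTabB2.getD 1 0) 1 = true := by decide +kernel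
theorem nainv_B2_1 : arootInvOK chevB2 1 = true := by decide +kernel

theorem nshapeFacts_B2 : NShapeFacts chevB2 nTabB2 where
  shape := by
    intro i hi
    have hi' : i < 2 := hi
    interval_cases i
    · exact nshape_B2_0
    · exact nshape_B2_1
  eta := by
    intro i hi
    have hi' : i < 2 := hi
    interval_cases i
    · exact neta_B2_0
    · exact neta_B2_1
  inv := by
    intro i hi
    have hi' : i < 2 := hi
    interval_cases i
    · exact nainv_B2_0
    · exact nainv_B2_1

end Cfsg.Agent.Lib.Helper24
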