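import Cfsg.Agent.Lib.Helper24.NShape2
import Cfsg.Agent.Lib.Helper24.RFAll

set_option autoImplicit false
set_option maxRecDepth 100000

namespace Cfsg.Agent.Lib.Helper24

open Cfsg.Lie

theorem nshape_E6_0 : nShapeOK chevE6 (nTabE6.getD 0 0) 0 = true := by decide +kernel
theorem neta_E6_0 : etaSignOK chevE6 (nTabE6.getD 0 0) 0 = true := by decide +kernel
theorem nainv_E6_0 : arootInvOK chevE6 0 = true := by decide +kernel
theorem nshape_E6_1 : nShapeOK chevE6 (nTabE6.getD 1 0) 1 = true := by decide +kernel
theorem neta_E6_1 : etaSignOK chevE6 (nTabE6.getD 1 0) 1 = true := by decide +kernel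
theorem nainv_E6_1 : arootInvOK chevE6 1 = true := by decide +kernel
theorem nshape_E6_2 : nShapeOK chevE6 (nTabE6.getD 2 0) 2 = true := by decide +kernel
theorem neta_E6_2 : etaSignOK chevE6 (nTabE6.getD 2 0) 2 = true := by decide +kernel
theorem nainv_E6_2 : arootInvOK chevE6 2 = true := by decide +kernel
theorem nshape_E6_3 : nShapeOK chevE6 (nTabE6.getD 3 0) 3 = true := by decide +kernel
theorem neta_E6_3 : etaSignOK chevE6 (nTabE6.getD 3 0) 3 = true := by decide +kernel
theorem nainv_E6_3 : arootInvOK chevE6 3 = true := by decide +kernel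
theorem nshape_E6_4 : nShapeOK chevE6 (nTabE6.getD 4 0) 4 = true := by decide +kernel
theorem neta_E6_4 : etaSignOK chevE6 (nTabE6.getD 4 0) 4 = true := by decide +kernel
theorem nainv_E6_4 : arootInvOK chevE6 4 = true := by decide +kernel
theorem nshape_E6_5 : nShapeOK chevE6 (nTabE6.getD 5 0) 5 = true := by decide +kernel
theorem neta_E6_5 : etaSignOK chevE6 (nTabE6.getD 5 0) 5 = true := by decide +kernel
theorem nainv_E6_5 : arootInvOK chevE6 5 = true := by decide +kernel

theorem nshapeFacts_E6 : NShapeFacts chevE6 nTabE6 where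
  shape := by
    intro i hi
    have hi' : i < 6 := hi
    interval_cases i
    · exact nshape_E6_0
    · exact nshape_E6_1
    · exact nshape_E6_2
    · exact nshape_E6_3
    · exact nshape_E6_4
    · exact nshape_E6_5
  eta := by
    intro i hi
    have hi' : i < 6 := hi
    interval_cases i
    · exact neta_E6_0
    · exact neta_E6_1
    · exact neta_E6_2
    · exact neta_E6_3
    · exact neta_E6_4
    · exact neta_E6_5
  inv := by
    intro i hi
    have hi' : i < 6 := hi
    interval_cases i
    · exact nainv_E6_0
    · exact nainv_E6_1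
    · exact nainv_E6_2
    · exact nainv_E6_3
    · exact nainv_E6_4
    · exact nainv_E6_5

end Cfsg.Agent.Lib.Helper24
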