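import Cfsg.Agent.Lib.Helper24.NShape2
import Cfsg.Agent.Lib.Helper24.RFAll

set_option autoImplicit false
set_option maxRecDepth 100000

namespace Cfsg.Agent.Lib.Helper24

open Cfsg.Lie

theorem nshape_F4_0 : nShapeOK chevF4 (nTabF4.getD 0 0) 0 = true := by decide +kernel
theorem neta_F4_0 : etaSignOK chevF4 (nTabF4.getD 0 0) 0 = true := by decide +kernel
theorem nainv_F4_0 : arootInvOK chevF4 0 = true := by decide +kernel
theorem nshape_F4_1 : nShapeOK chevF4 (nTabF4.getD 1 0) 1 = true := by decide +kernel
theorem neta_F4_1 : etaSignOK chevF4 (nTabF4.getD 1 0) 1 = true := by decide +kernel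
theorem nainv_F4_1 : arootInvOK chevF4 1 = true := by decide +kernel
theorem nshape_F4_2 : nShapeOK chevF4 (nTabF4.getD 2 0) 2 = true := by decide +kernel
theorem neta_F4_2 : etaSignOK chevF4 (nTabF4.getD 2 0) 2 = true := by decide +kernel
theorem nainv_F4_2 : arootInvOK chevF4 2 = true := by decide +kernel
theorem nshape_F4_3 : nShapeOK chevF4 (nTabF4.getD 3 0) 3 = true := by decide +kernel
theorem neta_F4_3 : etaSignOK chevF4 (nTabF4.getD 3 0) 3 = true := by decide +kernel
theorem nainv_F4_3 : arootInvOK chevF4 3 = true := by decide +kernel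

theorem nshapeFacts_F4 : NShapeFacts chevF4 nTabF4 where
  shape := by
    intro i hi
    have hi' : i < 4 := hi
    interval_cases i
    · exact nshape_F4_0
    · exact nshape_F4_1
    · exact nshape_F4_2
    · exact nshape_F4_3
  eta := by
    intro i hi
    have hi' : i < 4 := hi
    interval_cases i
    · exact neta_F4_0
    · exact neta_F4_1
    · exact neta_F4_2
    · exact neta_F4_3
  inv := by
    intro i hi
    have hi' : i < 4 := hi
    interval_cases i
    · exact nainv_F4_0
    · exact nainv_F4_1
    · exact nainv_F4_2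
    · exact nainv_F4_3

end Cfsg.Agent.Lib.Helper24
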