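import Cfsg.Agent.Lib.Helper24.NShapeTab_G2
import Cfsg.Agent.Lib.Helper24.NShapeTab_B2
import Cfsg.Agent.Lib.Helper24.NShapeTab_D4
import Cfsg.Agent.Lib.Helper24.NShapeTab_F4
import Cfsg.Agent.Lib.Helper24.NShapeTab_E6
import Cfsg.Agent.Lib.Helper24.NShapeTab_E7
import Cfsg.Agent.Lib.Helper24.NShapeTab_E8

set_option autoImplicit false

namespace Cfsg.Agent.Lib.Helper24

open Cfsg.Lie

theorem nshapeFacts_all (D : ChevalleyDatum)
    (hD : D ∈ [chevG2, chevB2, chevD4, chevF4, chevE6, chevE7, chevE8]) :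
    ∃ tab : List ℕ, NFacts D tab ∧ NShapeFacts D tab := by
  simp only [List.mem_cons, List.not_mem_nil, or_false] at hD
  rcases hD with rfl | rfl | rfl | rfl | rfl | rfl | rfl
  · exact ⟨nTabG2, nfacts_G2, nshapeFacts_G2⟩
  · exact ⟨nTabB2, nfacts_B2, nshapeFacts_B2⟩
  · exact ⟨nTabD4, nfacts_D4, nshapeFacts_D4⟩
  · exact ⟨nTabF4, nfacts_F4, nshapeFacts_F4⟩
  · exact ⟨nTabE6, nfacts_E6, nshapeFacts_E6⟩
  · exact ⟨nTabE7, nfacts_E7, nshapeFacts_E7⟩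
  · exact ⟨nTabE8, nfacts_E8, nshapeFacts_E8⟩

end Cfsg.Agent.Lib.Helper24
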