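import Cfsg.Agent.Lib.Helper24.NShape2
import Cfsg.Agent.Lib.Helper24.RFAll

set_option autoImplicit false
set_option maxRecDepth 100000

namespace Cfsg.Agent.Lib.Helper24

open Cfsg.Lie

theorem nshape_G2_0 : nShapeOK chevG2 (nTabG2.getD 0 0) 0 = true := by decide +kernel
theorem neta_G2_0 : etaSignOK chevG2 (nTabG2.getD 0 0) 0 = true := by decide +kernel
theorem nainv_G2_0 : arootInvOK chevG2 0 = true := by decide +kernel
theorem nshape_G2_1 : nShapeOK chevG2 (nTabG2.getD 1 0) 1 = true := by decide +kernel
theorem neta_G2_1 : etaSignOK chevG2 (nTabG2.getD 1 0) 1 = true := by decide +kernel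
theorem nainv_G2_1 : arootInvOK chevG2 1 = true := by decide +kernel

theorem nshapeFacts_G2 : NShapeFacts chevG2 nTabG2 where
  shape := by
    intro i hi
    have hi' : i < 2 := hi
    interval_cases i
    · exact nshape_G2_0
    · exact nshape_G2_1
  eta := by
    intro i hi
    have hi' : i < 2 := hi
    interval_cases i
    · exact neta_G2_0
    · exact neta_G2_1
  inv := by
    intro i hi
    have hi' : i < 2 := hi
    interval_cases i
    · exact nainv_G2_0
    · exact nainv_G2_1

end Cfsg.Agent.Lib.Helper24
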