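import Cfsg.Agent.Lib.Helper24.Tri

set_option autoImplicit false
set_option linter.unusedSimpArgs false
set_option linter.unusedSectionVars false

namespace Cfsg.Agent.Lib.Helper24

open scoped commutatorElement

section generic

variable {m : Type*} [Fintype m] [DecidableEq m] {F : Type*} [Field F]

/-- entries vanish unless `b j + k ≤ b i` -/
def Lk (b : m → ℕ) (k : ℕ) (M : Matrix m m F) : Prop := ∀ i j, b i < b j + k → M i j = 0

theorem Lk.mono {b : m → ℕ} {k l : ℕ} {M : Matrix m m F} (h : Lk b k M) (hl : l ≤ k) : Lk b l M :=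
  fun i j hij => h i j (by omega)

theorem Lk.mul {b : m → ℕ} {k l : ℕ} {A B : Matrix m m F} (hA : Lk b k A) (hB : Lk b l B) :
    Lk b (k + l) (A * B) := by
  intro i j hij
  rw [Matrix.mul_apply]
  apply Finset.sum_eq_zero
  intro x _
  by_cases h : b i < b x + k
  · rw [hA i x h, zero_mul]
  · rw [hB x j (by omega), mul_zero]

theorem Lk.add {b : m → ℕ} {k : ℕ} {A B : Matrix m m F} (hA : Lk b k A) (hB : Lk b k B) :
    Lk b k (A + B) := by
  intro i j hij
  rw [Matrix.add_apply, hA i j hij, hB i j hij, add_zero]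

theorem Lk.sub {b : m → ℕ} {k : ℕ} {A B : Matrix m m F} (hA : Lk b k A) (hB : Lk b k B) :
    Lk b k (A - B) := by
  intro i j hij
  rw [Matrix.sub_apply, hA i j hij, hB i j hij, sub_zero]

theorem Lk.neg {b : m → ℕ} {k : ℕ} {A : Matrix m m F} (hA : Lk b k A) : Lk b k (-A) := by
  intro i j hij
  rw [Matrix.neg_apply, hA i j hij, neg_zero]

theorem Lk_one (b : m → ℕ) : Lk b 0 (1 : Matrix m m F) := by
  intro i j hij
  have : i ≠ j := fun e => by subst e; omega
  simp [Matrix.one_apply, this]

theorem Lk_zero (b : m → ℕ) (k : ℕ) : Lk b k (0 : Matrix m m F) := fun _ _ _ => rfl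

theorem mem_uniTri_iff_Lk (b : m → ℕ) (hb : Function.Injective b) (g : GL m F) :
    g ∈ uniTri (F := F) b hb ↔ Lk b 1 ((g : Matrix m m F) - 1) := by
  rw [mem_uniTri]
  constructor
  · rintro ⟨h1, h2⟩ i j hij
    by_cases e : i = j
    · subst e; simp [h2]
    · have : b i ≠ b j := fun h => e (hb h)
      simp [Matrix.sub_apply, h1 i j (by omega), Matrix.one_apply, e]
  · intro h
    constructor
    · intro i j hij
      have := h i j (by omega)
      have e : i ≠ j := fun e => by subst e; omega
      simpa [Matrix.sub_apply, Matrix.one_apply, e] using this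
    · intro i
      have := h i i (by omega)
      simp only [Matrix.sub_apply, Matrix.one_apply_eq] at this
      exact sub_eq_zero.mp this

theorem Lk_zero_of_mem_uniTri (b : m → ℕ) (hb : Function.Injective b) (g : GL m F)
    (hg : g ∈ uniTri (F := F) b hb) : Lk b 0 (g : Matrix m m F) := by
  have h1 := ((mem_uniTri_iff_Lk b hb g).mp hg).mono (Nat.zero_le 1)
  have := h1.add (Lk_one b)
  simpa using this

/-- the `k`-th term of a central series of the unitriangular group -/
def uniTriK (b : m → ℕ) (hb : Function.Injective b) (k : ℕ) : Subgroup (GL m F) where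
  carrier := {g | Lk b (k + 1) ((g : Matrix m m F) - 1)}
  one_mem' := by
    show Lk b (k + 1) (((1 : GL m F) : Matrix m m F) - 1)
    simp only [Units.val_one, sub_self]
    exact Lk_zero b _
  mul_mem' := by
    intro g h hg hh
    show Lk b (k + 1) (((g * h : GL m F) : Matrix m m F) - 1)
    have e : ((g * h : GL m F) : Matrix m m F) - 1 =
        ((g : Matrix m m F) - 1) * ((h : Matrix m m F) - 1) + ((g : Matrix m m F) - 1) +
          ((h : Matrix m m F) - 1) := by
      rw [Units.val_mul]; noncomm_ring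
    rw [e]
    have h1 : Lk b (k + 1) (((g : Matrix m m F) - 1) * ((h : Matrix m m F) - 1)) :=
      (Lk.mul hg hh).mono (by omega)
    exact (h1.add hg).add hh
  inv_mem' := by
    intro g hg
    show Lk b (k + 1) (((g⁻¹ : GL m F) : Matrix m m F) - 1)
    have hgT : g ∈ uniTri (F := F) b hb := (mem_uniTri_iff_Lk b hb g).mpr (Lk.mono hg (by omega))
    have hinv := Lk_zero_of_mem_uniTri b hb g⁻¹ ((uniTri b hb).inv_mem hgT)
    have e : ((g⁻¹ : GL m F) : Matrix m m F) - 1 =
        -(((g : Matrix m m F) - 1) * ((g⁻¹ : GL m F) : Matrix m m F)) := by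
      have : (g : Matrix m m F) * ((g⁻¹ : GL m F) : Matrix m m F) = 1 := by
        rw [← Units.val_mul, mul_inv_cancel, Units.val_one]
      rw [sub_mul, this]; noncomm_ring
    rw [e]
    have := (Lk.mul hg hinv).neg
    simpa using this

theorem mem_uniTriK (b : m → ℕ) (hb : Function.Injective b) (k : ℕ) (g : GL m F) :
    g ∈ uniTriK (F := F) b hb k ↔ Lk b (k + 1) ((g : Matrix m m F) - 1) := Iff.rfl

theorem uniTriK_zero (b : m → ℕ) (hb : Function.Injective b) :
    uniTriK (F := F) b hb 0 = uniTri b hb := by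
  ext g
  rw [mem_uniTriK, mem_uniTri_iff_Lk]

theorem uniTriK_eq_bot (b : m → ℕ) (hb : Function.Injective b) (n : ℕ) (hbn : ∀ i, b i < n) :
    uniTriK (F := F) b hb n = ⊥ := by
  rw [eq_bot_iff]
  intro g hg
  rw [mem_uniTriK] at hg
  rw [Subgroup.mem_bot]
  apply Units.ext
  ext i j
  have := hg i j (by have := hbn i; omega)
  simp only [Matrix.sub_apply] at this
  rw [Units.val_one]
  exact sub_eq_zero.mp this

theorem commutator_mem_uniTriK (b : m → ℕ) (hb : Function.Injective b) (k : ℕ) (x g : GL m F)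
    (hx : x ∈ uniTriK (F := F) b hb k) (hg : g ∈ uniTri (F := F) b hb) :
    ⁅x, g⁆ ∈ uniTriK (F := F) b hb (k + 1) := by
  rw [mem_uniTriK] at hx ⊢
  have hxT : x ∈ uniTri (F := F) b hb := (mem_uniTri_iff_Lk b hb x).mpr (Lk.mono hx (by omega))
  have hg1 := (mem_uniTri_iff_Lk b hb g).mp hg
  have hinv := Lk_zero_of_mem_uniTri b hb (x⁻¹ * g⁻¹)
    ((uniTri b hb).mul_mem ((uniTri b hb).inv_mem hxT) ((uniTri b hb).inv_mem hg))
  have e : ((⁅x, g⁆ : GL m F) : Matrix m m F) - 1 =
      ((((x : Matrix m m F) - 1) * ((g : Matrix m m F) - 1) -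
        ((g : Matrix m m F) - 1) * ((x : Matrix m m F) - 1))) * ((x⁻¹ * g⁻¹ : GL m F) : Matrix m m F) := by
    have h1 : ((⁅x, g⁆ : GL m F) : Matrix m m F) =
        (x : Matrix m m F) * (g : Matrix m m F) * ((x⁻¹ * g⁻¹ : GL m F) : Matrix m m F) := by
      rw [commutatorElement_def, ← Units.val_mul, ← Units.val_mul]
      congr 1
      group
    have h2 : (1 : Matrix m m F) =
        (g : Matrix m m F) * (x : Matrix m m F) * ((x⁻¹ * g⁻¹ : GL m F) : Matrix m m F) := by
      rw [← Units.val_mul, ← Units.val_mul, ← Units.val_one]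
      congr 1
      group
    rw [h1]
    conv_lhs => rw [h2]
    noncomm_ring
  rw [e]
  have h3 := (Lk.mul hx hg1).sub (by
    have := Lk.mul hg1 hx
    rwa [Nat.add_comm] at this)
  have := Lk.mul h3 hinv
  simpa [Nat.add_assoc] using this

/-- every subgroup of the unitriangular group is nilpotent -/
theorem isNilpotent_of_le_uniTri (b : m → ℕ) (hb : Function.Injective b) (n : ℕ) (hbn : ∀ i, b i < n)
    (U : Subgroup (GL m F)) (hU : U ≤ uniTri (F := F) b hb) : Group.IsNilpotent U := by
  rw [Subgroup.nilpotent_iff_finite_descending_central_series]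
  refine ⟨n, fun k => (uniTriK (F := F) b hb k).subgroupOf U, ⟨?_, ?_⟩, ?_⟩
  · show (uniTriK (F := F) b hb 0).subgroupOf U = ⊤
    rw [uniTriK_zero]
    exact Subgroup.subgroupOf_eq_top.mpr hU
  · intro x k hx g
    rw [Subgroup.mem_subgroupOf] at hx ⊢
    have := commutator_mem_uniTriK b hb k x.1 g.1 hx (hU g.2)
    have e : ((⁅x, g⁆ : U) : GL m F) = ⁅(x : GL m F), (g : GL m F)⁆ := by
      simp [commutatorElement_def]
    rw [e]; exact this
  · show (uniTriK (F := F) b hb n).subgroupOf U = ⊥
    rw [uniTriK_eq_bot b hb n hbn]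
    exact Subgroup.bot_subgroupOf U

end generic

end Cfsg.Agent.Lib.Helper24
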