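import Cfsg.Agent.Lib.Helper24.HDiag

set_option autoImplicit false
set_option linter.unusedSimpArgs false

namespace Cfsg.Agent.Lib.Helper24

open Cfsg.Lie

def normP (red : Bool) (p : Poly) : Poly := cond red p.reduce (Poly.add p [])

/-- merge equal indices, normalise the coefficients and drop zero entries -/
def normV (red : Bool) (v : SV) : SV :=
  ((collectD v).map fun kp => (kp.1, normP red kp.2)).filter fun kp => !kp.2.isZero

def applyXN (D : ChevalleyDatum) (red : Bool) (r : ℕ) (a : Poly) (v : SV) : SV :=
  normV red (applyXF D r a v)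

def applyWordN (D : ChevalleyDatum) (red : Bool) (w : List (ℕ × Poly)) (v : SV) : SV :=
  w.foldr (fun ra acc => applyXN D red ra.1 ra.2 acc) v

/-- check that a word acts diagonally, with diagonal entries `d k` -/
def checkDiagN (D : ChevalleyDatum) (red : Bool) (w : List (ℕ × Poly)) (d : ℕ → Poly) (k : ℕ) : Bool :=
  vecIsZeroD red (subV (applyWordN D red w [(k, Poly.one)]) [(k, d k)])

section semantics

variable {F : Type*} [Field F] (D : ChevalleyDatum) (y0 y1 y2 y3 : F)

theorem den_normP (red : Bool) (hred : red = true → y0 * y1 = 1) (p : Poly) :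
    (normP red p).den y0 y1 y2 y3 = p.den y0 y1 y2 y3 := by
  cases red with
  | false => simp [normP, Poly.den_add]
  | true => simp only [normP, cond_true]; exact Poly.den_reduce _ _ _ _ (hred rfl) p

theorem denV_filter_nonzero (v : SV) :
    denV D y0 y1 y2 y3 (v.filter fun kp => !kp.2.isZero) = denV D y0 y1 y2 y3 v := by
  induction v with
  | nil => rfl
  | cons kp rest ih =>
    by_cases h : kp.2.isZero = true
    · rw [List.filter_cons_of_neg (by simp [h]), ih, denV_cons]
      have := Poly.den_eq_zero_of_isZero y0 y1 y2 y3 _ h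
      funext i
      simp [this]
    · rw [List.filter_cons_of_pos (by simpa using h), denV_cons, denV_cons, ih]

theorem denV_normV (red : Bool) (hred : red = true → y0 * y1 = 1) (v : SV) :
    denV D y0 y1 y2 y3 (normV red v) = denV D y0 y1 y2 y3 v := by
  unfold normV
  rw [denV_filter_nonzero]
  have h1 : denV D y0 y1 y2 y3 ((collectD v).map fun kp => (kp.1, normP red kp.2)) =
      denV D y0 y1 y2 y3 ((collectD v).map fun kp => kp) := by
    apply denV_congr_map
    intro kp _
    exact ⟨rfl, den_normP y0 y1 y2 y3 red hred kp.2⟩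
  rw [h1, List.map_id', denV_collectD]

theorem denV_applyWordN (hT : TableOK D) (red : Bool) (hred : red = true → y0 * y1 = 1)
    (w : List (ℕ × Poly)) (v : SV) :
    denV D y0 y1 y2 y3 (applyWordN D red w v) = denV D y0 y1 y2 y3 (applyWord D w v) := by
  induction w with
  | nil => rfl
  | cons ra rest ih =>
    simp only [applyWordN, applyWord, List.foldr_cons] at ih ⊢
    unfold applyXN
    rw [denV_normV D y0 y1 y2 y3 red hred, denV_applyXF D y0 y1 y2 y3 hT]
    exact denV_applyX_congr D y0 y1 y2 y3 _ _ _ _ ih

theorem wordMat_eq_diag_of_checkDiagN (hT : TableOK D) (red : Bool) (hred : red = true → y0 * y1 = 1)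
    (w : List (ℕ × Poly)) (d : ℕ → Poly)
    (h : ∀ k < D.rank + D.nroots, checkDiagN D red w d k = true) :
    D.wordMat F (denW y0 y1 y2 y3 w) = Matrix.diagonal (fun j => (d (enc D j)).den y0 y1 y2 y3) := by
  ext i j
  have h1 := h (enc D j) (enc_lt D j)
  have h2 := denV_eq_zero_of_vecIsZeroD D y0 y1 y2 y3 red hred _ h1
  rw [denV_subV, denV_applyWordN D y0 y1 y2 y3 hT red hred, ← wordMat_mulVec_denV, denV_single,
    Matrix.mulVec_single_one] at h2
  have h3 := congrFun h2 i
  simp only [Pi.sub_apply, Pi.zero_apply, Matrix.col_apply] at h3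
  rw [sub_eq_zero] at h3
  rw [h3]
  simp only [denV, List.map_cons, List.map_nil, List.sum_cons, List.sum_nil, add_zero]
  by_cases hij : i = j
  · subst hij; simp
  · have : ¬ (enc D j = enc D i) := fun e => hij (enc_injective D e).symm
    simp [this, Matrix.diagonal_apply_ne _ hij]

end semantics

/-- `h_{p_i}(c)` acts on column `k` as expected -/
def hSimpleOK (D : ChevalleyDatum) (i k : ℕ) : Bool :=
  checkDiagN D true (hWordS D (D.simple i)) (hSimpleDiag D i) k

theorem hMat_simple_of_hSimpleOK {F : Type*} [Field F] (D : ChevalleyDatum) (hT : TableOK D)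
    (i : ℕ) (h : ∀ k < D.rank + D.nroots, hSimpleOK D i k = true) (c : F) (hc : c ≠ 0) :
    D.hMat F (D.simple i) c =
      Matrix.diagonal (Sum.elim (fun _ => (1 : F)) (fun s : Fin D.nroots => c ^ (D.cartan i s))) := by
  have h1 := wordMat_eq_diag_of_checkDiagN D c c⁻¹ 1 1 hT true (fun _ => mul_inv_cancel₀ hc) _ _ h
  rw [denW_hWordS] at h1
  unfold ChevalleyDatum.hMat
  rw [h1]
  congr 1
  funext j
  rcases j with j | s
  · have : enc D (Sum.inl j) < D.rank := j.isLt
    simp [hSimpleDiag, this]
  · have h2 : ¬ (enc D (Sum.inr s) < D.rank) := by simp only [enc]; omega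
    have h3 : enc D (Sum.inr s) - D.rank = s.val := by simp only [enc]; omega
    simp only [hSimpleDiag, h2, if_false, h3, den_dPoly, Sum.elim_inr]

end Cfsg.Agent.Lib.Helper24
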