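import Cfsg.Agent.Lib.Helper24.HNormal

set_option autoImplicit false

namespace Cfsg.Agent.Lib.Helper24

/-! every root as the image of a fundamental root under reflections inside its support -/

def orbTabG2 : List (ℕ × ℕ × ℕ) := [(4, (0, 7)), (8, (1, 7)), (10, (0, 6)), (5, (1, 6)), (1, (0, 5)), (11, (1, 10)), (9, (0, 8)), (3, (1, 4)), (2, (0, 3)), (0, (1, 1))]

def orbTabB2 : List (ℕ × ℕ × ℕ) := [(2, (0, 5)), (6, (1, 5)), (7, (0, 4)), (3, (1, 4)), (0, (0, 3)), (1, (1, 2))]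

def orbTabD4 : List (ℕ × ℕ × ℕ) := [(5, (0, 18)), (19, (1, 18)), (9, (1, 14)), (16, (2, 14)), (15, (3, 14)), (10, (2, 13)), (11, (3, 12)), (8, (1, 11)), (7, (1, 10)), (20, (0, 15)), (17, (2, 15)), (21, (0, 16)), (4, (0, 9)), (2, (2, 4)), (3, (3, 4)), (22, (3, 21)), (6, (3, 7)), (1, (0, 6)), (23, (1, 22)), (0, (1, 1))]

def orbTabF4 : List (ℕ × ℕ × ℕ) := [(14, (0, 33)), (34, (1, 33)), (20, (1, 27)), (28, (2, 27)), (30, (1, 25)), (22, (2, 25)), (26, (3, 25)), (23, (3, 24)), (21, (2, 23)), (31, (1, 26)), (17, (1, 22)), (41, (0, 30)), (35, (0, 28)), (29, (3, 28)), (13, (0, 20)), (19, (2, 20)), (12, (0, 19)), (18, (3, 19)), (36, (0, 29)), (37, (1, 35)), (42, (3, 41)), (6, (0, 17)), (16, (3, 17)), (32, (2, 31)), (43, (0, 32)), (5, (0, 16)), (15, (2, 16)), (38, (3, 37)), (11, (0, 18)), (10, (1, 12)), (9, (3, 10)), (39, (2, 38)), (4, (0, 15)), (45, (1, 43)), (46, (2, 45)), (2, (1, 4)), (40, (1, 39)), (8, (2, 9)), (7, (1,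 8)), (44, (0, 40)), (1, (2, 2)), (47, (3, 46)), (0, (3, 1)), (3, (0, 7))]

def orbTabE6 : List (ℕ × ℕ × ℕ) := [(15, (0, 56)), (57, (2, 56)), (25, (1, 46)), (47, (3, 46)), (29, (2, 42)), (43, (3, 42)), (32, (3, 39)), (40, (4, 39)), (34, (4, 37)), (38, (5, 37)), (35, (5, 36)), (33, (4, 35)), (41, (3, 38)), (31, (3, 34)), (48, (1, 40)), (44, (2, 40)), (24, (1, 32)), (28, (2, 32)), (58, (0, 43)), (50, (1, 43)), (14, (0, 29)), (13, (3, 14)), (61, (0, 50)), (51, (4, 50)), (59, (4, 58)), (21, (1, 28)), (27, (4, 28)), (23, (4, 24)), (45, (5, 44)), (49, (5, 48)), (30, (5, 31)), (22, (1, 30)), (26, (2, 30)), (52, (2, 49)), (60, (0, 45)), (20, (2, 23)), (12, (0, 27)), (10, (0, 21)), (62, (1, 59)), (53, (3, 51)), (64, (0, 53)), (54, (5, 53)), (63, (5, 62)), (9, (4, 10)), (11, (5, 12)), (18, (3, 20)), (19, (5, 20)), (8, (0, 19)), (17, (3, 19)), (7, (0, 18)), (65, (3, 63)), (55, (4, 54)), (67, (2, 64)), (68, (5, 67)), (66, (0,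 55)), (4, (2, 7)), (6, (5, 7)), (16, (4, 17)), (5, (0, 16)), (3, (2, 6)), (69, (2, 66)), (70, (3, 69)), (2, (4, 3)), (1, (3, 2)), (71, (1, 70)), (0, (1, 1))]

def orbTabE7 : List (ℕ × ℕ × ℕ) := [(32, (0, 93)), (94, (2, 93)), (47, (1, 78)), (79, (3, 78)), (52, (2, 73)), (74, (3, 73)), (56, (3, 69)), (70, (4, 69)), (59, (4, 66)), (67, (5, 66)), (61, (5, 64)), (65, (6, 64)), (62, (6, 63)), (60, (5, 62)), (68, (4, 65)), (58, (4, 61)), (71, (3, 67)), (55, (3, 59)), (80, (1, 70)), (75, (2, 70)), (46, (1, 56)), (51, (2, 56)), (95, (0, 74)), (83, (1, 74)), (31, (0, 52)), (30, (3, 31)), (99, (0, 83)), (84, (4, 83)), (96, (4, 95)), (42, (1, 51)), (50, (4, 51)), (45, (4, 46)), (76, (5, 75)), (81, (5, 80)), (54, (5, 55)), (72, (6, 71)), (57, (6, 58)), (53, (3, 57)), (82, (1, 72)), (77, (2, 72)), (44, (1, 54)), (49, (2, 54)), (85, (2, 81)), (97, (0, 76)), (41, (2, 45)), (29, (0, 50)), (26, (0, 42)), (100, (1, 96)), (87, (3, 84)),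 (103, (0, 87)), (88, (5, 87)), (101, (5, 100)), (25, (4, 26)), (28, (5, 29)), (38, (3, 41)), (40, (5, 41)), (98, (6, 97)), (86, (6, 85)), (48, (6, 49)), (43, (6, 44)), (39, (2, 43)), (27, (0, 48)), (102, (0, 86)), (89, (3, 86)), (24, (0, 40)), (37, (3, 40)), (22, (0, 38)), (104, (3, 101)), (90, (4, 88)), (109, (2, 103)), (110, (5, 109)), (106, (0, 90)), (91, (6, 90)), (105, (6, 104)), (16, (2, 22)), (21, (5, 22)), (35, (4, 37)), (36, (6, 37)), (23, (6, 24)), (20, (3, 23)), (34, (4, 36)), (19, (0, 35)), (15, (2, 21)), (111, (2, 105)), (107, (4, 105)), (92, (5, 91)), (112, (2, 106)), (115, (3, 112)), (113, (6, 112)), (108, (0, 92)), (13, (4, 15)), (14, (6, 15)), (18, (6, 19)), (33, (5, 34)), (17, (0, 33)), (12, (2, 18)), (10, (3, 13)), (114, (2, 108)), (116, (3, 113)), (119, (1, 115)), (120, (6, 119)), (117, (5, 116)), (6, (1, 10)), (9, (6, 10)), (11, (5, 12)), (8, (3, 11)), (5, (1, 9)), (121, (1, 117)), (118, (4, 117)),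 (122, (1, 118)), (4, (5, 5)), (7, (4, 8)), (3, (1, 7)), (123, (3, 122)), (124, (2, 123)), (2, (3, 3)), (1, (2, 2)), (125, (0, 124)), (0, (0, 1))]

def orbTabE8 : List (ℕ × ℕ × ℕ) := [(77, (0, 162)), (163, (2, 162)), (98, (1, 141)), (142, (3, 141)), (104, (2, 135)), (136, (3, 135)), (109, (3, 130)), (131, (4, 130)), (113, (4, 126)), (127, (5, 126)), (116, (5, 123)), (124, (6, 123)), (118, (6, 121)), (122, (7, 121)), (119, (7, 120)), (117, (6, 119)), (125, (5, 122)), (115, (5, 118)), (128, (4, 124)), (112, (4, 116)), (132, (3, 127)), (108, (3, 113)), (143, (1, 131)), (137, (2, 131)), (97, (1, 109)), (103, (2, 109)), (164, (0, 136)), (147, (1, 136)), (76, (0, 104)), (75, (3, 76)), (169, (0, 147)), (148, (4, 147)), (165, (4, 164)), (92, (1, 103)), (102, (4, 103)), (96, (4, 97)), (138, (5, 137)), (144, (5, 143)), (107, (5, 108)), (133, (6, 132)), (111, (6, 112)), (129, (7, 128)), (114, (7, 115)), (110, (4, 114)), (134,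 (3, 129)), (106, (3, 111)), (145, (1, 133)), (139, (2, 133)), (95, (1, 107)), (101, (2, 107)), (149, (2, 144)), (166, (0, 138)), (91, (2, 96)), (74, (0, 102)), (70, (0, 92)), (170, (1, 165)), (152, (3, 148)), (174, (0, 152)), (153, (5, 152)), (171, (5, 170)), (69, (4, 70)), (73, (5, 74)), (87, (3, 91)), (90, (5, 91)), (167, (6, 166)), (150, (6, 149)), (100, (6, 101)), (94, (6, 95)), (140, (7, 139)), (146, (7, 145)), (105, (7, 106)), (93, (1, 105)), (99, (2, 105)), (151, (2, 146)), (168, (0, 140)), (89, (2, 94)), (72, (0, 100)), (172, (0, 150)), (154, (3, 150)), (68, (0, 90)), (86, (3, 90)), (65, (0, 87)), (175, (3, 171)), (156, (4, 153)), (184, (2, 174)), (185, (5, 184)), (178, (0, 156)), (157, (6, 156)), (176, (6, 175)), (55, (2, 65)), (64, (5, 65)), (83, (4, 86)), (85, (6, 86)), (67, (6, 68)), (155, (7, 154)), (173, (7, 172)), (71, (7, 72)), (88, (7, 89)), (66, (0, 88)), (84, (3, 88)), (177, (3, 173)), (158, (4,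 155)), (63, (3, 67)), (82, (4, 85)), (61, (0, 83)), (54, (2, 64)), (186, (2, 176)), (179, (4, 176)), (159, (5, 157)), (188, (2, 178)), (194, (3, 188)), (189, (6, 188)), (181, (0, 159)), (160, (7, 159)), (180, (7, 179)), (187, (7, 186)), (51, (4, 54)), (53, (6, 54)), (60, (6, 61)), (80, (5, 82)), (81, (7, 82)), (62, (7, 63)), (52, (2, 62)), (59, (4, 62)), (79, (5, 81)), (58, (0, 80)), (50, (2, 60)), (45, (3, 51)), (190, (4, 187)), (182, (5, 180)), (161, (6, 160)), (191, (2, 181)), (195, (3, 189)), (204, (1, 194)), (205, (6, 204)), (197, (5, 195)), (196, (7, 195)), (192, (7, 191)), (183, (0, 161)), (35, (1, 45)), (44, (6, 45)), (48, (5, 50)), (49, (7, 50)), (57, (7, 58)), (78, (6, 79)), (56, (0, 78)), (47, (2, 57)), (43, (3, 49)), (42, (3, 48)), (34, (1, 44)), (193, (2, 183)), (198, (3, 192)), (206, (1, 196)), (207, (1, 197)), (200, (4, 197)), (210, (1, 200)), (201, (7, 200)), (208, (7, 207)), (199, (6, 198)), (32,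 (5, 34)), (33, (7, 34)), (39, (4, 42)), (41, (7, 42)), (46, (6, 47)), (40, (3, 46)), (31, (1, 41)), (38, (4, 41)), (29, (1, 39)), (209, (1, 199)), (202, (4, 199)), (211, (4, 208)), (214, (3, 210)), (219, (2, 214)), (215, (7, 214)), (212, (6, 211)), (203, (5, 202)), (25, (3, 29)), (28, (7, 29)), (37, (6, 38)), (30, (6, 31)), (27, (4, 30)), (36, (5, 37)), (24, (3, 28)), (20, (2, 25)), (213, (1, 203)), (216, (3, 212)), (220, (2, 215)), (226, (0, 219)), (227, (7, 226)), (221, (6, 220)), (217, (5, 216)), (13, (0, 20)), (19, (7, 20)), (23, (6, 24)), (26, (1, 36)), (22, (3, 26)), (18, (2, 23)), (12, (0, 19)), (222, (2, 217)), (218, (4, 217)), (228, (0, 221)), (229, (5, 228)), (223, (2, 218)), (11, (6, 12)), (17, (5, 18)), (21, (4, 22)), (16, (2, 21)), (10, (0, 17)), (230, (0, 223)), (224, (3, 223)), (231, (0, 224)), (225, (1, 224)), (9, (4, 10)), (15, (3, 16)), (8, (0, 15)), (14, (1, 15)), (233, (0, 225)), (232, (2, 231)),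 (234, (1, 232)), (6, (0, 14)), (7, (2, 8)), (5, (1, 7)), (235, (3, 234)), (236, (4, 235)), (4, (3, 5)), (3, (4, 4)), (237, (5, 236)), (238, (6, 237)), (2, (5, 3)), (1, (6, 2)), (239, (7, 238)), (0, (7, 1))]

end Cfsg.Agent.Lib.Helper24
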