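import Cfsg.Agent.Lib.Helper24.Longest

set_option autoImplicit false
set_option linter.unusedSimpArgs false

namespace Cfsg.Agent.Lib.Helper24

open Cfsg.Lie

/-- the sign `η` for the pair `(n_p, x_s)`, read off the packed matrix `P` of `n_p(1)` -/
def etaT (D : ChevalleyDatum) (P s : ℕ) : ℤ := etaOf (mcolP P (D.rank + D.nroots) (D.rank + s))

theorem etaT_cases (D : ChevalleyDatum) (P s : ℕ) : etaT D P s = 1 ∨ etaT D P s = -1 := etaOf_cases _

theorem refl_explicit {F : Type*} [Field F] (D : ChevalleyDatum) (hT : TableOK D) (P i s : ℕ)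
    (hs : s < D.nroots) (hN : nTabOK D (D.simple i) P = true) (h : reflOK2 D P i s = true) (t : F) :
    D.nMat F (D.simple i) 1 * D.x F s t =
      D.x F (D.reflectRoot i s) (((etaT D P s : ℤ) : F) * t) * D.nMat F (D.simple i) 1 := by
  unfold reflOK2 conjPairOK2 at h
  simp only [forceNat_eq, Bool.and_eq_true, decide_eq_true_eq] at h
  obtain ⟨hs', h⟩ := h
  rw [nMat_eq_cMat D hT _ P hN]
  unfold ChevalleyDatum.x
  rw [dif_pos hs, dif_pos hs']
  apply cMat_mul_xMat' D _ ⟨s, hs⟩ ⟨_, hs'⟩
  intro j hj t
  have h1 := colOK_spec (F := F) D _ _ _ _ _ _ _ _ j (allBelow_elim _ _ h j hj) t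
  have e1 : fullShapeP D s (D.negIdx.getD s 0) (packB D s) = fullShapeF D s := rfl
  have e2 : fullShapeP D (D.reflectRoot i s) (D.negIdx.getD (D.reflectRoot i s) 0)
      (packB D (D.reflectRoot i s)) = fullShapeF D (D.reflectRoot i s) := rfl
  rw [e1, e2, fullShapeF_eq D hT s j hs hj,
    applyXT_congr _ (fullShapeF D (D.reflectRoot i s)) (fullShape D (D.reflectRoot i s)) _ _
      (fun k hk => fullShapeF_eq D hT _ k hs' hk)] at h1
  exact h1

/-- support condition for a step `r = w_i(r')` of the orbit table -/
def suppCond (D : ChevalleyDatum) (r i r' : ℕ) : Bool :=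
  decide ((D.coroot.getD r #[]).getD i 0 ≠ 0) &&
    (List.range D.rank).all fun k =>
      decide ((D.coroot.getD r #[]).getD k 0 ≠ 0) || decide ((D.coroot.getD r' #[]).getD k 0 = 0)

def orbitStep (D : ChevalleyDatum) (tab : List ℕ) (known : List ℕ) (e : ℕ × ℕ × ℕ) : Bool :=
  known.contains e.2.2 && decide (e.2.1 < D.rank) && decide (e.2.2 < D.nroots) &&
    Nat.beq (wfast D.rank (tab.getD e.2.1 0) e.2.2) e.1 && suppCond D e.1 e.2.1 e.2.2

def orbitRun (D : ChevalleyDatum) (tab : List ℕ) : List (ℕ × ℕ × ℕ) → List ℕ → Option (List ℕ)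
  | [], known => some known
  | e :: rest, known => if orbitStep D tab known e then orbitRun D tab rest (e.1 :: known) else none

/-- the coroot of the `j`-th fundamental root is the `j`-th fundamental coroot (up to a multiple) -/
def simpleSuppOK (D : ChevalleyDatum) : Bool :=
  (List.range D.rank).all fun j => decide (D.simple j < D.nroots) &&
    (List.range D.rank).all fun k => decide (k = j) || decide ((D.coroot.getD (D.simple j) #[]).getD k 0 = 0)

/-- every root is obtained from a fundamental root by reflections inside its support -/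
def orbitOK (D : ChevalleyDatum) (tab : List ℕ) (orb : List (ℕ × ℕ × ℕ)) : Bool :=
  simpleSuppOK D &&
    match orbitRun D tab orb ((List.range D.rank).map D.simple) with
    | some known => allBelow (fun r => known.contains r) D.nroots
    | none => false

theorem orbitRun_induction (D : ChevalleyDatum) (tab : List ℕ) (Q : ℕ → Prop)
    (hstep : ∀ r i r', i < D.rank → r' < D.nroots → wfast D.rank (tab.getD i 0) r' = r →
      suppCond D r i r' = true → Q r' → Q r)
    (orb : List (ℕ × ℕ × ℕ)) (known known' : List ℕ) (hk : ∀ r ∈ known, Q r)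
    (h : orbitRun D tab orb known = some known') : ∀ r ∈ known', Q r := by
  induction orb generalizing known with
  | nil =>
    simp only [orbitRun, Option.some.injEq] at h
    subst h; exact hk
  | cons e rest ih =>
    simp only [orbitRun] at h
    split_ifs at h with hs
    simp only [orbitStep, Bool.and_eq_true, List.contains_iff_mem, decide_eq_true_eq] at hs
    obtain ⟨⟨⟨⟨h1, h2⟩, h3⟩, h4⟩, h5⟩ := hs
    apply ih (e.1 :: known) _ h
    intro r hr
    rcases List.mem_cons.mp hr with rfl | hr
    · exact hstep _ _ _ h2 h3 (Nat.eq_of_beq_eq_true h4) h5 (hk _ h1)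
    · exact hk r hr

theorem orbit_induction (D : ChevalleyDatum) (tab : List ℕ) (orb : List (ℕ × ℕ × ℕ))
    (h : orbitOK D tab orb = true) (Q : ℕ → Prop)
    (hsimple : ∀ j < D.rank, D.simple j < D.nroots →
      (∀ k < D.rank, k ≠ j → (D.coroot.getD (D.simple j) #[]).getD k 0 = 0) → Q (D.simple j))
    (hstep : ∀ r i r', i < D.rank → r' < D.nroots → wfast D.rank (tab.getD i 0) r' = r →
      suppCond D r i r' = true → Q r' → Q r) :
    ∀ r < D.nroots, Q r := by
  simp only [orbitOK, Bool.and_eq_true] at h
  obtain ⟨hS, h⟩ := h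
  simp only [simpleSuppOK, List.all_eq_true, List.mem_range, Bool.and_eq_true, Bool.or_eq_true,
    decide_eq_true_eq] at hS
  split at h
  · rename_i known hrun
    intro r hr
    have h1 := allBelow_elim _ _ h r hr
    rw [List.contains_iff_mem] at h1
    refine orbitRun_induction D tab Q hstep orb _ known ?_ hrun r h1
    intro r' hr'
    simp only [List.mem_map, List.mem_range] at hr'
    obtain ⟨j, hj, rfl⟩ := hr'
    obtain ⟨hj1, hj2⟩ := hS j hj
    refine hsimple j hj hj1 ?_
    intro k hk hkj
    rcases hj2 k hk with h | h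
    · exact absurd h hkj
    · exact h
  · exact absurd h (by simp)

end Cfsg.Agent.Lib.Helper24
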