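import Cfsg.Agent.Lib.Helper24.CellsF

set_option autoImplicit false

namespace Cfsg.Agent.Lib.Helper24

open Cfsg.Lie

/-- one step of the product of the Poincare polynomials of the quotients -/
theorem ord_chain_step (x A R P R' : ℤ) (n : ℕ) (h1 : x ^ n * A = R) (h2 : R * (x * P) = R') :
    x ^ (n + 1) * (P * A) = R' := by
  rw [← h2, ← h1]; ring

theorem ord_cast_sub (q k : ℕ) (hq : 1 ≤ q) : ((q ^ k - 1 : ℕ) : ℤ) = (q : ℤ) ^ k - 1 := by
  rw [Nat.cast_sub (Nat.one_le_pow _ _ hq)]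
  simp

theorem ord_cast_sub' (q : ℕ) (hq : 1 ≤ q) : ((q - 1 : ℕ) : ℤ) = (q : ℤ) - 1 := by
  rw [Nat.cast_sub hq]
  simp

theorem one_le_card_field (F : Type*) [Field F] [Fintype F] : 1 ≤ Fintype.card F :=
  Fintype.card_pos

end Cfsg.Agent.Lib.Helper24
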