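import Cfsg.Agent.Lib.Helper24.CellsF

set_option autoImplicit false
set_option maxRecDepth 100000

namespace Cfsg.Agent.Lib.Helper24

open Cfsg.Lie

def ordS_G2 : List ℕ := [0xb060809040a010702030500, 0xa0b09070805060304020001]

theorem ordS_G2_ok : reflTabOK chevG2 nTabG2 ordS_G2 = true := by decide +kernel

end Cfsg.Agent.Lib.Helper24
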