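import Cfsg.Agent.Lib.Helper24.OrdS_E7

set_option autoImplicit false
set_option maxRecDepth 100000

namespace Cfsg.Agent.Lib.Helper24

open Cfsg.Lie

def ordPm_E7_0 : List ℕ := [0x7d7c7b7a797877767574737271706f6e6d6c6b6a696867666564636261605f5e5d5c5b5a595857565554535251504f4e4d4c4b4a494847464544434241403f3e3d3c3b3a393837363534333231302f2e2d2c2b2a292827262524232221201f1e1d1c1b1a191817161514131211100f0e0d0c0b0a09080706050403020100, 0x7c7d7b7a797877767574737271706f6e6d5c5b5a595857565554534d4c4b4a49206c6b6a696867666564635251504f4e6261605f5e4847464544434241403f3e3d3c3b3a39383736351f1e1d1c1b2f2e2d2c2b1a1918171615141312115d34333231302a292827262524232221100f0e0d0c0b0a09080706050403020001]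
def ordPar_E7_0 : List ℕ := [0]
def ordEc_E7_0 : List ℕ := [0x1f, 0xe]
def ordLam_E7_0 : List ℤ := [34, 49, 66, 96, 75, 52, 27]
def ordLV_E7_0 : ℕ := 0xa2a09e9c9a98969a98969496949292908e949290908e8c8e8c8a888c8a8886848292908e8e8c8a8c8a88868a888684828a88868482888684828684828482827e7e7c7e7c7a7e7c7a787e7c7a78767e7c7a78767a78767476747272706e7e7c7a78767478767472747270706e6c72706e6e6c6a6c6a68666a68666462605e
def ordSg_E7_0 : List ℕ := [0x82828282828282, 0x7e828482828282]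
def ordCn_E7_0 : List ℕ := [0, 1]

theorem ordTree_E7_0 : treeOK chevE7.nroots ordS_E7 [0] ordPm_E7_0 ordPar_E7_0 = true := by
  decide +kernel
theorem ordEdge_E7_0 : edgeOK chevE7 ordS_E7 [] [0] ordPm_E7_0 ordPar_E7_0 ordEc_E7_0 = true := by
  decide +kernel
theorem ordLevT_E7_0 : levTabOK chevE7 ordLam_E7_0 ordLV_E7_0 = true := by decide +kernel
theorem ordLev_E7_0 : levOK chevE7 ordS_E7 [] ordPm_E7_0 ordLV_E7_0 = true := by decide +kernel
theorem ordSig_E7_0 : sigOK chevE7 ordLV_E7_0 ordPm_E7_0 ordSg_E7_0 ordCn_E7_0 = true := by decide +kernel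

theorem ordStep_E7_0 : StepFacts chevE7 [] [0] ordPar_E7_0 ordCn_E7_0.length ∧
    LevFacts chevE7 [] ordPar_E7_0 ordCn_E7_0.length ordLam_E7_0 ordCn_E7_0 :=
  step_of_tables nfacts_E7 hnfacts_E7 rootTableOK_E7 posHalf_E7 (by decide)
    ordS_E7 [] [0] ordPm_E7_0 ordPar_E7_0 ordEc_E7_0 ordSg_E7_0 ordCn_E7_0 ordLam_E7_0 ordLV_E7_0
    ordS_E7_ok (by decide) (by decide) ordTree_E7_0 ordEdge_E7_0 ordLevT_E7_0 ordLev_E7_0 ordSig_E7_0

end Cfsg.Agent.Lib.Helper24
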