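import Cfsg.Agent.Lib.Helper24.OrdS_E7

set_option autoImplicit false
set_option maxRecDepth 100000

namespace Cfsg.Agent.Lib.Helper24

open Cfsg.Lie

def ordPm_E7_1 : List ℕ := [0x7d7c7b7a797877767574737271706f6e6d6c6b6a696867666564636261605f5e5d5c5b5a595857565554535251504f4e4d4c4b4a494847464544434241403f3e3d3c3b3a393837363534333231302f2e2d2c2b2a292827262524232221201f1e1d1c1b1a191817161514131211100f0e0d0c0b0a09080706050403020100, 0x7d7b7c7a797877767574736c6b6a6968677271706f6e6d666564636261605f5d5e5c5b5a5958575251504f565554534e48474645344d4c4b4a44434241403f3e3d3c3b3a393332313049383736352f2a2928272e2d2c2b2625242322211f201e1d1c1b1a191817100f0e0d0c0b1615141312110a09080706050403010200, 0x7b7d7c7a797877767574736c6b6a6968675c5b5a5958575251504f48474645341f7271706f6e6d66656463565554534e6261605f5d4d4c4b4a44434241403f3e3d3c3b3a3933323130201e1d1c1b2f2a2928271a191817100f0e0d0c0b5e49383736352e2d2c2b2625242322211615141312110a09080706050403010002]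
def ordPar_E7_1 : List ℕ := [2, 16]
def ordEc_E7_1 : List ℕ := [0x1001f, 0x2f000e, 0x1e0021]
def ordLam_E7_1 : List ℤ := [30, 45, 60, 88, 69, 48, 25]
def ordLV_E7_1 : ℕ := 0x9e9e9c9a98969498969492949290908e8c92908e8e8c8a8c8a88868a888684828092908e8e8c8a8c8a88868a888684828a88868482888684828684828482827e7e7c7e7c7a7e7c7a787e7c7a78767e7c7a78767a78767476747272706e807e7c7a78767a78767476747272706e747270706e6c6e6c6a686c6a6866646262
def ordSg_E7_1 : List ℕ := [0x80828282828282, 0x82827e84828282, 0x7e828084828282]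
def ordCn_E7_1 : List ℕ := [0, 1, 2]

theorem ordTree_E7_1 : treeOK chevE7.nroots ordS_E7 [2, 0] ordPm_E7_1 ordPar_E7_1 = true := by
  decide +kernel
theorem ordEdge_E7_1 : edgeOK chevE7 ordS_E7 [0] [2, 0] ordPm_E7_1 ordPar_E7_1 ordEc_E7_1 = true := by
  decide +kernel
theorem ordLevT_E7_1 : levTabOK chevE7 ordLam_E7_1 ordLV_E7_1 = true := by decide +kernel
theorem ordLev_E7_1 : levOK chevE7 ordS_E7 [0] ordPm_E7_1 ordLV_E7_1 = true := by decide +kernel
theorem ordSig_E7_1 : sigOK chevE7 ordLV_E7_1 ordPm_E7_1 ordSg_E7_1 ordCn_E7_1 = true := by decide +kernel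

theorem ordStep_E7_1 : StepFacts chevE7 [0] [2, 0] ordPar_E7_1 ordCn_E7_1.length ∧
    LevFacts chevE7 [0] ordPar_E7_1 ordCn_E7_1.length ordLam_E7_1 ordCn_E7_1 :=
  step_of_tables nfacts_E7 hnfacts_E7 rootTableOK_E7 posHalf_E7 (by decide)
    ordS_E7 [0] [2, 0] ordPm_E7_1 ordPar_E7_1 ordEc_E7_1 ordSg_E7_1 ordCn_E7_1 ordLam_E7_1 ordLV_E7_1
    ordS_E7_ok (by decide) (by decide) ordTree_E7_1 ordEdge_E7_1 ordLevT_E7_1 ordLev_E7_1 ordSig_E7_1

end Cfsg.Agent.Lib.Helper24
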