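import Cfsg.Agent.Lib.Helper24.OrdS_E7

set_option autoImplicit false
set_option maxRecDepth 100000

namespace Cfsg.Agent.Lib.Helper24

open Cfsg.Lie

def ordPm_E7_2 : List ℕ := [0x7d7c7b7a797877767574737271706f6e6d6c6b6a696867666564636261605f5e5d5c5b5a595857565554535251504f4e4d4c4b4a494847464544434241403f3e3d3c3b3a393837363534333231302f2e2d2c2b2a292827262524232221201f1e1d1c1b1a191817161514131211100f0e0d0c0b0a09080706050403020100, 0x7d7c7a7b797877767271707574736f6e6d6c6b6a666564696867636261605e5f5d5c5b5a565554595857535251504e4f4d4c4b494a4443423848474641403f3e3d3c373635453b3a3933343231302e2f2d2c2b2a262524292827232221201e1f1d1c1b1a161514191817131211100f0e0a09080d0c0b0706050402030100, 0x7d7a7c7b797877767271706c6b6a6665647574736f6e6d696867636261605e5d5f5c5b5a5655545251504e595857534f44434238334d4c4b4948474641403f3e3d3c373635343231304a453b3a392e2a2625242f2d2c2b2928272322211e201f1d1c1b1a161514100f0e0a09081918171312110d0c0b0706050402010300, 0x7a7d7c7b797877767271706c6b6a6665645c5b5a5655545251504e44434238331e7574736f6e6d69686763595857534f6261605e5d4d4c4b4948474641403f3e3d3c37363534323130201f1d1c1b2e2a2625241a161514100f0e0a09085f4a453b3a392f2d2c2b2928272322211918171312110d0c0b0706050402010003]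
def ordPar_E7_2 : List ℕ := [3, 18, 32]
def ordEc_E7_2 : List ℕ := [0x10003001f, 0x11002f000e, 0x3f001e0023, 0x2e00310033]
def ordLam_E7_2 : List ℤ := [24, 37, 48, 72, 57, 40, 21]
def ordLV_E7_2 : ℕ := 0x989898969492909492908e908e8c8c8a88908e8c8c8a888a888684888684828080908e8c8c8a888a8886848a888684828886848280888684828684828482827e7e7c7e7c7a7e7c7a78807e7c7a787e7c7a78767c7a787678767474727080807e7c7a787c7a787678767474727078767474727072706e6c706e6c6a686868
def ordSg_E7_2 : List ℕ := [0x80828082828282, 0x8084827e848282, 0x82847e80848282, 0x7e848080848282]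
def ordCn_E7_2 : List ℕ := [0, 1, 2, 3]

theorem ordTree_E7_2 : treeOK chevE7.nroots ordS_E7 [3, 2, 0] ordPm_E7_2 ordPar_E7_2 = true := by
  decide +kernel
theorem ordEdge_E7_2 : edgeOK chevE7 ordS_E7 [2, 0] [3, 2, 0] ordPm_E7_2 ordPar_E7_2 ordEc_E7_2 = true := by
  decide +kernel
theorem ordLevT_E7_2 : levTabOK chevE7 ordLam_E7_2 ordLV_E7_2 = true := by decide +kernel
theorem ordLev_E7_2 : levOK chevE7 ordS_E7 [2, 0] ordPm_E7_2 ordLV_E7_2 = true := by decide +kernel
theorem ordSig_E7_2 : sigOK chevE7 ordLV_E7_2 ordPm_E7_2 ordSg_E7_2 ordCn_E7_2 = true := by decide +kernel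

theorem ordStep_E7_2 : StepFacts chevE7 [2, 0] [3, 2, 0] ordPar_E7_2 ordCn_E7_2.length ∧
    LevFacts chevE7 [2, 0] ordPar_E7_2 ordCn_E7_2.length ordLam_E7_2 ordCn_E7_2 :=
  step_of_tables nfacts_E7 hnfacts_E7 rootTableOK_E7 posHalf_E7 (by decide)
    ordS_E7 [2, 0] [3, 2, 0] ordPm_E7_2 ordPar_E7_2 ordEc_E7_2 ordSg_E7_2 ordCn_E7_2 ordLam_E7_2 ordLV_E7_2
    ordS_E7_ok (by decide) (by decide) ordTree_E7_2 ordEdge_E7_2 ordLevT_E7_2 ordLev_E7_2 ordSig_E7_2

end Cfsg.Agent.Lib.Helper24
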