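import Cfsg.Agent.Lib.Helper24.OrdS_E7

set_option autoImplicit false
set_option maxRecDepth 100000

namespace Cfsg.Agent.Lib.Helper24

open Cfsg.Lie

def ordPm_E7_3 : List ℕ := [0x7d7c7b7a797877767574737271706f6e6d6c6b6a696867666564636261605f5e5d5c5b5a595857565554535251504f4e4d4c4b4a494847464544434241403f3e3d3c3b3a393837363534333231302f2e2d2c2b2a292827262524232221201f1e1d1c1b1a191817161514131211100f0e0d0c0b0a09080706050403020100, 0x7d7c7b767574737a7978777271706f6e6d6c6b6a6968676261605f666564635e5d5c5b5a5958574d4c4b4a484746452f56555453495251504f44434241403f3e3d3c3b3a392e2d2c2b342a2928274e3837363533323130262524232221201f1a1918171e1d1c1b161514131211100f0e0d0c0b060504030a090807020100, 0x7d7c767b7574737a7271707978776f6e6d6c6b6a6261606968675f6665645e635d5c5b5a4d4c4b5958574a4847462f4556555449534443422e52515041403f3e3d3c2d2c2b4f3b3a392a34292827384e37363533262524323130232221201a1f1918171e1615141d1c1b131211100f0e0605040d0c0b030a090802070100, 0x7d767c7b7574737a7271706c6b6a6261607978776f6e6d6968675f6665645e5d635c5b5a4d4c4b4847462f5958574a454443422e2a5655544952515041403f3e3d3c2d2c2b34292827534f3b3a3938332625244e3736353231302322211a201f1918171e161514100f0e0605041d1c1b1312110d0c0b030a090802010700,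 0x767d7c7b7574737a7271706c6b6a6261605c5b5a4d4c4b4847462f4443422e2a1a7978776f6e6d6968675f5958574a456665645e5d5655544952515041403f3e3d3c2d2c2b34292827201f19181738332625241e161514100f0e06050463534f3b3a394e3736353231302322211d1c1b1312110d0c0b030a090802010007]
def ordPar_E7_3 : List ℕ := [1, 19, 34, 48]
def ordEc_E7_3 : List ℕ := [0x100030004001f, 0x110013002f000e, 0x21003f001e0024, 0x4f002e00330034, 0x3e004100430044]
def ordLam_E7_3 : List ℤ := [16, 25, 32, 48, 39, 28, 15]
def ordLV_E7_3 : ℕ := 0x909090908e8c8a8e8c8a888c8a888886848c8a88888684888684828684828080808c8a888886848886848288868482828684828080868482808684828482827e7e7c7e7c7a807e7c7a80807e7c7a7e7e7c7a787e7c7a787c7a787876748080807e7c7a7e7c7a787c7a787876747c7a787876747876747276747270707070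
def ordSg_E7_3 : List ℕ := [0x80828080828282, 0x807e8082828282, 0x8080827e848282, 0x82807e80848282, 0x7e808080848282]
def ordCn_E7_3 : List ℕ := [0, 1, 2, 3, 4]

theorem ordTree_E7_3 : treeOK chevE7.nroots ordS_E7 [1, 3, 2, 0] ordPm_E7_3 ordPar_E7_3 = true := by
  decide +kernel
theorem ordEdge_E7_3 : edgeOK chevE7 ordS_E7 [3, 2, 0] [1, 3, 2, 0] ordPm_E7_3 ordPar_E7_3 ordEc_E7_3 = true := by
  decide +kernel
theorem ordLevT_E7_3 : levTabOK chevE7 ordLam_E7_3 ordLV_E7_3 = true := by decide +kernel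
theorem ordLev_E7_3 : levOK chevE7 ordS_E7 [3, 2, 0] ordPm_E7_3 ordLV_E7_3 = true := by decide +kernel
theorem ordSig_E7_3 : sigOK chevE7 ordLV_E7_3 ordPm_E7_3 ordSg_E7_3 ordCn_E7_3 = true := by decide +kernel

theorem ordStep_E7_3 : StepFacts chevE7 [3, 2, 0] [1, 3, 2, 0] ordPar_E7_3 ordCn_E7_3.length ∧
    LevFacts chevE7 [3, 2, 0] ordPar_E7_3 ordCn_E7_3.length ordLam_E7_3 ordCn_E7_3 :=
  step_of_tables nfacts_E7 hnfacts_E7 rootTableOK_E7 posHalf_E7 (by decide)
    ordS_E7 [3, 2, 0] [1, 3, 2, 0] ordPm_E7_3 ordPar_E7_3 ordEc_E7_3 ordSg_E7_3 ordCn_E7_3 ordLam_E7_3 ordLV_E7_3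
    ordS_E7_ok (by decide) (by decide) ordTree_E7_3 ordEdge_E7_3 ordLevT_E7_3 ordLev_E7_3 ordSig_E7_3

end Cfsg.Agent.Lib.Helper24
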