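import Cfsg.Agent.Lib.Helper24.OrdS_E8

set_option autoImplicit false
set_option maxRecDepth 100000

namespace Cfsg.Agent.Lib.Helper24

open Cfsg.Lie

def ordPm_E8_0 : List ℕ := [0xefeeedecebeae9e8e7e6e5e4e3e2e1e0dfdedddcdbdad9d8d7d6d5d4d3d2d1d0cfcecdcccbcac9c8c7c6c5c4c3c2c1c0bfbebdbcbbbab9b8b7b6b5b4b3b2b1b0afaeadacabaaa9a8a7a6a5a4a3a2a1a09f9e9d9c9b9a999897969594939291908f8e8d8c8b8a898887868584838281807f7e7d7c7b7a797877767574737271706f6e6d6c6b6a696867666564636261605f5e5d5c5b5a595857565554535251504f4e4d4c4b4a494847464544434241403f3e3d3c3b3a393837363534333231302f2e2d2c2b2a292827262524232221201f1e1d1c1b1a191817161514131211100f0e0d0c0b0a09080706050403020100, 0xefeeedecebeae1e8e0dfdedddcdbe9e7e6e5e4e3e2dad9d8d7d6d5d4d3d2d1d0cfcecdcccbcac9c8c7c6c5c4c3c2c1c0bfbebdbcbbbab9b8a1a09f9e9d9c9b9a999897969594938c8b8a8988874db7b6b5b4b3b2b1b0afaeadacabaaa99291908f8e8da8a7a6a5a4a3868584838281807f7e7d7c7b7a797877767574737271706f6e6d6c6b6a694c4b4a4948476261605f5e5d464544434241403f3e3d3c3b3a3938a26867666564635c5b5a595857565554535251504f4e37363534333231302f2e2d2c2b2a292827262524232221201f1e1d1c1b1a19181716150d0c0b0a09080614131211100f070e050403020100]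
def ordPar_E8_0 : List ℕ := [0]
def ordEc_E8_0 : List ℕ := [0x1f, 0xe]
def ordLam_E8_0 : List ℤ := [46, 68, 91, 135, 110, 84, 57, 29]
def ordLV_E8_0 : ℕ := 0x9d9c9b9a9998979796959493929196959493929190939291908f91908f8e8f8e8d8d8c8b908f8e8d8e8d8c8c8b8a8d8c8b8b8a898a8988878c8b8a8a8988898887868887868584878685848382818b8a898988878887868587868584838685848382818685848382818584838281848382818382818281817f7f7e7f7e7d7f7e7d7c7f7e7d7c7b7f7e7d7c7b7a7f7e7d7c7b7a7d7c7b7a797b7a79787978777776757f7e7d7c7b7a797c7b7a79787a79787778777676757479787776777675757473767574747372737271707574737372717271706f71706f6e6d706f6e6d6c6b6a6f6e6d6c6b6a6969686766656463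
def ordSg_E8_0 : List ℕ := [0x8181818181818181, 0x7f81828181818181]
def ordCn_E8_0 : List ℕ := [0, 1]

theorem ordTree_E8_0 : treeOK chevE8.nroots ordS_E8 [0] ordPm_E8_0 ordPar_E8_0 = true := by
  decide +kernel
theorem ordEdge_E8_0 : edgeOK chevE8 ordS_E8 [] [0] ordPm_E8_0 ordPar_E8_0 ordEc_E8_0 = true := by
  decide +kernel
theorem ordLevT_E8_0 : levTabOK chevE8 ordLam_E8_0 ordLV_E8_0 = true := by decide +kernel
theorem ordLev_E8_0 : levOK chevE8 ordS_E8 [] ordPm_E8_0 ordLV_E8_0 = true := by decide +kernel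
theorem ordSig_E8_0 : sigOK chevE8 ordLV_E8_0 ordPm_E8_0 ordSg_E8_0 ordCn_E8_0 = true := by decide +kernel

theorem ordStep_E8_0 : StepFacts chevE8 [] [0] ordPar_E8_0 ordCn_E8_0.length ∧
    LevFacts chevE8 [] ordPar_E8_0 ordCn_E8_0.length ordLam_E8_0 ordCn_E8_0 :=
  step_of_tables nfacts_E8 hnfacts_E8 rootTableOK_E8 posHalf_E8 (by decide)
    ordS_E8 [] [0] ordPm_E8_0 ordPar_E8_0 ordEc_E8_0 ordSg_E8_0 ordCn_E8_0 ordLam_E8_0 ordLV_E8_0
    ordS_E8_ok (by decide) (by decide) ordTree_E8_0 ordEdge_E8_0 ordLevT_E8_0 ordLev_E8_0 ordSig_E8_0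

end Cfsg.Agent.Lib.Helper24
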