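import Cfsg.Agent.Lib.Helper24.OrdS_E8
import Cfsg.Agent.Lib.Helper24.OrdT_E8_0

set_option autoImplicit false
set_option maxRecDepth 100000

namespace Cfsg.Agent.Lib.Helper24

open Cfsg.Lie

def ordPm_E8_1 : List ℕ := [0xefeeedecebeae9e8e7e6e5e4e3e2e1e0dfdedddcdbdad9d8d7d6d5d4d3d2d1d0cfcecdcccbcac9c8c7c6c5c4c3c2c1c0bfbebdbcbbbab9b8b7b6b5b4b3b2b1b0afaeadacabaaa9a8a7a6a5a4a3a2a1a09f9e9d9c9b9a999897969594939291908f8e8d8c8b8a898887868584838281807f7e7d7c7b7a797877767574737271706f6e6d6c6b6a696867666564636261605f5e5d5c5b5a595857565554535251504f4e4d4c4b4a494847464544434241403f3e3d3c3b3a393837363534333231302f2e2d2c2b2a292827262524232221201f1e1d1c1b1a191817161514131211100f0e0d0c0b0a09080706050403020100, 0xefeeedecebe9eae7e8e6e5e4e3e2e1e0dad9d8d7d6dfdedddcdbd5d4d3d2d1d0cfcecdcccbcac9c8c7c6c5c4c3c2b7b6b5b4b3b2b1b0afaec1c0bfbebdbcbbbab9b8adacabaaa9a8a7a6a5a4a2a3a1a09f9e9d9c9b9a99989291908f8e97969594938d8685848382688c8b8a898881807f7e7d7c7b7a797877767574737271706f6e6766656463876d6c6b6a69625c5b5a595861605f5e5d57565554535251504f4e4c4d4b4a494847464544434237363534333231302f2e41403f3e3d3c3b3a39382d2c2b2a292827262524232221201f1e1d1c1b1a141312111019181716150f0e0d0c0b0a09070805060403020100,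 0xefeeedecebe9e1e7e0dad9d8d7d6eae8e6e5e4e3e2dfdedddcdbd5d4d3d2d1d0cfcecdcccbcac9c8c7c6c5c4c3c2b7b6b5b4b3b2b1b0afaea1a09f9e9d9c9b9a99989291908f8e8685848382684cc1c0bfbebdbcbbbab9b8adacabaaa997969594938da8a7a6a5a4a28c8b8a898881807f7e7d7c7b7a797877767574737271706f6e67666564634d4b4a494847625c5b5a5958464544434237363534333231302f2ea3876d6c6b6a6961605f5e5d57565554535251504f4e41403f3e3d3c3b3a39382d2c2b2a292827262524232221201f1e1d1c1b1a14131211100d0c0b0a09070519181716150f080e060403020100]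
def ordPar_E8_1 : List ℕ := [2, 16]
def ordEc_E8_1 : List ℕ := [0x1001f, 0x2f000e, 0x1e0021]
def ordLam_E8_1 : List ℤ := [42, 63, 84, 125, 102, 78, 53, 27]
def ordLV_E8_1 : ℕ := 0x9b9a99989796959594939291908f9594939291908f9291908f8e908f8e8d8e8d8c8c8b8a8f8e8d8c8d8c8b8b8a898c8b8a8a8988898887868b8a89898887888786858786858483868584838281808b8a898988878887868587868584838685848382818685848382818584838281848382818382818281817f7f7e7f7e7d7f7e7d7c7f7e7d7c7b7f7e7d7c7b7a7f7e7d7c7b7a7d7c7b7a797b7a7978797877777675807f7e7d7c7b7a7d7c7b7a797b7a79787978777776757a79787778777676757477767575747374737271767574747372737271707271706f6e71706f6e6d6c6b71706f6e6d6c6b6b6a6968676665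
def ordSg_E8_1 : List ℕ := [0x8081818181818181, 0x81817f8281818181, 0x7f81808281818181]
def ordCn_E8_1 : List ℕ := [0, 1, 2]

theorem ordTree_E8_1 : treeOK chevE8.nroots ordS_E8 [2, 0] ordPm_E8_1 ordPar_E8_1 = true := by
  decide +kernel
theorem ordEdge_E8_1 : edgeOK chevE8 ordS_E8 [0] [2, 0] ordPm_E8_1 ordPar_E8_1 ordEc_E8_1 = true := by
  decide +kernel
theorem ordLevT_E8_1 : levTabOK chevE8 ordLam_E8_1 ordLV_E8_1 = true := by decide +kernel
theorem ordLev_E8_1 : levOK chevE8 ordS_E8 [0] ordPm_E8_1 ordLV_E8_1 = true := by decide +kernel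
theorem ordSig_E8_1 : sigOK chevE8 ordLV_E8_1 ordPm_E8_1 ordSg_E8_1 ordCn_E8_1 = true := by decide +kernel

theorem ordStep_E8_1 : StepFacts chevE8 [0] [2, 0] ordPar_E8_1 ordCn_E8_1.length ∧
    LevFacts chevE8 [0] ordPar_E8_1 ordCn_E8_1.length ordLam_E8_1 ordCn_E8_1 :=
  step_of_tables nfacts_E8 hnfacts_E8 rootTableOK_E8 posHalf_E8 (by decide)
    ordS_E8 [0] [2, 0] ordPm_E8_1 ordPar_E8_1 ordEc_E8_1 ordSg_E8_1 ordCn_E8_1 ordLam_E8_1 ordLV_E8_1
    ordS_E8_ok (by decide) (by decide) ordTree_E8_1 ordEdge_E8_1 ordLevT_E8_1 ordLev_E8_1 ordSig_E8_1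

end Cfsg.Agent.Lib.Helper24
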