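import Cfsg.Agent.Lib.Helper24.OrdS_E8
import Cfsg.Agent.Lib.Helper24.OrdT_E8_1

set_option autoImplicit false
set_option maxRecDepth 100000

namespace Cfsg.Agent.Lib.Helper24

open Cfsg.Lie

def ordPm_E8_2 : List ℕ := [0xefeeedecebeae9e8e7e6e5e4e3e2e1e0dfdedddcdbdad9d8d7d6d5d4d3d2d1d0cfcecdcccbcac9c8c7c6c5c4c3c2c1c0bfbebdbcbbbab9b8b7b6b5b4b3b2b1b0afaeadacabaaa9a8a7a6a5a4a3a2a1a09f9e9d9c9b9a999897969594939291908f8e8d8c8b8a898887868584838281807f7e7d7c7b7a797877767574737271706f6e6d6c6b6a696867666564636261605f5e5d5c5b5a595857565554535251504f4e4d4c4b4a494847464544434241403f3e3d3c3b3a393837363534333231302f2e2d2c2b2a292827262524232221201f1e1d1c1b1a191817161514131211100f0e0d0c0b0a09080706050403020100, 0xefeeedeceaebe9e8e6e7e5e4e3e2e1dfe0dedddcdbdad5d4d3d2d9d8d7d6d1d0cfcecdcccbcac9c8c1c0bfbebdbcc7c6c5c4c3c2bbbab9b8b7b6b5b4b3b2adacabaab1b0afaea9a8a7a6a5a3a4a2a1a09f9e9d9c979695949b9a9998939291908f8d8e8c8b8a89878881807f7e6d868584837d7c7b7a79787776757473726c6b6a698271706f6e6768666564636162605f5e5d5c575655545b5a5958535251504f4e4d4b4c4a4948474641403f3e454443423d3c3b3a3938373635342d2c2b2a2928333231302f2e27262524232221201f1e191817161d1c1b1a15141312110f100e0d0c0b0a08090706040503020100,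 0xefeeedeceae9ebe6e8e7e5e4e3e2e1dfdad5d4d3d2e0dedddcdbd9d8d7d6d1d0cfcecdcccbcac9c8c1c0bfbebdbcb7b6b5b4b3b2adacabaac7c6c5c4c3c2bbbab9b8b1b0afaea9a8a7a6a5a3a2a4a1a09f9e9d9c979695949291908f8d9b9a9998938e81807f7e6d678c8b8a8987868584837d7c7b7a79787776757473726c6b6a696866656463888271706f6e615c5756555462605f5e5d5b5a5958535251504f4e4b4d4c4a4948474641403f3e373635342d2c2b2a2928454443423d3c3b3a3938333231302f2e27262524232221201f1e19181716141312110f1d1c1b1a15100e0d0c0b0a08070904060503020100, 0xefeeedeceae9e1e6dfdad5d4d3d2ebe8e7e5e4e3e2e0dedddcdbd9d8d7d6d1d0cfcecdcccbcac9c8c1c0bfbebdbcb7b6b5b4b3b2adacabaaa1a09f9e9d9c979695949291908f8d81807f7e6d674bc7c6c5c4c3c2bbbab9b8b1b0afaea99b9a9998938ea8a7a6a5a3a28c8b8a8987868584837d7c7b7a79787776757473726c6b6a6968666564634d4c4a494847615c575655544641403f3e373635342d2c2b2a2928a4888271706f6e62605f5e5d5b5a5958535251504f4e454443423d3c3b3a3938333231302f2e27262524232221201f1e19181716141312110f0d0c0b0a0807041d1c1b1a1510090e060503020100]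
def ordPar_E8_2 : List ℕ := [3, 18, 32]
def ordEc_E8_2 : List ℕ := [0x10003001f, 0x11002f000e, 0x3f001e0023, 0x2e00310033]
def ordLam_E8_2 : List ℤ := [35, 53, 70, 105, 86, 66, 45, 23]
def ordLV_E8_2 : ℕ := 0x979695949392929191908f8e8d8c9291908f8e8d8c908f8e8d8c8e8d8c8b8c8b8a8a89888d8c8b8a8b8a898988878a8988888786878685848a8988888786878685848685848382858483828180808a89888887868786858486858483828685848382818584838281808584838281848382818382818281817f7f7e7f7e7d7f7e7d7c7f7e7d7c7b807f7e7d7c7b7f7e7d7c7b7a7e7d7c7b7a7c7b7a797a797878777680807f7e7d7c7b7e7d7c7b7a7c7b7a797a79787877767c7b7a797a79787877767978777776757675747378777676757475747372747372717074737271706f6e74737271706f6f6e6e6d6c6b6a69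
def ordSg_E8_2 : List ℕ := [0x8081808181818181, 0x8082817f82818181, 0x81827f8082818181, 0x7f82808082818181]
def ordCn_E8_2 : List ℕ := [0, 1, 2, 3]

theorem ordTree_E8_2 : treeOK chevE8.nroots ordS_E8 [3, 2, 0] ordPm_E8_2 ordPar_E8_2 = true := by
  decide +kernel
theorem ordEdge_E8_2 : edgeOK chevE8 ordS_E8 [2, 0] [3, 2, 0] ordPm_E8_2 ordPar_E8_2 ordEc_E8_2 = true := by
  decide +kernel
theorem ordLevT_E8_2 : levTabOK chevE8 ordLam_E8_2 ordLV_E8_2 = true := by decide +kernel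
theorem ordLev_E8_2 : levOK chevE8 ordS_E8 [2, 0] ordPm_E8_2 ordLV_E8_2 = true := by decide +kernel
theorem ordSig_E8_2 : sigOK chevE8 ordLV_E8_2 ordPm_E8_2 ordSg_E8_2 ordCn_E8_2 = true := by decide +kernel

theorem ordStep_E8_2 : StepFacts chevE8 [2, 0] [3, 2, 0] ordPar_E8_2 ordCn_E8_2.length ∧
    LevFacts chevE8 [2, 0] ordPar_E8_2 ordCn_E8_2.length ordLam_E8_2 ordCn_E8_2 :=
  step_of_tables nfacts_E8 hnfacts_E8 rootTableOK_E8 posHalf_E8 (by decide)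
    ordS_E8 [2, 0] [3, 2, 0] ordPm_E8_2 ordPar_E8_2 ordEc_E8_2 ordSg_E8_2 ordCn_E8_2 ordLam_E8_2 ordLV_E8_2
    ordS_E8_ok (by decide) (by decide) ordTree_E8_2 ordEdge_E8_2 ordLevT_E8_2 ordLev_E8_2 ordSig_E8_2

end Cfsg.Agent.Lib.Helper24
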