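import Cfsg.Agent.Lib.Helper24.OrdS_F4

set_option autoImplicit false
set_option maxRecDepth 100000

namespace Cfsg.Agent.Lib.Helper24

open Cfsg.Lie

def ordPm_F4_0 : List ℕ := [0x2f2e2d2c2b2a292827262524232221201f1e1d1c1b1a191817161514131211100f0e0d0c0b0a09080706050403020100, 0x2f2e2d28201f1e2c2726251d1c1b0e2b2a292423221a19181716150d0c0b060504211413120a09080311100f07020100]
def ordPar_F4_0 : List ℕ := [0]
def ordEc_F4_0 : List ℕ := [0x1f, 0xe]
def ordLam_F4_0 : List ℤ := [8, 15, 21, 11]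
def ordLV_F4_0 : ℕ := 0x8b8a898887868587868584848382818584838382818281817f7f7e7f7e7d7d7c7b7f7e7d7c7c7b7a797b7a7978777675
def ordSg_F4_0 : List ℕ := [0x81818181, 0x7f828181]
def ordCn_F4_0 : List ℕ := [0, 1]

theorem ordTree_F4_0 : treeOK chevF4.nroots ordS_F4 [0] ordPm_F4_0 ordPar_F4_0 = true := by
  decide +kernel
theorem ordEdge_F4_0 : edgeOK chevF4 ordS_F4 [] [0] ordPm_F4_0 ordPar_F4_0 ordEc_F4_0 = true := by
  decide +kernel
theorem ordLevT_F4_0 : levTabOK chevF4 ordLam_F4_0 ordLV_F4_0 = true := by decide +kernel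
theorem ordLev_F4_0 : levOK chevF4 ordS_F4 [] ordPm_F4_0 ordLV_F4_0 = true := by decide +kernel
theorem ordSig_F4_0 : sigOK chevF4 ordLV_F4_0 ordPm_F4_0 ordSg_F4_0 ordCn_F4_0 = true := by decide +kernel

theorem ordStep_F4_0 : StepFacts chevF4 [] [0] ordPar_F4_0 ordCn_F4_0.length ∧
    LevFacts chevF4 [] ordPar_F4_0 ordCn_F4_0.length ordLam_F4_0 ordCn_F4_0 :=
  step_of_tables nfacts_F4 hnfacts_F4 rootTableOK_F4 posHalf_F4 (by decide)
    ordS_F4 [] [0] ordPm_F4_0 ordPar_F4_0 ordEc_F4_0 ordSg_F4_0 ordCn_F4_0 ordLam_F4_0 ordLV_F4_0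
    ordS_F4_ok (by decide) (by decide) ordTree_F4_0 ordEdge_F4_0 ordLevT_F4_0 ordLev_F4_0 ordSig_F4_0

end Cfsg.Agent.Lib.Helper24
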