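import Cfsg.Agent.Lib.Helper24.OrdS_F4

set_option autoImplicit false
set_option maxRecDepth 100000

namespace Cfsg.Agent.Lib.Helper24

open Cfsg.Lie

def ordPm_F4_1 : List ℕ := [0x2f2e2d2c2b2a292827262524232221201f1e1d1c1b1a191817161514131211100f0e0d0c0b0a09080706050403020100, 0x2f2e2b2c2d2a292728242326252122201a191d1c141f1e181711101b131216150f0d0e0a090c0b070806050203040100, 0x2f2e2b27201a192c2824231d1c140d2d2a292625211f1e181711100e0a09060502221b13120c0b070316150f08040100]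
def ordPar_F4_1 : List ℕ := [1, 16]
def ordEc_F4_1 : List ℕ := [0x1001f, 0x2f000e, 0x1e0021]
def ordLam_F4_1 : List ℤ := [6, 12, 17, 9]
def ordLV_F4_1 : ℕ := 0x8988878685848386858483838281808584838382818281817f7f7e7f7e7d7d7c7b807f7e7d7d7c7b7a7d7c7b7a797877
def ordSg_F4_1 : List ℕ := [0x80818181, 0x817f8381, 0x7f808381]
def ordCn_F4_1 : List ℕ := [0, 1, 2]

theorem ordTree_F4_1 : treeOK chevF4.nroots ordS_F4 [1, 0] ordPm_F4_1 ordPar_F4_1 = true := by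
  decide +kernel
theorem ordEdge_F4_1 : edgeOK chevF4 ordS_F4 [0] [1, 0] ordPm_F4_1 ordPar_F4_1 ordEc_F4_1 = true := by
  decide +kernel
theorem ordLevT_F4_1 : levTabOK chevF4 ordLam_F4_1 ordLV_F4_1 = true := by decide +kernel
theorem ordLev_F4_1 : levOK chevF4 ordS_F4 [0] ordPm_F4_1 ordLV_F4_1 = true := by decide +kernel
theorem ordSig_F4_1 : sigOK chevF4 ordLV_F4_1 ordPm_F4_1 ordSg_F4_1 ordCn_F4_1 = true := by decide +kernel

theorem ordStep_F4_1 : StepFacts chevF4 [0] [1, 0] ordPar_F4_1 ordCn_F4_1.length ∧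
    LevFacts chevF4 [0] ordPar_F4_1 ordCn_F4_1.length ordLam_F4_1 ordCn_F4_1 :=
  step_of_tables nfacts_F4 hnfacts_F4 rootTableOK_F4 posHalf_F4 (by decide)
    ordS_F4 [0] [1, 0] ordPm_F4_1 ordPar_F4_1 ordEc_F4_1 ordSg_F4_1 ordCn_F4_1 ordLam_F4_1 ordLV_F4_1
    ordS_F4_ok (by decide) (by decide) ordTree_F4_1 ordEdge_F4_1 ordLevT_F4_1 ordLev_F4_1 ordSig_F4_1

end Cfsg.Agent.Lib.Helper24
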