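import Cfsg.Agent.Lib.Helper24.OrdS_F4

set_option autoImplicit false
set_option maxRecDepth 100000

namespace Cfsg.Agent.Lib.Helper24

open Cfsg.Lie

def ordPm_F4_2 : List ℕ := [0x2f2e2d2c2b2a292827262524232221201f1e1d1c1b1a191817161514131211100f0e0d0c0b0a09080706050403020100, 0x2f2d2e2c2a2b2928262725242223211f201e1d1b1c18161a151917131412110f100e0c0d0b0a08090706040503010200, 0x2f2d2a2c2e2b2926282422272521231f18161d1b13201e1a15110f1c14121917100c0e0a080d0b070906040103050200, 0x2f2d2a261f18162c2824221d1b130c2e2b29272521201e1a15110f0e0a08060401231c14120d0b070319171009050200, 0x2f2a2d2c2b2e292624282227212523181f161d131b1a11200f1e15141c121910170c0a0e080d070b0906010403020500, 0x2f2a2d26181f162c2428221d131b0c2b2e292721251a11200f1e150a0e0806010423141c120d070b0319101709020500, 0x2f2a18262d1f16242c1d1328220c1b2b1a1127210a2e29200f0601250e081e150414230d071c12030b19100209170500, 0x2f182a261f2d16241d2c13280c221b1a2b11270a2120062e01290f0e25081e0415140d23071c03120b19021009051700]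
def ordPar_F4_2 : List ℕ := [2, 17, 32, 34, 50, 81, 98]
def ordEc_F4_2 : List ℕ := [0x10002001f, 0x11002f000e, 0x3f001e004f, 0x2e0031005f, 0x500042002e, 0x40006f003e, 0x62005e007f, 0x720071006e]
def ordLam_F4_2 : List ℤ := [3, 6, 9, 5]
def ordLV_F4_2 : ℕ := 0x8584838383828183838281828180808382818281808281817f7f7e807f7e7f7e7d80807f7e7f7e7d7d7f7e7d7d7d7c7b
def ordSg_F4_2 : List ℕ := [0x80808181, 0x80817f82, 0x817f8182, 0x7f808182, 0x81807f83, 0x7f817f83, 0x807f8183, 0x80807f84]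
def ordCn_F4_2 : List ℕ := [0, 1, 2, 3, 3, 4, 5, 6]

theorem ordTree_F4_2 : treeOK chevF4.nroots ordS_F4 [2, 1, 0] ordPm_F4_2 ordPar_F4_2 = true := by
  decide +kernel
theorem ordEdge_F4_2 : edgeOK chevF4 ordS_F4 [1, 0] [2, 1, 0] ordPm_F4_2 ordPar_F4_2 ordEc_F4_2 = true := by
  decide +kernel
theorem ordLevT_F4_2 : levTabOK chevF4 ordLam_F4_2 ordLV_F4_2 = true := by decide +kernel
theorem ordLev_F4_2 : levOK chevF4 ordS_F4 [1, 0] ordPm_F4_2 ordLV_F4_2 = true := by decide +kernel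
theorem ordSig_F4_2 : sigOK chevF4 ordLV_F4_2 ordPm_F4_2 ordSg_F4_2 ordCn_F4_2 = true := by decide +kernel

theorem ordStep_F4_2 : StepFacts chevF4 [1, 0] [2, 1, 0] ordPar_F4_2 ordCn_F4_2.length ∧
    LevFacts chevF4 [1, 0] ordPar_F4_2 ordCn_F4_2.length ordLam_F4_2 ordCn_F4_2 :=
  step_of_tables nfacts_F4 hnfacts_F4 rootTableOK_F4 posHalf_F4 (by decide)
    ordS_F4 [1, 0] [2, 1, 0] ordPm_F4_2 ordPar_F4_2 ordEc_F4_2 ordSg_F4_2 ordCn_F4_2 ordLam_F4_2 ordLV_F4_2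
    ordS_F4_ok (by decide) (by decide) ordTree_F4_2 ordEdge_F4_2 ordLevT_F4_2 ordLev_F4_2 ordSig_F4_2

end Cfsg.Agent.Lib.Helper24
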