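import Cfsg.Agent.Lib.Helper24.OrdS_G2

set_option autoImplicit false
set_option maxRecDepth 100000

namespace Cfsg.Agent.Lib.Helper24

open Cfsg.Lie

def ordPm_G2_0 : List ℕ := [0xb0a09080706050403020100, 0xb060809040a010702030500]
def ordPar_G2_0 : List ℕ := [0]
def ordEc_G2_0 : List ℕ := [0x1f, 0xe]
def ordLam_G2_0 : List ℤ := [3, 5]
def ordLV_G2_0 : ℕ := 0x8584838281817f7f7e7d7c7b
def ordSg_G2_0 : List ℕ := [0x8181, 0x7f84]
def ordCn_G2_0 : List ℕ := [0, 1]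

theorem ordTree_G2_0 : treeOK chevG2.nroots ordS_G2 [0] ordPm_G2_0 ordPar_G2_0 = true := by
  decide +kernel
theorem ordEdge_G2_0 : edgeOK chevG2 ordS_G2 [] [0] ordPm_G2_0 ordPar_G2_0 ordEc_G2_0 = true := by
  decide +kernel
theorem ordLevT_G2_0 : levTabOK chevG2 ordLam_G2_0 ordLV_G2_0 = true := by decide +kernel
theorem ordLev_G2_0 : levOK chevG2 ordS_G2 [] ordPm_G2_0 ordLV_G2_0 = true := by decide +kernel
theorem ordSig_G2_0 : sigOK chevG2 ordLV_G2_0 ordPm_G2_0 ordSg_G2_0 ordCn_G2_0 = true := by decide +kernel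

theorem ordStep_G2_0 : StepFacts chevG2 [] [0] ordPar_G2_0 ordCn_G2_0.length ∧
    LevFacts chevG2 [] ordPar_G2_0 ordCn_G2_0.length ordLam_G2_0 ordCn_G2_0 :=
  step_of_tables nfacts_G2 hnfacts_G2 rootTableOK_G2 posHalf_G2 (by decide)
    ordS_G2 [] [0] ordPm_G2_0 ordPar_G2_0 ordEc_G2_0 ordSg_G2_0 ordCn_G2_0 ordLam_G2_0 ordLV_G2_0
    ordS_G2_ok (by decide) (by decide) ordTree_G2_0 ordEdge_G2_0 ordLevT_G2_0 ordLev_G2_0 ordSig_G2_0

end Cfsg.Agent.Lib.Helper24
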