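import Cfsg.Agent.Lib.Helper24.OrdS_G2

set_option autoImplicit false
set_option maxRecDepth 100000

namespace Cfsg.Agent.Lib.Helper24

open Cfsg.Lie

def ordPm_G2_1 : List ℕ := [0xb0a09080706050403020100, 0xa0b09070805060304020001, 0xa050709030b000802040601, 0x50a070309000b0208040106, 0x5000307020a010904080b06, 0x5030207010a040908060b]
def ordPar_G2_1 : List ℕ := [1, 16, 33, 48, 65]
def ordEc_G2_1 : List ℕ := [0x1001f, 0x2f000e, 0x1e003f, 0x4f002e, 0x3e005f, 0x51004e]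
def ordLam_G2_1 : List ℤ := [1, 2]
def ordLV_G2_1 : ℕ := 0x8281818180817f807f7f7f7e
def ordSg_G2_1 : List ℕ := [0x8081, 0x817f, 0x7f82, 0x817e, 0x7f81, 0x807f]
def ordCn_G2_1 : List ℕ := [0, 1, 2, 3, 4, 5]

theorem ordTree_G2_1 : treeOK chevG2.nroots ordS_G2 [1, 0] ordPm_G2_1 ordPar_G2_1 = true := by
  decide +kernel
theorem ordEdge_G2_1 : edgeOK chevG2 ordS_G2 [0] [1, 0] ordPm_G2_1 ordPar_G2_1 ordEc_G2_1 = true := by
  decide +kernel
theorem ordLevT_G2_1 : levTabOK chevG2 ordLam_G2_1 ordLV_G2_1 = true := by decide +kernel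
theorem ordLev_G2_1 : levOK chevG2 ordS_G2 [0] ordPm_G2_1 ordLV_G2_1 = true := by decide +kernel
theorem ordSig_G2_1 : sigOK chevG2 ordLV_G2_1 ordPm_G2_1 ordSg_G2_1 ordCn_G2_1 = true := by decide +kernel

theorem ordStep_G2_1 : StepFacts chevG2 [0] [1, 0] ordPar_G2_1 ordCn_G2_1.length ∧
    LevFacts chevG2 [0] ordPar_G2_1 ordCn_G2_1.length ordLam_G2_1 ordCn_G2_1 :=
  step_of_tables nfacts_G2 hnfacts_G2 rootTableOK_G2 posHalf_G2 (by decide)
    ordS_G2 [0] [1, 0] ordPm_G2_1 ordPar_G2_1 ordEc_G2_1 ordSg_G2_1 ordCn_G2_1 ordLam_G2_1 ordLV_G2_1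
    ordS_G2_ok (by decide) (by decide) ordTree_G2_1 ordEdge_G2_1 ordLevT_G2_1 ordLev_G2_1 ordSig_G2_1

end Cfsg.Agent.Lib.Helper24
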