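import Cfsg.Agent.Lib.Helper24.OrdFin
import Cfsg.Agent.Lib.Helper24.Torus_E8
import Cfsg.Agent.Lib.Helper24.OrdT_E8_0
import Cfsg.Agent.Lib.Helper24.OrdT_E8_1
import Cfsg.Agent.Lib.Helper24.OrdT_E8_2
import Cfsg.Agent.Lib.Helper24.OrdT_E8_3
import Cfsg.Agent.Lib.Helper24.OrdT_E8_4
import Cfsg.Agent.Lib.Helper24.OrdT_E8_5
import Cfsg.Agent.Lib.Helper24.OrdT_E8_6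
import Cfsg.Agent.Lib.Helper24.OrdT_E8_7

set_option autoImplicit false
set_option maxRecDepth 100000
set_option maxHeartbeats 4000000

namespace Cfsg.Agent.Lib.Helper24

open Cfsg.Lie

theorem ord_card_E8 {F : Type*} [Field F] [Fintype F] :
    Nat.card ↥(chevE8.group F) =
      ((ordCn_E8_7.map fun c => Fintype.card F ^ c).sum * ((ordCn_E8_6.map fun c => Fintype.card F ^ c).sum * ((ordCn_E8_5.map fun c => Fintype.card F ^ c).sum * ((ordCn_E8_4.map fun c => Fintype.card F ^ c).sum * ((ordCn_E8_3.map fun c => Fintype.card F ^ c).sum * ((ordCn_E8_2.map fun c => Fintype.card F ^ c).sum * ((ordCn_E8_1.map fun c => Fintype.card F ^ c).sum * ((ordCn_E8_0.map fun c => Fintype.card F ^ c).sum * (Fintype.card F ^ 120 *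 Nat.card ↥(chevE8.diagonalSubgroup F)))))))))) := by
  obtain ⟨E⟩ := env_of_facts (F := F) chevE8 (by simp) nTabE8 orbTabE8 nfacts_E8 hnfacts_E8 cfacts_E8
  have h0 := E.step_card ordCn_E8_0 ordStep_E8_0.1 ordLam_E8_0 ordStep_E8_0.2
  have h1 := E.step_card ordCn_E8_1 ordStep_E8_1.1 ordLam_E8_1 ordStep_E8_1.2
  have h2 := E.step_card ordCn_E8_2 ordStep_E8_2.1 ordLam_E8_2 ordStep_E8_2.2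
  have h3 := E.step_card ordCn_E8_3 ordStep_E8_3.1 ordLam_E8_3 ordStep_E8_3.2
  have h4 := E.step_card ordCn_E8_4 ordStep_E8_4.1 ordLam_E8_4 ordStep_E8_4.2
  have h5 := E.step_card ordCn_E8_5 ordStep_E8_5.1 ordLam_E8_5 ordStep_E8_5.2
  have h6 := E.step_card ordCn_E8_6 ordStep_E8_6.1 ordLam_E8_6 ordStep_E8_6.2
  have h7 := E.step_card ordCn_E8_7 ordStep_E8_7.1 ordLam_E8_7 ordStep_E8_7.2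
  rw [PL_nil, E.card_borel] at h0
  rw [E.PL_all [7, 6, 5, 4, 1, 3, 2, 0] (by decide)] at h7
  have e : chevE8.nroots / 2 = 120 := by decide
  rw [e] at h0
  rw [h7, h6, h5, h4, h3, h2, h1, h0]

theorem ord_polyS_E8_0 (x : ℤ) : (x - 1) ^ 0 * (x ^ 120) = x ^ 120 := by ring

theorem ord_polyI_E8_0 (x : ℤ) : (x ^ 120) * ((x - 1) * (x ^ 0 + (x ^ 1 + 0))) = x ^ 120 * (x ^ 2 - 1) := by ring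

theorem ord_polyS_E8_1 (x : ℤ) : (x - 1) ^ 1 * ((x ^ 0 + (x ^ 1 + 0)) * (x ^ 120)) = x ^ 120 * (x ^ 2 - 1) :=
  ord_chain_step (x - 1) _ _ _ _ 0 (ord_polyS_E8_0 x) (ord_polyI_E8_0 x)

theorem ord_polyI_E8_1 (x : ℤ) : (x ^ 120 * (x ^ 2 - 1)) * ((x - 1) * (x ^ 0 + (x ^ 1 + (x ^ 2 + 0)))) = x ^ 120 * (x ^ 2 - 1) * (x ^ 3 - 1) := by ring

theorem ord_polyS_E8_2 (x : ℤ) : (x - 1) ^ 2 * ((x ^ 0 + (x ^ 1 + (x ^ 2 + 0))) * ((x ^ 0 + (x ^ 1 + 0)) * (x ^ 120))) = x ^ 120 * (x ^ 2 - 1) * (x ^ 3 - 1) :=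
  ord_chain_step (x - 1) _ _ _ _ 1 (ord_polyS_E8_1 x) (ord_polyI_E8_1 x)

theorem ord_polyI_E8_2 (x : ℤ) : (x ^ 120 * (x ^ 2 - 1) * (x ^ 3 - 1)) * ((x - 1) * (x ^ 0 + (x ^ 1 + (x ^ 2 + (x ^ 3 + 0))))) = x ^ 120 * (x ^ 2 - 1) * (x ^ 3 - 1) * (x ^ 4 - 1) := by ring

theorem ord_polyS_E8_3 (x : ℤ) : (x - 1) ^ 3 * ((x ^ 0 + (x ^ 1 + (x ^ 2 + (x ^ 3 + 0)))) * ((x ^ 0 + (x ^ 1 + (x ^ 2 + 0))) * ((x ^ 0 + (x ^ 1 + 0)) * (x ^ 120)))) = x ^ 120 * (x ^ 2 - 1) * (x ^ 3 - 1) * (x ^ 4 - 1) :=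
  ord_chain_step (x - 1) _ _ _ _ 2 (ord_polyS_E8_2 x) (ord_polyI_E8_2 x)

theorem ord_polyI_E8_3 (x : ℤ) : (x ^ 120 * (x ^ 2 - 1) * (x ^ 3 - 1) * (x ^ 4 - 1)) * ((x - 1) * (x ^ 0 + (x ^ 1 + (x ^ 2 + (x ^ 3 + (x ^ 4 + 0)))))) = x ^ 120 * (x ^ 2 - 1) * (x ^ 3 - 1) * (x ^ 4 - 1) * (x ^ 5 - 1) := by ring

theorem ord_polyS_E8_4 (x : ℤ) : (x - 1) ^ 4 * ((x ^ 0 + (x ^ 1 + (x ^ 2 + (x ^ 3 + (x ^ 4 + 0))))) * ((x ^ 0 + (x ^ 1 + (x ^ 2 + (x ^ 3 + 0)))) * ((x ^ 0 + (x ^ 1 + (x ^ 2 + 0))) * ((x ^ 0 + (x ^ 1 + 0)) * (x ^ 120))))) = x ^ 120 * (x ^ 2 - 1) * (x ^ 3 - 1) * (x ^ 4 - 1) * (x ^ 5 - 1) :=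
  ord_chain_step (x - 1) _ _ _ _ 3 (ord_polyS_E8_3 x) (ord_polyI_E8_3 x)

theorem ord_polyI_E8_4 (x : ℤ) : (x ^ 120 * (x ^ 2 - 1) * (x ^ 3 - 1) * (x ^ 4 - 1) * (x ^ 5 - 1)) * ((x - 1) * (x ^ 0 + (x ^ 1 + (x ^ 2 + (x ^ 3 + (x ^ 3 + (x ^ 4 + (x ^ 4 + (x ^ 5 + (x ^ 5 + (x ^ 6 + (x ^ 6 + (x ^ 7 + (x ^ 7 + (x ^ 8 + (x ^ 9 + (x ^ 10 + 0))))))))))))))))) = x ^ 120 * (x ^ 2 - 1) * (x ^ 4 - 1) * (x ^ 5 - 1) * (x ^ 6 - 1) * (x ^ 8 - 1) := by ring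

theorem ord_polyS_E8_5 (x : ℤ) : (x - 1) ^ 5 * ((x ^ 0 + (x ^ 1 + (x ^ 2 + (x ^ 3 + (x ^ 3 + (x ^ 4 + (x ^ 4 + (x ^ 5 + (x ^ 5 + (x ^ 6 + (x ^ 6 + (x ^ 7 + (x ^ 7 + (x ^ 8 + (x ^ 9 + (x ^ 10 + 0)))))))))))))))) * ((x ^ 0 + (x ^ 1 + (x ^ 2 + (x ^ 3 + (x ^ 4 + 0))))) * ((x ^ 0 + (x ^ 1 + (x ^ 2 + (x ^ 3 + 0)))) * ((x ^ 0 + (x ^ 1 + (x ^ 2 + 0))) * ((x ^ 0 + (x ^ 1 + 0)) * (x ^ 120)))))) = x ^ 120 * (x ^ 2 - 1) * (x ^ 4 - 1) * (x ^ 5 - 1) * (x ^ 6 - 1) * (x ^ 8 - 1) :=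
  ord_chain_step (x - 1) _ _ _ _ 4 (ord_polyS_E8_4 x) (ord_polyI_E8_4 x)

theorem ord_polyI_E8_5 (x : ℤ) : (x ^ 120 * (x ^ 2 - 1) * (x ^ 4 - 1) * (x ^ 5 - 1) * (x ^ 6 - 1) * (x ^ 8 - 1)) * ((x - 1) * (x ^ 0 + (x ^ 1 + (x ^ 2 + (x ^ 3 + (x ^ 4 + (x ^ 4 + (x ^ 5 + (x ^ 5 + (x ^ 6 + (x ^ 6 + (x ^ 7 + (x ^ 7 + (x ^ 8 + (x ^ 8 + (x ^ 8 + (x ^ 9 + (x ^ 9 + (x ^ 10 + (x ^ 10 + (x ^ 11 + (x ^ 11 + (x ^ 12 + (x ^ 12 + (x ^ 13 + (x ^ 14 + (x ^ 15 + (x ^ 16 + 0)))))))))))))))))))))))))))) = x ^ 120 * (x ^ 2 - 1) * (x ^ 5 - 1) * (x ^ 6 - 1) * (x ^ 8 - 1) * (x ^ 9 - 1) * (x ^ 12 - 1) := by ring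

theorem ord_polyS_E8_6 (x : ℤ) : (x - 1) ^ 6 * ((x ^ 0 + (x ^ 1 + (x ^ 2 + (x ^ 3 + (x ^ 4 + (x ^ 4 + (x ^ 5 + (x ^ 5 + (x ^ 6 + (x ^ 6 + (x ^ 7 + (x ^ 7 + (x ^ 8 + (x ^ 8 + (x ^ 8 + (x ^ 9 + (x ^ 9 + (x ^ 10 + (x ^ 10 + (x ^ 11 + (x ^ 11 + (x ^ 12 + (x ^ 12 + (x ^ 13 + (x ^ 14 + (x ^ 15 + (x ^ 16 + 0))))))))))))))))))))))))))) * ((x ^ 0 + (x ^ 1 + (x ^ 2 + (x ^ 3 + (x ^ 3 + (x ^ 4 + (x ^ 4 + (x ^ 5 + (x ^ 5 + (x ^ 6 + (x ^ 6 + (x ^ 7 + (x ^ 7 + (x ^ 8 + (x ^ 9 + (x ^ 10 + 0)))))))))))))))) * ((x ^ 0 + (x ^ 1 + (x ^ 2 + (x ^ 3 + (x ^ 4 + 0))))) * ((x ^ 0 + (x ^ 1 + (x ^ 2 + (x ^ 3 + 0)))) * ((x ^ 0 + (x ^ 1 + (x ^ 2 + 0))) * ((x ^ 0 + (x ^ 1 + 0)) * (x ^ 120))))))) = x ^ 120 * (x ^ 2 - 1) * (x ^ 5 - 1) * (x ^ 6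 - 1) * (x ^ 8 - 1) * (x ^ 9 - 1) * (x ^ 12 - 1) :=
  ord_chain_step (x - 1) _ _ _ _ 5 (ord_polyS_E8_5 x) (ord_polyI_E8_5 x)

theorem ord_polyI_E8_6 (x : ℤ) : (x ^ 120 * (x ^ 2 - 1) * (x ^ 5 - 1) * (x ^ 6 - 1) * (x ^ 8 - 1) * (x ^ 9 - 1) * (x ^ 12 - 1)) * ((x - 1) * (x ^ 0 + (x ^ 1 + (x ^ 2 + (x ^ 3 + (x ^ 4 + (x ^ 5 + (x ^ 5 + (x ^ 6 + (x ^ 6 + (x ^ 7 + (x ^ 7 + (x ^ 8 + (x ^ 8 + (x ^ 9 + (x ^ 9 + (x ^ 9 + (x ^ 10 + (x ^ 10 + (x ^ 10 + (x ^ 11 + (x ^ 11 + (x ^ 11 + (x ^ 12 + (x ^ 12 + (x ^ 12 + (x ^ 13 + (x ^ 13 + (x ^ 13 + (x ^ 14 + (x ^ 14 + (x ^ 14 + (x ^ 15 + (x ^ 15 + (x ^ 15 + (x ^ 16 + (x ^ 16 + (x ^ 16 + (x ^ 17 + (x ^ 17 + (x ^ 17 + (x ^ 18 + (x ^ 18 + (x ^ 18 + (x ^ 19 + (x ^ 19 + (x ^ 20 + (x ^ 20 + (x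 ^ 21 + (x ^ 21 + (x ^ 22 + (x ^ 22 + (x ^ 23 + (x ^ 24 + (x ^ 25 + (x ^ 26 + (x ^ 27 + 0))))))))))))))))))))))))))))))))))))))))))))))))))))))))) = x ^ 120 * (x ^ 2 - 1) * (x ^ 6 - 1) * (x ^ 8 - 1) * (x ^ 10 - 1) * (x ^ 12 - 1) * (x ^ 14 - 1) * (x ^ 18 - 1) := by ring

theorem ord_polyS_E8_7 (x : ℤ) : (x - 1) ^ 7 * ((x ^ 0 + (x ^ 1 + (x ^ 2 + (x ^ 3 + (x ^ 4 + (x ^ 5 + (x ^ 5 + (x ^ 6 + (x ^ 6 + (x ^ 7 + (x ^ 7 + (x ^ 8 + (x ^ 8 + (x ^ 9 + (x ^ 9 + (x ^ 9 + (x ^ 10 + (x ^ 10 + (x ^ 10 + (x ^ 11 + (x ^ 11 + (x ^ 11 + (x ^ 12 + (x ^ 12 + (x ^ 12 + (x ^ 13 + (x ^ 13 + (x ^ 13 + (x ^ 14 + (x ^ 14 + (x ^ 14 + (x ^ 15 + (x ^ 15 + (x ^ 15 + (x ^ 16 + (x ^ 16 + (x ^ 16 + (x ^ 17 + (x ^ 17 + (x ^ 17 + (x ^ 18 + (x ^ 18 +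 (x ^ 18 + (x ^ 19 + (x ^ 19 + (x ^ 20 + (x ^ 20 + (x ^ 21 + (x ^ 21 + (x ^ 22 + (x ^ 22 + (x ^ 23 + (x ^ 24 + (x ^ 25 + (x ^ 26 + (x ^ 27 + 0)))))))))))))))))))))))))))))))))))))))))))))))))))))))) * ((x ^ 0 + (x ^ 1 + (x ^ 2 + (x ^ 3 + (x ^ 4 + (x ^ 4 + (x ^ 5 + (x ^ 5 + (x ^ 6 + (x ^ 6 + (x ^ 7 + (x ^ 7 + (x ^ 8 + (x ^ 8 + (x ^ 8 + (x ^ 9 + (x ^ 9 + (x ^ 10 + (x ^ 10 + (x ^ 11 + (x ^ 11 + (x ^ 12 + (x ^ 12 + (x ^ 13 + (x ^ 14 + (x ^ 15 + (x ^ 16 + 0))))))))))))))))))))))))))) * ((x ^ 0 + (x ^ 1 + (x ^ 2 + (x ^ 3 + (x ^ 3 + (x ^ 4 + (x ^ 4 + (x ^ 5 + (x ^ 5 + (x ^ 6 + (x ^ 6 + (x ^ 7 + (x ^ 7 + (x ^ 8 + (x ^ 9 + (x ^ 10 + 0)))))))))))))))) * ((x ^ 0 + (x ^ 1 + (x ^ 2 + (x ^ 3 + (x ^ 4 + 0))))) * ((x ^ 0 + (x ^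 1 + (x ^ 2 + (x ^ 3 + 0)))) * ((x ^ 0 + (x ^ 1 + (x ^ 2 + 0))) * ((x ^ 0 + (x ^ 1 + 0)) * (x ^ 120)))))))) = x ^ 120 * (x ^ 2 - 1) * (x ^ 6 - 1) * (x ^ 8 - 1) * (x ^ 10 - 1) * (x ^ 12 - 1) * (x ^ 14 - 1) * (x ^ 18 - 1) :=
  ord_chain_step (x - 1) _ _ _ _ 6 (ord_polyS_E8_6 x) (ord_polyI_E8_6 x)

theorem ord_polyI_E8_7 (x : ℤ) : (x ^ 120 * (x ^ 2 - 1) * (x ^ 6 - 1) * (x ^ 8 - 1) * (x ^ 10 - 1) * (x ^ 12 - 1) * (x ^ 14 - 1) * (x ^ 18 - 1)) * ((x - 1) * (x ^ 0 + (x ^ 1 + (x ^ 2 + (x ^ 3 + (x ^ 4 + (x ^ 5 + (x ^ 6 + (x ^ 6 + (x ^ 7 + (x ^ 7 + (x ^ 8 + (x ^ 8 + (x ^ 9 + (x ^ 9 + (x ^ 10 + (x ^ 10 + (x ^ 10 + (x ^ 11 + (x ^ 11 + (x ^ 11 + (x ^ 12 + (x ^ 12 + (x ^ 12 + (x ^ 12 + (x ^ 13 + (x ^ 13 + (x ^ 13 + (x ^ 13 + (x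 ^ 14 + (x ^ 14 + (x ^ 14 + (x ^ 14 + (x ^ 15 + (x ^ 15 + (x ^ 15 + (x ^ 15 + (x ^ 16 + (x ^ 16 + (x ^ 16 + (x ^ 16 + (x ^ 16 + (x ^ 17 + (x ^ 17 + (x ^ 17 + (x ^ 17 + (x ^ 17 + (x ^ 18 + (x ^ 18 + (x ^ 18 + (x ^ 18 + (x ^ 18 + (x ^ 18 + (x ^ 19 + (x ^ 19 + (x ^ 19 + (x ^ 19 + (x ^ 19 + (x ^ 19 + (x ^ 20 + (x ^ 20 + (x ^ 20 + (x ^ 20 + (x ^ 20 + (x ^ 20 + (x ^ 21 + (x ^ 21 + (x ^ 21 + (x ^ 21 + (x ^ 21 + (x ^ 21 + (x ^ 22 + (x ^ 22 + (x ^ 22 + (x ^ 22 + (x ^ 22 + (x ^ 22 + (x ^ 22 + (x ^ 23 + (x ^ 23 + (x ^ 23 + (x ^ 23 + (x ^ 23 + (x ^ 23 + (x ^ 23 + (x ^ 24 + (x ^ 24 + (x ^ 24 + (x ^ 24 + (x ^ 24 + (x ^ 24 + (x ^ 24 + (x ^ 25 + (x ^ 25 + (x ^ 25 + (x ^ 25 + (x ^ 25 + (x ^ 25 + (x ^ 25 + (x ^ 26 + (x ^ 26 + (x ^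 26 + (x ^ 26 + (x ^ 26 + (x ^ 26 + (x ^ 26 + (x ^ 27 + (x ^ 27 + (x ^ 27 + (x ^ 27 + (x ^ 27 + (x ^ 27 + (x ^ 27 + (x ^ 28 + (x ^ 28 + (x ^ 28 + (x ^ 28 + (x ^ 28 + (x ^ 28 + (x ^ 28 + (x ^ 28 + (x ^ 29 + (x ^ 29 + (x ^ 29 + (x ^ 29 + (x ^ 29 + (x ^ 29 + (x ^ 29 + (x ^ 29 + (x ^ 30 + (x ^ 30 + (x ^ 30 + (x ^ 30 + (x ^ 30 + (x ^ 30 + (x ^ 30 + (x ^ 31 + (x ^ 31 + (x ^ 31 + (x ^ 31 + (x ^ 31 + (x ^ 31 + (x ^ 31 + (x ^ 32 + (x ^ 32 + (x ^ 32 + (x ^ 32 + (x ^ 32 + (x ^ 32 + (x ^ 32 + (x ^ 33 + (x ^ 33 + (x ^ 33 + (x ^ 33 + (x ^ 33 + (x ^ 33 + (x ^ 33 + (x ^ 34 + (x ^ 34 + (x ^ 34 + (x ^ 34 + (x ^ 34 + (x ^ 34 + (x ^ 34 + (x ^ 35 + (x ^ 35 + (x ^ 35 + (x ^ 35 + (x ^ 35 + (x ^ 35 + (x ^ 35 + (x ^ 36 + (x ^ 36 + (x ^ 36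 + (x ^ 36 + (x ^ 36 + (x ^ 36 + (x ^ 37 + (x ^ 37 + (x ^ 37 + (x ^ 37 + (x ^ 37 + (x ^ 37 + (x ^ 38 + (x ^ 38 + (x ^ 38 + (x ^ 38 + (x ^ 38 + (x ^ 38 + (x ^ 39 + (x ^ 39 + (x ^ 39 + (x ^ 39 + (x ^ 39 + (x ^ 39 + (x ^ 40 + (x ^ 40 + (x ^ 40 + (x ^ 40 + (x ^ 40 + (x ^ 41 + (x ^ 41 + (x ^ 41 + (x ^ 41 + (x ^ 41 + (x ^ 42 + (x ^ 42 + (x ^ 42 + (x ^ 42 + (x ^ 43 + (x ^ 43 + (x ^ 43 + (x ^ 43 + (x ^ 44 + (x ^ 44 + (x ^ 44 + (x ^ 44 + (x ^ 45 + (x ^ 45 + (x ^ 45 + (x ^ 45 + (x ^ 46 + (x ^ 46 + (x ^ 46 + (x ^ 47 + (x ^ 47 + (x ^ 47 + (x ^ 48 + (x ^ 48 + (x ^ 49 + (x ^ 49 + (x ^ 50 + (x ^ 50 + (x ^ 51 + (x ^ 51 + (x ^ 52 + (x ^ 53 + (x ^ 54 + (x ^ 55 + (x ^ 56 + (x ^ 57 + 0)))))))))))))))))))))))))))))))))))))))))))))))))))))))))))))))))))))))))))))))))))))))))))))))))))))))))))))))))))))))))))))))))))))))))))))))))))))))))))))))))))))))))))))))))))))))))))))))))))))))))))))))))))))))))))))))))))))))))))))))))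 = x ^ 120 * (x ^ 2 - 1) * (x ^ 8 - 1) * (x ^ 12 - 1) * (x ^ 14 - 1) * (x ^ 18 - 1) * (x ^ 20 - 1) * (x ^ 24 - 1) * (x ^ 30 - 1) := by ring

theorem ord_polyS_E8_8 (x : ℤ) : (x - 1) ^ 8 * ((x ^ 0 + (x ^ 1 + (x ^ 2 + (x ^ 3 + (x ^ 4 + (x ^ 5 + (x ^ 6 + (x ^ 6 + (x ^ 7 + (x ^ 7 + (x ^ 8 + (x ^ 8 + (x ^ 9 + (x ^ 9 + (x ^ 10 + (x ^ 10 + (x ^ 10 + (x ^ 11 + (x ^ 11 + (x ^ 11 + (x ^ 12 + (x ^ 12 + (x ^ 12 + (x ^ 12 + (x ^ 13 + (x ^ 13 + (x ^ 13 + (x ^ 13 + (x ^ 14 + (x ^ 14 + (x ^ 14 + (x ^ 14 + (x ^ 15 + (x ^ 15 + (x ^ 15 + (x ^ 15 + (x ^ 16 + (x ^ 16 + (x ^ 16 + (x ^ 16 + (x ^ 16 + (x ^ 17 + (x ^ 17 + (x ^ 17 + (x ^ 17 + (x ^ 17 + (x ^ 18 + (x ^ 18 + (x ^ 18 + (x ^ 18 + (x ^ 18 + (x ^ 18 + (x ^ 19 + (x ^ 19 + (x ^ 19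 + (x ^ 19 + (x ^ 19 + (x ^ 19 + (x ^ 20 + (x ^ 20 + (x ^ 20 + (x ^ 20 + (x ^ 20 + (x ^ 20 + (x ^ 21 + (x ^ 21 + (x ^ 21 + (x ^ 21 + (x ^ 21 + (x ^ 21 + (x ^ 22 + (x ^ 22 + (x ^ 22 + (x ^ 22 + (x ^ 22 + (x ^ 22 + (x ^ 22 + (x ^ 23 + (x ^ 23 + (x ^ 23 + (x ^ 23 + (x ^ 23 + (x ^ 23 + (x ^ 23 + (x ^ 24 + (x ^ 24 + (x ^ 24 + (x ^ 24 + (x ^ 24 + (x ^ 24 + (x ^ 24 + (x ^ 25 + (x ^ 25 + (x ^ 25 + (x ^ 25 + (x ^ 25 + (x ^ 25 + (x ^ 25 + (x ^ 26 + (x ^ 26 + (x ^ 26 + (x ^ 26 + (x ^ 26 + (x ^ 26 + (x ^ 26 + (x ^ 27 + (x ^ 27 + (x ^ 27 + (x ^ 27 + (x ^ 27 + (x ^ 27 + (x ^ 27 + (x ^ 28 + (x ^ 28 + (x ^ 28 + (x ^ 28 + (x ^ 28 + (x ^ 28 + (x ^ 28 + (x ^ 28 + (x ^ 29 + (x ^ 29 + (x ^ 29 + (x ^ 29 + (x ^ 29 + (x ^ 29 + (x ^ 29 +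 (x ^ 29 + (x ^ 30 + (x ^ 30 + (x ^ 30 + (x ^ 30 + (x ^ 30 + (x ^ 30 + (x ^ 30 + (x ^ 31 + (x ^ 31 + (x ^ 31 + (x ^ 31 + (x ^ 31 + (x ^ 31 + (x ^ 31 + (x ^ 32 + (x ^ 32 + (x ^ 32 + (x ^ 32 + (x ^ 32 + (x ^ 32 + (x ^ 32 + (x ^ 33 + (x ^ 33 + (x ^ 33 + (x ^ 33 + (x ^ 33 + (x ^ 33 + (x ^ 33 + (x ^ 34 + (x ^ 34 + (x ^ 34 + (x ^ 34 + (x ^ 34 + (x ^ 34 + (x ^ 34 + (x ^ 35 + (x ^ 35 + (x ^ 35 + (x ^ 35 + (x ^ 35 + (x ^ 35 + (x ^ 35 + (x ^ 36 + (x ^ 36 + (x ^ 36 + (x ^ 36 + (x ^ 36 + (x ^ 36 + (x ^ 37 + (x ^ 37 + (x ^ 37 + (x ^ 37 + (x ^ 37 + (x ^ 37 + (x ^ 38 + (x ^ 38 + (x ^ 38 + (x ^ 38 + (x ^ 38 + (x ^ 38 + (x ^ 39 + (x ^ 39 + (x ^ 39 + (x ^ 39 + (x ^ 39 + (x ^ 39 + (x ^ 40 + (x ^ 40 + (x ^ 40 + (x ^ 40 + (x ^ 40 + (x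 ^ 41 + (x ^ 41 + (x ^ 41 + (x ^ 41 + (x ^ 41 + (x ^ 42 + (x ^ 42 + (x ^ 42 + (x ^ 42 + (x ^ 43 + (x ^ 43 + (x ^ 43 + (x ^ 43 + (x ^ 44 + (x ^ 44 + (x ^ 44 + (x ^ 44 + (x ^ 45 + (x ^ 45 + (x ^ 45 + (x ^ 45 + (x ^ 46 + (x ^ 46 + (x ^ 46 + (x ^ 47 + (x ^ 47 + (x ^ 47 + (x ^ 48 + (x ^ 48 + (x ^ 49 + (x ^ 49 + (x ^ 50 + (x ^ 50 + (x ^ 51 + (x ^ 51 + (x ^ 52 + (x ^ 53 + (x ^ 54 + (x ^ 55 + (x ^ 56 + (x ^ 57 + 0)))))))))))))))))))))))))))))))))))))))))))))))))))))))))))))))))))))))))))))))))))))))))))))))))))))))))))))))))))))))))))))))))))))))))))))))))))))))))))))))))))))))))))))))))))))))))))))))))))))))))))))))))))))))))))))))))))))))))))))))) * ((x ^ 0 + (x ^ 1 + (x ^ 2 + (x ^ 3 + (x ^ 4 + (x ^ 5 + (x ^ 5 + (x ^ 6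 + (x ^ 6 + (x ^ 7 + (x ^ 7 + (x ^ 8 + (x ^ 8 + (x ^ 9 + (x ^ 9 + (x ^ 9 + (x ^ 10 + (x ^ 10 + (x ^ 10 + (x ^ 11 + (x ^ 11 + (x ^ 11 + (x ^ 12 + (x ^ 12 + (x ^ 12 + (x ^ 13 + (x ^ 13 + (x ^ 13 + (x ^ 14 + (x ^ 14 + (x ^ 14 + (x ^ 15 + (x ^ 15 + (x ^ 15 + (x ^ 16 + (x ^ 16 + (x ^ 16 + (x ^ 17 + (x ^ 17 + (x ^ 17 + (x ^ 18 + (x ^ 18 + (x ^ 18 + (x ^ 19 + (x ^ 19 + (x ^ 20 + (x ^ 20 + (x ^ 21 + (x ^ 21 + (x ^ 22 + (x ^ 22 + (x ^ 23 + (x ^ 24 + (x ^ 25 + (x ^ 26 + (x ^ 27 + 0)))))))))))))))))))))))))))))))))))))))))))))))))))))))) * ((x ^ 0 + (x ^ 1 + (x ^ 2 + (x ^ 3 + (x ^ 4 + (x ^ 4 + (x ^ 5 + (x ^ 5 + (x ^ 6 + (x ^ 6 + (x ^ 7 + (x ^ 7 + (x ^ 8 + (x ^ 8 + (x ^ 8 + (x ^ 9 + (x ^ 9 + (x ^ 10 + (x ^ 10 + (x ^ 11 + (x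 ^ 11 + (x ^ 12 + (x ^ 12 + (x ^ 13 + (x ^ 14 + (x ^ 15 + (x ^ 16 + 0))))))))))))))))))))))))))) * ((x ^ 0 + (x ^ 1 + (x ^ 2 + (x ^ 3 + (x ^ 3 + (x ^ 4 + (x ^ 4 + (x ^ 5 + (x ^ 5 + (x ^ 6 + (x ^ 6 + (x ^ 7 + (x ^ 7 + (x ^ 8 + (x ^ 9 + (x ^ 10 + 0)))))))))))))))) * ((x ^ 0 + (x ^ 1 + (x ^ 2 + (x ^ 3 + (x ^ 4 + 0))))) * ((x ^ 0 + (x ^ 1 + (x ^ 2 + (x ^ 3 + 0)))) * ((x ^ 0 + (x ^ 1 + (x ^ 2 + 0))) * ((x ^ 0 + (x ^ 1 + 0)) * (x ^ 120))))))))) = x ^ 120 * (x ^ 2 - 1) * (x ^ 8 - 1) * (x ^ 12 - 1) * (x ^ 14 - 1) * (x ^ 18 - 1) * (x ^ 20 - 1) * (x ^ 24 - 1) * (x ^ 30 - 1) :=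
  ord_chain_step (x - 1) _ _ _ _ 7 (ord_polyS_E8_7 x) (ord_polyI_E8_7 x)

theorem ord_E8 {F : Type*} [Field F] [Fintype F] {q : ℕ} (hq : Fintype.card F = q) :
    Nat.card ↥(chevE8.group F) = q ^ 120 * (q ^ 2 - 1) * (q ^ 8 - 1) * (q ^ 12 - 1) * (q ^ 14 - 1) * (q ^ 18 - 1) * (q ^ 20 - 1) * (q ^ 24 - 1) * (q ^ 30 - 1) := by
  have hq1 : 1 ≤ q := hq ▸ one_le_card_field F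
  have h := ord_card_E8 (F := F)
  rw [hq] at h
  have hH : Nat.card ↥(chevE8.diagonalSubgroup F) = (q - 1) ^ 8 := by
    have := torus_card_E8 (F := F)
    rw [hq, one_mul] at this
    exact this
  have hG : Nat.card ↥(chevE8.group F) = (q - 1) ^ 8 * ((ordCn_E8_7.map fun c => q ^ c).sum * (((ordCn_E8_6.map fun c => q ^ c).sum * (((ordCn_E8_5.map fun c => q ^ c).sum * (((ordCn_E8_4.map fun c => q ^ c).sum * (((ordCn_E8_3.map fun c => q ^ c).sum * (((ordCn_E8_2.map fun c => q ^ c).sum * (((ordCn_E8_1.map fun c => q ^ c).sum * (((ordCn_E8_0.map fun c => q ^ c).sum * (q ^ 120)))))))))))))))) := by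
    rw [h, hH]; ring
  rw [hG]
  simp only [ordCn_E8_0, ordCn_E8_1, ordCn_E8_2, ordCn_E8_3, ordCn_E8_4, ordCn_E8_5, ordCn_E8_6, ordCn_E8_7, List.map_cons, List.map_nil, List.sum_cons, List.sum_nil]
  zify
  simp only [ord_cast_sub q _ hq1, ord_cast_sub' q hq1]
  exact ord_polyS_E8_8 (q : ℤ)

end Cfsg.Agent.Lib.Helper24
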