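import Cfsg.Agent.Lib.Helper24.OrdFin
import Cfsg.Agent.Lib.Helper24.Torus_F4
import Cfsg.Agent.Lib.Helper24.OrdT_F4_0
import Cfsg.Agent.Lib.Helper24.OrdT_F4_1
import Cfsg.Agent.Lib.Helper24.OrdT_F4_2
import Cfsg.Agent.Lib.Helper24.OrdT_F4_3

set_option autoImplicit false
set_option maxRecDepth 100000
set_option maxHeartbeats 4000000

namespace Cfsg.Agent.Lib.Helper24

open Cfsg.Lie

theorem ord_card_F4 {F : Type*} [Field F] [Fintype F] :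
    Nat.card ↥(chevF4.group F) =
      ((ordCn_F4_3.map fun c => Fintype.card F ^ c).sum * ((ordCn_F4_2.map fun c => Fintype.card F ^ c).sum * ((ordCn_F4_1.map fun c => Fintype.card F ^ c).sum * ((ordCn_F4_0.map fun c => Fintype.card F ^ c).sum * (Fintype.card F ^ 24 * Nat.card ↥(chevF4.diagonalSubgroup F)))))) := by
  obtain ⟨E⟩ := env_of_facts (F := F) chevF4 (by simp) nTabF4 orbTabF4 nfacts_F4 hnfacts_F4 cfacts_F4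
  have h0 := E.step_card ordCn_F4_0 ordStep_F4_0.1 ordLam_F4_0 ordStep_F4_0.2
  have h1 := E.step_card ordCn_F4_1 ordStep_F4_1.1 ordLam_F4_1 ordStep_F4_1.2
  have h2 := E.step_card ordCn_F4_2 ordStep_F4_2.1 ordLam_F4_2 ordStep_F4_2.2
  have h3 := E.step_card ordCn_F4_3 ordStep_F4_3.1 ordLam_F4_3 ordStep_F4_3.2
  rw [PL_nil, E.card_borel] at h0
  rw [E.PL_all [3, 2, 1, 0] (by decide)] at h3
  have e : chevF4.nroots / 2 = 24 := by decide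
  rw [e] at h0
  rw [h3, h2, h1, h0]

theorem ord_polyS_F4_0 (x : ℤ) : (x - 1) ^ 0 * (x ^ 24) = x ^ 24 := by ring

theorem ord_polyI_F4_0 (x : ℤ) : (x ^ 24) * ((x - 1) * (x ^ 0 + (x ^ 1 + 0))) = x ^ 24 * (x ^ 2 - 1) := by ring

theorem ord_polyS_F4_1 (x : ℤ) : (x - 1) ^ 1 * ((x ^ 0 + (x ^ 1 + 0)) * (x ^ 24)) = x ^ 24 * (x ^ 2 - 1) :=
  ord_chain_step (x - 1) _ _ _ _ 0 (ord_polyS_F4_0 x) (ord_polyI_F4_0 x)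

theorem ord_polyI_F4_1 (x : ℤ) : (x ^ 24 * (x ^ 2 - 1)) * ((x - 1) * (x ^ 0 + (x ^ 1 + (x ^ 2 + 0)))) = x ^ 24 * (x ^ 2 - 1) * (x ^ 3 - 1) := by ring

theorem ord_polyS_F4_2 (x : ℤ) : (x - 1) ^ 2 * ((x ^ 0 + (x ^ 1 + (x ^ 2 + 0))) * ((x ^ 0 + (x ^ 1 + 0)) * (x ^ 24))) = x ^ 24 * (x ^ 2 - 1) * (x ^ 3 - 1) :=
  ord_chain_step (x - 1) _ _ _ _ 1 (ord_polyS_F4_1 x) (ord_polyI_F4_1 x)

theorem ord_polyI_F4_2 (x : ℤ) : (x ^ 24 * (x ^ 2 - 1) * (x ^ 3 - 1)) * ((x - 1) * (x ^ 0 + (x ^ 1 + (x ^ 2 + (x ^ 3 + (x ^ 3 + (x ^ 4 + (x ^ 5 + (x ^ 6 + 0))))))))) = x ^ 24 * (x ^ 2 - 1) * (x ^ 4 - 1) * (x ^ 6 - 1) := by ring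

theorem ord_polyS_F4_3 (x : ℤ) : (x - 1) ^ 3 * ((x ^ 0 + (x ^ 1 + (x ^ 2 + (x ^ 3 + (x ^ 3 + (x ^ 4 + (x ^ 5 + (x ^ 6 + 0)))))))) * ((x ^ 0 + (x ^ 1 + (x ^ 2 + 0))) * ((x ^ 0 + (x ^ 1 + 0)) * (x ^ 24)))) = x ^ 24 * (x ^ 2 - 1) * (x ^ 4 - 1) * (x ^ 6 - 1) :=
  ord_chain_step (x - 1) _ _ _ _ 2 (ord_polyS_F4_2 x) (ord_polyI_F4_2 x)

theorem ord_polyI_F4_3 (x : ℤ) : (x ^ 24 * (x ^ 2 - 1) * (x ^ 4 - 1) * (x ^ 6 - 1)) * ((x - 1) * (x ^ 0 + (x ^ 1 + (x ^ 2 + (x ^ 3 + (x ^ 4 + (x ^ 4 + (x ^ 5 + (x ^ 5 + (x ^ 6 + (x ^ 6 + (x ^ 7 + (x ^ 7 + (x ^ 8 + (x ^ 8 + (x ^ 9 + (x ^ 9 + (x ^ 10 + (x ^ 10 + (x ^ 11 + (x ^ 11 + (x ^ 12 + (x ^ 13 + (x ^ 14 + (x ^ 15 + 0))))))))))))))))))))))))) = x ^ 24 * (x ^ 2 - 1) * (x ^ 6 - 1) * (x ^ 8 - 1) * (x ^ 12 - 1) := by ring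

theorem ord_polyS_F4_4 (x : ℤ) : (x - 1) ^ 4 * ((x ^ 0 + (x ^ 1 + (x ^ 2 + (x ^ 3 + (x ^ 4 + (x ^ 4 + (x ^ 5 + (x ^ 5 + (x ^ 6 + (x ^ 6 + (x ^ 7 + (x ^ 7 + (x ^ 8 + (x ^ 8 + (x ^ 9 + (x ^ 9 + (x ^ 10 + (x ^ 10 + (x ^ 11 + (x ^ 11 + (x ^ 12 + (x ^ 13 + (x ^ 14 + (x ^ 15 + 0)))))))))))))))))))))))) * ((x ^ 0 + (x ^ 1 + (x ^ 2 + (x ^ 3 + (x ^ 3 + (x ^ 4 + (x ^ 5 + (x ^ 6 + 0)))))))) * ((x ^ 0 + (x ^ 1 + (x ^ 2 + 0))) * ((x ^ 0 + (x ^ 1 + 0)) * (x ^ 24))))) = x ^ 24 * (x ^ 2 - 1) * (x ^ 6 - 1) * (x ^ 8 - 1) * (x ^ 12 - 1) :=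
  ord_chain_step (x - 1) _ _ _ _ 3 (ord_polyS_F4_3 x) (ord_polyI_F4_3 x)

theorem ord_F4 {F : Type*} [Field F] [Fintype F] {q : ℕ} (hq : Fintype.card F = q) :
    Nat.card ↥(chevF4.group F) = q ^ 24 * (q ^ 2 - 1) * (q ^ 6 - 1) * (q ^ 8 - 1) * (q ^ 12 - 1) := by
  have hq1 : 1 ≤ q := hq ▸ one_le_card_field F
  have h := ord_card_F4 (F := F)
  rw [hq] at h
  have hH : Nat.card ↥(chevF4.diagonalSubgroup F) = (q - 1) ^ 4 := by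
    have := torus_card_F4 (F := F)
    rw [hq, one_mul] at this
    exact this
  have hG : Nat.card ↥(chevF4.group F) = (q - 1) ^ 4 * ((ordCn_F4_3.map fun c => q ^ c).sum * (((ordCn_F4_2.map fun c => q ^ c).sum * (((ordCn_F4_1.map fun c => q ^ c).sum * (((ordCn_F4_0.map fun c => q ^ c).sum * (q ^ 24)))))))) := by
    rw [h, hH]; ring
  rw [hG]
  simp only [ordCn_F4_0, ordCn_F4_1, ordCn_F4_2, ordCn_F4_3, List.map_cons, List.map_nil, List.sum_cons, List.sum_nil]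
  zify
  simp only [ord_cast_sub q _ hq1, ord_cast_sub' q hq1]
  exact ord_polyS_F4_4 (q : ℤ)

end Cfsg.Agent.Lib.Helper24
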