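import Cfsg.Agent.Lib.Helper24.OrdFin
import Cfsg.Agent.Lib.Helper24.Torus_G2
import Cfsg.Agent.Lib.Helper24.OrdT_G2_0
import Cfsg.Agent.Lib.Helper24.OrdT_G2_1

set_option autoImplicit false
set_option maxRecDepth 100000
set_option maxHeartbeats 4000000

namespace Cfsg.Agent.Lib.Helper24

open Cfsg.Lie

theorem ord_card_G2 {F : Type*} [Field F] [Fintype F] :
    Nat.card ↥(chevG2.group F) =
      ((ordCn_G2_1.map fun c => Fintype.card F ^ c).sum * ((ordCn_G2_0.map fun c => Fintype.card F ^ c).sum * (Fintype.card F ^ 6 * Nat.card ↥(chevG2.diagonalSubgroup F)))) := by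
  obtain ⟨E⟩ := env_of_facts (F := F) chevG2 (by simp) nTabG2 orbTabG2 nfacts_G2 hnfacts_G2 cfacts_G2
  have h0 := E.step_card ordCn_G2_0 ordStep_G2_0.1 ordLam_G2_0 ordStep_G2_0.2
  have h1 := E.step_card ordCn_G2_1 ordStep_G2_1.1 ordLam_G2_1 ordStep_G2_1.2
  rw [PL_nil, E.card_borel] at h0
  rw [E.PL_all [1, 0] (by decide)] at h1
  have e : chevG2.nroots / 2 = 6 := by decide
  rw [e] at h0
  rw [h1, h0]

theorem ord_polyS_G2_0 (x : ℤ) : (x - 1) ^ 0 * (x ^ 6) = x ^ 6 := by ring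

theorem ord_polyI_G2_0 (x : ℤ) : (x ^ 6) * ((x - 1) * (x ^ 0 + (x ^ 1 + 0))) = x ^ 6 * (x ^ 2 - 1) := by ring

theorem ord_polyS_G2_1 (x : ℤ) : (x - 1) ^ 1 * ((x ^ 0 + (x ^ 1 + 0)) * (x ^ 6)) = x ^ 6 * (x ^ 2 - 1) :=
  ord_chain_step (x - 1) _ _ _ _ 0 (ord_polyS_G2_0 x) (ord_polyI_G2_0 x)

theorem ord_polyI_G2_1 (x : ℤ) : (x ^ 6 * (x ^ 2 - 1)) * ((x - 1) * (x ^ 0 + (x ^ 1 + (x ^ 2 + (x ^ 3 + (x ^ 4 + (x ^ 5 + 0))))))) = x ^ 6 * (x ^ 2 - 1) * (x ^ 6 - 1) := by ring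

theorem ord_polyS_G2_2 (x : ℤ) : (x - 1) ^ 2 * ((x ^ 0 + (x ^ 1 + (x ^ 2 + (x ^ 3 + (x ^ 4 + (x ^ 5 + 0)))))) * ((x ^ 0 + (x ^ 1 + 0)) * (x ^ 6))) = x ^ 6 * (x ^ 2 - 1) * (x ^ 6 - 1) :=
  ord_chain_step (x - 1) _ _ _ _ 1 (ord_polyS_G2_1 x) (ord_polyI_G2_1 x)

theorem ord_G2 {F : Type*} [Field F] [Fintype F] {q : ℕ} (hq : Fintype.card F = q) :
    Nat.card ↥(chevG2.group F) = q ^ 6 * (q ^ 2 - 1) * (q ^ 6 - 1) := by
  have hq1 : 1 ≤ q := hq ▸ one_le_card_field F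
  have h := ord_card_G2 (F := F)
  rw [hq] at h
  have hH : Nat.card ↥(chevG2.diagonalSubgroup F) = (q - 1) ^ 2 := by
    have := torus_card_G2 (F := F)
    rw [hq, one_mul] at this
    exact this
  have hG : Nat.card ↥(chevG2.group F) = (q - 1) ^ 2 * ((ordCn_G2_1.map fun c => q ^ c).sum * (((ordCn_G2_0.map fun c => q ^ c).sum * (q ^ 6)))) := by
    rw [h, hH]; ring
  rw [hG]
  simp only [ordCn_G2_0, ordCn_G2_1, List.map_cons, List.map_nil, List.sum_cons, List.sum_nil]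
  zify
  simp only [ord_cast_sub q _ hq1, ord_cast_sub' q hq1]
  exact ord_polyS_G2_2 (q : ℤ)

end Cfsg.Agent.Lib.Helper24
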