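import Cfsg.Agent.Lib.Helper24.ChainFast
import Cfsg.Agent.Lib.Helper24.HNormal

set_option autoImplicit false
set_option linter.unusedSimpArgs false

namespace Cfsg.Agent.Lib.Helper24

open Cfsg.Lie

/-- `commTermsF` with a shortcut for the pairs with at most one term -/
def commTermsQ (D : ChevalleyDatum) (r s : ℕ) : List (ℕ × ℤ × ℕ × ℕ) :=
  forceNat (fld (packB D r) s) fun f1 => forceNat (fld (packB D s) r) fun f2 =>
    cond (Nat.blt f2 65536)
      (cond (Nat.beq f1 0) []
        (cond (Nat.blt f1 65536) [(f1 % 1024 - 1, (((f1 / 1024) % 64 : ℕ) : ℤ) - 8, 1, 1)]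
          (commTermsF D r s)))
      (commTermsF D r s)

theorem shapeFast_fld (D : ChevalleyDatum) (r s : ℕ) :
    shapeFast D r s = decEntry 3 1 (fld (packB D r) s) := rfl

theorem decEntry_small (x : ℕ) (h1 : x < 65536) :
    decEntry 3 1 x = if x = 0 then [] else [(x % 1024 - 1, (((x / 1024) % 64 : ℕ) : ℤ) - 8, 1)] := by
  split_ifs with h
  · subst h; exact decEntry_zero _ _
  · exact decEntry_single x (Nat.pos_of_ne_zero h) h1

theorem commTermsQ_eq (D : ChevalleyDatum) (r s : ℕ) : commTermsQ D r s = commTermsF D r s := by
  unfold commTermsQ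
  simp only [forceNat_eq]
  cases h2 : Nat.blt (fld (packB D s) r) 65536 with
  | false => rfl
  | true =>
    simp only [cond_true]
    have h2' : fld (packB D s) r < 65536 := by simpa [Nat.blt_eq] using h2
    cases h0 : Nat.beq (fld (packB D r) s) 0 with
    | true =>
      simp only [cond_true]
      have h0' : fld (packB D r) s = 0 := Nat.eq_of_beq_eq_true h0
      unfold commTermsF chainRootF chainMF chainEntryF
      rw [shapeFast_fld, shapeFast_fld, h0', decEntry_zero, decEntry_small _ h2']
      split_ifs <;> simp
    | false =>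
      simp only [cond_false]
      cases h1 : Nat.blt (fld (packB D r) s) 65536 with
      | false => rfl
      | true =>
        simp only [cond_true]
        have h1' : fld (packB D r) s < 65536 := by simpa [Nat.blt_eq] using h1
        have h0' : fld (packB D r) s ≠ 0 := by
          intro h; rw [h] at h0; simp at h0
        unfold commTermsF chainRootF chainMF chainEntryF
        rw [shapeFast_fld, shapeFast_fld, decEntry_small _ h1', decEntry_small _ h2', if_neg h0']
        split_ifs <;> simp

/-- the 16-bit field `k` of a packed table -/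
def fld16 (X k : ℕ) : ℕ := Nat.land (Nat.shiftRight X (16 * k)) 65535

/-- the image of the terms of the commutator formula under a reflection -/
def termsMap (D : ChevalleyDatum) (P r' s' : ℕ) (L : List (ℕ × ℤ × ℕ × ℕ)) : List (ℕ × ℤ × ℕ × ℕ) :=
  L.map fun c => (wfast D.rank P c.1,
    etaT D P c.1 * etaT D P r' ^ c.2.2.1 * etaT D P s' ^ c.2.2.2 * c.2.1, c.2.2.1, c.2.2.2)

/-- the pair with index `k = r * n + s` is a listed representative, or is the image under a
fundamental reflection of a pair of smaller depth, compatibly with the terms of the commutator formula -/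
def pairStepOK (D : ChevalleyDatum) (tab : List ℕ) (T : ℕ) (reps : List (ℕ × ℕ)) (k : ℕ) : Bool :=
  forceNat (k / D.nroots) fun r => forceNat (k % D.nroots) fun s =>
  Nat.beq s r || Nat.beq s (D.nroots - 1 - r) ||
  forceNat (fld16 T k) fun f =>
    cond (Nat.beq (f / 256) 15) (reps.contains (r, s))
      (forceNat (tab.getD (f / 256) 0) fun P =>
       forceNat (wfast D.rank P r) fun r' => forceNat (wfast D.rank P s) fun s' =>
        Nat.blt (f / 256) D.rank && Nat.blt r' D.nroots && Nat.blt s' D.nroots &&
        Nat.beq (wfast D.rank P r') r && Nat.beq (wfast D.rank P s') s &&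
        Nat.blt (fld16 T (r' * D.nroots + s') % 256) (f % 256) &&
        (commTermsQ D r' s').all (fun c => Nat.blt c.1 D.nroots) &&
        decide (termsMap D P r' s' (commTermsQ D r' s') = commTermsQ D r s))

theorem pair_induction (D : ChevalleyDatum) (tab : List ℕ) (T : ℕ) (reps : List (ℕ × ℕ))
    (Q : ℕ → ℕ → Prop)
    (hall : ∀ k < D.nroots * D.nroots, pairStepOK D tab T reps k = true)
    (hrep : ∀ p ∈ reps, Q p.1 p.2)
    (hneg : ∀ i < D.rank, ∀ x < D.nroots,
      wfast D.rank (tab.getD i 0) (D.nroots - 1 - x) = D.nroots - 1 - wfast D.rank (tab.getD i 0) x)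
    (hstep : ∀ r s i r' s', i < D.rank → r' < D.nroots → s' < D.nroots →
      wfast D.rank (tab.getD i 0) r' = r → wfast D.rank (tab.getD i 0) s' = s →
      (∀ c ∈ commTermsF D r' s', c.1 < D.nroots) →
      termsMap D (tab.getD i 0) r' s' (commTermsF D r' s') = commTermsF D r s → Q r' s' → Q r s) :
    ∀ r < D.nroots, ∀ s < D.nroots, s ≠ r → s ≠ D.nroots - 1 - r → Q r s := by
  have main : ∀ d k, k < D.nroots * D.nroots → fld16 T k % 256 = d → k % D.nroots ≠ k / D.nroots →
      k % D.nroots ≠ D.nroots - 1 - k / D.nroots → Q (k / D.nroots) (k % D.nroots) := by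
    intro d
    induction d using Nat.strong_induction_on with
    | _ d ih =>
      intro k hk hd hv1 hv2
      have h := hall k hk
      simp only [pairStepOK, forceNat_eq, Bool.or_eq_true, nbeq_true] at h
      rcases h with (h | h) | h
      · exact absurd h hv1
      · exact absurd h hv2
      · cases hc : Nat.beq (fld16 T k / 256) 15 with
        | true =>
          rw [hc, cond_true, List.contains_iff_mem] at h
          exact hrep _ h
        | false =>
          rw [hc, cond_false] at h
          simp only [Bool.and_eq_true, Nat.blt_eq, nbeq_true, List.all_eq_true, decide_eq_true_eq,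
            commTermsQ_eq] at h
          obtain ⟨⟨⟨⟨⟨⟨⟨h1, h2⟩, h3⟩, h4⟩, h5⟩, h6⟩, h7⟩, h8⟩ := h
          set i := fld16 T k / 256 with hi
          set P := tab.getD i 0 with hP
          set r' := wfast D.rank P (k / D.nroots) with hr'
          set s' := wfast D.rank P (k % D.nroots) with hs'
          have hn : 0 < D.nroots := by
            rcases Nat.eq_zero_or_pos D.nroots with h0 | h0
            · rw [h0] at hk; simp at hk
            · exact h0
          have hdiv : (r' * D.nroots + s') / D.nroots = r' := by
            rw [Nat.add_comm, Nat.add_mul_div_right _ _ hn, Nat.div_eq_of_lt h3, Nat.zero_add]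
          have hmod : (r' * D.nroots + s') % D.nroots = s' := by
            rw [Nat.add_comm, Nat.add_mul_mod_self_right, Nat.mod_eq_of_lt h3]
          have hk' : r' * D.nroots + s' < D.nroots * D.nroots := by
            calc r' * D.nroots + s' < r' * D.nroots + D.nroots := by omega
              _ = (r' + 1) * D.nroots := by ring
              _ ≤ D.nroots * D.nroots := Nat.mul_le_mul_right _ h2
          have hrlt : k / D.nroots < D.nroots := Nat.div_lt_of_lt_mul hk
          have hslt : k % D.nroots < D.nroots := Nat.mod_lt _ hn
          have hQ' := ih _ (hd ▸ h6) (r' * D.nroots + s') hk' rfl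
          rw [hdiv, hmod] at hQ'
          have hv1' : s' ≠ r' := by
            intro he
            apply hv1
            rw [← h5, ← h4, he]
          have hv2' : s' ≠ D.nroots - 1 - r' := by
            intro he
            apply hv2
            rw [← h5, he, hneg i h1 r' h2, h4]
          exact hstep _ _ i r' s' h1 h2 h3 h4 h5 (fun c hc => h7 c hc) h8 (hQ' hv1' hv2')
  intro r hr s hs h1 h2
  have hn : 0 < D.nroots := by omega
  have hdiv : (r * D.nroots + s) / D.nroots = r := by
    rw [Nat.add_comm, Nat.add_mul_div_right _ _ hn, Nat.div_eq_of_lt hs, Nat.zero_add]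
  have hmod : (r * D.nroots + s) % D.nroots = s := by
    rw [Nat.add_comm, Nat.add_mul_mod_self_right, Nat.mod_eq_of_lt hs]
  have hk : r * D.nroots + s < D.nroots * D.nroots := by
    calc r * D.nroots + s < r * D.nroots + D.nroots := by omega
      _ = (r + 1) * D.nroots := by ring
      _ ≤ D.nroots * D.nroots := Nat.mul_le_mul_right _ hr
  have := main _ (r * D.nroots + s) hk rfl
  rw [hdiv, hmod] at this
  exact this h1 h2

/-- a Boolean predicate holds on `lo ≤ k < lo + len` -/
def allFrom (p : ℕ → Bool) (lo : ℕ) : ℕ → Bool
  | 0 => true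
  | len + 1 => p (lo + len) && allFrom p lo len

theorem allFrom_elim (p : ℕ → Bool) (lo len : ℕ) (h : allFrom p lo len = true) (k : ℕ) (h1 : lo ≤ k)
    (h2 : k < lo + len) : p k = true := by
  induction len with
  | zero => omega
  | succ len ih =>
    simp only [allFrom, Bool.and_eq_true] at h
    by_cases hk : k = lo + len
    · subst hk; exact h.1
    · exact ih h.2 (by omega)

end Cfsg.Agent.Lib.Helper24
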