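import Cfsg.Agent.Lib.Helper24.TwU

/-! Generic lemmas for peeling a product of root subgroups class by class. -/

set_option autoImplicit false
set_option linter.unusedSimpArgs false

namespace Cfsg.Agent.Lib.Helper24

open Cfsg.Lie

section peelgen

variable {F : Type*} [Field F] {D : ChevalleyDatum}

theorem rootClosure_mono' (R R' : ℕ → Prop) (h : ∀ r, R r → R' r) :
    rootClosure D F R ≤ rootClosure D F R' := by
  unfold rootClosure
  apply Subgroup.closure_mono
  rintro g ⟨s, u, hs, hg⟩
  exact ⟨s, u, h s hs, hg⟩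

/-- coefficients vanishing outside a filter of the list -/
theorem Facts.ordProd_filter (hF : Facts D) (p : ℕ → Bool) (L : List ℕ) (t : ℕ → F)
    (h : ∀ r ∈ L, p r = false → t r = 0) : hF.ordProd L t = hF.ordProd (L.filter p) t := by
  induction L with
  | nil => rfl
  | cons r L ih =>
    have ih' := ih (fun s hs => h s (List.mem_cons_of_mem _ hs))
    by_cases hp : p r = true
    · rw [List.filter_cons_of_pos hp, hF.ordProd_cons, hF.ordProd_cons, ih']
    · have hp' : p r = false := by simpa using hp
      rw [List.filter_cons_of_neg hp, hF.ordProd_cons, h r List.mem_cons_self hp', hF.xGL_zero,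
        one_mul, ih']

theorem Facts.ordProd_zero (hF : Facts D) (L : List ℕ) (t : ℕ → F) (h : ∀ r ∈ L, t r = 0) :
    hF.ordProd L t = 1 := by
  induction L with
  | nil => exact hF.ordProd_nil t
  | cons r L ih =>
    rw [hF.ordProd_cons, h r List.mem_cons_self, hF.xGL_zero, one_mul,
      ih (fun s hs => h s (List.mem_cons_of_mem _ hs))]

/-- two root-closed subgroups on disjoint parts of a graded list intersect trivially -/
theorem Facts.rootClosure_inf_eq_one (hF : Facts D) (hC : ChainOK D)
    (hcomm : ∀ r < D.nroots, ∀ s < D.nroots, s ≠ r → s ≠ D.neg r → hF.QF F r s)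
    (hneg : ∀ r s, D.IsPosRoot r → D.IsPosRoot s → s ≠ D.neg r)
    (hNe : negNeOK D = true) (hU : corootUnitOK D = true)
    (hneginj : ∀ r s, D.IsPosRoot r → D.IsPosRoot s → D.neg r = D.neg s → r = s)
    (Λ : List ℤ) (hg0 : ∀ r, D.IsPosRoot r → 0 < gradeE D Λ (D.rank + r))
    (M : List ℕ) (hnd : M.Nodup)
    (hsort : M.Pairwise (fun r s => gradeE D Λ (D.rank + r) ≤ gradeE D Λ (D.rank + s)))
    (hpos : ∀ r ∈ M, D.IsPosRoot r) (pA pB : ℕ → Bool)
    (hdis : ∀ r ∈ M, pA r = true → pB r = false)
    (hgA : goodListOK D (M.filter pA) = true) (hgB : goodListOK D (M.filter pB) = true)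
    (z : GL D.Idx F) (hzA : z ∈ rootClosure D F (· ∈ M.filter pA))
    (hzB : z ∈ rootClosure D F (· ∈ M.filter pB)) : z = 1 := by
  have hposA : ∀ r ∈ M.filter pA, D.IsPosRoot r := fun r hr => hpos r (List.mem_filter.mp hr).1
  have hposB : ∀ r ∈ M.filter pB, D.IsPosRoot r := fun r hr => hpos r (List.mem_filter.mp hr).1
  obtain ⟨a, ha0, hza⟩ := hF.exists_ordProd_gen hC hcomm hneg (M.filter pA) (hnd.filter _) hposA hgA z hzA
  obtain ⟨b, hb0, hzb⟩ := hF.exists_ordProd_gen hC hcomm hneg (M.filter pB) (hnd.filter _) hposB hgB z hzB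
  have e1 : hF.ordProd M a = hF.ordProd (M.filter pA) a := by
    apply hF.ordProd_filter
    intro r hr hp
    apply ha0
    intro hmem
    have := (List.mem_filter.mp hmem).2
    rw [hp] at this
    exact Bool.false_ne_true this
  have e2 : hF.ordProd M b = hF.ordProd (M.filter pB) b := by
    apply hF.ordProd_filter
    intro r hr hp
    apply hb0
    intro hmem
    have := (List.mem_filter.mp hmem).2
    rw [hp] at this
    exact Bool.false_ne_true this
  have e3 : hF.ordProd M a = hF.ordProd M b := by rw [e1, e2, ← hza, ← hzb]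
  have h4 := hF.ordProd_inj_gen hNe hU hneginj Λ hg0 M hnd hsort hpos a b e3
  rw [hza]
  apply hF.ordProd_zero
  intro r hr
  obtain ⟨hrM, hrA⟩ := List.mem_filter.mp hr
  rw [h4 r hrM]
  apply hb0
  intro hmem
  have := (List.mem_filter.mp hmem).2
  rw [hdis r hrM hrA] at this
  exact Bool.false_ne_true this

end peelgen

end Cfsg.Agent.Lib.Helper24
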