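import Cfsg.Agent.Lib.Helper24.Perfect
import Cfsg.Prelude.Def_LieTypes
import Cfsg.Prelude.Def_ChevB2
import Cfsg.Prelude.Def_ChevD4

set_option autoImplicit false

namespace Cfsg.Agent.Lib.Helper24

open Cfsg.Lie
open scoped commutatorElement

theorem comm_D4_0 : commOK chevD4 6 22 (chevD4.simple 0) 1 = true := by decide +kernel
theorem comm_D4_1 : commOK chevD4 1 23 (chevD4.simple 1) (-1) = true := by decide +kernel
theorem comm_D4_2 : commOK chevD4 3 22 (chevD4.simple 2) (-1) = true := by decide +kernel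
theorem comm_D4_3 : commOK chevD4 2 22 (chevD4.simple 3) (-1) = true := by decide +kernel

theorem simpleQ_D4 {F : Type*} [Field F] (hF : Facts chevD4) (j : ℕ) (hj : j < chevD4.rank) (t : F) :
    hF.xGL (chevD4.simple j) t ∈ ⁅chevD4.group F, chevD4.group F⁆ := by
  have hj' : j < 4 := hj
  interval_cases j
  · exact hF.comm_mem 6 22 _ 1 (Or.inl rfl) comm_D4_0 t
  · exact hF.comm_mem 1 23 _ (-1) (Or.inr rfl) comm_D4_1 t
  · exact hF.comm_mem 3 22 _ (-1) (Or.inr rfl) comm_D4_2 t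
  · exact hF.comm_mem 2 22 _ (-1) (Or.inr rfl) comm_D4_3 t

theorem comm_F4_0 : commOK chevF4 7 44 (chevF4.simple 0) (-1) = true := by decide +kernel
theorem comm_F4_1 : commOK chevF4 8 40 (chevF4.simple 1) (-1) = true := by decide +kernel
theorem comm_F4_2 : commOK chevF4 2 46 (chevF4.simple 2) (-1) = true := by decide +kernel
theorem comm_F4_3 : commOK chevF4 1 47 (chevF4.simple 3) (-1) = true := by decide +kernel

theorem simpleQ_F4 {F : Type*} [Field F] (hF : Facts chevF4) (j : ℕ) (hj : j < chevF4.rank) (t : F) :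
    hF.xGL (chevF4.simple j) t ∈ ⁅chevF4.group F, chevF4.group F⁆ := by
  have hj' : j < 4 := hj
  interval_cases j
  · exact hF.comm_mem 7 44 _ (-1) (Or.inr rfl) comm_F4_0 t
  · exact hF.comm_mem 8 40 _ (-1) (Or.inr rfl) comm_F4_1 t
  · exact hF.comm_mem 2 46 _ (-1) (Or.inr rfl) comm_F4_2 t
  · exact hF.comm_mem 1 47 _ (-1) (Or.inr rfl) comm_F4_3 t

theorem comm_E6_0 : commOK chevE6 16 66 (chevE6.simple 0) 1 = true := by decide +kernel
theorem comm_E6_1 : commOK chevE6 1 71 (chevE6.simple 1) (-1) = true := by decide +kernel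
theorem comm_E6_2 : commOK chevE6 5 69 (chevE6.simple 2) (-1) = true := by decide +kernel
theorem comm_E6_3 : commOK chevE6 2 70 (chevE6.simple 3) (-1) = true := by decide +kernel
theorem comm_E6_4 : commOK chevE6 3 69 (chevE6.simple 4) (-1) = true := by decide +kernel
theorem comm_E6_5 : commOK chevE6 4 68 (chevE6.simple 5) (-1) = true := by decide +kernel

theorem simpleQ_E6 {F : Type*} [Field F] (hF : Facts chevE6) (j : ℕ) (hj : j < chevE6.rank) (t : F) :
    hF.xGL (chevE6.simple j) t ∈ ⁅chevE6.group F, chevE6.group F⁆ := by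
  have hj' : j < 6 := hj
  interval_cases j
  · exact hF.comm_mem 16 66 _ 1 (Or.inl rfl) comm_E6_0 t
  · exact hF.comm_mem 1 71 _ (-1) (Or.inr rfl) comm_E6_1 t
  · exact hF.comm_mem 5 69 _ (-1) (Or.inr rfl) comm_E6_2 t
  · exact hF.comm_mem 2 70 _ (-1) (Or.inr rfl) comm_E6_3 t
  · exact hF.comm_mem 3 69 _ (-1) (Or.inr rfl) comm_E6_4 t
  · exact hF.comm_mem 4 68 _ (-1) (Or.inr rfl) comm_E6_5 t

theorem comm_E7_0 : commOK chevE7 1 125 (chevE7.simple 0) (-1) = true := by decide +kernel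
theorem comm_E7_1 : commOK chevE7 7 122 (chevE7.simple 1) (-1) = true := by decide +kernel
theorem comm_E7_2 : commOK chevE7 2 124 (chevE7.simple 2) (-1) = true := by decide +kernel
theorem comm_E7_3 : commOK chevE7 3 123 (chevE7.simple 3) (-1) = true := by decide +kernel
theorem comm_E7_4 : commOK chevE7 4 122 (chevE7.simple 4) (-1) = true := by decide +kernel
theorem comm_E7_5 : commOK chevE7 5 121 (chevE7.simple 5) (-1) = true := by decide +kernel
theorem comm_E7_6 : commOK chevE7 6 120 (chevE7.simple 6) (-1) = true := by decide +kernel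

theorem simpleQ_E7 {F : Type*} [Field F] (hF : Facts chevE7) (j : ℕ) (hj : j < chevE7.rank) (t : F) :
    hF.xGL (chevE7.simple j) t ∈ ⁅chevE7.group F, chevE7.group F⁆ := by
  have hj' : j < 7 := hj
  interval_cases j
  · exact hF.comm_mem 1 125 _ (-1) (Or.inr rfl) comm_E7_0 t
  · exact hF.comm_mem 7 122 _ (-1) (Or.inr rfl) comm_E7_1 t
  · exact hF.comm_mem 2 124 _ (-1) (Or.inr rfl) comm_E7_2 t
  · exact hF.comm_mem 3 123 _ (-1) (Or.inr rfl) comm_E7_3 t
  · exact hF.comm_mem 4 122 _ (-1) (Or.inr rfl) comm_E7_4 t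
  · exact hF.comm_mem 5 121 _ (-1) (Or.inr rfl) comm_E7_5 t
  · exact hF.comm_mem 6 120 _ (-1) (Or.inr rfl) comm_E7_6 t

theorem comm_E8_0 : commOK chevE8 14 233 (chevE8.simple 0) (-1) = true := by decide +kernel
theorem comm_E8_1 : commOK chevE8 7 234 (chevE8.simple 1) (-1) = true := by decide +kernel
theorem comm_E8_2 : commOK chevE8 6 234 (chevE8.simple 2) (-1) = true := by decide +kernel
theorem comm_E8_3 : commOK chevE8 5 235 (chevE8.simple 3) (-1) = true := by decide +kernel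
theorem comm_E8_4 : commOK chevE8 4 236 (chevE8.simple 4) (-1) = true := by decide +kernel
theorem comm_E8_5 : commOK chevE8 3 237 (chevE8.simple 5) (-1) = true := by decide +kernel
theorem comm_E8_6 : commOK chevE8 2 238 (chevE8.simple 6) (-1) = true := by decide +kernel
theorem comm_E8_7 : commOK chevE8 1 239 (chevE8.simple 7) (-1) = true := by decide +kernel

theorem simpleQ_E8 {F : Type*} [Field F] (hF : Facts chevE8) (j : ℕ) (hj : j < chevE8.rank) (t : F) :
    hF.xGL (chevE8.simple j) t ∈ ⁅chevE8.group F, chevE8.group F⁆ := by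
  have hj' : j < 8 := hj
  interval_cases j
  · exact hF.comm_mem 14 233 _ (-1) (Or.inr rfl) comm_E8_0 t
  · exact hF.comm_mem 7 234 _ (-1) (Or.inr rfl) comm_E8_1 t
  · exact hF.comm_mem 6 234 _ (-1) (Or.inr rfl) comm_E8_2 t
  · exact hF.comm_mem 5 235 _ (-1) (Or.inr rfl) comm_E8_3 t
  · exact hF.comm_mem 4 236 _ (-1) (Or.inr rfl) comm_E8_4 t
  · exact hF.comm_mem 3 237 _ (-1) (Or.inr rfl) comm_E8_5 t
  · exact hF.comm_mem 2 238 _ (-1) (Or.inr rfl) comm_E8_6 t
  · exact hF.comm_mem 1 239 _ (-1) (Or.inr rfl) comm_E8_7 t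

theorem torusA_G2_0 : (Aroot chevG2 1 (chevG2.simple 0) = 1 ∨ Aroot chevG2 1 (chevG2.simple 0) = -1) ∧
    1 < chevG2.nroots ∧ chevG2.simple 0 < chevG2.nroots := by decide +kernel
theorem torusA_G2_1 : (Aroot chevG2 0 (chevG2.simple 1) = 1 ∨ Aroot chevG2 0 (chevG2.simple 1) = -1) ∧
    0 < chevG2.nroots ∧ chevG2.simple 1 < chevG2.nroots := by decide +kernel

theorem simpleQ_G2 {F : Type*} [Field F] (hF : Facts chevG2) (a : F) (ha0 : a ≠ 0) (ha1 : a ≠ 1)
    (j : ℕ) (hj : j < chevG2.rank) (t : F) :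
    hF.xGL (chevG2.simple j) t ∈ ⁅chevG2.group F, chevG2.group F⁆ := by
  have hj' : j < 2 := hj
  interval_cases j
  · exact hF.torus_mem 1 _ torusA_G2_0.2.1 torusA_G2_0.2.2 torusA_G2_0.1 a ha0 ha1 t
  · exact hF.torus_mem 0 _ torusA_G2_1.2.1 torusA_G2_1.2.2 torusA_G2_1.1 a ha0 ha1 t

theorem torusA_B2_0 : (Aroot chevB2 0 (chevB2.simple 0) = 1 ∨ Aroot chevB2 0 (chevB2.simple 0) = -1) ∧
    0 < chevB2.nroots ∧ chevB2.simple 0 < chevB2.nroots := by decide +kernel
theorem torusA_B2_m : (Aroot chevB2 0 6 = 1 ∨ Aroot chevB2 0 6 = -1) ∧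
    0 < chevB2.nroots ∧ 6 < chevB2.nroots := by decide +kernel
theorem comm2_B2_1 : comm2OK chevB2 2 7 6 (chevB2.simple 1) 1 1 = true := by decide +kernel

theorem simpleQ_B2 {F : Type*} [Field F] (hF : Facts chevB2) (a : F) (ha0 : a ≠ 0) (ha1 : a ≠ 1)
    (j : ℕ) (hj : j < chevB2.rank) (t : F) :
    hF.xGL (chevB2.simple j) t ∈ ⁅chevB2.group F, chevB2.group F⁆ := by
  have hj' : j < 2 := hj
  interval_cases j
  · exact hF.torus_mem 0 _ torusA_B2_0.2.1 torusA_B2_0.2.2 torusA_B2_0.1 a ha0 ha1 t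
  · exact hF.comm2_mem 2 7 6 _ 1 1 (Or.inl rfl) comm2_B2_1
      (fun t' => hF.torus_mem 0 6 torusA_B2_m.2.1 torusA_B2_m.2.2 torusA_B2_m.1 a ha0 ha1 t') t

theorem simpleQ_all {F : Type*} [Field F] (D : ChevalleyDatum)
    (hD : D ∈ [chevG2, chevB2, chevD4, chevF4, chevE6, chevE7, chevE8]) (hF : Facts D)
    (h2 : D = chevG2 ∨ D = chevB2 → ∃ a : F, a ≠ 0 ∧ a ≠ 1) (j : ℕ) (hj : j < D.rank) (t : F) :
    hF.xGL (D.simple j) t ∈ ⁅D.group F, D.group F⁆ := by
  simp only [List.mem_cons, List.not_mem_nil, or_false] at hD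
  rcases hD with rfl | rfl | rfl | rfl | rfl | rfl | rfl
  · obtain ⟨a, ha0, ha1⟩ := h2 (Or.inl rfl)
    exact simpleQ_G2 hF a ha0 ha1 j hj t
  · obtain ⟨a, ha0, ha1⟩ := h2 (Or.inr rfl)
    exact simpleQ_B2 hF a ha0 ha1 j hj t
  · exact simpleQ_D4 hF j hj t
  · exact simpleQ_F4 hF j hj t
  · exact simpleQ_E6 hF j hj t
  · exact simpleQ_E7 hF j hj t
  · exact simpleQ_E8 hF j hj t

end Cfsg.Agent.Lib.Helper24
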