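import Mathlib
import Cfsg.Agent.Lib.Helper24.HNormal

set_option autoImplicit false
set_option linter.unusedSimpArgs false

namespace Cfsg.Agent.Lib.Helper24

open Cfsg.Lie
open scoped commutatorElement

/-- `x_a(t) x_b(u) = x_b(u) x_a(t) x_r(c t u)` -/
def commOK (D : ChevalleyDatum) (a b r : ℕ) (c : ℤ) : Bool :=
  checkWordF D false [a, b, r] [(a, Poly.x0), (b, Poly.x1)]
    [(b, Poly.x1), (a, Poly.x0), (r, Poly.mul (Poly.ofInt c) (Poly.mul Poly.x0 Poly.x1))]

/-- `x_a(t) x_b(u) = x_b(u) x_a(t) x_m(c₁ t u) x_r(c₂ t² u)` -/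
def comm2OK (D : ChevalleyDatum) (a b m r : ℕ) (c₁ c₂ : ℤ) : Bool :=
  checkWordF D false [a, b, m, r] [(a, Poly.x0), (b, Poly.x1)]
    [(b, Poly.x1), (a, Poly.x0), (m, Poly.mul (Poly.ofInt c₁) (Poly.mul Poly.x0 Poly.x1)),
      (r, Poly.mul (Poly.ofInt c₂) (Poly.mul (Poly.mul Poly.x0 Poly.x0) Poly.x1))]

section perfect

variable {F : Type*} [Field F] {D : ChevalleyDatum} {tab : List ℕ} {orb : List (ℕ × ℕ × ℕ)}

theorem comm_le_self {G : Type*} [Group G] (K : Subgroup G) : ⁅K, K⁆ ≤ K := by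
  rw [Subgroup.commutator_le]
  intro g₁ h₁ g₂ h₂
  rw [commutatorElement_def]
  exact K.mul_mem (K.mul_mem (K.mul_mem h₁ h₂) (K.inv_mem h₁)) (K.inv_mem h₂)

theorem comm_conj_mem {G : Type*} [Group G] (K : Subgroup G) (g c : G) (hg : g ∈ K) (hc : c ∈ ⁅K, K⁆) :
    g * c * g⁻¹ ∈ ⁅K, K⁆ := by
  have h1 : ⁅g, c⁆ ∈ ⁅K, K⁆ :=
    Subgroup.commutator_mem_commutator hg (comm_le_self K hc)
  have e : g * c * g⁻¹ = ⁅g, c⁆ * c := by
    rw [commutatorElement_def]; group
  rw [e]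
  exact Subgroup.mul_mem _ h1 hc

/-- single-term commutator relation -/
theorem Facts.comm_mem (hF : Facts D) (a b r : ℕ) (c : ℤ) (hc : c = 1 ∨ c = -1)
    (h : commOK D a b r c = true) (t : F) : hF.xGL r t ∈ ⁅D.group F, D.group F⁆ := by
  have h1 := wordMat_eq_of_checkWordF D (((c : ℤ) : F) * t) (1 : F) 1 1 hF.table false (by simp) _ _ _ h
  have h2 : hF.xGL a (((c : ℤ) : F) * t) * hF.xGL b (1 : F) =
      hF.xGL b (1 : F) * hF.xGL a (((c : ℤ) : F) * t) * hF.xGL r t := by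
    apply Units.ext
    simp only [Units.val_mul, Facts.xGL_val]
    have e : ((c : ℤ) : F) * (((c : ℤ) : F) * t) = t := by
      rcases hc with rfl | rfl <;> simp
    simpa [ChevalleyDatum.wordMat, denW, Poly.den_mul, Poly.den_ofInt, mul_assoc, e] using h1
  have h3 : hF.xGL r t = ⁅(hF.xGL a (((c : ℤ) : F) * t))⁻¹, (hF.xGL b (1 : F))⁻¹⁆ := by
    rw [commutatorElement_def, inv_inv, inv_inv]
    have : hF.xGL r t = (hF.xGL b (1 : F) * hF.xGL a (((c : ℤ) : F) * t))⁻¹ *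
        (hF.xGL a (((c : ℤ) : F) * t) * hF.xGL b (1 : F)) := by
      rw [h2]; group
    rw [this]; group
  rw [h3]
  exact Subgroup.commutator_mem_commutator (Subgroup.inv_mem _ (hF.xGL_mem_group _ _))
    (Subgroup.inv_mem _ (hF.xGL_mem_group _ _))

/-- two-term commutator relation -/
theorem Facts.comm2_mem (hF : Facts D) (a b m r : ℕ) (c₁ c₂ : ℤ) (hc : c₂ = 1 ∨ c₂ = -1)
    (h : comm2OK D a b m r c₁ c₂ = true)
    (hm : ∀ t : F, hF.xGL m t ∈ ⁅D.group F, D.group F⁆) (t : F) :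
    hF.xGL r t ∈ ⁅D.group F, D.group F⁆ := by
  have h1 := wordMat_eq_of_checkWordF D (1 : F) (((c₂ : ℤ) : F) * t) 1 1 hF.table false (by simp) _ _ _ h
  have h2 : hF.xGL a (1 : F) * hF.xGL b (((c₂ : ℤ) : F) * t) =
      hF.xGL b (((c₂ : ℤ) : F) * t) * hF.xGL a (1 : F) *
        hF.xGL m (((c₁ : ℤ) : F) * (((c₂ : ℤ) : F) * t)) * hF.xGL r t := by
    apply Units.ext
    simp only [Units.val_mul, Facts.xGL_val]
    have e : ((c₂ : ℤ) : F) * (((c₂ : ℤ) : F) * t) = t := by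
      rcases hc with rfl | rfl <;> simp
    simpa [ChevalleyDatum.wordMat, denW, Poly.den_mul, Poly.den_ofInt, mul_assoc, e] using h1
  have h3 : hF.xGL r t = (hF.xGL m (((c₁ : ℤ) : F) * (((c₂ : ℤ) : F) * t)))⁻¹ *
      ⁅(hF.xGL a (1 : F))⁻¹, (hF.xGL b (((c₂ : ℤ) : F) * t))⁻¹⁆ := by
    rw [commutatorElement_def, inv_inv, inv_inv]
    have : hF.xGL r t = (hF.xGL b (((c₂ : ℤ) : F) * t) * hF.xGL a (1 : F) *
        hF.xGL m (((c₁ : ℤ) : F) * (((c₂ : ℤ) : F) * t)))⁻¹ *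
        (hF.xGL a (1 : F) * hF.xGL b (((c₂ : ℤ) : F) * t)) := by
      rw [h2]; group
    rw [this]; group
  rw [h3]
  exact Subgroup.mul_mem _ (Subgroup.inv_mem _ (hm _))
    (Subgroup.commutator_mem_commutator (Subgroup.inv_mem _ (hF.xGL_mem_group _ _))
      (Subgroup.inv_mem _ (hF.xGL_mem_group _ _)))

/-- torus argument -/
theorem Facts.torus_mem (hF : Facts D) (s r : ℕ) (hs : s < D.nroots) (hr : r < D.nroots)
    (hA : Aroot D s r = 1 ∨ Aroot D s r = -1) (a : F) (ha0 : a ≠ 0) (ha1 : a ≠ 1) (t : F) :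
    hF.xGL r t ∈ ⁅D.group F, D.group F⁆ := by
  set g := hF.wordGL (D.hWord s a) with hg
  have hgG : g ∈ D.group F := hF.wordGL_mem_group _
  have hgv : (g : Matrix D.Idx D.Idx F) = D.hMat F s a := by rw [hg, hF.wordGL_val]; rfl
  have hne : a ^ Aroot D s r - 1 ≠ 0 := by
    rcases hA with h | h <;> rw [h]
    · simpa [sub_eq_zero] using ha1
    · simp only [zpow_neg, zpow_one]
      intro h0
      apply ha1
      have : a⁻¹ = 1 := sub_eq_zero.mp h0
      exact inv_eq_one.mp this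
  have hc := hF.hgen_mul_xGL g s hs a ha0 hgv r hr ((a ^ Aroot D s r - 1)⁻¹ * t)
  have h3 : hF.xGL r t = ⁅g, hF.xGL r ((a ^ Aroot D s r - 1)⁻¹ * t)⁆ := by
    rw [commutatorElement_def, hc, hF.xGL_inv, hF.xGL_mul]
    congr 1
    field_simp
    ring
  rw [h3]
  exact Subgroup.commutator_mem_commutator hgG (hF.xGL_mem_group _ _)

/-- if the root elements of the fundamental roots lie in the derived group, all root elements do -/
theorem Facts.all_mem_of_simple (hF : Facts D) (hN : NFacts D tab) (hH : HNFacts D tab orb)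
    (hS : ∀ j < D.rank, ∀ t : F, hF.xGL (D.simple j) t ∈ ⁅D.group F, D.group F⁆)
    (r : ℕ) (hr : r < D.nroots) (t : F) : hF.xGL r t ∈ ⁅D.group F, D.group F⁆ := by
  refine orbit_induction D tab orb hH.orbit
    (fun r => ∀ t : F, hF.xGL r t ∈ ⁅D.group F, D.group F⁆) ?_ ?_ r hr t
  · intro j hj _ _ t
    exact hS j hj t
  · intro r i r' hi hr' hw _ hQ t
    rw [wfast_eq D _ i (hH.perm i hi) r' hr'] at hw
    subst hw
    have hc := hF.nS_conj' (F := F) hN i hi r' hr' (((etaT D (tab.getD i 0) r' : ℤ) : F) * t)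
    have e : ((etaT D (tab.getD i 0) r' : ℤ) : F) * (((etaT D (tab.getD i 0) r' : ℤ) : F) * t) = t := by
      rcases etaT_cases D (tab.getD i 0) r' with h | h <;> rw [h] <;> simp
    rw [e] at hc
    rw [← hc]
    have hnG : hF.nS (F := F) i ∈ D.group F := hF.wordGL_mem_group _
    exact comm_conj_mem _ _ _ hnG (hQ _)

/-- S1052 from the fundamental roots -/
theorem Facts.perfect_of_simple (hF : Facts D) (hN : NFacts D tab) (hH : HNFacts D tab orb)
    (hS : ∀ j < D.rank, ∀ t : F, hF.xGL (D.simple j) t ∈ ⁅D.group F, D.group F⁆) :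
    commutator ↥(D.group F) = ⊤ := by
  have hle : D.group F ≤ ⁅D.group F, D.group F⁆ := by
    conv_lhs => unfold ChevalleyDatum.group
    rw [Subgroup.closure_le]
    rintro g ⟨r, t, hg⟩
    have hx : D.x F r.val t = D.xMat F r t := by simp [ChevalleyDatum.x]
    rw [← hx] at hg
    rw [hF.eq_xGL g r.val t hg]
    exact hF.all_mem_of_simple hN hH hS r.val r.isLt t
  have heq : ⁅D.group F, D.group F⁆ = D.group F :=
    le_antisymm (comm_le_self _) hle
  apply Subgroup.map_injective (D.group F).subtype_injective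
  rw [Subgroup.map_subtype_commutator, heq, ← MonoidHom.range_eq_map, Subgroup.range_subtype]

end perfect

end Cfsg.Agent.Lib.Helper24
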