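import Mathlib

set_option autoImplicit false

namespace Cfsg.Agent.Lib.Helper24

/-- A monomial in four variables. -/
structure Mono where
  e0 : ℕ
  e1 : ℕ
  e2 : ℕ
  e3 : ℕ

namespace Mono

def one : Mono := ⟨0, 0, 0, 0⟩

def mul (a b : Mono) : Mono := ⟨a.e0 + b.e0, a.e1 + b.e1, a.e2 + b.e2, a.e3 + b.e3⟩

def beq (a b : Mono) : Bool :=
  Nat.beq a.e0 b.e0 && (Nat.beq a.e1 b.e1 && (Nat.beq a.e2 b.e2 && Nat.beq a.e3 b.e3))

def lt (a b : Mono) : Bool :=
  cond (Nat.blt a.e0 b.e0) true <| cond (Nat.blt b.e0 a.e0) false <|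
  cond (Nat.blt a.e1 b.e1) true <| cond (Nat.blt b.e1 a.e1) false <|
  cond (Nat.blt a.e2 b.e2) true <| cond (Nat.blt b.e2 a.e2) false <|
  Nat.blt a.e3 b.e3

theorem eq_of_beq {a b : Mono} (h : beq a b = true) : a = b := by
  cases a; cases b
  simp only [beq, Bool.and_eq_true] at h
  obtain ⟨h0, h1, h2, h3⟩ := h
  have := Nat.eq_of_beq_eq_true h0
  have := Nat.eq_of_beq_eq_true h1
  have := Nat.eq_of_beq_eq_true h2
  have := Nat.eq_of_beq_eq_true h3
  simp_all

/-- cancel the common part of the first two exponents (for the relation x0 * x1 = 1). -/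
def reduce (a : Mono) : Mono :=
  ⟨a.e0 - min a.e0 a.e1, a.e1 - min a.e0 a.e1, a.e2, a.e3⟩

variable {F : Type*} [CommRing F]

def den (x0 x1 x2 x3 : F) (m : Mono) : F := x0 ^ m.e0 * x1 ^ m.e1 * x2 ^ m.e2 * x3 ^ m.e3

theorem den_one (x0 x1 x2 x3 : F) : den x0 x1 x2 x3 one = 1 := by simp [den, one]

theorem den_mul (x0 x1 x2 x3 : F) (a b : Mono) :
    den x0 x1 x2 x3 (mul a b) = den x0 x1 x2 x3 a * den x0 x1 x2 x3 b := by
  simp only [den, mul, pow_add]; ring

theorem den_reduce (x0 x1 x2 x3 : F) (h : x0 * x1 = 1) (a : Mono) :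
    den x0 x1 x2 x3 (reduce a) = den x0 x1 x2 x3 a := by
  simp only [den, reduce]
  have key : ∀ k, k ≤ a.e0 → k ≤ a.e1 → x0 ^ (a.e0 - k) * x1 ^ (a.e1 - k) = x0 ^ a.e0 * x1 ^ a.e1 := by
    intro k h0 h1
    have e0 : a.e0 = (a.e0 - k) + k := by omega
    have e1 : a.e1 = (a.e1 - k) + k := by omega
    conv_rhs => rw [e0, e1, pow_add, pow_add]
    have : x0 ^ k * x1 ^ k = 1 := by rw [← mul_pow, h, one_pow]
    calc x0 ^ (a.e0 - k) * x1 ^ (a.e1 - k) = x0 ^ (a.e0 - k) * x1 ^ (a.e1 - k) * (x0 ^ k * x1 ^ k) := by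
          rw [this, mul_one]
      _ = _ := by ring
  rw [key _ (min_le_left _ _) (min_le_right _ _)]

end Mono

/-- Polynomials with integer coefficients: lists of (monomial, coefficient). -/
abbrev Poly := List (Mono × ℤ)

namespace Poly

def izero (c : ℤ) : Bool :=
  match c with
  | Int.ofNat n => Nat.beq n 0
  | Int.negSucc _ => false

theorem eq_zero_of_izero {c : ℤ} (h : izero c = true) : c = 0 := by
  cases c with
  | ofNat n => simp only [izero] at h; have := Nat.eq_of_beq_eq_true h; subst this; rfl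
  | negSucc n => simp [izero] at h

def insert (m : Mono) (c : ℤ) : Poly → Poly
  | [] => cond (izero c) [] [(m, c)]
  | (m', c') :: rest =>
    cond (Mono.lt m m') ((m, c) :: (m', c') :: rest) <|
    cond (Mono.beq m m') (cond (izero (c + c')) rest ((m', c + c') :: rest)) <|
    (m', c') :: insert m c rest

def add (p q : Poly) : Poly := p.foldr (fun mc acc => insert mc.1 mc.2 acc) q

def mulMono (m : Mono) (c : ℤ) (q : Poly) : Poly := q.map fun mc => (Mono.mul m mc.1, c * mc.2)

def mul (p q : Poly) : Poly := p.foldr (fun mc acc => add (mulMono mc.1 mc.2 q) acc) []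

def neg (p : Poly) : Poly := p.map fun mc => (mc.1, -mc.2)

def ofInt (z : ℤ) : Poly := cond (izero z) [] [(Mono.one, z)]

def one : Poly := [(Mono.one, 1)]

def pow (p : Poly) : ℕ → Poly
  | 0 => one
  | n + 1 => mul p (pow p n)

def reduce (p : Poly) : Poly := p.foldr (fun mc acc => insert (Mono.reduce mc.1) mc.2 acc) []

def isZero : Poly → Bool
  | [] => true
  | _ :: _ => false

def x0 : Poly := [(⟨1, 0, 0, 0⟩, 1)]
def x1 : Poly := [(⟨0, 1, 0, 0⟩, 1)]
def x2 : Poly := [(⟨0, 0, 1, 0⟩, 1)]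
def x3 : Poly := [(⟨0, 0, 0, 1⟩, 1)]

variable {F : Type*} [CommRing F]

def den (x0 x1 x2 x3 : F) (p : Poly) : F :=
  (p.map fun mc => (mc.2 : F) * Mono.den x0 x1 x2 x3 mc.1).sum

variable (y0 y1 y2 y3 : F)

@[simp] theorem den_nil : den y0 y1 y2 y3 [] = 0 := rfl

@[simp] theorem den_cons (mc : Mono × ℤ) (p : Poly) :
    den y0 y1 y2 y3 (mc :: p) = (mc.2 : F) * Mono.den y0 y1 y2 y3 mc.1 + den y0 y1 y2 y3 p := by
  simp [den]

theorem den_insert (m : Mono) (c : ℤ) (p : Poly) :
    den y0 y1 y2 y3 (insert m c p) = (c : F) * Mono.den y0 y1 y2 y3 m + den y0 y1 y2 y3 p := by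
  induction p with
  | nil =>
    simp only [insert]
    cases h : izero c
    · simp
    · simp [eq_zero_of_izero h]
  | cons mc rest ih =>
    obtain ⟨m', c'⟩ := mc
    simp only [insert]
    cases h1 : Mono.lt m m'
    · cases h2 : Mono.beq m m'
      · simp only [cond_false, den_cons, ih]; ring
      · have := Mono.eq_of_beq h2
        subst this
        cases h3 : izero (c + c')
        · simp only [cond_false, cond_true, den_cons]; push_cast; ring
        · have h4 := eq_zero_of_izero h3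
          simp only [cond_false, cond_true, den_cons]
          have : (c : F) + (c' : F) = 0 := by exact_mod_cast congrArg (Int.cast : ℤ → F) h4
          calc den y0 y1 y2 y3 rest = ((c : F) + (c' : F)) * Mono.den y0 y1 y2 y3 m + den y0 y1 y2 y3 rest := by
                rw [this]; ring
            _ = _ := by ring
    · simp only [cond_true, den_cons]

theorem den_add (p q : Poly) : den y0 y1 y2 y3 (add p q) = den y0 y1 y2 y3 p + den y0 y1 y2 y3 q := by
  induction p with
  | nil => simp [add]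
  | cons mc rest ih =>
    simp only [add, List.foldr_cons, den_insert, den_cons] at ih ⊢
    rw [ih]; ring

theorem den_mulMono (m : Mono) (c : ℤ) (q : Poly) :
    den y0 y1 y2 y3 (mulMono m c q) = (c : F) * Mono.den y0 y1 y2 y3 m * den y0 y1 y2 y3 q := by
  induction q with
  | nil => simp [mulMono]
  | cons mc rest ih =>
    simp only [mulMono, List.map_cons, den_cons, Mono.den_mul] at ih ⊢
    rw [ih]; push_cast; ring

theorem den_mul (p q : Poly) : den y0 y1 y2 y3 (mul p q) = den y0 y1 y2 y3 p * den y0 y1 y2 y3 q := by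
  induction p with
  | nil => simp [mul]
  | cons mc rest ih =>
    simp only [mul, List.foldr_cons, den_add, den_mulMono, den_cons] at ih ⊢
    rw [ih]; ring

theorem den_neg (p : Poly) : den y0 y1 y2 y3 (neg p) = - den y0 y1 y2 y3 p := by
  induction p with
  | nil => simp [neg]
  | cons mc rest ih =>
    simp only [neg, List.map_cons, den_cons] at ih ⊢
    rw [ih]; push_cast; ring

theorem den_ofInt (z : ℤ) : den y0 y1 y2 y3 (ofInt z) = (z : F) := by
  simp only [ofInt]
  cases h : izero z
  · simp [Mono.den_one]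
  · simp [eq_zero_of_izero h]

@[simp] theorem den_one : den y0 y1 y2 y3 one = 1 := by simp [one, Mono.den_one]

theorem den_pow (p : Poly) (n : ℕ) : den y0 y1 y2 y3 (pow p n) = den y0 y1 y2 y3 p ^ n := by
  induction n with
  | zero => simp [pow]
  | succ n ih => simp only [pow, den_mul, ih, pow_succ]; ring

theorem den_reduce (h : y0 * y1 = 1) (p : Poly) : den y0 y1 y2 y3 (reduce p) = den y0 y1 y2 y3 p := by
  induction p with
  | nil => simp [reduce]
  | cons mc rest ih =>
    simp only [reduce, List.foldr_cons, den_insert, den_cons, Mono.den_reduce _ _ _ _ h] at ih ⊢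
    rw [ih]

theorem den_eq_zero_of_isZero (p : Poly) (h : isZero p = true) : den y0 y1 y2 y3 p = 0 := by
  cases p with
  | nil => rfl
  | cons a b => simp [isZero] at h

@[simp] theorem den_x0 : den y0 y1 y2 y3 x0 = y0 := by simp [x0, Mono.den]
@[simp] theorem den_x1 : den y0 y1 y2 y3 x1 = y1 := by simp [x1, Mono.den]
@[simp] theorem den_x2 : den y0 y1 y2 y3 x2 = y2 := by simp [x2, Mono.den]
@[simp] theorem den_x3 : den y0 y1 y2 y3 x3 = y3 := by simp [x3, Mono.den]

end Poly

end Cfsg.Agent.Lib.Helper24
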