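import Cfsg.Agent.Lib.Helper24.UpNorm
import Cfsg.Agent.Lib.Helper24.HNormal
import Mathlib.GroupTheory.DoubleCoset

set_option autoImplicit false
set_option linter.unusedSimpArgs false

namespace Cfsg.Agent.Lib.Helper24

open Cfsg.Lie

/-- the reflection in the fundamental root `p_i` permutes the positive roots other than `p_i` -/
def reflPosOK (D : ChevalleyDatum) (i : ℕ) : Bool :=
  forceNat (D.simple i) fun p =>
  decide (D.IsPosRoot p) &&
  allBelow (fun s => !(decide (D.IsPosRoot s)) || Nat.beq s p ||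
     forceNat (D.reflectRoot i s) fun r => (decide (D.IsPosRoot r) && !(Nat.beq r p))) D.nroots

theorem reflPosOK_spec (D : ChevalleyDatum) (i : ℕ) (h : reflPosOK D i = true) :
    D.IsPosRoot (D.simple i) ∧ ∀ s, D.IsPosRoot s → s ≠ D.simple i →
      D.IsPosRoot (D.reflectRoot i s) ∧ D.reflectRoot i s ≠ D.simple i := by
  simp only [reflPosOK, forceNat_eq, Bool.and_eq_true, decide_eq_true_eq] at h
  refine ⟨h.1, fun s hs hsp => ?_⟩
  have h1 := allBelow_elim _ _ h.2 s hs.1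
  simp only [forceNat_eq, Bool.or_eq_true, Bool.not_eq_true', decide_eq_false_iff_not, nbeq_true,
    Bool.and_eq_true, nbeq_false, decide_eq_true_eq] at h1
  rcases h1 with (h1 | h1) | h1
  · exact absurd hs h1
  · exact absurd h1 hsp
  · exact h1

section groups

variable {G : Type*} [Group G]

/-- `B ∪ B n B` is a subgroup as soon as `n² ∈ B` and `n B n ⊆ B ∪ B n B` -/
theorem exists_subgroup_union_doubleCoset (B : Subgroup G) (n : G) (hsq : n * n ∈ B)
    (key : ∀ b ∈ B, n * b * n ∈ (B : Set G) ∪ DoubleCoset.doubleCoset n (B : Set G) B) :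
    ∃ P : Subgroup G, (P : Set G) = (B : Set G) ∪ DoubleCoset.doubleCoset n (B : Set G) B := by
  have hmemD : ∀ x, x ∈ DoubleCoset.doubleCoset n (B : Set G) B ↔
      ∃ b₁ ∈ B, ∃ b₂ ∈ B, x = b₁ * n * b₂ := by
    intro x; exact DoubleCoset.mem_doubleCoset
  refine ⟨{ carrier := (B : Set G) ∪ DoubleCoset.doubleCoset n (B : Set G) B
            one_mem' := Or.inl B.one_mem
            mul_mem' := ?_
            inv_mem' := ?_ }, rfl⟩
  · rintro x y (hx | hx) (hy | hy)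
    · exact Or.inl (B.mul_mem hx hy)
    · obtain ⟨b₁, h₁, b₂, h₂, rfl⟩ := (hmemD _).mp hy
      right; rw [hmemD]
      exact ⟨x * b₁, B.mul_mem hx h₁, b₂, h₂, by group⟩
    · obtain ⟨b₁, h₁, b₂, h₂, rfl⟩ := (hmemD _).mp hx
      right; rw [hmemD]
      exact ⟨b₁, h₁, b₂ * y, B.mul_mem h₂ hy, by group⟩
    · obtain ⟨b₁, h₁, b₂, h₂, rfl⟩ := (hmemD _).mp hx
      obtain ⟨b₃, h₃, b₄, h₄, rfl⟩ := (hmemD _).mp hy
      have e : b₁ * n * b₂ * (b₃ * n * b₄) = b₁ * (n * (b₂ * b₃) * n) * b₄ := by group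
      rw [e]
      rcases key (b₂ * b₃) (B.mul_mem h₂ h₃) with h | h
      · exact Or.inl (B.mul_mem (B.mul_mem h₁ h) h₄)
      · obtain ⟨c₁, hc₁, c₂, hc₂, hc⟩ := (hmemD _).mp h
        right; rw [hmemD]
        exact ⟨b₁ * c₁, B.mul_mem h₁ hc₁, c₂ * b₄, B.mul_mem hc₂ h₄, by rw [hc]; group⟩
  · rintro x (hx | hx)
    · exact Or.inl (B.inv_mem hx)
    · obtain ⟨b₁, h₁, b₂, h₂, rfl⟩ := (hmemD _).mp hx
      right; rw [hmemD]
      exact ⟨b₂⁻¹ * (n * n)⁻¹, B.mul_mem (B.inv_mem h₂) (B.inv_mem hsq), b₁⁻¹, B.inv_mem h₁,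
        by group⟩

end groups

section rankone

variable {F : Type*} [Field F] {D : ChevalleyDatum} {tab : List ℕ} {orb : List (ℕ × ℕ × ℕ)}

theorem Facts.exists_of_mem_rootSubgroup (hF : Facts D) (r : ℕ) (g : GL D.Idx F)
    (hg : g ∈ D.rootSubgroup F r) : ∃ t : F, g = hF.xGL r t := by
  unfold ChevalleyDatum.rootSubgroup at hg
  induction hg using Subgroup.closure_induction with
  | mem x hx => obtain ⟨t, ht⟩ := hx; exact ⟨t, hF.eq_xGL x r t ht⟩
  | one => exact ⟨0, (hF.xGL_zero r).symm⟩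
  | mul x y _ _ hx hy =>
    obtain ⟨t, rfl⟩ := hx; obtain ⟨u, rfl⟩ := hy; exact ⟨t + u, hF.xGL_mul r t u⟩
  | inv x _ hx => obtain ⟨t, rfl⟩ := hx; exact ⟨-t, hF.xGL_inv r t⟩

theorem reflectRoot_simple (D : ChevalleyDatum) (i : ℕ) :
    D.reflectRoot i (D.simple i) = D.neg (D.simple i) := by
  unfold ChevalleyDatum.reflectRoot
  simp

/-- `n_p` normalises `U_p` (one inclusion) -/
theorem Facts.nS_conj_Up (hF : Facts D) (hN : NFacts D tab) (i : ℕ) (hi : i < D.rank)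
    (hR : reflPosOK D i = true) (g : GL D.Idx F) (hg : g ∈ Up D F i) :
    hF.nS i * g * (hF.nS i)⁻¹ ∈ Up D F i := by
  obtain ⟨_, hrefl⟩ := reflPosOK_spec D i hR
  unfold Up at hg ⊢
  refine conj_mem_closure _ (hF.nS (F := F) i) ?_ g hg
  rintro x ⟨s, t, hs, hsp, hx⟩
  rw [hF.eq_xGL x s t hx, hF.nS_conj' hN i hi s hs.1 t]
  exact Subgroup.subset_closure ⟨_, _, (hrefl s hs hsp).1, (hrefl s hs hsp).2, rfl⟩

/-- `x_{-p}(v) = x_p(v⁻¹) n_p(-v⁻¹) x_p(v⁻¹)` -/
theorem Facts.xGL_neg_eq (hF : Facts D) (p : ℕ) (v : F) :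
    hF.xGL (D.neg p) v = hF.xGL p v⁻¹ * hF.nGL p (-v⁻¹) * hF.xGL p v⁻¹ := by
  rw [hF.nGL_def]
  have e : -(-v⁻¹)⁻¹ = v := by simp
  rw [e]
  calc hF.xGL (D.neg p) v
      = (hF.xGL p v⁻¹ * hF.xGL p (-v⁻¹)) * hF.xGL (D.neg p) v * (hF.xGL p (-v⁻¹) * hF.xGL p v⁻¹) := by
        rw [hF.xGL_mul, hF.xGL_mul, add_neg_cancel, neg_add_cancel, hF.xGL_zero, one_mul, mul_one]
    _ = _ := by group

/-- the key step: `n_p b n_p ∈ B ∪ B n_p B` -/
theorem Facts.nS_mul_borel_mul_nS (hF : Facts D) (hN : NFacts D tab) (hH : HNFacts D tab orb)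
    (i : ℕ) (hi : i < D.rank) (hR : reflPosOK D i = true)
    (hUn : D.rootSubgroup F (D.simple i) ≤ Subgroup.normalizer (Up D F i : Set (GL D.Idx F)))
    (hUs : Up D F i ⊔ D.rootSubgroup F (D.simple i) = D.posUnipotent F)
    (b : GL D.Idx F) (hb : b ∈ D.borelSubgroup F) :
    hF.nS i * b * hF.nS i ∈ (D.borelSubgroup F : Set (GL D.Idx F)) ∪
      DoubleCoset.doubleCoset (hF.nS i) (D.borelSubgroup F : Set (GL D.Idx F)) (D.borelSubgroup F) := by
  obtain ⟨hpos, _⟩ := reflPosOK_spec D i hR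
  have hUB : D.posUnipotent F ≤ D.borelSubgroup F := by
    unfold ChevalleyDatum.borelSubgroup; exact le_sup_left
  have hHB : D.diagonalSubgroup F ≤ D.borelSubgroup F := by
    unfold ChevalleyDatum.borelSubgroup; exact le_sup_right
  have hUpU : Up D F i ≤ D.posUnipotent F := by rw [← hUs]; exact le_sup_left
  -- decompose b
  unfold ChevalleyDatum.borelSubgroup at hb
  obtain ⟨u, hu, h, hh, rfl⟩ := exists_mul_of_mem_sup_of_le_normalizer _ _
    hF.diagonal_le_normalizer_pos b hb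
  rw [← hUs] at hu
  obtain ⟨u', hu', x, hx, rfl⟩ := exists_mul_of_mem_sup_of_le_normalizer _ _ hUn u hu
  obtain ⟨t, rfl⟩ := hF.exists_of_mem_rootSubgroup _ x hx
  -- conjugate the pieces
  have h1 := hF.nS_conj_Up hN i hi hR u' hu'
  have h2 := hF.nS_conj' (F := F) hN i hi (D.simple i) hpos.1 t
  rw [reflectRoot_simple] at h2
  have hnorm := hF.nS_mem_normalizer (F := F) hN hH i hi hpos.1
  have h3 : hF.nS i * h * (hF.nS i)⁻¹ ∈ D.diagonalSubgroup F :=
    (Subgroup.mem_normalizer_iff.mp hnorm h).mp hh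
  have h4 : hF.nS (F := F) i * hF.nS i ∈ D.diagonalSubgroup F := hF.nGL_sq_mem _ hpos.1
  have e : hF.nS i * (u' * hF.xGL (D.simple i) t * h) * hF.nS i =
      (hF.nS i * u' * (hF.nS i)⁻¹) * (hF.nS i * hF.xGL (D.simple i) t * (hF.nS i)⁻¹) *
        ((hF.nS i * h * (hF.nS i)⁻¹) * (hF.nS i * hF.nS i)) := by group
  rw [e, h2]
  set u'' := hF.nS i * u' * (hF.nS i)⁻¹ with hu''
  set h' := (hF.nS i * h * (hF.nS i)⁻¹) * (hF.nS i * hF.nS i) with hh'
  have hu''B : u'' ∈ D.borelSubgroup F := hUB (hUpU h1)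
  have hh'B : h' ∈ D.borelSubgroup F := hHB (Subgroup.mul_mem _ h3 h4)
  set v : F := ((etaT D (tab.getD i 0) (D.simple i) : ℤ) : F) * t with hv
  by_cases hv0 : v = 0
  · left
    rw [hv0, hF.xGL_zero, mul_one]
    exact Subgroup.mul_mem _ hu''B hh'B
  · right
    rw [DoubleCoset.mem_doubleCoset]
    have hxB : hF.xGL (D.simple i) v⁻¹ ∈ D.borelSubgroup F := hUB (hF.xGL_mem_pos _ hpos _)
    have hhh : hF.nGL (D.simple i) (-v⁻¹) * hF.nGL (D.simple i) (-1 : F) ∈ D.borelSubgroup F :=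
      hHB (hF.hGL_mem _ hpos.1 _ (neg_ne_zero.mpr (inv_ne_zero hv0)))
    refine ⟨u'' * hF.xGL (D.simple i) v⁻¹ *
        (hF.nGL (D.simple i) (-v⁻¹) * hF.nGL (D.simple i) (-1 : F)),
      Subgroup.mul_mem _ (Subgroup.mul_mem _ hu''B hxB) hhh,
      hF.xGL (D.simple i) v⁻¹ * h', Subgroup.mul_mem _ hxB hh'B, ?_⟩
    rw [hF.xGL_neg_eq _ v, hF.nGL_neg_one_eq_inv]
    unfold Facts.nS
    group

/-- S1044 -/
theorem Facts.borel_union_doubleCoset (hF : Facts D) (hN : NFacts D tab) (hH : HNFacts D tab orb)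
    (i : ℕ) (hi : i < D.rank) (hR : reflPosOK D i = true)
    (hUn : D.rootSubgroup F (D.simple i) ≤ Subgroup.normalizer (Up D F i : Set (GL D.Idx F)))
    (hUs : Up D F i ⊔ D.rootSubgroup F (D.simple i) = D.posUnipotent F)
    (n : GL D.Idx F) (hn : (n : Matrix D.Idx D.Idx F) = D.nMat F (D.simple i) 1) :
    ∃ P : Subgroup (GL D.Idx F), (P : Set (GL D.Idx F)) =
      (D.borelSubgroup F : Set (GL D.Idx F)) ∪
        DoubleCoset.doubleCoset n (D.borelSubgroup F : Set (GL D.Idx F)) (D.borelSubgroup F) := by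
  have hn' : n = hF.nS i := Units.ext (by rw [hn, hF.nS_val])
  subst hn'
  obtain ⟨hpos, _⟩ := reflPosOK_spec D i hR
  apply exists_subgroup_union_doubleCoset
  · have : D.diagonalSubgroup F ≤ D.borelSubgroup F := by
      unfold ChevalleyDatum.borelSubgroup; exact le_sup_right
    exact this (hF.nGL_sq_mem _ hpos.1)
  · exact fun b hb => hF.nS_mul_borel_mul_nS hN hH i hi hR hUn hUs b hb

end rankone

end Cfsg.Agent.Lib.Helper24
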