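import Mathlib

/-! Three-point stabilisers in a split rank-one situation `G = B ∪ U s⁻¹ B`, `B = U H`. -/

set_option autoImplicit false

namespace Cfsg.Agent.Lib.Helper24

open MulAction

section rankone

variable {G : Type*} [Group G] (B : Subgroup G)

theorem mem_stabilizer_coset (h a : G) :
    h ∈ stabilizer G ((a : G) : G ⧸ B) ↔ a⁻¹ * h * a ∈ B := by
  rw [mem_stabilizer_iff, MulAction.Quotient.smul_mk, QuotientGroup.eq]
  constructor
  · intro hh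
    have := B.inv_mem hh
    simpa [mul_assoc] using this
  · intro hh
    have := B.inv_mem hh
    simpa [mul_assoc] using this

/-- the hypotheses of the split rank-one situation -/
structure RankOneSplit (B U H : Subgroup G) (s : G) : Prop where
  hUB : U ≤ B
  hHB : H ≤ B
  hBUH : ∀ b ∈ B, ∃ u ∈ U, ∃ h ∈ H, b = u * h
  hHU : ∀ h ∈ H, ∀ u ∈ U, h * u * h⁻¹ ∈ U
  hcover : ∀ g, g ∉ B → ∃ u ∈ U, ∃ b ∈ B, g = u * s⁻¹ * b
  hsH : ∀ h ∈ H, s * h * s⁻¹ ∈ H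
  hTI : ∀ u ∈ U, s * u * s⁻¹ ∈ B → u = 1
  hs : s ∉ B

variable {B} {U H : Subgroup G} {s : G}

/-- the stabiliser of the three standard points -/
theorem RankOneSplit.stab_std (R : RankOneSplit B U H s) (u : G) (hu : u ∈ U) :
    stabilizer G (((1 : G) : G) : G ⧸ B) ⊓ stabilizer G ((s⁻¹ : G) : G ⧸ B) ⊓
      stabilizer G ((u * s⁻¹ : G) : G ⧸ B) = H ⊓ Subgroup.centralizer {u} := by
  ext h
  simp only [Subgroup.mem_inf, mem_stabilizer_coset, inv_one, one_mul, mul_one, inv_inv,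
    Subgroup.mem_centralizer_iff, Set.mem_singleton_iff, forall_eq, mul_inv_rev]
  constructor
  · rintro ⟨⟨h1, h2⟩, h3⟩
    -- `h = u₁ h₁`, and `s u₁ s⁻¹ ∈ B` gives `u₁ = 1`
    obtain ⟨u₁, hu₁, h₁, hh₁, rfl⟩ := R.hBUH h h1
    have e1 : s * u₁ * s⁻¹ = (s * (u₁ * h₁) * s⁻¹) * (s * h₁ * s⁻¹)⁻¹ := by group
    have hu1 : u₁ = 1 := by
      apply R.hTI u₁ hu₁
      rw [e1]
      exact B.mul_mem h2 (B.inv_mem (R.hHB (R.hsH h₁ hh₁)))
    subst hu1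
    rw [one_mul] at h3 ⊢
    refine ⟨hh₁, ?_⟩
    -- `s (u⁻¹ h₁ u h₁⁻¹) s⁻¹ ∈ B`
    have hc : u⁻¹ * (h₁ * u * h₁⁻¹) ∈ U := U.mul_mem (U.inv_mem hu) (R.hHU h₁ hh₁ u hu)
    have e2 : s * (u⁻¹ * (h₁ * u * h₁⁻¹)) * s⁻¹ =
        (s * u⁻¹ * h₁ * (u * s⁻¹)) * (s * h₁ * s⁻¹)⁻¹ := by group
    have h4 : u⁻¹ * (h₁ * u * h₁⁻¹) = 1 := by
      apply R.hTI _ hc
      rw [e2]
      exact B.mul_mem h3 (B.inv_mem (R.hHB (R.hsH h₁ hh₁)))
    have : h₁ * u * h₁⁻¹ = u := by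
      have := congrArg (fun g => u * g) h4
      simpa using this
    have := congrArg (fun g => g * h₁) this
    simpa using this.symm
  · rintro ⟨hh, hc⟩
    refine ⟨⟨R.hHB hh, R.hHB (R.hsH h hh)⟩, ?_⟩
    have e3 : s * u⁻¹ * h * (u * s⁻¹) = s * h * s⁻¹ := by
      have : u⁻¹ * h * u = h := by
        rw [mul_assoc, ← hc]
        group
      calc s * u⁻¹ * h * (u * s⁻¹) = s * (u⁻¹ * h * u) * s⁻¹ := by group
        _ = s * h * s⁻¹ := by rw [this]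
    rw [e3]
    exact R.hHB (R.hsH h hh)

/-- the three standard points are distinct -/
theorem RankOneSplit.std_ne (R : RankOneSplit B U H s) (u : G) (hu : u ∈ U) (hu1 : u ≠ 1) :
    (((1 : G) : G) : G ⧸ B) ≠ ((s⁻¹ : G) : G ⧸ B) ∧
      (((1 : G) : G) : G ⧸ B) ≠ ((u * s⁻¹ : G) : G ⧸ B) ∧
      ((s⁻¹ : G) : G ⧸ B) ≠ ((u * s⁻¹ : G) : G ⧸ B) := by
  refine ⟨?_, ?_, ?_⟩
  · intro h
    rw [QuotientGroup.eq, inv_one, one_mul] at h
    exact R.hs (by simpa using B.inv_mem h)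
  · intro h
    rw [QuotientGroup.eq, inv_one, one_mul] at h
    apply R.hs
    have : s = (u * s⁻¹)⁻¹ * u := by group
    rw [this]
    exact B.mul_mem (B.inv_mem h) (R.hUB hu)
  · intro h
    rw [QuotientGroup.eq, inv_inv, ← mul_assoc] at h
    exact hu1 (R.hTI u hu h)

/-- every triple of distinct points is conjugate to a standard triple -/
theorem RankOneSplit.exists_std (R : RankOneSplit B U H s) (x y z : G ⧸ B) (hxy : x ≠ y)
    (hxz : x ≠ z) (hyz : y ≠ z) :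
    ∃ g : G, ∃ u ∈ U, u ≠ 1 ∧ g • x = (((1 : G) : G) : G ⧸ B) ∧ g • y = ((s⁻¹ : G) : G ⧸ B) ∧
      g • z = ((u * s⁻¹ : G) : G ⧸ B) := by
  induction x using QuotientGroup.induction_on with | H a => ?_
  induction y using QuotientGroup.induction_on with | H c => ?_
  induction z using QuotientGroup.induction_on with | H d => ?_
  have hac : a⁻¹ * c ∉ B := fun h => hxy (QuotientGroup.eq.mpr h)
  obtain ⟨u₁, hu₁, b₁, hb₁, e1⟩ := R.hcover _ hac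
  -- `g = u₁⁻¹ a⁻¹`
  have hgx : (u₁⁻¹ * a⁻¹) • ((a : G) : G ⧸ B) = (((1 : G) : G) : G ⧸ B) := by
    rw [MulAction.Quotient.smul_mk, smul_eq_mul, QuotientGroup.eq]
    have : (u₁⁻¹ * a⁻¹ * a)⁻¹ * 1 = u₁ := by group
    rw [this]
    exact R.hUB hu₁
  have hgy : (u₁⁻¹ * a⁻¹) • ((c : G) : G ⧸ B) = ((s⁻¹ : G) : G ⧸ B) := by
    rw [MulAction.Quotient.smul_mk, smul_eq_mul, QuotientGroup.eq]
    have : (u₁⁻¹ * a⁻¹ * c)⁻¹ * s⁻¹ = b₁⁻¹ := by
      have : u₁⁻¹ * a⁻¹ * c = u₁⁻¹ * (a⁻¹ * c) := by group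
      rw [this, e1]
      group
    rw [this]
    exact B.inv_mem hb₁
  have hdB : u₁⁻¹ * a⁻¹ * d ∉ B := by
    intro h
    apply hxz
    have h1 : (u₁⁻¹ * a⁻¹) • ((d : G) : G ⧸ B) = (((1 : G) : G) : G ⧸ B) := by
      rw [MulAction.Quotient.smul_mk, smul_eq_mul, QuotientGroup.eq]
      simpa using B.inv_mem h
    have := hgx.trans h1.symm
    exact (MulAction.injective (u₁⁻¹ * a⁻¹)) this
  obtain ⟨u₂, hu₂, b₂, hb₂, e2⟩ := R.hcover _ hdB
  have hgz : (u₁⁻¹ * a⁻¹) • ((d : G) : G ⧸ B) = ((u₂ * s⁻¹ : G) : G ⧸ B) := by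
    rw [MulAction.Quotient.smul_mk, smul_eq_mul, QuotientGroup.eq, e2]
    have : (u₂ * s⁻¹ * b₂)⁻¹ * (u₂ * s⁻¹) = b₂⁻¹ := by group
    rw [this]
    exact B.inv_mem hb₂
  refine ⟨u₁⁻¹ * a⁻¹, u₂, hu₂, ?_, hgx, hgy, hgz⟩
  rintro rfl
  apply hyz
  rw [one_mul] at hgz
  exact (MulAction.injective (u₁⁻¹ * a⁻¹)) (hgy.trans hgz.symm)

/-- the stabiliser of three distinct points is conjugate to the centraliser in `H` of a
non-identity element of `U` -/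
theorem RankOneSplit.card_stab (R : RankOneSplit B U H s) (x y z : G ⧸ B) (hxy : x ≠ y)
    (hxz : x ≠ z) (hyz : y ≠ z) :
    ∃ u ∈ U, u ≠ 1 ∧ Nat.card ↥(stabilizer G x ⊓ stabilizer G y ⊓ stabilizer G z) =
      Nat.card ↥(H ⊓ Subgroup.centralizer {u}) := by
  obtain ⟨g, u, hu, hu1, hx, hy, hz⟩ := R.exists_std x y z hxy hxz hyz
  refine ⟨u, hu, hu1, ?_⟩
  rw [← R.stab_std u hu, ← hx, ← hy, ← hz, stabilizer_smul_eq_stabilizer_map_conj,
    stabilizer_smul_eq_stabilizer_map_conj, stabilizer_smul_eq_stabilizer_map_conj,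
    ← Subgroup.map_inf_eq _ _ _ (MulAut.conj g).injective,
    ← Subgroup.map_inf_eq _ _ _ (MulAut.conj g).injective]
  exact Nat.card_congr ((Subgroup.equivMapOfInjective _ (MulAut.conj g).toMonoidHom
    (MulAut.conj g).injective).toEquiv)

end rankone

end Cfsg.Agent.Lib.Helper24
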