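import Cfsg.Agent.Lib.Helper24.RankOne
import Cfsg.Prelude.Def_LieTypes
import Cfsg.Prelude.Def_ChevB2
import Cfsg.Prelude.Def_ChevD4

set_option autoImplicit false

namespace Cfsg.Agent.Lib.Helper24

open Cfsg.Lie

theorem reflPos_G2_0 : reflPosOK chevG2 0 = true := by decide +kernel
theorem reflPos_G2_1 : reflPosOK chevG2 1 = true := by decide +kernel

theorem reflPos_G2 (i : ℕ) (hi : i < chevG2.rank) : reflPosOK chevG2 i = true := by
  have hi' : i < 2 := hi
  interval_cases i
  · exact reflPos_G2_0
  · exact reflPos_G2_1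

theorem reflPos_B2_0 : reflPosOK chevB2 0 = true := by decide +kernel
theorem reflPos_B2_1 : reflPosOK chevB2 1 = true := by decide +kernel

theorem reflPos_B2 (i : ℕ) (hi : i < chevB2.rank) : reflPosOK chevB2 i = true := by
  have hi' : i < 2 := hi
  interval_cases i
  · exact reflPos_B2_0
  · exact reflPos_B2_1

theorem reflPos_D4_0 : reflPosOK chevD4 0 = true := by decide +kernel
theorem reflPos_D4_1 : reflPosOK chevD4 1 = true := by decide +kernel
theorem reflPos_D4_2 : reflPosOK chevD4 2 = true := by decide +kernel
theorem reflPos_D4_3 : reflPosOK chevD4 3 = true := by decide +kernel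

theorem reflPos_D4 (i : ℕ) (hi : i < chevD4.rank) : reflPosOK chevD4 i = true := by
  have hi' : i < 4 := hi
  interval_cases i
  · exact reflPos_D4_0
  · exact reflPos_D4_1
  · exact reflPos_D4_2
  · exact reflPos_D4_3

theorem reflPos_F4_0 : reflPosOK chevF4 0 = true := by decide +kernel
theorem reflPos_F4_1 : reflPosOK chevF4 1 = true := by decide +kernel
theorem reflPos_F4_2 : reflPosOK chevF4 2 = true := by decide +kernel
theorem reflPos_F4_3 : reflPosOK chevF4 3 = true := by decide +kernel

theorem reflPos_F4 (i : ℕ) (hi : i < chevF4.rank) : reflPosOK chevF4 i = true := by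
  have hi' : i < 4 := hi
  interval_cases i
  · exact reflPos_F4_0
  · exact reflPos_F4_1
  · exact reflPos_F4_2
  · exact reflPos_F4_3

theorem reflPos_E6_0 : reflPosOK chevE6 0 = true := by decide +kernel
theorem reflPos_E6_1 : reflPosOK chevE6 1 = true := by decide +kernel
theorem reflPos_E6_2 : reflPosOK chevE6 2 = true := by decide +kernel
theorem reflPos_E6_3 : reflPosOK chevE6 3 = true := by decide +kernel
theorem reflPos_E6_4 : reflPosOK chevE6 4 = true := by decide +kernel
theorem reflPos_E6_5 : reflPosOK chevE6 5 = true := by decide +kernel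

theorem reflPos_E6 (i : ℕ) (hi : i < chevE6.rank) : reflPosOK chevE6 i = true := by
  have hi' : i < 6 := hi
  interval_cases i
  · exact reflPos_E6_0
  · exact reflPos_E6_1
  · exact reflPos_E6_2
  · exact reflPos_E6_3
  · exact reflPos_E6_4
  · exact reflPos_E6_5

theorem reflPos_E7_0 : reflPosOK chevE7 0 = true := by decide +kernel
theorem reflPos_E7_1 : reflPosOK chevE7 1 = true := by decide +kernel
theorem reflPos_E7_2 : reflPosOK chevE7 2 = true := by decide +kernel
theorem reflPos_E7_3 : reflPosOK chevE7 3 = true := by decide +kernel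
theorem reflPos_E7_4 : reflPosOK chevE7 4 = true := by decide +kernel
theorem reflPos_E7_5 : reflPosOK chevE7 5 = true := by decide +kernel
theorem reflPos_E7_6 : reflPosOK chevE7 6 = true := by decide +kernel

theorem reflPos_E7 (i : ℕ) (hi : i < chevE7.rank) : reflPosOK chevE7 i = true := by
  have hi' : i < 7 := hi
  interval_cases i
  · exact reflPos_E7_0
  · exact reflPos_E7_1
  · exact reflPos_E7_2
  · exact reflPos_E7_3
  · exact reflPos_E7_4
  · exact reflPos_E7_5
  · exact reflPos_E7_6

end Cfsg.Agent.Lib.Helper24
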