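import Cfsg.Agent.Lib.Helper24.ReeW

set_option autoImplicit false
set_option linter.unusedSimpArgs false

namespace Cfsg.Agent.Lib.Helper24

open Cfsg.Lie Cfsg.Agent.Lib.Helper33.Ree

section reecell

variable {K : Type*} [Field K] {e : ℕ}

theorem _root_.Cfsg.Agent.Lib.Helper33.Ree.Sigma.ap_nS (S : Sigma K e) (hE : ReeExp K e) (i : ℕ)
    (hi : i < 2) : S.ap ((envG2 K).hF.nS i) = (envG2 K).hF.nS (reeSw i) := by
  unfold Facts.nS
  have h1 : chevG2.simple i < 12 := by revert i; decide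
  rw [S.ap_nGL hE.hodd _ h1, one_pow]
  congr 1
  revert i; decide

theorem _root_.Cfsg.Agent.Lib.Helper33.Ree.Sigma.ap_nW (S : Sigma K e) (hE : ReeExp K e)
    (w : List ℕ) (hw : ∀ i ∈ w, i < 2) :
    S.ap ((envG2 K).hF.nW w) = (envG2 K).hF.nW (w.map reeSw) := by
  induction w with
  | nil =>
    have : (envG2 K).hF.nW (F := K) [] = 1 := by simp [Facts.nW]
    rw [List.map_nil, this, S.ap_one]
  | cons i w ih =>
    have hw' : ∀ j ∈ w, j < 2 := fun j hj => hw j (List.mem_cons_of_mem _ hj)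
    have hcons : ∀ (j : ℕ) (L : List ℕ), (envG2 K).hF.nW (F := K) (j :: L) =
        (envG2 K).hF.nS j * (envG2 K).hF.nW L := by
      intro j L; simp [Facts.nW]
    rw [List.map_cons, hcons, hcons, S.ap_mul _ _
      ((envG2 K).hF.monomial_le_group ((envG2 K).hF.nS_mem_monomial i
        (Facts.simple_lt (envG2 K).hH i (hw i List.mem_cons_self))))
      ((envG2 K).hF.monomial_le_group ((envG2 K).nW_mem w hw')),
      S.ap_nS hE i (hw i List.mem_cons_self), ih hw']

/-- the elements of `N` which are fixed modulo `H` represent the trivial or the longest element -/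
theorem ree_mono_class (S : Sigma K e) (hE : ReeExp K e) (n : GL chevG2.Idx K)
    (hn : n ∈ chevG2.monomialSubgroup K) (hfix : n⁻¹ * S.ap n ∈ chevG2.diagonalSubgroup K) :
    n ∈ chevG2.diagonalSubgroup K ∨
      ∃ h ∈ chevG2.diagonalSubgroup K, n = (envG2 K).hF.nW reeW0 * h := by
  obtain ⟨w, hw, h, hh, rfl⟩ := (envG2 K).isWH_of_mem n hn
  have hw2 : ∀ i ∈ w, i < 2 := hw
  have hwsw : ∀ i ∈ w.map reeSw, i < chevG2.rank := by
    intro i hi
    obtain ⟨j, hj, rfl⟩ := List.mem_map.mp hi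
    have := hw2 j hj
    show reeSw j < 2
    unfold reeSw; omega
  have hnW := (envG2 K).nW_mem (F := K) w hw
  have hhG := (envG2 K).hF.diagonal_le_group hh
  rw [S.ap_mul _ _ ((envG2 K).hF.monomial_le_group hnW) hhG, S.ap_nW hE w hw2] at hfix
  have hσh := (S.diag_le_pre hE.hodd hh).2
  have h1 : ((envG2 K).hF.nW w)⁻¹ * (envG2 K).hF.nW (w.map reeSw) ∈ chevG2.diagonalSubgroup K := by
    have e1 : ((envG2 K).hF.nW w)⁻¹ * (envG2 K).hF.nW (w.map reeSw) =
        h * (((envG2 K).hF.nW w * h)⁻¹ * ((envG2 K).hF.nW (w.map reeSw) * S.ap h)) * (S.ap h)⁻¹ := by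
      group
    rw [e1]
    exact Subgroup.mul_mem _ (Subgroup.mul_mem _ hh hfix) (Subgroup.inv_mem _ hσh)
  have h2 := (envG2 K).rhoW_eq_of_mem_diag (w.map reeSw) w hwsw hw h1
  rcases rhoW_class w hw2 h2 with h3 | h3
  · left
    have h4 := (envG2 K).nW_inv_mul_mem_diag (F := K) w [] hw
      (fun i hi => absurd hi List.not_mem_nil) h3
    have hnil : (envG2 K).hF.nW (F := K) [] = 1 := by simp [Facts.nW]
    rw [hnil, inv_one, one_mul] at h4
    exact Subgroup.mul_mem _ h4 hh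
  · right
    have h4 := (envG2 K).nW_inv_mul_mem_diag (F := K) w reeW0 hw (by decide) h3
    exact ⟨((envG2 K).hF.nW reeW0)⁻¹ * (envG2 K).hF.nW w * h, Subgroup.mul_mem _ h4 hh, by group⟩

/-- conjugation by an element of `H` does not change the roots made negative -/
theorem negSet_mul_diag (n h : GL chevG2.Idx K) (hh : h ∈ chevG2.diagonalSubgroup K) (r : ℕ)
    (hr : r < 12) (hn : NegSet chevG2 K n r) : NegSet chevG2 K (n * h) r := by
  rintro y ⟨z, hz, rfl⟩
  obtain ⟨t, rfl⟩ := (envG2 K).hF.exists_of_mem_rootSubgroup r z hz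
  obtain ⟨c, _, hc⟩ := (envG2 K).hF.diag_conj h hh r hr
  simp only [MulEquiv.coe_toMonoidHom, MulAut.conj_apply]
  have e1 : n * h * (envG2 K).hF.xGL r t * (n * h)⁻¹ =
      n * (h * (envG2 K).hF.xGL r t * h⁻¹) * n⁻¹ := by group
  rw [e1, hc]
  apply hn
  exact ⟨(envG2 K).hF.xGL r (c * t), Subgroup.subset_closure ⟨c * t, rfl⟩, by
    simp only [MulEquiv.coe_toMonoidHom, MulAut.conj_apply]⟩

theorem reeW0_neg : ∀ r < 12, chevG2.IsPosRoot r → ¬ chevG2.IsPosRoot (rhoW chevG2 reeW0 r) := by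
  decide +kernel

/-- a representative of the longest element makes all positive roots negative -/
theorem negSet_w0 (h : GL chevG2.Idx K) (hh : h ∈ chevG2.diagonalSubgroup K) (r : ℕ)
    (hr : chevG2.IsPosRoot r) : NegSet chevG2 K ((envG2 K).hF.nW reeW0 * h) r :=
  negSet_mul_diag _ h hh r hr.1
    (((envG2 K).negSet_nW_iff reeW0 (by decide) r hr).mpr (reeW0_neg r hr.1 hr))

end reecell

end Cfsg.Agent.Lib.Helper24
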