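import Cfsg.Agent.Lib.Helper24.TwCount
import Cfsg.Agent.Lib.Helper24.GraphTab

set_option autoImplicit false
set_option linter.unusedSimpArgs false

namespace Cfsg.Agent.Lib.Helper24

open Cfsg.Lie Matrix

section twinst

variable {F : Type*} [Field F] {D : ChevalleyDatum} {tab : List ℕ} {orb : List (ℕ × ℕ × ℕ)}

theorem xMat_mapF (D : ChevalleyDatum) (f : F →+* F) (r : Fin D.nroots) (t : F) :
    (D.xMat F r t).map f = D.xMat F r (f t) := by
  ext row col
  rcases row with i' | u <;> rcases col with i | s <;>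
    simp only [ChevalleyDatum.xMat, Matrix.map_apply, Matrix.of_apply]
  · split_ifs <;> simp
  · split_ifs <;> simp
  · split_ifs <;> simp
  · split_ifs <;> simp [map_list_sum, List.map_map, Function.comp_def]

theorem x_mapF (D : ChevalleyDatum) (f : F →+* F) (r : ℕ) (t : F) :
    (D.x F r t).map f = D.x F r (f t) := by
  unfold ChevalleyDatum.x
  split_ifs with h
  · exact xMat_mapF D f ⟨r, h⟩ t
  · simp

/-- the automorphism of the general linear group induced by a field automorphism -/
noncomputable def glAutF (D : ChevalleyDatum) (f : F ≃+* F) : GL D.Idx F ≃* GL D.Idx F :=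
  Units.mapEquiv (f.mapMatrix (m := D.Idx)).toMulEquiv

theorem glAutF_xGL (hF : Facts D) (f : F ≃+* F) (s : ℕ) (t : F) :
    glAutF D f (hF.xGL s t) = hF.xGL s (f t) := by
  apply Units.ext
  show (D.x F s t).map f = D.x F s (f t)
  exact x_mapF D (f : F →+* F) s t

theorem Env.neg_iff_not_pos (E : Env D F tab orb) (s : ℕ) (hs : s < D.nroots) :
    D.IsNegRoot s ↔ ¬ D.IsPosRoot s := by
  constructor
  · intro hn hp
    have h1 : E.hF.xGL s (1 : F) ∈ D.borelSubgroup F ⊓ D.negUnipotent F :=
      ⟨pos_le_borel D F (E.hF.xGL_mem_pos s hp 1), E.hF.xGL_mem_neg s hn 1⟩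
    rw [E.hF.borel_inf_neg.1, Subgroup.mem_bot] at h1
    exact one_ne_zero (E.hF.xGL_eq_one E.hNe s hs 1 h1)
  · intro hp
    rcases (rootTableOK_spec D E.hR s hs).1 with h | h
    · exact absurd h hp
    · exact h

/-- the positive roots are permuted among themselves -/
def posPermOK (n : ℕ) (Rl : List ℕ) : Bool :=
  allBelow (fun s => Nat.beq (Nat.ble (n / 2) (Rl.getD s 0)).toNat (Nat.ble (n / 2) s).toNat) n

theorem posPermOK_spec (n : ℕ) (Rl : List ℕ) (h : posPermOK n Rl = true) (s : ℕ) (hs : s < n) :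
    (n / 2 ≤ Rl.getD s 0) ↔ (n / 2 ≤ s) := by
  have h1 := Nat.eq_of_beq_eq_true (allBelow_elim _ _ h s hs)
  rw [← Nat.ble_eq, ← Nat.ble_eq]
  cases ha : Nat.ble (n / 2) (Rl.getD s 0) <;> cases hb : Nat.ble (n / 2) s <;>
    rw [ha, hb] at h1 <;> simp at h1 ⊢

/-- the permutation and the signs are compatible with the negation of the roots -/
def twNegCompatOK (D : ChevalleyDatum) (P : ℕ) (Rl : List ℕ) : Bool :=
  allBelow (fun s => Nat.beq (Rl.getD (D.neg s) 0) (D.neg (Rl.getD s 0)) &&
    decide (etaOf (mcolP P (D.rank + D.nroots) (D.rank + D.neg s)) =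
      etaOf (mcolP P (D.rank + D.nroots) (D.rank + s)))) D.nroots

/-- the twisting automorphism given by the tables of a graph automorphism and a field automorphism -/
noncomputable def Tw.ofTables (E : Env D F tab orb) (P P' : ℕ) (Rl Rinvl : List ℕ)
    (hinv : invTabOK (D.rank + D.nroots) P P' = true)
    (hconj : ∀ s < D.nroots, conjPairOK2 D P s (Rl.getD s 0) = true)
    (hperm : permInvOK D.nroots Rl Rinvl = true) (hperm' : permInvOK D.nroots Rinvl Rl = true)
    (hpos : posPermOK D.nroots Rl = true) (hnc : twNegCompatOK D P Rl = true) (f : F ≃+* F) :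
    Tw D F E.hF where
  σ := (glAutF D f).trans (MulAut.conj
    (⟨cMat D (mcolP P (D.rank + D.nroots)), cMat D (mcolP P' (D.rank + D.nroots)),
      cMat_mul_cMat_eq_one (F := F) D P P' hinv,
      _root_.mul_eq_one_comm.mp (cMat_mul_cMat_eq_one (F := F) D P P' hinv)⟩ : GL D.Idx F))
  R := fun s => Rl.getD s 0
  Rinv := fun s => Rinvl.getD s 0
  η := fun s => etaOf (mcolP P (D.rank + D.nroots) (D.rank + s))
  f := f
  hx := by
    intro s hs t
    show _ * glAutF D f (E.hF.xGL s t) * _⁻¹ = _
    rw [glAutF_xGL, mul_inv_eq_iff_eq_mul]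
    apply Units.ext
    rw [Units.val_mul, Units.val_mul, Facts.xGL_val, Facts.xGL_val]
    exact conj_of_conjPairOK2 D E.hF.table P s _ hs (hconj s hs) (f t)
  hη := fun s _ => etaOf_cases _
  hRlt := by
    intro s hs
    have := allBelow_elim _ _ hperm' s hs
    simp only [Bool.and_eq_true, Nat.blt_eq, nbeq_true] at this
    exact this.1
  hRinv := by
    intro s hs
    have h1 := allBelow_elim _ _ hperm s hs
    have h2 := allBelow_elim _ _ hperm' s hs
    simp only [Bool.and_eq_true, Nat.blt_eq, nbeq_true] at h1 h2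
    exact ⟨h1.1, h1.2, h2.2⟩
  hRpos := by
    intro s hs
    have h3 := posPermOK_spec _ _ hpos s hs
    have h2 := allBelow_elim _ _ hperm' s hs
    simp only [Bool.and_eq_true, Nat.blt_eq, nbeq_true] at h2
    rw [posHalf_spec D E.hU.half, posHalf_spec D E.hU.half]
    constructor
    · rintro ⟨a, _⟩; exact ⟨h3.mp a, hs⟩
    · rintro ⟨a, _⟩; exact ⟨h3.mpr a, h2.1⟩
  hRneg := by
    intro s hs
    have h3 := posPermOK_spec _ _ hpos s hs
    have h2 := allBelow_elim _ _ hperm' s hs
    simp only [Bool.and_eq_true, Nat.blt_eq, nbeq_true] at h2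
    rw [E.neg_iff_not_pos _ h2.1, E.neg_iff_not_pos s hs, posHalf_spec D E.hU.half,
      posHalf_spec D E.hU.half]
    constructor
    · intro h a; exact h ⟨h3.mpr a.1, h2.1⟩
    · intro h a; exact h ⟨h3.mp a.1, hs⟩
  hRn := by
    intro s hs
    have := allBelow_elim _ _ hnc s hs
    simp only [Bool.and_eq_true, nbeq_true, decide_eq_true_eq] at this
    exact this.1
  hηn := by
    intro s hs
    have := allBelow_elim _ _ hnc s hs
    simp only [Bool.and_eq_true, nbeq_true, decide_eq_true_eq] at this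
    exact this.2

/-- the facts on the classes, from their tables -/
theorem TwU.ofTables (E : Env D F tab orb) (T : Tw D F E.hF) (Hd : List (ℕ × ℕ)) (Lc : List ℕ) (Λ : List ℤ)
    (h1 : Lc = Hd.flatMap (fun p => orbitL T.R p.2 p.1))
    (h2 : Hd.all (fun p => Nat.ble (D.nroots / 2) p.1 && Nat.blt p.1 D.nroots && Nat.blt 0 p.2) = true)
    (h3 : Hd.all (fun p => Nat.beq (T.R^[p.2] p.1) p.1) = true)
    (h4 : Lc.Nodup)
    (h5 : allFrom (fun r => Lc.contains r) (D.nroots / 2) (D.nroots - D.nroots / 2) = true)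
    (h6 : goodListOK D Lc = true) (h7 : gradeSortedOK D Λ Lc = true)
    (h8 : allFrom (fun r => decide (0 < gradeE D Λ (D.rank + r))) (D.nroots / 2)
      (D.nroots - D.nroots / 2) = true)
    (h9 : allBelow (fun s => decide (gradeE D Λ (D.rank + T.R s) = gradeE D Λ (D.rank + s)))
      D.nroots = true)
    (h10 : Hd.all (fun p => (List.range p.2).all fun j => Nat.beq j 0 ||
      ((commTermsQ D p.1 (T.R^[j] p.1)).isEmpty && !(Nat.beq (T.R^[j] p.1) p.1))) = true) :
    TwU E T Hd Lc Λ where
  hLc := h1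
  hd := by
    intro p hp
    have := List.all_eq_true.mp h2 p hp
    simp only [Bool.and_eq_true, Nat.ble_eq, Nat.blt_eq] at this
    exact ⟨(posHalf_spec D E.hU.half _).mpr ⟨this.1.1, this.1.2⟩, this.2⟩
  closed := by
    intro p hp
    exact Nat.eq_of_beq_eq_true (List.all_eq_true.mp h3 p hp)
  nodup := h4
  all := by
    intro r hr
    obtain ⟨a, b⟩ := (posHalf_spec D E.hU.half r).mp hr
    have := allFrom_elim _ _ _ h5 r a (by omega)
    exact List.contains_iff_mem.mp this
  good := h6
  sorted := h7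
  g0 := by
    intro r hr
    obtain ⟨a, b⟩ := (posHalf_spec D E.hU.half r).mp hr
    have := allFrom_elim _ _ _ h8 r a (by omega)
    exact of_decide_eq_true this
  gR := by
    intro s hs
    exact of_decide_eq_true (allBelow_elim _ _ h9 s hs)
  comm := by
    intro p hp j hj0 hj
    have := List.all_eq_true.mp (List.all_eq_true.mp h10 p hp) j (List.mem_range.mpr hj)
    simp only [Bool.or_eq_true, Bool.and_eq_true, nbeq_true, List.isEmpty_iff, Bool.not_eq_true',
      nbeq_false] at this
    rcases this with h | h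
    · omega
    · exact h

theorem Tw.par1 {hF : Facts D} (T : Tw D F hF) (h : ℕ) (hη : T.η h = 1) :
    {t : F | (T.step^[1] (h, t)).2 = t} = {t : F | T.f t = t} := by
  ext t
  simp only [Function.iterate_succ, Function.iterate_zero, Function.comp_apply, id_eq, Tw.step, hη,
    Int.cast_one, one_mul, Set.mem_ofPred_eq]

theorem Tw.par2 {hF : Facts D} (T : Tw D F hF) (h : ℕ) (hη : T.η h * T.η (T.R h) = 1)
    (hf : ∀ t, T.f (T.f t) = t) : {t : F | (T.step^[2] (h, t)).2 = t} = Set.univ := by
  ext t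
  simp only [Function.iterate_succ, Function.iterate_zero, Function.comp_apply, id_eq, Tw.step,
    Set.mem_ofPred_eq, Set.mem_univ, iff_true, map_mul, map_intCast, hf]
  rw [← mul_assoc, ← Int.cast_mul, mul_comm (T.η (T.R h)), hη, Int.cast_one, one_mul]

theorem Tw.par3 {hF : Facts D} (T : Tw D F hF) (h : ℕ)
    (hη : T.η h * T.η (T.R h) * T.η (T.R (T.R h)) = 1)
    (hf : ∀ t, T.f (T.f (T.f t)) = t) : {t : F | (T.step^[3] (h, t)).2 = t} = Set.univ := by
  ext t
  simp only [Function.iterate_succ, Function.iterate_zero, Function.comp_apply, id_eq, Tw.step,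
    Set.mem_ofPred_eq, Set.mem_univ, iff_true, map_mul, map_intCast, hf]
  have e : ((T.η (T.R (T.R h)) : ℤ) : F) * ((T.η (T.R h) : F) * ((T.η h : F) * t)) =
      ((T.η h * T.η (T.R h) * T.η (T.R (T.R h)) : ℤ) : F) * t := by
    push_cast; ring
  rw [e, hη, Int.cast_one, one_mul]

end twinst

end Cfsg.Agent.Lib.Helper24
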