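import Cfsg.Agent.Lib.Helper24.Simple
import Cfsg.Prelude.Def_LieTypes
import Cfsg.Prelude.Def_ChevB2
import Cfsg.Prelude.Def_ChevD4

set_option autoImplicit false

namespace Cfsg.Agent.Lib.Helper24

open Cfsg.Lie

theorem dynkin_G2 : dynkinOK chevG2 [0, 0] = true := by decide +kernel
theorem dynkin_B2 : dynkinOK chevB2 [0, 0] = true := by decide +kernel
theorem dynkin_D4 : dynkinOK chevD4 [0, 0, 1, 1] = true := by decide +kernel
theorem dynkin_F4 : dynkinOK chevF4 [0, 0, 1, 2] = true := by decide +kernel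
theorem dynkin_E6 : dynkinOK chevE6 [0, 3, 0, 2, 3, 4] = true := by decide +kernel
theorem dynkin_E7 : dynkinOK chevE7 [0, 3, 0, 2, 3, 4, 5] = true := by decide +kernel
theorem dynkin_E8 : dynkinOK chevE8 [0, 3, 0, 2, 3, 4, 5, 6] = true := by decide +kernel

theorem dynkinOK_all (D : ChevalleyDatum)
    (hD : D ∈ [chevG2, chevB2, chevD4, chevF4, chevE6, chevE7, chevE8]) :
    ∃ par : List ℕ, dynkinOK D par = true := by
  simp only [List.mem_cons, List.not_mem_nil, or_false] at hD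
  rcases hD with rfl | rfl | rfl | rfl | rfl | rfl | rfl
  · exact ⟨_, dynkin_G2⟩
  · exact ⟨_, dynkin_B2⟩
  · exact ⟨_, dynkin_D4⟩
  · exact ⟨_, dynkin_F4⟩
  · exact ⟨_, dynkin_E6⟩
  · exact ⟨_, dynkin_E7⟩
  · exact ⟨_, dynkin_E8⟩

theorem rank_ne_two (D : ChevalleyDatum)
    (hD : D ∈ [chevD4, chevF4, chevE6, chevE7, chevE8]) : D.rank ≠ 2 := by
  simp only [List.mem_cons, List.not_mem_nil, or_false] at hD
  rcases hD with rfl | rfl | rfl | rfl | rfl <;> decide

theorem rank_G2 : chevG2.rank = 2 := by decide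

theorem nroots_pos (D : ChevalleyDatum)
    (hD : D ∈ [chevG2, chevB2, chevD4, chevF4, chevE6, chevE7, chevE8]) : 0 < D.nroots := by
  simp only [List.mem_cons, List.not_mem_nil, or_false] at hD
  rcases hD with rfl | rfl | rfl | rfl | rfl | rfl | rfl <;> decide
theorem rank_B2 : chevB2.rank = 2 := by decide

end Cfsg.Agent.Lib.Helper24
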