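import Cfsg.Agent.S1042
import Cfsg.Agent.S1050
import Cfsg.Agent.S1051
import Cfsg.Agent.S1052
import Cfsg.Agent.S0319
import Cfsg.Agent.Lib.Helper24.SimpleTab

set_option autoImplicit false

namespace Cfsg.Agent.Lib.Helper24

open Cfsg.Lie

/-- simplicity of the Chevalley groups of types `G₂`, `B₂`, `D₄`, `F₄`, `E₆`, `E₇`, `E₈`
(for `G₂`, `B₂` the field has more than two elements) -/
theorem chevalley_simple {F : Type*} [Field F] (D : ChevalleyDatum)
    (hD : D ∈ [chevG2, chevB2, chevD4, chevF4, chevE6, chevE7, chevE8])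
    (h2 : D = chevG2 ∨ D = chevB2 → ∃ a : F, a ≠ 0 ∧ a ≠ 1) :
    IsSimpleGroup ↥(D.group F) ∧ ¬ IsMulCommutative ↥(D.group F) := by
  obtain ⟨P, hB, hN', hS⟩ := Cfsg.Agent.S1042.result (F := F) D hD
  obtain ⟨tab, orb, hN, hH, hM⟩ := mfacts_all D hD
  have hF := facts_all D hD
  have hR := rootTableOK_all D hD
  have hNe := negNeOK_all D hD
  have hUF := ufacts_all D hD
  have hBN : D.borelSubgroup F ⊓ D.monomialSubgroup F = D.diagonalSubgroup F :=
    (hF.pos_inf_monomial hN hH hM hUF).2
  obtain ⟨par, hpar⟩ := dynkinOK_all D hD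
  have hirr := hF.bn_irreducible hN hH hR hNe hUF.unit hBN par hpar P hB hS
  have hnt : Nontrivial ↥(D.group F) := by
    refine ⟨⟨⟨hF.xGL 0 1, hF.xGL_mem_group 0 1⟩, 1, ?_⟩⟩
    intro h
    have h1 : hF.xGL 0 (1 : F) = 1 := congrArg Subtype.val h
    exact one_ne_zero (hF.xGL_eq_one hNe 0 (nroots_pos D hD) _ h1)
  have hperf := Cfsg.Agent.S1052.result (F := F) D hD h2
  have hsolv : Group.IsSolvable P.B := by
    rw [hB]
    have : Group.IsSolvable ↥(D.borelSubgroup F) := Cfsg.Agent.S1050.result D hD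
    exact Group.isSolvable_of_isSolvable_injective (f := ((D.group F).subtype.comp
      ((D.borelSubgroup F).subgroupOf (D.group F)).subtype).codRestrict (D.borelSubgroup F)
      (fun x => Subgroup.mem_subgroupOf.mp x.2))
      (by
        intro x y hxy
        have := congrArg Subtype.val hxy
        exact Subtype.ext (Subtype.ext this))
  have hcore : P.B.normalCore = ⊥ := by
    rw [hB]; exact Cfsg.Agent.S1051.result D hD
  have hsimple := Cfsg.Agent.S0319.result P hirr hsolv hperf hcore
  refine ⟨hsimple, fun hcomm => ?_⟩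
  have hbot : commutator ↥(D.group F) = ⊥ := by
    rw [commutator_def, Subgroup.commutator_eq_bot_iff_le_centralizer]
    intro x _
    rw [Subgroup.mem_centralizer_iff]
    intro y _
    exact hcomm.is_comm.comm y x
  rw [hbot] at hperf
  exact bot_ne_top hperf

end Cfsg.Agent.Lib.Helper24
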