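import Cfsg.Agent.Lib.Helper24.ReeU3
import Cfsg.Agent.Lib.Helper33.ReeSigma

set_option autoImplicit false

namespace Cfsg.Agent.Lib.Helper24

open Cfsg.Lie Cfsg.Agent.Lib.Helper33.Ree

section reeinst

variable {K : Type*} [Field K] [Fintype K] {m : ℕ}

theorem ree_charP (hK : Fintype.card K = 3 ^ (2 * m + 1)) : CharP K 3 := by
  have : Fact (Nat.Prime 3) := ⟨by norm_num⟩
  exact charP_of_card_eq_prime_pow hK

theorem reeExp_of_card (hK : Fintype.card K = 3 ^ (2 * m + 1)) : ReeExp K (3 ^ m) := by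
  have : Fact (Nat.Prime 3) := ⟨by norm_num⟩
  have := ree_charP hK
  refine ⟨?_, ?_, ?_, ?_⟩
  · have := CharP.cast_eq_zero K 3
    exact_mod_cast this
  · intro x y
    exact add_pow_char_pow x y 3 m
  · intro t
    have e : 3 * 3 ^ m * 3 ^ m = Fintype.card K := by
      rw [hK]; ring
    rw [e, FiniteField.pow_card]
  · exact Odd.pow (by decide)

/-- the twisting automorphism of `G₂(K)` for `|K| = 3^(2m+1)` -/
theorem ree_exists_sigma (hK : Fintype.card K = 3 ^ (2 * m + 1)) : Nonempty (Sigma K (3 ^ m)) := by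
  have := ree_charP hK
  exact exists_sigma m

end reeinst

end Cfsg.Agent.Lib.Helper24
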