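import Cfsg.Agent.Lib.Helper24.ReeOrd
import Cfsg.Agent.Lib.Helper33.ReeExt
import Cfsg.Agent.Lib.Helper33.TwBNChev

/-!
The leaves A, B, C, D2 (and `sGL_mem` of E) of `notes/Ree_keystones.lean.txt`, with the exact signatures of the
specification, as wrappers of the theorems of `ReeU*.lean`, `ReeN.lean`, `ReeW.lean`, `ReeCell.lean`, `ReeS.lean`.
-/

set_option autoImplicit false
set_option linter.unusedSimpArgs false

namespace Cfsg.Agent.Lib.Helper24.Ree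

open Cfsg.Lie Cfsg.Agent.Lib.Helper33.Ree Cfsg.Agent.Lib.Helper33.TwBN

variable {K : Type*} [Field K] {e : ℕ}

theorem ext_eq_ap (S : Sigma K e) (g : GL chevG2.Idx K) (hg : g ∈ chevG2.group K) : S.ext g = S.ap g := by
  rw [S.ext_of_mem hg, S.ap_of_mem g hg]

theorem uGL_eq (t u v : K) :
    uGL K e t u v = (Cfsg.Agent.Lib.Helper33.Ree.envG2 K).hF.wordGL (reeWordU e t u v) := rfl

theorem vGL_eq (t u v : K) :
    vGL K e t u v = (Cfsg.Agent.Lib.Helper33.Ree.envG2 K).hF.wordGL (reeWordV e t u v) := rfl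

theorem sGL_eq : sGL K = Cfsg.Agent.Lib.Helper24.reeS K := rfl

/-- the hypotheses of the specification give the hypotheses `ReeExp` -/
theorem reeExp [CharP K 3] (S : Sigma K e) (he : Odd e) (hθ : ∀ t : K, t ^ (3 * e * e) = t) : Cfsg.Agent.Lib.Helper24.ReeExp K e := by
  refine ⟨?_, ?_, hθ, he⟩
  · have := CharP.cast_eq_zero K 3
    exact_mod_cast this
  · intro x y
    have hF := (Cfsg.Agent.Lib.Helper33.Ree.envG2 K).hF
    have h1 := S.ap_mul (hF.xGL 6 x) (hF.xGL 6 y) (hF.xGL_mem_group _ _) (hF.xGL_mem_group _ _)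
    rw [hF.xGL_mul, S.ap_xGL 6 (by decide), S.ap_xGL 6 (by decide), S.ap_xGL 6 (by decide),
      hF.xGL_mul] at h1
    have e1 : lam 6 * e = e := by
      show 1 * e = e
      rw [one_mul]
    have e2 : bar 6 = 7 := rfl
    rw [e1, e2] at h1
    have h2 : hF.xGL 7 ((x + y) ^ e - (x ^ e + y ^ e)) = 1 := by
      have : hF.xGL 7 ((x + y) ^ e - (x ^ e + y ^ e)) =
          hF.xGL 7 ((x + y) ^ e) * (hF.xGL 7 (x ^ e + y ^ e))⁻¹ := by
        rw [hF.xGL_inv, hF.xGL_mul]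
        congr 1
        ring
      rw [this, h1, mul_inv_cancel]
    have h3 := hF.xGL_eq_one (Cfsg.Agent.Lib.Helper33.Ree.envG2 K).hNe 7 (by decide) _ h2
    exact sub_eq_zero.mp h3

/-! ## Leaf A -/

theorem ext_uGL [CharP K 3] (S : Sigma K e) (he : Odd e) (hθ : ∀ t : K, t ^ (3 * e * e) = t) (t u v : K) :
    S.ext (uGL K e t u v) = uGL K e t u v := by
  rw [uGL_eq, ext_eq_ap S _ ((Cfsg.Agent.Lib.Helper33.Ree.envG2 K).hF.wordGL_mem_group _)]
  exact Cfsg.Agent.Lib.Helper24.ree_fix_wordU S (reeExp S he hθ) t u v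

theorem ext_vGL [CharP K 3] (S : Sigma K e) (he : Odd e) (hθ : ∀ t : K, t ^ (3 * e * e) = t) (t u v : K) :
    S.ext (vGL K e t u v) = vGL K e t u v := by
  rw [vGL_eq, ext_eq_ap S _ ((Cfsg.Agent.Lib.Helper33.Ree.envG2 K).hF.wordGL_mem_group _)]
  exact Cfsg.Agent.Lib.Helper24.ree_fix_wordV S (reeExp S he hθ) t u v

/-! ## Leaf B -/

theorem fix_pos [CharP K 3] (S : Sigma K e) (he : Odd e) (hθ : ∀ t : K, t ^ (3 * e * e) = t)
    (_hA : ∀ t u v : K, S.ext (uGL K e t u v) = uGL K e t u v) (g : GL chevG2.Idx K)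
    (hg : g ∈ chevG2.posUnipotent K) (hfix : S.ext g = g) : ∃ t u v : K, g = uGL K e t u v := by
  have hgG := (Cfsg.Agent.Lib.Helper33.Ree.envG2 K).hF.pos_le_group hg
  rw [ext_eq_ap S g hgG] at hfix
  exact Cfsg.Agent.Lib.Helper24.ree_fix_pos S (reeExp S he hθ) g hg
    ((Cfsg.Agent.Lib.Helper33.Ree.Sigma.mem_Fx_iff S g).mpr ⟨hgG, by rw [ext_eq_ap S g hgG]; exact hfix⟩)

theorem uGL_inj (t u v t' u' v' : K) (h : uGL K e t u v = uGL K e t' u' v') :
    t = t' ∧ u = u' ∧ v = v' :=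
  Cfsg.Agent.Lib.Helper24.reeWordU_inj t u v t' u' v' h

/-! ## Leaf C -/

theorem ext_pos (S : Sigma K e) (g : GL chevG2.Idx K) (hg : g ∈ chevG2.posUnipotent K) :
    S.ext g ∈ chevG2.posUnipotent K := by
  rw [ext_eq_ap S g ((Cfsg.Agent.Lib.Helper33.Ree.envG2 K).hF.pos_le_group hg)]
  exact (S.pos_le_pre hg).2

theorem ext_neg (S : Sigma K e) (g : GL chevG2.Idx K) (hg : g ∈ chevG2.negUnipotent K) :
    S.ext g ∈ chevG2.negUnipotent K := by
  have h := S.neg_le_pre hg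
  rw [ext_eq_ap S g h.1]
  exact h.2

theorem ext_nGL [CharP K 3] (S : Sigma K e) (he : Odd e) (r : ℕ) (hr : r < 12) (t : K) (_ht : t ≠ 0) :
    S.ext ((Cfsg.Agent.Lib.Helper33.Ree.envG2 K).hF.nGL r t) =
      (Cfsg.Agent.Lib.Helper33.Ree.envG2 K).hF.nGL (bar r) (t ^ (lam r * e)) := by
  rw [ext_eq_ap S ((Cfsg.Agent.Lib.Helper33.Ree.envG2 K).hF.nGL r t)
    ((Cfsg.Agent.Lib.Helper33.Ree.envG2 K).hF.wordGL_mem_group (chevG2.nWord r t))]
  exact S.ap_nGL he r hr t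

theorem ext_diag [CharP K 3] (S : Sigma K e) (he : Odd e) (g : GL chevG2.Idx K) (hg : g ∈ chevG2.diagonalSubgroup K) :
    S.ext g ∈ chevG2.diagonalSubgroup K := by
  have h := S.diag_le_pre he hg
  rw [ext_eq_ap S g h.1]
  exact h.2

theorem ext_mono [CharP K 3] (S : Sigma K e) (he : Odd e) (g : GL chevG2.Idx K) (hg : g ∈ chevG2.monomialSubgroup K) :
    S.ext g ∈ chevG2.monomialSubgroup K := by
  have h := S.mono_le_pre he hg
  rw [ext_eq_ap S g h.1]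
  exact h.2

theorem ext_Un [CharP K 3] (S : Sigma K e) (_he : Odd e) (hθ : ∀ t : K, t ^ (3 * e * e) = t) (n : GL chevG2.Idx K)
    (hn : n ∈ chevG2.monomialSubgroup K) (u : GL chevG2.Idx K)
    (hu : u ∈ Un chevG2 K n) : S.ext u ∈ Un chevG2 K (S.ext n) := by
  have hnG := (Cfsg.Agent.Lib.Helper33.Ree.envG2 K).hF.monomial_le_group hn
  have h := S.negClosure_le_pre hθ n hnG hu
  rw [ext_eq_ap S u h.1, ext_eq_ap S n hnG]
  exact h.2

/-! ## Leaf D2 and `sGL_mem` -/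

theorem sGL_mem [CharP K 3] (he : Odd e) : sGL K ∈ twistedG2 K e := by
  rw [sGL_eq]
  apply Cfsg.Agent.Lib.Helper24.reeS_mem_tw
  intro h
  rw [h] at he
  exact absurd he (by decide)

theorem fix_mono [CharP K 3] (S : Sigma K e) (he : Odd e) (hθ : ∀ t : K, t ^ (3 * e * e) = t) (n : GL chevG2.Idx K)
    (hn : n ∈ chevG2.monomialSubgroup K) (hfix : S.ext n = n) :
    n ∈ chevG2.diagonalSubgroup K ∨ (sGL K)⁻¹ * n ∈ chevG2.diagonalSubgroup K := by
  have hnG := (Cfsg.Agent.Lib.Helper33.Ree.envG2 K).hF.monomial_le_group hn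
  rw [ext_eq_ap S n hnG] at hfix
  rw [sGL_eq]
  apply Cfsg.Agent.Lib.Helper24.ree_mono_class' S (reeExp S he hθ) n hn
  rw [hfix, inv_mul_cancel]
  exact Subgroup.one_mem _

end Cfsg.Agent.Lib.Helper24.Ree
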