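import Cfsg.Agent.Lib.Helper24.TwCover
import Cfsg.Agent.Lib.Helper24.TwCount
import Cfsg.Agent.Lib.Helper24.CellsD

set_option autoImplicit false
set_option linter.unusedSimpArgs false

namespace Cfsg.Agent.Lib.Helper24

open Cfsg.Lie

section twcard

variable {F : Type*} [Field F] {D : ChevalleyDatum} {tab : List ℕ} {orb : List (ℕ × ℕ × ℕ)}

/-- the link between `NegSet` and the action on the roots -/
theorem Env.negSet_nW_iff (E : Env D F tab orb) (w : List ℕ) (hw : ∀ i ∈ w, i < D.rank) (r : ℕ)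
    (hr : D.IsPosRoot r) : NegSet D F (E.hF.nW w) r ↔ ¬ D.IsPosRoot (rhoW D w r) := by
  obtain ⟨η, hη, eη⟩ := E.hF.nW_conj (F := F) E.hN w hw r hr.1
  have hρ := E.hN.rhoW_lt w hw r hr.1
  constructor
  · intro hnr hp
    have h1 : E.hF.xGL (rhoW D w r) ((η : F) * 1) ∈ D.negUnipotent F := by
      rw [← eη 1]
      apply hnr
      exact ⟨E.hF.xGL r 1, Subgroup.subset_closure ⟨1, E.hF.xGL_val _ _⟩, by
        simp only [MulEquiv.coe_toMonoidHom, MulAut.conj_apply]⟩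
    have h2 : E.hF.xGL (rhoW D w r) ((η : F) * 1) ∈ D.borelSubgroup F ⊓ D.negUnipotent F :=
      ⟨pos_le_borel D F (E.hF.xGL_mem_pos _ hp _), h1⟩
    rw [E.hF.borel_inf_neg.1, Subgroup.mem_bot] at h2
    have h3 := E.hF.xGL_eq_one E.hNe _ hρ _ h2
    rcases hη with rfl | rfl <;> simp at h3
  · intro hnp
    obtain ⟨hpn, _⟩ := rootTableOK_spec D E.hR _ hρ
    have hneg : D.IsNegRoot (rhoW D w r) := by
      rcases hpn with h | h
      · exact absurd h hnp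
      · exact h
    rintro y ⟨z, hz, rfl⟩
    obtain ⟨t', rfl⟩ := E.hF.exists_of_mem_rootSubgroup r z hz
    simp only [MulEquiv.coe_toMonoidHom, MulAut.conj_apply]
    rw [eη]
    exact E.hF.xGL_mem_neg _ hneg _

/-- the two parts of `U` with respect to an element of `N` meet trivially -/
theorem Env.split_inf (E : Env D F tab orb) (n : GL D.Idx F) (hn : n ∈ D.monomialSubgroup F) :
    rootClosure D F (fun r => D.IsPosRoot r ∧ ¬ NegSet D F n r) ⊓
      rootClosure D F (fun r => D.IsPosRoot r ∧ NegSet D F n r) = ⊥ := by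
  rw [eq_bot_iff]
  rintro x ⟨h1, h2⟩
  rw [Subgroup.mem_bot]
  have h3 := E.hF.rootClosure_pos_conj E.hN E.hH E.hR n hn x h1
  have h4 := rootClosure_neg_conj n x h2
  have h5 : n * x * n⁻¹ ∈ D.borelSubgroup F ⊓ D.negUnipotent F := ⟨pos_le_borel D F h3, h4⟩
  rw [E.hF.borel_inf_neg.1, Subgroup.mem_bot] at h5
  have : x = n⁻¹ * (n * x * n⁻¹) * n := by group
  rw [this, h5]; group

variable {E : Env D F tab orb} {T : Tw D F E.hF} {Fd : List (ℕ × ℕ × List ℕ)} {ρ : ℕ → ℕ}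
  {Par : List ℕ} {N : ℕ}

/-- the cells in normal form -/
theorem TwG.cells_cover' (hG : TwG E T Fd) (hC : TwCells D T.R ρ Fd Par N)
    (hρ : ∀ i < D.rank, ρ i < D.rank ∧ T.R (D.simple i) = D.simple (ρ i) ∧ T.η (D.simple i) = 1)
    (hUF : D.posUnipotent F ⊓ T.Fx ≤ T.G1 (fundOf D Fd))
    (g : GL D.Idx F) (hg : g ∈ T.G1 (fundOf D Fd)) :
    ∃ m < N, ∃ b ∈ D.borelSubgroup F ⊓ T.G1 (fundOf D Fd),
      ∃ u ∈ rootClosure D F (fun r => D.IsPosRoot r ∧ NegSet D F (E.hF.nW (twWord Fd Par m)) r) ⊓ T.Fx,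
        g = b * E.hF.nW (twWord Fd Par m) * u := by
  have hFx := Tw.G1_le_Fx E T (fundOf D Fd) hG.fund
  obtain ⟨hg1, m, hm, b₁, hb₁, b₂, hb₂, e⟩ := hG.cells_cover hC hρ g hg
  have hn := E.nW_mem (F := F) _ (hG.twWord_lt hC m hm)
  have hnG := hG.twWord_mem hC m hm
  set n := E.hF.nW (F := F) (twWord Fd Par m) with hndef
  unfold ChevalleyDatum.borelSubgroup at hb₂
  obtain ⟨v, hv, h, hh, rfl⟩ := exists_mul_of_mem_sup_of_le_normalizer _ _
    E.hF.diagonal_le_normalizer_pos b₂ hb₂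
  have hv2 : h⁻¹ * v * h ∈ D.posUnipotent F := by
    have := (Subgroup.mem_normalizer_iff.mp
      (E.hF.diagonal_le_normalizer_pos (Subgroup.inv_mem _ hh)) v).mp hv
    rwa [inv_inv] at this
  obtain ⟨a, ha, c, hc, hac⟩ := E.hF.split_pos E.hC E.hU E.hNR E.hcomm (NegSet D F n) _ hv2
  have hnh : n * h * n⁻¹ ∈ D.diagonalSubgroup F :=
    (Subgroup.mem_normalizer_iff.mp (E.hF.monomial_le_normalizer E.hN E.hH hn) h).mp hh
  have hna : n * a * n⁻¹ ∈ D.posUnipotent F := E.hF.rootClosure_pos_conj E.hN E.hH E.hR n hn a ha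
  have hbB : b₁ * (n * h * n⁻¹) * (n * a * n⁻¹) ∈ D.borelSubgroup F :=
    Subgroup.mul_mem _ (Subgroup.mul_mem _ hb₁ (diagonal_le_borel D F hnh)) (pos_le_borel D F hna)
  have eg : g = b₁ * (n * h * n⁻¹) * (n * a * n⁻¹) * n * c := by
    have : b₁ * n * (v * h) = b₁ * (n * h * n⁻¹) * n * (h⁻¹ * v * h) := by group
    rw [e, this, hac]
    group
  have hgfix : T.σ (b₁ * (n * h * n⁻¹) * (n * a * n⁻¹) * n * c) =
      b₁ * (n * h * n⁻¹) * (n * a * n⁻¹) * n * c := by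
    rw [← eg]; exact hFx hg
  obtain ⟨hbfix, hcfix⟩ := T.nf_fix E _ n c hbB hn (hFx hnG) hc hgfix
  have hcU : c ∈ D.posUnipotent F := rootClosure_pos_le D F _ (fun r hr => hr.1) hc
  have hcG : c ∈ T.G1 (fundOf D Fd) := hUF ⟨hcU, hcfix⟩
  refine ⟨m, hm, _, ⟨hbB, ?_⟩, c, ⟨hc, hcfix⟩, eg⟩
  have : b₁ * (n * h * n⁻¹) * (n * a * n⁻¹) = g * c⁻¹ * n⁻¹ := by rw [eg]; group
  rw [this]
  exact Subgroup.mul_mem _ (Subgroup.mul_mem _ hg (Subgroup.inv_mem _ hcG)) (Subgroup.inv_mem _ hnG)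

/-- the normal form in the cells is unique -/
theorem TwG.cells_unique (hG : TwG E T Fd) (hC : TwCells D T.R ρ Fd Par N) (m m' : ℕ) (hm : m < N)
    (hm' : m' < N) (b b' u u' : GL D.Idx F) (hb : b ∈ D.borelSubgroup F) (hb' : b' ∈ D.borelSubgroup F)
    (hu : u ∈ rootClosure D F (fun r => D.IsPosRoot r ∧ NegSet D F (E.hF.nW (twWord Fd Par m)) r))
    (hu' : u' ∈ rootClosure D F (fun r => D.IsPosRoot r ∧ NegSet D F (E.hF.nW (twWord Fd Par m')) r))
    (e : b * E.hF.nW (twWord Fd Par m) * u = b' * E.hF.nW (twWord Fd Par m') * u') :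
    m = m' ∧ b = b' ∧ u = u' := by
  have hw := hG.twWord_lt hC m hm
  have hw' := hG.twWord_lt hC m' hm'
  obtain ⟨h1, h2⟩ := E.hF.normal_form_unique E.P E.hB E.hN' E.hBN b b' _ _ u u' hb hb'
    (E.nW_mem _ hw) (E.nW_mem _ hw') hu hu' e
  have hmm : m' = m := hC.distinct m' hm' m hm (E.rhoW_eq_of_mem_diag _ _ hw' hw h1)
  subst hmm
  exact ⟨rfl, h2 rfl⟩

end twcard

section twcard2

variable {F : Type*} [Field F] [Fintype F] {D : ChevalleyDatum} {tab : List ℕ} {orb : List (ℕ × ℕ × ℕ)}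
variable {E : Env D F tab orb} {T : Tw D F E.hF} {Fd : List (ℕ × ℕ × List ℕ)} {ρ : ℕ → ℕ}
  {Par : List ℕ} {N : ℕ} {Hd : List (ℕ × ℕ)} {Lc : List ℕ} {Λ : List ℤ}

/-- the order of the twisted group as a sum over the cells -/
theorem TwG.card_G1 (hG : TwG E T Fd) (hC : TwCells D T.R ρ Fd Par N)
    (hρ : ∀ i < D.rank, ρ i < D.rank ∧ T.R (D.simple i) = D.simple (ρ i) ∧ T.η (D.simple i) = 1)
    (hUF : D.posUnipotent F ⊓ T.Fx ≤ T.G1 (fundOf D Fd)) :
    Nat.card ↥(T.G1 (fundOf D Fd)) =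
      (∑ m : Fin N, Nat.card ↥(rootClosure D F (fun r => D.IsPosRoot r ∧
        NegSet D F (E.hF.nW (twWord Fd Par m)) r) ⊓ T.Fx)) *
      Nat.card ↥(D.borelSubgroup F ⊓ T.G1 (fundOf D Fd)) := by
  apply card_of_cells (T.G1 (fundOf D Fd)) (D.borelSubgroup F ⊓ T.G1 (fundOf D Fd)) N
    (fun m => E.hF.nW (twWord Fd Par m))
    (fun m => rootClosure D F (fun r => D.IsPosRoot r ∧
        NegSet D F (E.hF.nW (twWord Fd Par m)) r) ⊓ T.Fx)
  · intro m p hp a ha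
    have haG : a ∈ T.G1 (fundOf D Fd) :=
      hUF ⟨rootClosure_pos_le D F _ (fun r hr => hr.1) ha.1, ha.2⟩
    exact Subgroup.mul_mem _ (Subgroup.mul_mem _ hp.2 (hG.twWord_mem hC m m.isLt)) haG
  · intro g hg
    obtain ⟨m, hm, b, hb, u, hu, e⟩ := hG.cells_cover' hC hρ hUF g hg
    exact ⟨⟨m, hm⟩, b, hb, u, hu, e⟩
  · intro i i' p p' a a' hp hp' ha ha' e
    obtain ⟨h1, h2, h3⟩ := hG.cells_unique hC i i' i.isLt i'.isLt p p' a a' hp.1 hp'.1 ha.1 ha'.1 e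
    exact ⟨Fin.ext h1, h2, h3⟩

/-- the order of the fixed points in the part of `U` made negative by a fixed element of `N` -/
theorem TwU.card_cell (hT : TwU E T Hd Lc Λ) (q : ℕ) (hq : 0 < q)
    (hpar : ∀ p ∈ Hd, {t : F | (T.step^[p.2] (p.1, t)).2 = t}.ncard = q ^ p.2)
    (n : GL D.Idx F) (hn : n ∈ D.monomialSubgroup F) (hnfix : T.σ n = n) :
    Nat.card ↥(rootClosure D F (fun r => D.IsPosRoot r ∧ NegSet D F n r) ⊓ T.Fx) =
      q ^ twExp (NegSet D F n) Hd := by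
  have hge1 := hT.card_fix_ge q hpar (NegSet D F n)
    (fun s hs h => (T.negSet_iff E n hnfix s hs).mpr h)
  have hge2 := hT.card_fix_ge q hpar (fun s => ¬ NegSet D F n s)
    (fun s hs h h' => h ((T.negSet_iff E n hnfix s hs).mp h'))
  have hU := hT.card_fix q hpar
  rw [← twExp_add (NegSet D F n) Hd, pow_add] at hU
  have hinf := E.split_inf n hn
  have hle : Nat.card ↥(rootClosure D F (fun r => D.IsPosRoot r ∧ ¬ NegSet D F n r) ⊓ T.Fx) *
      Nat.card ↥(rootClosure D F (fun r => D.IsPosRoot r ∧ NegSet D F n r) ⊓ T.Fx) ≤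
      Nat.card ↥(D.posUnipotent F ⊓ T.Fx) := by
    let f : ↥(rootClosure D F (fun r => D.IsPosRoot r ∧ ¬ NegSet D F n r) ⊓ T.Fx) ×
        ↥(rootClosure D F (fun r => D.IsPosRoot r ∧ NegSet D F n r) ⊓ T.Fx) →
        ↥(D.posUnipotent F ⊓ T.Fx) :=
      fun x => ⟨(x.1 : GL D.Idx F) * (x.2 : GL D.Idx F),
        Subgroup.mul_mem _ (rootClosure_pos_le D F _ (fun r hr => hr.1) x.1.2.1)
          (rootClosure_pos_le D F _ (fun r hr => hr.1) x.2.2.1),
        Subgroup.mul_mem _ x.1.2.2 x.2.2.2⟩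
    have hinj : Function.Injective f := by
      rintro ⟨a, c⟩ ⟨a', c'⟩ h
      have h1 : (a : GL D.Idx F) * c = a' * c' := congrArg Subtype.val h
      have h2 : (a' : GL D.Idx F)⁻¹ * a = c' * (c : GL D.Idx F)⁻¹ := by
        calc (a' : GL D.Idx F)⁻¹ * a = (a' : GL D.Idx F)⁻¹ * (a * c) * (c : GL D.Idx F)⁻¹ := by group
          _ = (a' : GL D.Idx F)⁻¹ * (a' * c') * (c : GL D.Idx F)⁻¹ := by rw [h1]
          _ = _ := by group
      have h3 : (a' : GL D.Idx F)⁻¹ * a ∈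
          rootClosure D F (fun r => D.IsPosRoot r ∧ ¬ NegSet D F n r) ⊓
          rootClosure D F (fun r => D.IsPosRoot r ∧ NegSet D F n r) :=
        ⟨Subgroup.mul_mem _ (Subgroup.inv_mem _ a'.2.1) a.2.1, by
          rw [h2]; exact Subgroup.mul_mem _ c'.2.1 (Subgroup.inv_mem _ c.2.1)⟩
      rw [hinf, Subgroup.mem_bot] at h3
      have ha : (a : GL D.Idx F) = a' := (inv_mul_eq_one.mp h3).symm
      have hc : (c : GL D.Idx F) = c' := by
        rw [ha] at h1; exact mul_left_cancel h1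
      exact Prod.ext (Subtype.ext ha) (Subtype.ext hc)
    have := Nat.card_le_card_of_injective f hinj
    rwa [Nat.card_prod] at this
  set X := Nat.card ↥(rootClosure D F (fun r => D.IsPosRoot r ∧ NegSet D F n r) ⊓ T.Fx)
  set Y := Nat.card ↥(rootClosure D F (fun r => D.IsPosRoot r ∧ ¬ NegSet D F n r) ⊓ T.Fx)
  set a := twExp (NegSet D F n) Hd
  set b := twExp (fun s => ¬ NegSet D F n s) Hd
  have hb : 0 < q ^ b := Nat.pow_pos hq
  apply Nat.le_antisymm _ hge1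
  have h1 : X * q ^ b ≤ q ^ a * q ^ b := by
    calc X * q ^ b ≤ X * Y := Nat.mul_le_mul_left _ hge2
      _ = Y * X := Nat.mul_comm _ _
      _ ≤ _ := by rw [← hU]; exact hle
  exact Nat.le_of_mul_le_mul_right h1 hb

/-- the order of `B ∩ G1` -/
theorem TwG.card_borel (hG : TwG E T Fd)
    (hUF : D.posUnipotent F ⊓ T.Fx ≤ T.G1 (fundOf D Fd)) :
    Nat.card ↥(D.borelSubgroup F ⊓ T.G1 (fundOf D Fd)) =
      Nat.card ↥(D.posUnipotent F ⊓ T.Fx) *
        Nat.card ↥(D.diagonalSubgroup F ⊓ T.G1 (fundOf D Fd)) := by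
  have hFx := Tw.G1_le_Fx E T (fundOf D Fd) hG.fund
  have hUH := (E.hF.borel_semidirect (F := F)).2
  let f : ↥(D.posUnipotent F ⊓ T.Fx) × ↥(D.diagonalSubgroup F ⊓ T.G1 (fundOf D Fd)) →
      ↥(D.borelSubgroup F ⊓ T.G1 (fundOf D Fd)) :=
    fun x => ⟨(x.1 : GL D.Idx F) * (x.2 : GL D.Idx F),
      Subgroup.mul_mem _ (pos_le_borel D F x.1.2.1) (diagonal_le_borel D F x.2.2.1),
      Subgroup.mul_mem _ (hUF x.1.2) x.2.2.2⟩
  have hbij : Function.Bijective f := by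
    constructor
    · rintro ⟨u, h⟩ ⟨u', h'⟩ e
      have h1 : (u : GL D.Idx F) * h = u' * h' := congrArg Subtype.val e
      have h2 : (u' : GL D.Idx F)⁻¹ * u = h' * (h : GL D.Idx F)⁻¹ := by
        calc (u' : GL D.Idx F)⁻¹ * u = (u' : GL D.Idx F)⁻¹ * (u * h) * (h : GL D.Idx F)⁻¹ := by group
          _ = (u' : GL D.Idx F)⁻¹ * (u' * h') * (h : GL D.Idx F)⁻¹ := by rw [h1]
          _ = _ := by group
      have h3 : (u' : GL D.Idx F)⁻¹ * u ∈ D.posUnipotent F ⊓ D.diagonalSubgroup F :=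
        ⟨Subgroup.mul_mem _ (Subgroup.inv_mem _ u'.2.1) u.2.1, by
          rw [h2]; exact Subgroup.mul_mem _ h'.2.1 (Subgroup.inv_mem _ h.2.1)⟩
      rw [hUH, Subgroup.mem_bot] at h3
      have hu : (u : GL D.Idx F) = u' := (inv_mul_eq_one.mp h3).symm
      have hh : (h : GL D.Idx F) = h' := by
        rw [hu] at h1; exact mul_left_cancel h1
      exact Prod.ext (Subtype.ext hu) (Subtype.ext hh)
    · rintro ⟨b, hbB, hbG⟩
      unfold ChevalleyDatum.borelSubgroup at hbB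
      obtain ⟨u, hu, h, hh, rfl⟩ := exists_mul_of_mem_sup_of_le_normalizer _ _
        E.hF.diagonal_le_normalizer_pos b hbB
      have hfix : T.σ (u * h) = u * h := hFx hbG
      rw [map_mul] at hfix
      have h2 : u⁻¹ * T.σ u = h * (T.σ h)⁻¹ := by
        calc u⁻¹ * T.σ u = u⁻¹ * (T.σ u * T.σ h) * (T.σ h)⁻¹ := by group
          _ = u⁻¹ * (u * h) * (T.σ h)⁻¹ := by rw [hfix]
          _ = _ := by group
      have h3 : u⁻¹ * T.σ u ∈ D.posUnipotent F ⊓ D.diagonalSubgroup F :=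
        ⟨Subgroup.mul_mem _ (Subgroup.inv_mem _ hu) (T.map_pos u hu), by
          rw [h2]; exact Subgroup.mul_mem _ hh (Subgroup.inv_mem _ (T.map_diagonal E h hh))⟩
      rw [hUH, Subgroup.mem_bot] at h3
      have hufix : T.σ u = u := (inv_mul_eq_one.mp h3).symm
      have huG : u ∈ T.G1 (fundOf D Fd) := hUF ⟨hu, hufix⟩
      have hhG : h ∈ T.G1 (fundOf D Fd) := by
        have : h = u⁻¹ * (u * h) := by group
        rw [this]
        exact Subgroup.mul_mem _ (Subgroup.inv_mem _ huG) hbG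
      exact ⟨⟨⟨u, hu, hufix⟩, ⟨h, hh, hhG⟩⟩, rfl⟩
  rw [← Nat.card_eq_of_bijective f hbij, Nat.card_prod]

end twcard2

end Cfsg.Agent.Lib.Helper24
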