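import Cfsg.Agent.Lib.Helper24.ReeU3
import Cfsg.Agent.Lib.Helper24.TwCard

set_option autoImplicit false
set_option linter.unusedSimpArgs false

namespace Cfsg.Agent.Lib.Helper24

open Cfsg.Lie Cfsg.Agent.Lib.Helper33.Ree

theorem bar_negRoot : ∀ r < 12, chevG2.IsNegRoot r → chevG2.IsNegRoot (bar r) := by decide

theorem lam_odd : ∀ r < 12, Odd (lam r) := by decide

theorem lam_lam : ∀ r < 12, lam (bar r) * lam r = 3 := by decide

section reen

variable {K : Type*} [Field K] {e : ℕ}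

theorem _root_.Cfsg.Agent.Lib.Helper33.Ree.Sigma.ap_inv (S : Sigma K e) (a : GL chevG2.Idx K)
    (ha : a ∈ chevG2.group K) : S.ap a⁻¹ = (S.ap a)⁻¹ := by
  have h := S.ap_mul a a⁻¹ ha (Subgroup.inv_mem _ ha)
  rw [mul_inv_cancel, S.ap_one] at h
  exact (inv_eq_of_mul_eq_one_right h.symm).symm

/-- the preimage of a subgroup under the twisting automorphism -/
def _root_.Cfsg.Agent.Lib.Helper33.Ree.Sigma.pre (S : Sigma K e) (T : Subgroup (GL chevG2.Idx K)) :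
    Subgroup (GL chevG2.Idx K) where
  carrier := {x | x ∈ chevG2.group K ∧ S.ap x ∈ T}
  one_mem' := ⟨Subgroup.one_mem _, by rw [S.ap_one]; exact Subgroup.one_mem _⟩
  mul_mem' := by
    rintro a b ⟨ha, ha'⟩ ⟨hb, hb'⟩
    exact ⟨Subgroup.mul_mem _ ha hb, by rw [S.ap_mul a b ha hb]; exact Subgroup.mul_mem _ ha' hb'⟩
  inv_mem' := by
    rintro a ⟨ha, ha'⟩
    exact ⟨Subgroup.inv_mem _ ha, by rw [S.ap_inv a ha]; exact Subgroup.inv_mem _ ha'⟩

theorem _root_.Cfsg.Agent.Lib.Helper33.Ree.Sigma.mem_pre (S : Sigma K e)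
    (T : Subgroup (GL chevG2.Idx K)) (x : GL chevG2.Idx K) :
    x ∈ S.pre T ↔ x ∈ chevG2.group K ∧ S.ap x ∈ T := Iff.rfl

theorem ReeExp.odd_exp (hE : ReeExp K e) (r : ℕ) (hr : r < 12) : Odd (lam r * e) :=
  (lam_odd r hr).mul hE.hodd

/-- `σ` on the elements `n_r(t)` -/
theorem _root_.Cfsg.Agent.Lib.Helper33.Ree.Sigma.ap_nGL (S : Sigma K e) (he : Odd e) (r : ℕ)
    (hr : r < 12) (t : K) :
    S.ap ((envG2 K).hF.nGL r t) = (envG2 K).hF.nGL (bar r) (t ^ (lam r * e)) := by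
  unfold Facts.nGL ChevalleyDatum.nWord
  have hneg : chevG2.neg r < 12 := by
    revert r; decide
  rw [S.ap_wordGL _ (by
    intro p hp
    simp only [List.mem_cons, List.not_mem_nil, or_false] at hp
    rcases hp with rfl | rfl | rfl
    · exact hr
    · exact hneg
    · exact hr)]
  simp only [List.map_cons, List.map_nil]
  rw [bar_neg r hr, lam_neg r hr, ((lam_odd r hr).mul he).neg_pow, inv_pow]

/-- `σ` on the generators `h_r(t)` of `H` -/
theorem _root_.Cfsg.Agent.Lib.Helper33.Ree.Sigma.ap_hGL (S : Sigma K e) (he : Odd e) (r : ℕ)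
    (hr : r < 12) (t : K) :
    S.ap ((envG2 K).hF.wordGL (chevG2.hWord r t)) =
      (envG2 K).hF.wordGL (chevG2.hWord (bar r) (t ^ (lam r * e))) := by
  have e1 : ∀ (s : ℕ) (u : K), (envG2 K).hF.wordGL (chevG2.hWord s u) =
      (envG2 K).hF.nGL s u * (envG2 K).hF.nGL s (-1) := by
    intro s u
    unfold Facts.nGL ChevalleyDatum.hWord Facts.wordGL
    rw [List.map_append, List.prod_append]
  rw [e1, e1, S.ap_mul ((envG2 K).hF.nGL r t) ((envG2 K).hF.nGL r (-1))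
    ((envG2 K).hF.wordGL_mem_group (chevG2.nWord r t)) ((envG2 K).hF.wordGL_mem_group (chevG2.nWord r (-1))),
    S.ap_nGL he r hr, S.ap_nGL he r hr, ((lam_odd r hr).mul he).neg_pow, one_pow]

theorem _root_.Cfsg.Agent.Lib.Helper33.Ree.Sigma.pos_le_pre (S : Sigma K e) :
    chevG2.posUnipotent K ≤ S.pre (chevG2.posUnipotent K) := by
  conv_lhs => unfold ChevalleyDatum.posUnipotent
  rw [Subgroup.closure_le]
  rintro g ⟨r, t, hr, hg⟩
  rw [(envG2 K).hF.eq_xGL g r t hg, SetLike.mem_coe, S.mem_pre, S.ap_xGL r hr.1]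
  exact ⟨(envG2 K).hF.xGL_mem_group _ _, (envG2 K).hF.xGL_mem_pos _ (bar_pos r hr.1 hr) _⟩

theorem _root_.Cfsg.Agent.Lib.Helper33.Ree.Sigma.neg_le_pre (S : Sigma K e) :
    chevG2.negUnipotent K ≤ S.pre (chevG2.negUnipotent K) := by
  conv_lhs => unfold ChevalleyDatum.negUnipotent
  rw [Subgroup.closure_le]
  rintro g ⟨r, t, hr, hg⟩
  rw [(envG2 K).hF.eq_xGL g r t hg, SetLike.mem_coe, S.mem_pre, S.ap_xGL r hr.1]
  exact ⟨(envG2 K).hF.xGL_mem_group _ _, (envG2 K).hF.xGL_mem_neg _ (bar_negRoot r hr.1 hr) _⟩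

theorem _root_.Cfsg.Agent.Lib.Helper33.Ree.Sigma.diag_le_pre (S : Sigma K e) (he : Odd e) :
    chevG2.diagonalSubgroup K ≤ S.pre (chevG2.diagonalSubgroup K) := by
  conv_lhs => unfold ChevalleyDatum.diagonalSubgroup
  rw [Subgroup.closure_le]
  rintro g ⟨r, t, hr, ht, hg⟩
  have hg' : g = (envG2 K).hF.wordGL (chevG2.hWord r t) := (envG2 K).hF.eq_wordGL g _ hg
  rw [hg', SetLike.mem_coe, S.mem_pre, S.ap_hGL he r hr]
  refine ⟨(envG2 K).hF.wordGL_mem_group _, Subgroup.subset_closure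
    ⟨bar r, t ^ (lam r * e), bar_lt r hr, pow_ne_zero _ ht, ?_⟩⟩
  rw [(envG2 K).hF.wordGL_val]
  rfl

theorem _root_.Cfsg.Agent.Lib.Helper33.Ree.Sigma.mono_le_pre (S : Sigma K e) (he : Odd e) :
    chevG2.monomialSubgroup K ≤ S.pre (chevG2.monomialSubgroup K) := by
  conv_lhs => unfold ChevalleyDatum.monomialSubgroup
  apply sup_le
  · intro x hx
    have := S.diag_le_pre he hx
    exact ⟨this.1, diagonal_le_monomial chevG2 K this.2⟩
  · rw [Subgroup.closure_le]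
    rintro g ⟨r, hr, hg⟩
    have hg' : g = (envG2 K).hF.nGL r 1 := by
      apply Units.ext
      rw [hg]
      unfold Facts.nGL
      rw [(envG2 K).hF.wordGL_val]
      rfl
    rw [hg', SetLike.mem_coe, S.mem_pre, S.ap_nGL he r hr, one_pow]
    exact ⟨(envG2 K).hF.wordGL_mem_group _,
      (envG2 K).hF.nGL_mem_monomial _ (bar_lt r hr) 1 one_ne_zero⟩

theorem _root_.Cfsg.Agent.Lib.Helper33.Ree.Sigma.borel_le_pre (S : Sigma K e) (he : Odd e) :
    chevG2.borelSubgroup K ≤ S.pre (chevG2.borelSubgroup K) := by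
  conv_lhs => unfold ChevalleyDatum.borelSubgroup
  apply sup_le
  · intro x hx
    have := S.pos_le_pre hx
    exact ⟨this.1, pos_le_borel chevG2 K this.2⟩
  · intro x hx
    have := S.diag_le_pre he hx
    exact ⟨this.1, diagonal_le_borel chevG2 K this.2⟩

/-- `σ` transports the set of the roots made negative -/
theorem _root_.Cfsg.Agent.Lib.Helper33.Ree.Sigma.negSet_ap (S : Sigma K e)
    (hθ : ∀ t : K, t ^ (3 * e * e) = t)
    (n : GL chevG2.Idx K) (hn : n ∈ chevG2.group K) (r : ℕ) (hr : r < 12)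
    (h : NegSet chevG2 K n r) : NegSet chevG2 K (S.ap n) (bar r) := by
  rintro y ⟨z, hz, rfl⟩
  obtain ⟨s, rfl⟩ := (envG2 K).hF.exists_of_mem_rootSubgroup (bar r) z hz
  simp only [MulEquiv.coe_toMonoidHom, MulAut.conj_apply]
  have hs : s = (s ^ (lam (bar r) * e)) ^ (lam r * e) := by
    rw [← pow_mul, show lam (bar r) * e * (lam r * e) = (lam (bar r) * lam r) * e * e by ring,
      lam_lam r hr, hθ]
  have e1 : (envG2 K).hF.xGL (bar r) s = S.ap ((envG2 K).hF.xGL r (s ^ (lam (bar r) * e))) := by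
    rw [S.ap_xGL r hr, ← hs]
  have hxG := (envG2 K).hF.xGL_mem_group (F := K) r (s ^ (lam (bar r) * e))
  rw [e1, ← S.ap_inv n hn, ← S.ap_mul _ _ hn hxG,
    ← S.ap_mul _ _ (Subgroup.mul_mem _ hn hxG) (Subgroup.inv_mem _ hn)]
  apply (S.neg_le_pre _).2
  apply h
  exact ⟨(envG2 K).hF.xGL r (s ^ (lam (bar r) * e)),
    Subgroup.subset_closure ⟨s ^ (lam (bar r) * e), rfl⟩, by
    simp only [MulEquiv.coe_toMonoidHom, MulAut.conj_apply]⟩

theorem _root_.Cfsg.Agent.Lib.Helper33.Ree.Sigma.negClosure_le_pre (S : Sigma K e)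
    (hθ : ∀ t : K, t ^ (3 * e * e) = t)
    (n : GL chevG2.Idx K) (hn : n ∈ chevG2.group K) :
    rootClosure chevG2 K (fun r => chevG2.IsPosRoot r ∧ NegSet chevG2 K n r) ≤
      S.pre (rootClosure chevG2 K (fun r => chevG2.IsPosRoot r ∧ NegSet chevG2 K (S.ap n) r)) := by
  conv_lhs => unfold rootClosure
  rw [Subgroup.closure_le]
  rintro g ⟨r, t, ⟨hr, hnr⟩, hg⟩
  rw [(envG2 K).hF.eq_xGL g r t hg, SetLike.mem_coe, S.mem_pre, S.ap_xGL r hr.1]
  exact ⟨(envG2 K).hF.xGL_mem_group _ _, (envG2 K).hF.xGL_mem_rootClosure _ _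
    ⟨bar_pos r hr.1 hr, S.negSet_ap hθ n hn r hr.1 hnr⟩ _⟩

/-- the normal form of a fixed point: the component in `N` is fixed modulo `H` -/
theorem ree_nf_fix (S : Sigma K e) (hE : ReeExp K e) (b n u : GL chevG2.Idx K)
    (hb : b ∈ chevG2.borelSubgroup K) (hn : n ∈ chevG2.monomialSubgroup K)
    (hu : u ∈ rootClosure chevG2 K (fun r => chevG2.IsPosRoot r ∧ NegSet chevG2 K n r))
    (hfix : b * n * u ∈ S.Fx) :
    n⁻¹ * S.ap n ∈ chevG2.diagonalSubgroup K ∧ (S.ap n = n → S.ap b = b ∧ S.ap u = u) := by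
  have hbG := (envG2 K).hF.borel_le_group hb
  have hnG := (envG2 K).hF.monomial_le_group hn
  have hu' := S.negClosure_le_pre hE.hθ n hnG hu
  have h1 : S.ap (b * n * u) = b * n * u := ((S.mem_Fx_iff_ap _).mp hfix).2
  rw [S.ap_mul _ _ (Subgroup.mul_mem _ hbG hnG) hu'.1, S.ap_mul _ _ hbG hnG] at h1
  have h2 := (envG2 K).hF.normal_form_unique (envG2 K).P (envG2 K).hB (envG2 K).hN' (envG2 K).hBN
    b (S.ap b) n (S.ap n) u (S.ap u) hb (S.borel_le_pre hE.hodd hb).2 hn (S.mono_le_pre hE.hodd hn).2 hu hu'.2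
    h1.symm
  refine ⟨h2.1, fun hh => ?_⟩
  obtain ⟨h3, h4⟩ := h2.2 hh.symm
  exact ⟨h3.symm, h4.symm⟩

end reen

end Cfsg.Agent.Lib.Helper24
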