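import Cfsg.Agent.Lib.Helper24.ReeS

set_option autoImplicit false
set_option linter.unusedSimpArgs false

namespace Cfsg.Agent.Lib.Helper24

open Cfsg.Lie Cfsg.Agent.Lib.Helper33.Ree

section reeord

variable {K : Type*} [Field K] {e : ℕ}

theorem ree_pos_mem_tw (S : Sigma K e) (hE : ReeExp K e) (u : GL chevG2.Idx K)
    (hu : u ∈ chevG2.posUnipotent K) (hfix : S.ap u = u) : u ∈ twistedG2 K e := by
  obtain ⟨t, a, v, rfl⟩ := ree_fix_pos S hE u hu
    ((S.mem_Fx_iff_ap u).mpr ⟨(envG2 K).hF.pos_le_group hu, hfix⟩)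
  exact reeWordU_mem_tw t a v

theorem ree_pos_le_negS (S : Sigma K e) (hE : ReeExp K e) :
    chevG2.posUnipotent K ≤
      rootClosure chevG2 K (fun r => chevG2.IsPosRoot r ∧ NegSet chevG2 K (reeS K) r) := by
  unfold ChevalleyDatum.posUnipotent rootClosure
  apply Subgroup.closure_mono
  rintro g ⟨r, t, hr, hg⟩
  exact ⟨r, t, ⟨hr, reeS_negSet S hE r hr⟩, hg⟩

/-- the two cells of the twisted group -/
theorem ree_cover (S : Sigma K e) (hE : ReeExp K e) (g : GL chevG2.Idx K) (hg : g ∈ twistedG2 K e) :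
    g ∈ chevG2.borelSubgroup K ⊓ twistedG2 K e ∨
      ∃ b ∈ chevG2.borelSubgroup K ⊓ twistedG2 K e, ∃ u ∈ chevG2.posUnipotent K ⊓ twistedG2 K e,
        g = b * reeS K * u := by
  have hgFx := ree_le_Fx S hE hg
  have hgG := S.Fx_le hgFx
  obtain ⟨b, hb, n, hn, u, hu, rfl⟩ := (envG2 K).hF.normal_form_exists (envG2 K).hN (envG2 K).hH
    (envG2 K).hR (envG2 K).hC (envG2 K).hU (envG2 K).hNR (envG2 K).hcomm (envG2 K).P (envG2 K).hB
    (envG2 K).hN' g hgG
  obtain ⟨h1, _⟩ := ree_nf_fix S hE b n u hb hn hu hgFx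
  have huU : u ∈ chevG2.posUnipotent K := rootClosure_pos_le chevG2 K _ (fun r hr => hr.1) hu
  rcases ree_mono_class' S hE n hn h1 with hnH | hnS
  · left
    exact ⟨Subgroup.mul_mem _ (Subgroup.mul_mem _ hb (diagonal_le_borel chevG2 K hnH))
      (pos_le_borel chevG2 K huU), hg⟩
  · right
    have hsN := reeS_mem_mono (K := K)
    have hc : reeS K * ((reeS K)⁻¹ * n) * (reeS K)⁻¹ ∈ chevG2.diagonalSubgroup K :=
      (Subgroup.mem_normalizer_iff.mp
        ((envG2 K).hF.monomial_le_normalizer (envG2 K).hN (envG2 K).hH hsN) _).mp hnS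
    have hb' : b * (reeS K * ((reeS K)⁻¹ * n) * (reeS K)⁻¹) ∈ chevG2.borelSubgroup K :=
      Subgroup.mul_mem _ hb (diagonal_le_borel chevG2 K hc)
    have eg : b * n * u = b * (reeS K * ((reeS K)⁻¹ * n) * (reeS K)⁻¹) * reeS K * u := by group
    have hu' := ree_pos_le_negS S hE huU
    rw [eg] at hgFx
    obtain ⟨_, h2⟩ := ree_nf_fix S hE _ (reeS K) u hb' hsN hu' hgFx
    obtain ⟨hbfix, hufix⟩ := h2 (reeS_fix S hE)
    have huG := ree_pos_mem_tw S hE u huU hufix
    refine ⟨_, ⟨hb', ?_⟩, u, ⟨huU, huG⟩, eg⟩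
    have : b * (reeS K * ((reeS K)⁻¹ * n) * (reeS K)⁻¹) = (b * n * u) * u⁻¹ * (reeS K)⁻¹ := by group
    rw [this]
    exact Subgroup.mul_mem _ (Subgroup.mul_mem _ hg (Subgroup.inv_mem _ huG))
      (Subgroup.inv_mem _ (reeS_mem_tw hE.e_ne))

/-- the order of the twisted group in terms of the Borel subgroup -/
theorem ree_card_cells [Fintype K] (S : Sigma K e) (hE : ReeExp K e) :
    Nat.card ↥(twistedG2 K e) =
      (1 + Nat.card ↥(chevG2.posUnipotent K ⊓ twistedG2 K e)) *
        Nat.card ↥(chevG2.borelSubgroup K ⊓ twistedG2 K e) := by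
  classical
  have key := card_of_cells (twistedG2 K e) (chevG2.borelSubgroup K ⊓ twistedG2 K e) 2
    (fun i : Fin 2 => if i = 0 then (1 : GL chevG2.Idx K) else reeS K)
    (fun i : Fin 2 => if i = 0 then (⊥ : Subgroup (GL chevG2.Idx K)) else
      chevG2.posUnipotent K ⊓ twistedG2 K e) ?_ ?_ ?_
  · rw [key, Fin.sum_univ_two]
    simp
  · intro i p hp a ha
    by_cases hi : i = 0
    · simp only [hi, if_true] at ha ⊢
      rw [Subgroup.mem_bot.mp ha]
      simpa using hp.2
    · simp only [hi, if_false] at ha ⊢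
      exact Subgroup.mul_mem _ (Subgroup.mul_mem _ hp.2 (reeS_mem_tw hE.e_ne)) ha.2
  · intro g hg
    rcases ree_cover S hE g hg with h | ⟨b, hb, u, hu, rfl⟩
    · exact ⟨0, g, h, 1, by simp, by simp⟩
    · exact ⟨1, b, hb, u, by simpa using hu, by simp⟩
  · intro i i' p p' a a' hp hp' ha ha' eq
    have hnmem : ∀ j : Fin 2, (if j = 0 then (1 : GL chevG2.Idx K) else reeS K) ∈
        chevG2.monomialSubgroup K := by
      intro j
      split_ifs
      · exact Subgroup.one_mem _
      · exact reeS_mem_mono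
    have hamem : ∀ (j : Fin 2) (x : GL chevG2.Idx K),
        x ∈ (if j = 0 then (⊥ : Subgroup (GL chevG2.Idx K)) else
          chevG2.posUnipotent K ⊓ twistedG2 K e) →
        x ∈ rootClosure chevG2 K (fun r => chevG2.IsPosRoot r ∧
          NegSet chevG2 K (if j = 0 then (1 : GL chevG2.Idx K) else reeS K) r) := by
      intro j x hx
      by_cases hj : j = 0
      · simp only [hj, if_true] at hx ⊢
        rw [Subgroup.mem_bot.mp hx]
        exact Subgroup.one_mem _
      · simp only [hj, if_false] at hx ⊢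
        exact ree_pos_le_negS S hE hx.1
    obtain ⟨h1, h2⟩ := (envG2 K).hF.normal_form_unique (envG2 K).P (envG2 K).hB (envG2 K).hN'
      (envG2 K).hBN p p' _ _ a a' hp.1 hp'.1 (hnmem i) (hnmem i') (hamem i a ha) (hamem i' a' ha') eq
    have hii : i = i' := by
      by_contra hne
      by_cases hi : i = 0
      · have hi' : i' ≠ 0 := fun h => hne (hi.trans h.symm)
        simp only [hi, hi', if_true, if_false, inv_one, one_mul] at h1
        exact reeS_not_diag h1
      · have hi' : i' = 0 := by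
          fin_cases i <;> fin_cases i' <;> simp_all
        simp only [hi, hi', if_true, if_false, mul_one] at h1
        exact reeS_not_diag (by simpa using Subgroup.inv_mem _ h1)
    subst hii
    exact ⟨rfl, h2 rfl⟩

/-- the order of the Borel subgroup of the twisted group -/
theorem ree_card_borel [Fintype K] (S : Sigma K e) (hE : ReeExp K e) :
    Nat.card ↥(chevG2.borelSubgroup K ⊓ twistedG2 K e) =
      Nat.card ↥(chevG2.posUnipotent K ⊓ twistedG2 K e) *
        Nat.card ↥(chevG2.diagonalSubgroup K ⊓ twistedG2 K e) := by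
  have hUH := ((envG2 K).hF.borel_semidirect (F := K)).2
  let f : ↥(chevG2.posUnipotent K ⊓ twistedG2 K e) × ↥(chevG2.diagonalSubgroup K ⊓ twistedG2 K e) →
      ↥(chevG2.borelSubgroup K ⊓ twistedG2 K e) :=
    fun x => ⟨(x.1 : GL chevG2.Idx K) * (x.2 : GL chevG2.Idx K),
      Subgroup.mul_mem _ (pos_le_borel chevG2 K x.1.2.1) (diagonal_le_borel chevG2 K x.2.2.1),
      Subgroup.mul_mem _ x.1.2.2 x.2.2.2⟩
  have hbij : Function.Bijective f := by
    constructor
    · rintro ⟨u, h⟩ ⟨u', h'⟩ eq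
      have h1 : (u : GL chevG2.Idx K) * h = u' * h' := congrArg Subtype.val eq
      have h2 : (u' : GL chevG2.Idx K)⁻¹ * u = h' * (h : GL chevG2.Idx K)⁻¹ := by
        calc (u' : GL chevG2.Idx K)⁻¹ * u
            = (u' : GL chevG2.Idx K)⁻¹ * (u * h) * (h : GL chevG2.Idx K)⁻¹ := by group
          _ = (u' : GL chevG2.Idx K)⁻¹ * (u' * h') * (h : GL chevG2.Idx K)⁻¹ := by rw [h1]
          _ = _ := by group
      have h3 : (u' : GL chevG2.Idx K)⁻¹ * u ∈ chevG2.posUnipotent K ⊓ chevG2.diagonalSubgroup K :=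
        ⟨Subgroup.mul_mem _ (Subgroup.inv_mem _ u'.2.1) u.2.1, by
          rw [h2]; exact Subgroup.mul_mem _ h'.2.1 (Subgroup.inv_mem _ h.2.1)⟩
      rw [hUH, Subgroup.mem_bot] at h3
      have hu : (u : GL chevG2.Idx K) = u' := (inv_mul_eq_one.mp h3).symm
      have hh : (h : GL chevG2.Idx K) = h' := by
        rw [hu] at h1; exact mul_left_cancel h1
      exact Prod.ext (Subtype.ext hu) (Subtype.ext hh)
    · rintro ⟨b, hbB, hbG⟩
      unfold ChevalleyDatum.borelSubgroup at hbB
      obtain ⟨u, hu, h, hh, rfl⟩ := exists_mul_of_mem_sup_of_le_normalizer _ _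
        (envG2 K).hF.diagonal_le_normalizer_pos b hbB
      have huG' := (envG2 K).hF.pos_le_group hu
      have hhG' := (envG2 K).hF.diagonal_le_group hh
      have hfix : S.ap (u * h) = u * h := ((S.mem_Fx_iff_ap _).mp (ree_le_Fx S hE hbG)).2
      rw [S.ap_mul u h huG' hhG'] at hfix
      have h2 : u⁻¹ * S.ap u = h * (S.ap h)⁻¹ := by
        calc u⁻¹ * S.ap u = u⁻¹ * (S.ap u * S.ap h) * (S.ap h)⁻¹ := by group
          _ = u⁻¹ * (u * h) * (S.ap h)⁻¹ := by rw [hfix]
          _ = _ := by group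
      have h3 : u⁻¹ * S.ap u ∈ chevG2.posUnipotent K ⊓ chevG2.diagonalSubgroup K :=
        ⟨Subgroup.mul_mem _ (Subgroup.inv_mem _ hu) (S.pos_le_pre hu).2, by
          rw [h2]; exact Subgroup.mul_mem _ hh (Subgroup.inv_mem _ (S.diag_le_pre hE.hodd hh).2)⟩
      rw [hUH, Subgroup.mem_bot] at h3
      have hufix : S.ap u = u := (inv_mul_eq_one.mp h3).symm
      have huG : u ∈ twistedG2 K e := ree_pos_mem_tw S hE u hu hufix
      have hhG : h ∈ twistedG2 K e := by
        have : h = u⁻¹ * (u * h) := by group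
        rw [this]
        exact Subgroup.mul_mem _ (Subgroup.inv_mem _ huG) hbG
      exact ⟨⟨⟨u, hu, huG⟩, ⟨h, hh, hhG⟩⟩, rfl⟩
  rw [← Nat.card_eq_of_bijective f hbij, Nat.card_prod]

/-- the order of the twisted group in terms of the order of its diagonal subgroup -/
theorem ree_card [Fintype K] (S : Sigma K e) (hE : ReeExp K e) :
    Nat.card ↥(twistedG2 K e) =
      (1 + Fintype.card K ^ 3) * (Fintype.card K ^ 3 *
        Nat.card ↥(chevG2.diagonalSubgroup K ⊓ twistedG2 K e)) := by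
  rw [ree_card_cells S hE, ree_card_borel S hE, ree_card_U S hE]

end reeord

end Cfsg.Agent.Lib.Helper24
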