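import Cfsg.Agent.Lib.Helper24.ReeCell

set_option autoImplicit false
set_option linter.unusedSimpArgs false

namespace Cfsg.Agent.Lib.Helper24

open Cfsg.Lie Cfsg.Agent.Lib.Helper33.Ree

section rees

variable {K : Type*} [Field K] {e : ℕ}

/-- the representative `n_{a+b}(1) n_{3a+b}(1)` of the longest element -/
noncomputable def reeS (K : Type*) [Field K] : GL chevG2.Idx K :=
  (envG2 K).hF.nGL 8 1 * (envG2 K).hF.nGL 10 1

theorem reeU010 (he : e ≠ 0) : (envG2 K).hF.wordGL (reeWordU e (0 : K) 1 0) =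
    (envG2 K).hF.xGL 8 1 * (envG2 K).hF.xGL 10 1 := by
  rw [reeWordU_eq]
  simp [Facts.wordGL, Facts.xGL_zero, he]

theorem reeV010 (he : e ≠ 0) : (envG2 K).hF.wordGL (reeWordV e (0 : K) 1 0) =
    (envG2 K).hF.xGL 3 (-1) * (envG2 K).hF.xGL 1 (-1) := by
  rw [reeWordV_eq]
  simp [Facts.wordGL, Facts.xGL_zero, he]

theorem reeS_eq (he : e ≠ 0) : reeS K = (envG2 K).hF.wordGL (reeWordU e (0 : K) 1 0) *
    (envG2 K).hF.wordGL (reeWordV e (0 : K) 1 0) * (envG2 K).hF.wordGL (reeWordU e (0 : K) 1 0) := by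
  rw [reeU010 he, reeV010 he]
  unfold reeS
  rw [Facts.nGL_def, Facts.nGL_def]
  have e8 : chevG2.neg 8 = 3 := by decide
  have e10 : chevG2.neg 10 = 1 := by decide
  rw [e8, e10, inv_one]
  have hca : Commute ((envG2 K).hF.xGL 10 (1 : K)) ((envG2 K).hF.xGL 8 (1 : K)) :=
    g2_comm_nil 10 8 (by decide) (by decide) (by decide) (by decide) (by decide) _ _
  have hcb : Commute ((envG2 K).hF.xGL 10 (1 : K)) ((envG2 K).hF.xGL 3 (-1 : K)) :=
    g2_comm_nil 10 3 (by decide) (by decide) (by decide) (by decide) (by decide) _ _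
  have had : Commute ((envG2 K).hF.xGL 8 (1 : K)) ((envG2 K).hF.xGL 1 (-1 : K)) :=
    g2_comm_nil 8 1 (by decide) (by decide) (by decide) (by decide) (by decide) _ _
  generalize (envG2 K).hF.xGL 8 (1 : K) = a at *
  generalize (envG2 K).hF.xGL 3 (-1 : K) = b at *
  generalize (envG2 K).hF.xGL 10 (1 : K) = c at *
  generalize (envG2 K).hF.xGL 1 (-1 : K) = d at *
  calc a * b * a * (c * d * c) = a * b * (a * c) * d * c := by group
    _ = a * b * (c * a) * d * c := by rw [hca.eq]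
    _ = a * (b * c) * a * d * c := by group
    _ = a * (c * b) * a * d * c := by rw [hcb.eq]
    _ = a * c * b * (a * d) * c := by group
    _ = a * c * b * (d * a) * c := by rw [had.eq]
    _ = a * c * (b * d) * (a * c) := by group

theorem reeS_mem_tw (he : e ≠ 0) : reeS K ∈ twistedG2 K e := by
  rw [reeS_eq he]
  exact Subgroup.mul_mem _ (Subgroup.mul_mem _ (reeWordU_mem_tw _ _ _) (reeWordV_mem_tw _ _ _))
    (reeWordU_mem_tw _ _ _)

theorem reeS_mem_mono : reeS K ∈ chevG2.monomialSubgroup K :=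
  Subgroup.mul_mem _ ((envG2 K).hF.nGL_mem_monomial 8 (by decide) 1 one_ne_zero)
    ((envG2 K).hF.nGL_mem_monomial 10 (by decide) 1 one_ne_zero)

theorem reeS_not_borel : reeS K ∉ chevG2.borelSubgroup K := by
  intro h
  have he : (1 : ℕ) ≠ 0 := one_ne_zero
  rw [reeS_eq (e := 1) he] at h
  have hu : (envG2 K).hF.wordGL (reeWordU 1 (0 : K) 1 0) ∈ chevG2.borelSubgroup K :=
    pos_le_borel chevG2 K (reeWordU_mem_pos _ _ _)
  have hv : (envG2 K).hF.wordGL (reeWordV 1 (0 : K) 1 0) ∈ chevG2.borelSubgroup K := by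
    have e1 : (envG2 K).hF.wordGL (reeWordV 1 (0 : K) 1 0) =
        ((envG2 K).hF.wordGL (reeWordU 1 (0 : K) 1 0))⁻¹ *
          ((envG2 K).hF.wordGL (reeWordU 1 (0 : K) 1 0) * (envG2 K).hF.wordGL (reeWordV 1 (0 : K) 1 0) *
            (envG2 K).hF.wordGL (reeWordU 1 (0 : K) 1 0)) *
          ((envG2 K).hF.wordGL (reeWordU 1 (0 : K) 1 0))⁻¹ := by group
    rw [e1]
    exact Subgroup.mul_mem _ (Subgroup.mul_mem _ (Subgroup.inv_mem _ hu) h) (Subgroup.inv_mem _ hu)
  rw [reeV010 he] at hv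
  have hv2 : (envG2 K).hF.xGL 3 (-1 : K) * (envG2 K).hF.xGL 1 (-1) ∈
      chevG2.borelSubgroup K ⊓ chevG2.negUnipotent K :=
    ⟨hv, Subgroup.mul_mem _ ((envG2 K).hF.xGL_mem_neg 3 (by decide) _)
      ((envG2 K).hF.xGL_mem_neg 1 (by decide) _)⟩
  rw [(envG2 K).hF.borel_inf_neg.1, Subgroup.mem_bot] at hv2
  have h3 : (envG2 K).hF.xGL 3 (-1 : K) = (envG2 K).hF.xGL 1 1 := by
    have := eq_inv_of_mul_eq_one_left hv2
    rw [this, Facts.xGL_inv, neg_neg]
  have h4 := (envG2 K).hF.xGL_eq_xGL (envG2 K).hR (envG2 K).hNe (envG2 K).hU.unit 3 1 (by decide)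
    (by decide) (by decide) _ _ h3
  have : (1 : K) = 0 := by
    have := congrArg Neg.neg h4
    simpa using this
  exact one_ne_zero this

theorem reeS_not_diag : reeS K ∉ chevG2.diagonalSubgroup K :=
  fun h => reeS_not_borel (diagonal_le_borel chevG2 K h)

theorem ReeExp.e_ne (hE : ReeExp K e) : e ≠ 0 := by
  intro h
  have := hE.hodd
  rw [h] at this
  exact absurd this (by decide)

theorem reeS_fix (S : Sigma K e) (hE : ReeExp K e) : S.ap (reeS K) = reeS K :=
  ((S.mem_Fx_iff_ap _).mp (ree_le_Fx S hE (reeS_mem_tw hE.e_ne))).2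

/-- `reeS` represents the longest element -/
theorem reeS_class (S : Sigma K e) (hE : ReeExp K e) :
    ∃ h ∈ chevG2.diagonalSubgroup K, reeS K = (envG2 K).hF.nW reeW0 * h := by
  rcases ree_mono_class S hE (reeS K) reeS_mem_mono (by
    rw [reeS_fix S hE, inv_mul_cancel]; exact Subgroup.one_mem _) with h | h
  · exact absurd h reeS_not_diag
  · exact h

/-- all positive roots are made negative by `reeS` -/
theorem reeS_negSet (S : Sigma K e) (hE : ReeExp K e) (r : ℕ) (hr : chevG2.IsPosRoot r) :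
    NegSet chevG2 K (reeS K) r := by
  obtain ⟨h, hh, e1⟩ := reeS_class S hE
  rw [e1]
  exact negSet_w0 h hh r hr

/-- the elements of `N` fixed modulo `H`, in terms of `reeS` -/
theorem ree_mono_class' (S : Sigma K e) (hE : ReeExp K e) (n : GL chevG2.Idx K)
    (hn : n ∈ chevG2.monomialSubgroup K) (hfix : n⁻¹ * S.ap n ∈ chevG2.diagonalSubgroup K) :
    n ∈ chevG2.diagonalSubgroup K ∨ (reeS K)⁻¹ * n ∈ chevG2.diagonalSubgroup K := by
  rcases ree_mono_class S hE n hn hfix with h | ⟨h, hh, rfl⟩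
  · exact Or.inl h
  · right
    obtain ⟨h', hh', e1⟩ := reeS_class S hE
    rw [e1]
    have : ((envG2 K).hF.nW reeW0 * h')⁻¹ * ((envG2 K).hF.nW reeW0 * h) = h'⁻¹ * h := by group
    rw [this]
    exact Subgroup.mul_mem _ (Subgroup.inv_mem _ hh') hh

end rees

end Cfsg.Agent.Lib.Helper24
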