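import Cfsg.Agent.S1030
import Cfsg.Agent.Lib.Helper24.ReeU3
import Cfsg.Agent.Lib.Helper24.ReeInst

/-! The twisted diagonal `SL₂(K) → ²G₂`, `g ↦ φ_{a+b}(g^θ) φ_{3a+b}(g)`. -/

set_option autoImplicit false
set_option linter.unusedSimpArgs false

namespace Cfsg.Agent.Lib.Helper24

open Cfsg.Lie Cfsg.Agent.Lib.Helper33.Ree Cfsg.Agent.Lib.Helper37.SL2

section sl2gen

variable {F : Type*} [Field F]

theorem sl2_w1_eq : (w1 : Matrix.SpecialLinearGroup (Fin 2) F) = uu 1 * ll (-1) * uu 1 := by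
  apply Subtype.ext
  simp only [Matrix.SpecialLinearGroup.coe_mul]
  show (!![0, 1; -1, 0] : Matrix (Fin 2) (Fin 2) F) =
    !![1, 1; 0, 1] * !![1, 0; -1, 1] * !![1, 1; 0, 1]
  simp [Matrix.mul_fin_two]

theorem sl2_dd_eq (t : F) (ht : t ≠ 0) :
    dd t ht = (uu t * ll (-t⁻¹) * uu t) * (uu (-1) * ll 1 * uu (-1)) := by
  apply Subtype.ext
  simp only [Matrix.SpecialLinearGroup.coe_mul]
  show (!![t, 0; 0, t⁻¹] : Matrix (Fin 2) (Fin 2) F) =
    (!![1, t; 0, 1] * !![1, 0; -t⁻¹, 1] * !![1, t; 0, 1]) *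
      (!![1, -1; 0, 1] * !![1, 0; 1, 1] * !![1, -1; 0, 1])
  simp [Matrix.mul_fin_two, ht]

/-- `SL₂(F)` is generated by the elementary matrices -/
theorem sl2_closure_uu_ll :
    Subgroup.closure (Set.range (uu (F := F)) ∪ Set.range (ll (F := F))) = ⊤ := by
  rw [eq_top_iff]
  intro g _
  set T := Subgroup.closure (Set.range (uu (F := F)) ∪ Set.range (ll (F := F))) with hT
  have hu : ∀ s : F, uu s ∈ T := fun s => Subgroup.subset_closure (Or.inl ⟨s, rfl⟩)
  have hl : ∀ s : F, ll s ∈ T := fun s => Subgroup.subset_closure (Or.inr ⟨s, rfl⟩)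
  have hle : Submonoid.closure (gens F) ≤ T.toSubmonoid := by
    rw [Submonoid.closure_le]
    rintro x (⟨s, rfl⟩ | ⟨t, ht, rfl⟩ | rfl)
    · exact hu s
    · rw [sl2_dd_eq t ht]
      exact T.mul_mem (T.mul_mem (T.mul_mem (hu _) (hl _)) (hu _))
        (T.mul_mem (T.mul_mem (hu _) (hl _)) (hu _))
    · rw [sl2_w1_eq]
      exact T.mul_mem (T.mul_mem (hu _) (hl _)) (hu _)
  exact hle (mem_closure_gens g)

end sl2gen

theorem commute_of_mem_closure {G : Type*} [Group G] {S T : Set G}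
    (h : ∀ s ∈ S, ∀ t ∈ T, Commute s t) {x y : G} (hx : x ∈ Subgroup.closure S)
    (hy : y ∈ Subgroup.closure T) : Commute x y := by
  have h1 : Subgroup.closure T ≤ Subgroup.centralizer S := by
    rw [Subgroup.closure_le]
    intro t ht
    rw [SetLike.mem_coe, Subgroup.mem_centralizer_iff]
    intro s hs
    exact (h s hs t ht).eq
  have hy' := h1 hy
  have h2 : Subgroup.closure S ≤ Subgroup.centralizer {y} := by
    rw [Subgroup.closure_le]
    intro s hs
    rw [SetLike.mem_coe, Subgroup.mem_centralizer_iff]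
    intro z hz
    rw [Set.mem_singleton_iff] at hz
    subst hz
    exact (Subgroup.mem_centralizer_iff.mp hy' s hs).symm
  have := Subgroup.mem_centralizer_iff.mp (h2 hx) y rfl
  exact this.symm

section reesl2

variable {K : Type*} [Field K] {e : ℕ}

/-- the rank-one homomorphism of a root of `G₂` -/
theorem g2_root_sl2 (r : ℕ) (hr : r < 12) :
    ∃ φ : Matrix.SpecialLinearGroup (Fin 2) K →* GL chevG2.Idx K,
      (∀ t : K, φ (uu t) = (envG2 K).hF.xGL r t) ∧
      (∀ t : K, φ (ll t) = (envG2 K).hF.xGL (chevG2.neg r) t) := by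
  obtain ⟨φ, _, h⟩ := Cfsg.Agent.S1030.result (F := K) chevG2 (by simp) r hr
  refine ⟨φ, fun t => ?_, fun t => ?_⟩
  · apply Units.ext
    rw [(h (uu t) t).1 rfl]
    rfl
  · apply Units.ext
    rw [(h (ll t) t).2 rfl]
    rfl

/-- the power map `θ` as a ring homomorphism -/
def ReeExp.theta (hE : ReeExp K e) : K →+* K where
  toFun := fun x => x ^ e
  map_one' := one_pow e
  map_mul' := fun x y => mul_pow x y e
  map_zero' := zero_pow (by have := hE.hodd; rcases this with ⟨k, hk⟩; omega)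
  map_add' := hE.hadd

theorem ReeExp.theta_apply (hE : ReeExp K e) (x : K) : hE.theta x = x ^ e := rfl

theorem ReeExp.ne_zero (hE : ReeExp K e) : e ≠ 0 := by
  have := hE.hodd
  rcases this with ⟨k, hk⟩
  omega

theorem ReeExp.map_uu (hE : ReeExp K e) (s : K) :
    Matrix.SpecialLinearGroup.map hE.theta (uu s) = uu (s ^ e) := by
  apply Subtype.ext
  rw [Matrix.SpecialLinearGroup.map_apply_coe, RingHom.mapMatrix_apply]
  show (!![1, s; 0, 1] : Matrix (Fin 2) (Fin 2) K).map hE.theta = !![1, s ^ e; 0, 1]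
  ext i j
  fin_cases i <;> fin_cases j <;> simp [ReeExp.theta_apply, hE.ne_zero]

theorem ReeExp.map_ll (hE : ReeExp K e) (s : K) :
    Matrix.SpecialLinearGroup.map hE.theta (ll s) = ll (s ^ e) := by
  apply Subtype.ext
  rw [Matrix.SpecialLinearGroup.map_apply_coe, RingHom.mapMatrix_apply]
  show (!![1, 0; s, 1] : Matrix (Fin 2) (Fin 2) K).map hE.theta = !![1, 0; s ^ e, 1]
  ext i j
  fin_cases i <;> fin_cases j <;> simp [ReeExp.theta_apply, hE.ne_zero]

/-- the twisted diagonal homomorphism `SL₂(K) → G¹` -/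
theorem ree_sl2_hom (hE : ReeExp K e) :
    ∃ Φ : Matrix.SpecialLinearGroup (Fin 2) K →* GL chevG2.Idx K,
      (∀ u : K, Φ (uu u) = (envG2 K).hF.xGL 8 (u ^ e) * (envG2 K).hF.xGL 10 u) ∧
      (∀ u : K, Φ (ll u) = (envG2 K).hF.xGL 3 (u ^ e) * (envG2 K).hF.xGL 1 u) ∧
      ∀ g, Φ g ∈ twistedG2 K e := by
  have he : e ≠ 0 := by
    have := hE.hodd
    rcases this with ⟨k, hk⟩
    omega
  obtain ⟨φ₁, h1u, h1l⟩ := g2_root_sl2 (K := K) 8 (by norm_num)
  obtain ⟨φ₂, h2u, h2l⟩ := g2_root_sl2 (K := K) 10 (by norm_num)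
  have e8 : chevG2.neg 8 = 3 := by decide
  have e10 : chevG2.neg 10 = 1 := by decide
  rw [e8] at h1l
  rw [e10] at h2l
  -- the images commute
  have hcomm : ∀ g g', Commute (φ₁ g) (φ₂ g') := by
    intro g g'
    have hg : φ₁ g ∈ Subgroup.closure (φ₁ '' (Set.range (uu (F := K)) ∪ Set.range (ll (F := K)))) := by
      rw [← MonoidHom.map_closure, sl2_closure_uu_ll]
      exact ⟨g, Subgroup.mem_top _, rfl⟩
    have hg' : φ₂ g' ∈ Subgroup.closure (φ₂ '' (Set.range (uu (F := K)) ∪ Set.range (ll (F := K)))) := by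
      rw [← MonoidHom.map_closure, sl2_closure_uu_ll]
      exact ⟨g', Subgroup.mem_top _, rfl⟩
    refine commute_of_mem_closure ?_ hg hg'
    rintro _ ⟨x, (⟨s, rfl⟩ | ⟨s, rfl⟩), rfl⟩ _ ⟨y, (⟨t, rfl⟩ | ⟨t, rfl⟩), rfl⟩
    · rw [h1u, h2u]
      exact g2_comm_nil 8 10 (by decide) (by decide) (by decide) (by decide) (by decide) _ _
    · rw [h1u, h2l]
      exact g2_comm_nil 8 1 (by decide) (by decide) (by decide) (by decide) (by decide) _ _
    · rw [h1l, h2u]
      exact g2_comm_nil 3 10 (by decide) (by decide) (by decide) (by decide) (by decide) _ _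
    · rw [h1l, h2l]
      exact g2_comm_nil 3 1 (by decide) (by decide) (by decide) (by decide) (by decide) _ _
  let Φ : Matrix.SpecialLinearGroup (Fin 2) K →* GL chevG2.Idx K :=
    MonoidHom.mk' (fun g => φ₁ (Matrix.SpecialLinearGroup.map hE.theta g) * φ₂ g) (by
      intro a b
      simp only [map_mul]
      have := (hcomm (Matrix.SpecialLinearGroup.map hE.theta b) a).eq
      calc φ₁ (Matrix.SpecialLinearGroup.map hE.theta a) *
            φ₁ (Matrix.SpecialLinearGroup.map hE.theta b) * (φ₂ a * φ₂ b)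
          = φ₁ (Matrix.SpecialLinearGroup.map hE.theta a) *
            (φ₁ (Matrix.SpecialLinearGroup.map hE.theta b) * φ₂ a) * φ₂ b := by group
        _ = φ₁ (Matrix.SpecialLinearGroup.map hE.theta a) *
            (φ₂ a * φ₁ (Matrix.SpecialLinearGroup.map hE.theta b)) * φ₂ b := by rw [this]
        _ = _ := by group)
  have hΦ : ∀ g, Φ g = φ₁ (Matrix.SpecialLinearGroup.map hE.theta g) * φ₂ g := fun g => rfl
  have hu : ∀ u : K, Φ (uu u) = (envG2 K).hF.xGL 8 (u ^ e) * (envG2 K).hF.xGL 10 u := by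
    intro u
    rw [hΦ, hE.map_uu, h1u, h2u]
  have hl : ∀ u : K, Φ (ll u) = (envG2 K).hF.xGL 3 (u ^ e) * (envG2 K).hF.xGL 1 u := by
    intro u
    rw [hΦ, hE.map_ll, h1l, h2l]
  refine ⟨Φ, hu, hl, ?_⟩
  intro g
  have hg : Φ g ∈ Subgroup.closure (Φ '' (Set.range (uu (F := K)) ∪ Set.range (ll (F := K)))) := by
    rw [← MonoidHom.map_closure, sl2_closure_uu_ll]
    exact ⟨g, Subgroup.mem_top _, rfl⟩
  refine (Subgroup.closure_le _).mpr ?_ hg
  rintro _ ⟨x, (⟨s, rfl⟩ | ⟨s, rfl⟩), rfl⟩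
  · rw [SetLike.mem_coe, hu]
    have := reeWordU_mem_tw (K := K) (e := e) 0 s 0
    rw [reeWordU_eq] at this
    simpa [Facts.wordGL, Facts.xGL_zero, he] using this
  · rw [SetLike.mem_coe, hl]
    have := reeWordV_mem_tw (K := K) (e := e) 0 (-s) 0
    rw [reeWordV_eq] at this
    simpa [Facts.wordGL, Facts.xGL_zero, he, hE.hodd.neg_pow] using this

end reesl2

end Cfsg.Agent.Lib.Helper24
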