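import Cfsg.Agent.Lib.Helper24.ReeOrd
import Cfsg.Agent.Lib.Helper24.ReeInst
import Cfsg.Agent.S1069

set_option autoImplicit false
set_option linter.unusedSimpArgs false

namespace Cfsg.Agent.Lib.Helper24

open Cfsg.Lie Cfsg.Agent.Lib.Helper33.Ree

/-- a criterion for the Sylow subgroups to meet trivially -/
theorem sylow_inf_eq_bot {G : Type*} [Group G] [Finite G] {p : ℕ} [Fact p.Prime] (P₀ : Sylow p G)
    (hTI : ∀ k : G, k • P₀ ≠ P₀ → ∀ a ∈ (P₀ : Subgroup G), k * a * k⁻¹ ∈ (P₀ : Subgroup G) → a = 1)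
    (P Q : Sylow p G) (hPQ : P ≠ Q) : (P : Subgroup G) ⊓ (Q : Subgroup G) = ⊥ := by
  obtain ⟨g, rfl⟩ := MulAction.exists_smul_eq G P₀ P
  obtain ⟨g', rfl⟩ := MulAction.exists_smul_eq G P₀ Q
  rw [eq_bot_iff]
  intro x hx0
  obtain ⟨hx, hx'⟩ := Subgroup.mem_inf.mp hx0
  rw [Subgroup.mem_bot]
  have key : ∀ (h : G), x ∈ ((h • P₀ : Sylow p G) : Subgroup G) → h⁻¹ * x * h ∈ (P₀ : Subgroup G) := by
    intro h hh
    rw [Sylow.smul_def, Sylow.pointwise_smul_def,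
      Subgroup.mem_pointwise_smul_iff_inv_smul_mem] at hh
    simpa [MulAut.smul_def, MulAut.conj_inv_apply] using hh
  have h1 := key g hx
  have h2 := key g' hx'
  have hk : (g'⁻¹ * g) • P₀ ≠ P₀ := by
    intro h
    apply hPQ
    have : g • P₀ = g' • ((g'⁻¹ * g) • P₀) := by rw [← mul_smul]; congr 1; group
    rw [this, h]
  have h3 := hTI (g'⁻¹ * g) hk _ h1 (by
    have : g'⁻¹ * g * (g⁻¹ * x * g) * (g'⁻¹ * g)⁻¹ = g'⁻¹ * x * g' := by group
    rw [this]; exact h2)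
  have : x = g * (g⁻¹ * x * g) * g⁻¹ := by group
  rw [this, h3]; group

section reeti

variable {K : Type*} [Field K] {e : ℕ}

theorem borel_le_normalizer_pos : chevG2.borelSubgroup K ≤
    Subgroup.normalizer (chevG2.posUnipotent K : Set (GL chevG2.Idx K)) := by
  unfold ChevalleyDatum.borelSubgroup
  exact sup_le Subgroup.le_normalizer (envG2 K).hF.diagonal_le_normalizer_pos

/-- the trivial intersection property of `U` in the twisted group -/
theorem ree_TI (S : Sigma K e) (hE : ReeExp K e) (k : GL chevG2.Idx K) (hk : k ∈ twistedG2 K e)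
    (hkB : k ∉ chevG2.borelSubgroup K) (a : GL chevG2.Idx K) (ha : a ∈ chevG2.posUnipotent K)
    (hka : k * a * k⁻¹ ∈ chevG2.posUnipotent K) : a = 1 := by
  rcases ree_cover S hE k hk with h | ⟨b, hb, u, hu, rfl⟩
  · exact absurd h.1 hkB
  · have h1 : u * a * u⁻¹ ∈ chevG2.posUnipotent K :=
      Subgroup.mul_mem _ (Subgroup.mul_mem _ hu.1 ha) (Subgroup.inv_mem _ hu.1)
    have h2 : reeS K * (u * a * u⁻¹) * (reeS K)⁻¹ ∈ chevG2.negUnipotent K :=
      rootClosure_neg_conj (reeS K) _ (ree_pos_le_negS S hE h1)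
    have h3 : reeS K * (u * a * u⁻¹) * (reeS K)⁻¹ ∈ chevG2.posUnipotent K := by
      have e1 : reeS K * (u * a * u⁻¹) * (reeS K)⁻¹ =
          b⁻¹ * (b * reeS K * u * a * (b * reeS K * u)⁻¹) * (b⁻¹)⁻¹ := by group
      rw [e1]
      exact (Subgroup.mem_normalizer_iff.mp
        (borel_le_normalizer_pos (Subgroup.inv_mem _ hb.1)) _).mp hka
    have h4 : reeS K * (u * a * u⁻¹) * (reeS K)⁻¹ ∈
        chevG2.borelSubgroup K ⊓ chevG2.negUnipotent K := ⟨pos_le_borel chevG2 K h3, h2⟩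
    rw [(envG2 K).hF.borel_inf_neg.1, Subgroup.mem_bot] at h4
    have : a = u⁻¹ * ((reeS K)⁻¹ * (reeS K * (u * a * u⁻¹) * (reeS K)⁻¹) * reeS K) * u := by group
    rw [this, h4]; group

end reeti

section reeti2

variable {K : Type*} [Field K] [Fintype K] {m : ℕ}

/-- distinct Sylow 3-subgroups of the Ree group meet trivially -/
theorem ree_sylow_three_TI (hK : Fintype.card K = 3 ^ (2 * m + 1))
    (P Q : Sylow 3 ↥(twistedG2 K (3 ^ m))) (hPQ : P ≠ Q) :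
    (P : Subgroup ↥(twistedG2 K (3 ^ m))) ⊓ (Q : Subgroup ↥(twistedG2 K (3 ^ m))) = ⊥ := by
  classical
  obtain ⟨S⟩ := ree_exists_sigma hK
  have hE := reeExp_of_card hK
  have : Fact (Nat.Prime 3) := ⟨by norm_num⟩
  let U1 : Subgroup ↥(twistedG2 K (3 ^ m)) :=
    (chevG2.posUnipotent K ⊓ twistedG2 K (3 ^ m)).subgroupOf (twistedG2 K (3 ^ m))
  have hU1 : U1 = (chevG2.posUnipotent K ⊓ twistedG2 K (3 ^ m)).subgroupOf (twistedG2 K (3 ^ m)) := rfl
  have hcardU : Nat.card U1 = 3 ^ (3 * (2 * m + 1)) := by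
    rw [hU1, Nat.card_congr (Subgroup.subgroupOfEquivOfLe inf_le_right).toEquiv, ree_card_U S hE, hK,
      ← pow_mul, mul_comm]
  have hcardG : Nat.card ↥(twistedG2 K (3 ^ m)) = (3 ^ (2 * m + 1)) ^ 3 * (3 ^ (2 * m + 1) - 1) *
      ((3 ^ (2 * m + 1)) ^ 3 + 1) := Cfsg.Agent.S1069.result hK
  have hpg : IsPGroup 3 U1 := IsPGroup.of_card hcardU
  have hidx : ¬ 3 ∣ U1.index := by
    have h1 := U1.card_mul_index
    rw [hcardU, hcardG, ← pow_mul, mul_comm (2 * m + 1) 3, mul_assoc] at h1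
    have hpos : 0 < 3 ^ (3 * (2 * m + 1)) := by positivity
    have h2 : U1.index = (3 ^ (2 * m + 1) - 1) * (3 ^ (3 * (2 * m + 1)) + 1) :=
      Nat.eq_of_mul_eq_mul_left hpos h1
    rw [h2]
    intro hd
    rcases (Nat.Prime.dvd_mul (by norm_num)).mp hd with h | h
    · have h3 : 3 ∣ 3 ^ (2 * m + 1) := dvd_pow_self 3 (by omega)
      have h4 : 1 ≤ 3 ^ (2 * m + 1) := Nat.one_le_pow _ _ (by norm_num)
      omega
    · have h3 : 3 ∣ 3 ^ (3 * (2 * m + 1)) := dvd_pow_self 3 (by omega)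
      omega
  let P₀ : Sylow 3 ↥(twistedG2 K (3 ^ m)) := hpg.toSylow hidx
  have hP₀ : ∀ x : ↥(twistedG2 K (3 ^ m)), x ∈ (P₀ : Subgroup ↥(twistedG2 K (3 ^ m))) ↔ (x : GL chevG2.Idx K) ∈ chevG2.posUnipotent K := by
    intro x
    rw [IsPGroup.toSylow_coe, hU1, Subgroup.mem_subgroupOf]
    exact ⟨fun h => h.1, fun h => ⟨h, x.2⟩⟩
  apply sylow_inf_eq_bot P₀ _ P Q hPQ
  intro k hk a ha hka
  have hkB : (k : GL chevG2.Idx K) ∉ chevG2.borelSubgroup K := by
    intro hB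
    apply hk
    rw [Sylow.smul_eq_iff_mem_normalizer]
    change k ∈ Subgroup.normalizer (((P₀ : Subgroup ↥(twistedG2 K (3 ^ m))) :
      Set ↥(twistedG2 K (3 ^ m))))
    rw [Subgroup.mem_normalizer_iff]
    intro x
    rw [hP₀, hP₀]
    exact Subgroup.mem_normalizer_iff.mp (borel_le_normalizer_pos hB) _
  have h1 := ree_TI S hE k k.2 hkB a ((hP₀ a).mp ha) ((hP₀ _).mp hka)
  exact Subtype.ext h1

end reeti2

end Cfsg.Agent.Lib.Helper24
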