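import Cfsg.Agent.Lib.Helper24.RankOnePts
import Cfsg.Agent.Lib.Helper24.ReeTI
import Cfsg.Agent.Lib.Helper24.ReeInst
import Cfsg.Agent.Lib.Helper33.ReePerf
import Cfsg.Agent.Lib.Helper33.ReeAll2
import Cfsg.Agent.S1151
import Cfsg.Agent.S1114

/-! Three-point stabilisers of the small Ree groups on the cosets of `B¹`. -/

set_option autoImplicit false
set_option linter.unusedSimpArgs false

namespace Cfsg.Agent.Lib.Helper24

open Cfsg.Lie Cfsg.Agent.Lib.Helper33.Ree MulAction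

section reestab

variable {K : Type*} [Field K] {e : ℕ}

/-- `B¹ = U¹ H¹` -/
theorem ree_borel_split (S : Sigma K e) (hE : ReeExp K e) (b : GL chevG2.Idx K)
    (hbB : b ∈ chevG2.borelSubgroup K) (hbG : b ∈ twistedG2 K e) :
    ∃ u ∈ chevG2.posUnipotent K ⊓ twistedG2 K e, ∃ h ∈ chevG2.diagonalSubgroup K ⊓ twistedG2 K e,
      b = u * h := by
  have hUH := ((envG2 K).hF.borel_semidirect (F := K)).2
  unfold ChevalleyDatum.borelSubgroup at hbB
  obtain ⟨u, hu, h, hh, rfl⟩ := exists_mul_of_mem_sup_of_le_normalizer _ _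
    (envG2 K).hF.diagonal_le_normalizer_pos b hbB
  have huG' := (envG2 K).hF.pos_le_group hu
  have hhG' := (envG2 K).hF.diagonal_le_group hh
  have hfix : S.ap (u * h) = u * h := ((S.mem_Fx_iff_ap _).mp (ree_le_Fx S hE hbG)).2
  rw [S.ap_mul u h huG' hhG'] at hfix
  have h2 : u⁻¹ * S.ap u = h * (S.ap h)⁻¹ := by
    calc u⁻¹ * S.ap u = u⁻¹ * (S.ap u * S.ap h) * (S.ap h)⁻¹ := by group
      _ = u⁻¹ * (u * h) * (S.ap h)⁻¹ := by rw [hfix]
      _ = _ := by group
  have h3 : u⁻¹ * S.ap u ∈ chevG2.posUnipotent K ⊓ chevG2.diagonalSubgroup K :=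
    ⟨Subgroup.mul_mem _ (Subgroup.inv_mem _ hu) (S.pos_le_pre hu).2, by
      rw [h2]; exact Subgroup.mul_mem _ hh (Subgroup.inv_mem _ (S.diag_le_pre hE.hodd hh).2)⟩
  rw [hUH, Subgroup.mem_bot] at h3
  have hufix : S.ap u = u := (inv_mul_eq_one.mp h3).symm
  have huG : u ∈ twistedG2 K e := ree_pos_mem_tw S hE u hu hufix
  have hhG : h ∈ twistedG2 K e := by
    have : h = u⁻¹ * (u * h) := by group
    rw [this]
    exact Subgroup.mul_mem _ (Subgroup.inv_mem _ huG) hbG
  exact ⟨u, ⟨hu, huG⟩, h, ⟨hh, hhG⟩, rfl⟩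

/-- the representative `s` as an element of the Ree group -/
noncomputable def reeSG (hE : ReeExp K e) : ↥(twistedG2 K e) := ⟨reeS K, reeS_mem_tw hE.e_ne⟩

/-- the Ree group is a split rank-one situation -/
theorem ree_rankOne (S : Sigma K e) (hE : ReeExp K e) :
    RankOneSplit (G := ↥(twistedG2 K e))
      ((chevG2.borelSubgroup K ⊓ twistedG2 K e).subgroupOf (twistedG2 K e))
      ((chevG2.posUnipotent K ⊓ twistedG2 K e).subgroupOf (twistedG2 K e))
      ((chevG2.diagonalSubgroup K ⊓ twistedG2 K e).subgroupOf (twistedG2 K e))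
      (reeSG hE) where
  hUB := by
    intro x hx
    rw [Subgroup.mem_subgroupOf] at hx ⊢
    exact ⟨pos_le_borel chevG2 K hx.1, hx.2⟩
  hHB := by
    intro x hx
    rw [Subgroup.mem_subgroupOf] at hx ⊢
    exact ⟨diagonal_le_borel chevG2 K hx.1, hx.2⟩
  hBUH := by
    intro b hb
    rw [Subgroup.mem_subgroupOf] at hb
    obtain ⟨u, hu, h, hh, hbuh⟩ := ree_borel_split S hE b hb.1 hb.2
    refine ⟨⟨u, hu.2⟩, ?_, ⟨h, hh.2⟩, ?_, Subtype.ext hbuh⟩
    · rw [Subgroup.mem_subgroupOf]; exact hu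
    · rw [Subgroup.mem_subgroupOf]; exact hh
  hHU := by
    intro h hh u hu
    rw [Subgroup.mem_subgroupOf] at hh hu ⊢
    refine ⟨?_, (h * u * h⁻¹).2⟩
    exact (Subgroup.mem_normalizer_iff.mp
      ((envG2 K).hF.diagonal_le_normalizer_pos hh.1) _).mp hu.1
  hcover := by
    intro g hg
    have hg1 : (g⁻¹ : ↥(twistedG2 K e)) ∉
        (chevG2.borelSubgroup K ⊓ twistedG2 K e).subgroupOf (twistedG2 K e) :=
      fun h => hg (by simpa using Subgroup.inv_mem _ h)
    rcases ree_cover S hE (g⁻¹ : ↥(twistedG2 K e)) (g⁻¹).2 with h | ⟨b, hb, u, hu, hgbu⟩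
    · exact absurd (Subgroup.mem_subgroupOf.mpr h) hg1
    · refine ⟨⟨u⁻¹, Subgroup.inv_mem _ hu.2⟩, ?_, ⟨b⁻¹, Subgroup.inv_mem _ hb.2⟩, ?_, ?_⟩
      · rw [Subgroup.mem_subgroupOf]; exact Subgroup.inv_mem _ hu
      · rw [Subgroup.mem_subgroupOf]; exact Subgroup.inv_mem _ hb
      · apply Subtype.ext
        have h1 : ((g : ↥(twistedG2 K e)) : GL chevG2.Idx K) = (b * reeS K * u)⁻¹ := by
          rw [← hgbu]
          simp
        rw [h1]
        simp only [reeSG, Subgroup.coe_mul, Subgroup.coe_inv]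
        group
  hsH := by
    intro h hh
    rw [Subgroup.mem_subgroupOf] at hh ⊢
    refine ⟨?_, (reeSG hE * h * (reeSG hE)⁻¹).2⟩
    exact (Subgroup.mem_normalizer_iff.mp
      ((envG2 K).hF.monomial_le_normalizer (envG2 K).hN (envG2 K).hH reeS_mem_mono) _).mp hh.1
  hTI := by
    intro u hu hsu
    rw [Subgroup.mem_subgroupOf] at hu hsu
    have h2 : reeS K * (u : GL chevG2.Idx K) * (reeS K)⁻¹ ∈ chevG2.negUnipotent K :=
      rootClosure_neg_conj (reeS K) _ (ree_pos_le_negS S hE hu.1)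
    have h4 : reeS K * (u : GL chevG2.Idx K) * (reeS K)⁻¹ ∈
        chevG2.borelSubgroup K ⊓ chevG2.negUnipotent K := ⟨hsu.1, h2⟩
    rw [(envG2 K).hF.borel_inf_neg.1, Subgroup.mem_bot] at h4
    apply Subtype.ext
    have : (u : GL chevG2.Idx K) =
        (reeS K)⁻¹ * (reeS K * (u : GL chevG2.Idx K) * (reeS K)⁻¹) * reeS K := by group
    rw [this, h4]
    simp
  hs := by
    intro h
    rw [Subgroup.mem_subgroupOf] at h
    exact reeS_not_borel h.1

end reestab

section reestab2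

variable {K : Type*} [Field K] [Fintype K] {m : ℕ}

theorem three_pow_mod_four (m : ℕ) : 3 ^ (2 * m + 1) % 4 = 3 := by
  rw [pow_succ, pow_mul, Nat.mul_mod, Nat.pow_mod]
  norm_num

/-- the centraliser in `H¹` of a non-identity element of `U¹` has at most two elements -/
theorem ree_card_centralizer_le (hK : Fintype.card K = 3 ^ (2 * m + 1))
    (u : ↥(twistedG2 K (3 ^ m)))
    (hu : u ∈ (chevG2.posUnipotent K ⊓ twistedG2 K (3 ^ m)).subgroupOf (twistedG2 K (3 ^ m)))
    (hu1 : u ≠ 1) :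
    Nat.card ↥(((chevG2.diagonalSubgroup K ⊓ twistedG2 K (3 ^ m)).subgroupOf (twistedG2 K (3 ^ m))) ⊓
      Subgroup.centralizer {u}) ≤ 2 := by
  set H' := (chevG2.diagonalSubgroup K ⊓ twistedG2 K (3 ^ m)).subgroupOf (twistedG2 K (3 ^ m))
    with hH'
  set C := H' ⊓ Subgroup.centralizer {u} with hC
  have h1151 := (Cfsg.Agent.S1151.result hK).2
  -- elements of odd order in `C` are trivial
  have hodd : ∀ x : C, Odd (orderOf x) → x = 1 := by
    intro x hx
    by_contra hne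
    have hxH : ((x : ↥(twistedG2 K (3 ^ m))) : GL chevG2.Idx K) ∈
        chevG2.diagonalSubgroup K ⊓ twistedG2 K (3 ^ m) := Subgroup.mem_subgroupOf.mp x.2.1
    have hx1 : ((x : ↥(twistedG2 K (3 ^ m))) : GL chevG2.Idx K) ≠ 1 := by
      intro h
      apply hne
      apply Subtype.ext
      apply Subtype.ext
      simpa using h
    have hord : orderOf ((x : ↥(twistedG2 K (3 ^ m))) : GL chevG2.Idx K) = orderOf x := by
      rw [Subgroup.orderOf_coe, Subgroup.orderOf_coe]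
    have h := h1151 _ hxH hx1 (by rw [hord]; exact hx)
    have hmem : ((u : ↥(twistedG2 K (3 ^ m))) : GL chevG2.Idx K) ∈
        (chevG2.posUnipotent K ⊓ twistedG2 K (3 ^ m)) ⊓
          Subgroup.centralizer {((x : ↥(twistedG2 K (3 ^ m))) : GL chevG2.Idx K)} := by
      refine Subgroup.mem_inf.mpr ⟨Subgroup.mem_subgroupOf.mp hu, ?_⟩
      apply Subgroup.mem_centralizer_iff.mpr
      intro y hy
      rw [Set.mem_singleton_iff] at hy
      subst hy
      have hc := Subgroup.mem_centralizer_iff.mp x.2.2 u rfl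
      have := congrArg (fun g : ↥(twistedG2 K (3 ^ m)) => (g : GL chevG2.Idx K)) hc
      simpa using this.symm
    rw [h, Subgroup.mem_bot] at hmem
    apply hu1
    apply Subtype.ext
    simpa using hmem
  -- the order of `C` is a power of 2
  have hpow : ∀ {p : ℕ}, p.Prime → p ∣ Nat.card C → p = 2 := by
    intro p hp hdvd
    haveI : Fact p.Prime := ⟨hp⟩
    obtain ⟨x, hx⟩ := exists_prime_orderOf_dvd_card' p hdvd
    by_contra hp2
    have hoddp : Odd p := hp.odd_of_ne_two hp2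
    have := hodd x (by rw [hx]; exact hoddp)
    rw [this, orderOf_one] at hx
    exact hp.one_lt.ne hx
  have hcard := Nat.eq_prime_pow_of_unique_prime_dvd (Nat.card_pos (α := C)).ne' hpow
  -- `|C|` divides `q - 1`
  have hdvd : Nat.card C ∣ 3 ^ (2 * m + 1) - 1 := by
    have h1 : Nat.card C ∣ Nat.card H' := Subgroup.card_dvd_of_le inf_le_left
    have h2 : Nat.card H' = 3 ^ (2 * m + 1) - 1 := by
      rw [← Cfsg.Agent.S1114.result hK]
      exact Nat.card_congr (Subgroup.subgroupOfEquivOfLe inf_le_right).toEquiv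
    rwa [h2] at h1
  set k := (Nat.card C).primeFactorsList.length
  rw [hcard] at hdvd ⊢
  have h4 := three_pow_mod_four m
  have hk : k ≤ 1 := by
    by_contra hk
    have h2 : 2 ≤ k := by omega
    have h22 : (4 : ℕ) ∣ 2 ^ k := by
      have := pow_dvd_pow 2 h2
      norm_num at this
      exact this
    have : (4 : ℕ) ∣ 3 ^ (2 * m + 1) - 1 := dvd_trans h22 hdvd
    omega
  calc 2 ^ k ≤ 2 ^ 1 := Nat.pow_le_pow_right (by norm_num) hk
    _ = 2 := by norm_num

/-- the three-point stabilisers of the small Ree groups -/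
theorem ree_three_point (hK : Fintype.card K = 3 ^ (2 * m + 1)) :
    (∀ x y z : ↥(twistedG2 K (3 ^ m)) ⧸ ((chevG2.borelSubgroup K ⊓ twistedG2 K (3 ^ m))).subgroupOf (twistedG2 K (3 ^ m)), x ≠ y → x ≠ z → y ≠ z →
        Nat.card ↥(stabilizer ↥(twistedG2 K (3 ^ m)) x ⊓ stabilizer ↥(twistedG2 K (3 ^ m)) y ⊓ stabilizer ↥(twistedG2 K (3 ^ m)) z) ≤ 2) ∧
      ∃ x y z : ↥(twistedG2 K (3 ^ m)) ⧸ ((chevG2.borelSubgroup K ⊓ twistedG2 K (3 ^ m))).subgroupOf (twistedG2 K (3 ^ m)), x ≠ y ∧ x ≠ z ∧ y ≠ z ∧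
        Nat.card ↥(stabilizer ↥(twistedG2 K (3 ^ m)) x ⊓ stabilizer ↥(twistedG2 K (3 ^ m)) y ⊓ stabilizer ↥(twistedG2 K (3 ^ m)) z) = 2 := by
  obtain ⟨S, L, T⟩ := exists_leaves2 hK
  have hE := reeExp_of_card hK
  have R := ree_rankOne S hE
  refine ⟨?_, ?_⟩
  · intro x y z hxy hxz hyz
    obtain ⟨u, hu, hu1, hcard⟩ := R.card_stab x y z hxy hxz hyz
    rw [hcard]
    exact ree_card_centralizer_le hK u hu hu1
  · -- the element `u(0,1,0)`
    have hu0G : uGL K (3 ^ m) 0 1 0 ∈ twistedG2 K (3 ^ m) := uGL_mem_twisted 0 1 0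
    set u₀ : ↥(twistedG2 K (3 ^ m)) := ⟨uGL K (3 ^ m) 0 1 0, hu0G⟩ with hu₀
    have hu₀U : u₀ ∈ (chevG2.posUnipotent K ⊓ twistedG2 K (3 ^ m)).subgroupOf
        (twistedG2 K (3 ^ m)) := by
      rw [Subgroup.mem_subgroupOf]
      exact ⟨uGL_mem_pos 0 1 0, hu0G⟩
    have hu₀1 : u₀ ≠ 1 := by
      intro h
      have h1 : uGL K (3 ^ m) 0 1 0 = 1 := congrArg Subtype.val h
      have h2 : uGL K (3 ^ m) (0 : K) 0 0 = 1 := by
        have he : (3 ^ m : ℕ) ≠ 0 := by positivity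
        rw [Cfsg.Agent.Lib.Helper24.Ree.uGL_eq, reeWordU_eq]
        simp [Facts.wordGL, Facts.xGL_zero, he]
      have := (L.uGL_inj _ _ _ _ _ _ (h1.trans h2.symm)).2.1
      exact one_ne_zero this
    obtain ⟨h12, h13, h23⟩ := R.std_ne u₀ hu₀U hu₀1
    refine ⟨_, _, _, h12, h13, h23, ?_⟩
    rw [R.stab_std u₀ hu₀U]
    have hle := ree_card_centralizer_le hK u₀ hu₀U hu₀1
    -- the involution `h(-1)`
    have htG : torG K (3 ^ m) (-1) ∈ twistedG2 K (3 ^ m) := T.tor_mem (-1)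
    set t₀ : ↥(twistedG2 K (3 ^ m)) := ⟨torG K (3 ^ m) (-1), htG⟩ with ht₀
    have h3 : (3 : K) = 0 := hE.h3
    have hm1 : (-1 : Kˣ) ≠ 1 := by
      intro h
      have h' : ((-1 : Kˣ) : K) = ((1 : Kˣ) : K) := congrArg Units.val h
      simp only [Units.val_neg, Units.val_one] at h'
      have : (2 : K) = 0 := by linear_combination -h'
      have : (1 : K) = 0 := by linear_combination h3 - this
      exact one_ne_zero this
    have ht₀1 : t₀ ≠ 1 := by
      intro h
      have h1 : torG K (3 ^ m) (-1) = 1 := congrArg Subtype.val h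
      rw [← map_one (torG K (3 ^ m))] at h1
      exact hm1 (T.torG_inj h1)
    have ht₀C : t₀ ∈ ((chevG2.diagonalSubgroup K ⊓ twistedG2 K (3 ^ m)).subgroupOf
        (twistedG2 K (3 ^ m))) ⊓ Subgroup.centralizer {u₀} := by
      refine Subgroup.mem_inf.mpr ⟨Subgroup.mem_subgroupOf.mpr ⟨torG_mem_diag _ _, htG⟩, ?_⟩
      apply Subgroup.mem_centralizer_iff.mpr
      intro y hy
      rw [Set.mem_singleton_iff] at hy
      subst hy
      apply Subtype.ext
      show uGL K (3 ^ m) 0 1 0 * torG K (3 ^ m) (-1) = torG K (3 ^ m) (-1) * uGL K (3 ^ m) 0 1 0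
      have hconj := torG_conj_uGL L T (-1 : Kˣ) (0 : K) 1 0
      rw [mul_zero, mul_zero, mul_one, chi_ten] at hconj
      have hχ : (((-1 : Kˣ) ^ (3 * ((3 ^ m : ℕ) : ℤ) - 1) : Kˣ) : K) = 1 := by
        have hev : Even (3 * ((3 ^ m : ℕ) : ℤ) - 1) := by
          have : Odd (3 * ((3 ^ m : ℕ) : ℤ)) := by
            apply Odd.mul (by decide)
            exact_mod_cast (Odd.pow (by decide : Odd 3))
          obtain ⟨k, hk⟩ := this
          exact ⟨k, by omega⟩
        rw [Even.neg_one_zpow hev]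
        rfl
      rw [hχ] at hconj
      have := congrArg (fun g => g * torG K (3 ^ m) (-1)) hconj
      simpa [mul_assoc] using this.symm
    by_contra hne
    have hpos : 0 < Nat.card ↥(((chevG2.diagonalSubgroup K ⊓ twistedG2 K (3 ^ m)).subgroupOf
        (twistedG2 K (3 ^ m))) ⊓ Subgroup.centralizer {u₀}) := Nat.card_pos
    have hone : Nat.card ↥(((chevG2.diagonalSubgroup K ⊓ twistedG2 K (3 ^ m)).subgroupOf
        (twistedG2 K (3 ^ m))) ⊓ Subgroup.centralizer {u₀}) ≤ 1 := by omega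
    have hsub := Finite.card_le_one_iff_subsingleton.mp hone
    have := hsub.elim ⟨t₀, ht₀C⟩ 1
    exact ht₀1 (congrArg Subtype.val this)

end reestab2

end Cfsg.Agent.Lib.Helper24
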