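import Cfsg.Agent.Lib.Helper24.ReeSL2
import Cfsg.Agent.Lib.Helper24.GL7Sylow
import Cfsg.Agent.Lib.Helper24.G2Short
import Cfsg.Agent.S1069
import Cfsg.Agent.S1073
import Cfsg.Agent.S1150
import Cfsg.Agent.S1114

/-! The Sylow `p`-subgroups of the small Ree groups are cyclic for `p > 3`. -/

set_option autoImplicit false
set_option linter.unusedSimpArgs false

namespace Cfsg.Agent.Lib.Helper24

open Cfsg.Lie Cfsg.Agent.Lib.Helper33.Ree Cfsg.Agent.Lib.Helper37.SL2

section sl2aux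

variable {F : Type*} [Field F]

theorem sl2_uu_mul (s t : F) : uu s * uu t = uu (s + t) := by
  apply Subtype.ext
  simp only [Matrix.SpecialLinearGroup.coe_mul]
  show (!![1, s; 0, 1] : Matrix (Fin 2) (Fin 2) F) * !![1, t; 0, 1] = !![1, s + t; 0, 1]
  simp [Matrix.mul_fin_two, add_comm]

theorem sl2_uu_zero : uu (0 : F) = 1 := by
  apply Subtype.ext
  show (!![1, 0; 0, 1] : Matrix (Fin 2) (Fin 2) F) = 1
  exact Matrix.one_fin_two.symm

theorem sl2_center_sq {z : Matrix.SpecialLinearGroup (Fin 2) F}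
    (hz : z ∈ Subgroup.center (Matrix.SpecialLinearGroup (Fin 2) F)) : z * z = 1 := by
  obtain ⟨r, hr, hrz⟩ := Matrix.SpecialLinearGroup.mem_center_iff.mp hz
  rw [Fintype.card_fin] at hr
  apply Subtype.ext
  rw [Matrix.SpecialLinearGroup.coe_mul, ← hrz, ← map_mul, ← pow_two, hr, map_one]
  rfl

end sl2aux

section numth

variable {F : Type*} [Field F] (x : F)

theorem ree_nt0 (h : x ^ 2 - x + 1 = 0) (hj : x = 0) : (1 : F) = 0 := by
  linear_combination h - (x - 1) * hj

theorem ree_nt1 (h : x ^ 2 - x + 1 = 0) (hj : x - 1 = 0) : (1 : F) = 0 := by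
  linear_combination h - x * hj

theorem ree_nt2 (h : x ^ 2 - x + 1 = 0) (hj : x ^ 2 - 1 = 0) : (3 : F) = 0 := by
  linear_combination (x + 2) * h - (x + 1) * hj

theorem ree_nt3 (h : x ^ 2 - x + 1 = 0) (hj : x ^ 3 - 1 = 0) : (2 : F) = 0 := by
  linear_combination (x + 1) * h - hj

theorem ree_nt4 (h : x ^ 2 - x + 1 = 0) (hj : x ^ 4 - 1 = 0) : (3 : F) = 0 := by
  linear_combination (1 - x * (x + 1) * (x - 2)) * h + (x - 2) * hj

theorem ree_nt5 (h : x ^ 2 - x + 1 = 0) (hj : x ^ 5 - 1 = 0) : (1 : F) = 0 := by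
  linear_combination (1 - (x - 1) * (x ^ 2 * (x + 1) - 1)) * h + (x - 1) * hj

theorem ree_nt7 (h : x ^ 2 - x + 1 = 0) (hj : x ^ 7 - 1 = 0) : (1 : F) = 0 := by
  linear_combination (1 + x ^ 2 * (x ^ 3 - 1) * (x + 1)) * h - x * hj

end numth

theorem zmod_small_ne {p : ℕ} [Fact p.Prime] (hp : 3 < p) :
    (1 : ZMod p) ≠ 0 ∧ (2 : ZMod p) ≠ 0 ∧ (3 : ZMod p) ≠ 0 := by
  refine ⟨one_ne_zero, ?_, ?_⟩
  · intro h
    have h' : ((2 : ℕ) : ZMod p) = 0 := by exact_mod_cast h
    have := Nat.le_of_dvd (by norm_num) ((ZMod.natCast_eq_zero_iff 2 p).mp h')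
    omega
  · intro h
    have h' : ((3 : ℕ) : ZMod p) = 0 := by exact_mod_cast h
    have := Nat.le_of_dvd (by norm_num) ((ZMod.natCast_eq_zero_iff 3 p).mp h')
    omega

theorem zmod_dvd_pow_sub_one {p : ℕ} (q j : ℕ) (hq : 1 ≤ q) :
    p ∣ q ^ j - 1 ↔ ((q : ℕ) : ZMod p) ^ j - 1 = 0 := by
  rw [← ZMod.natCast_eq_zero_iff, Nat.cast_sub (Nat.one_le_pow _ _ hq)]
  push_cast
  rfl

section main

variable {K : Type*} [Field K] [Fintype K] {m : ℕ}

/-- an element of the Ree group whose order is divisible by `(q + 1) / 2` -/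
theorem ree_exists_orderOf (hm : 1 ≤ m) (hK : Fintype.card K = 3 ^ (2 * m + 1)) :
    ∃ x : ↥(twistedG2 K (3 ^ m)), (3 ^ (2 * m + 1) + 1) ∣ 2 * orderOf x := by
  have hE := reeExp_of_card hK
  obtain ⟨Φ, hu, hl, hmem⟩ := ree_sl2_hom hE
  let Ψ : Matrix.SpecialLinearGroup (Fin 2) K →* ↥(twistedG2 K (3 ^ m)) := Φ.codRestrict _ hmem
  have hΨ : ∀ g, ((Ψ g : ↥(twistedG2 K (3 ^ m))) : GL chevG2.Idx K) = Φ g := fun g => rfl
  have h4 : 4 ≤ Nat.card K := by
    rw [Nat.card_eq_fintype_card, hK]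
    calc 4 ≤ 3 ^ 3 := by norm_num
      _ ≤ 3 ^ (2 * m + 1) := Nat.pow_le_pow_right (by norm_num) (by omega)
  haveI := Matrix.ProjectiveSpecialLinearGroup.rank_two_simple h4
  -- the kernel is central
  have hker : Ψ.ker ≤ Subgroup.center (Matrix.SpecialLinearGroup (Fin 2) K) := by
    have hN : (Ψ.ker.map (QuotientGroup.mk'
        (Subgroup.center (Matrix.SpecialLinearGroup (Fin 2) K)))).Normal :=
      Subgroup.Normal.map inferInstance _ (QuotientGroup.mk'_surjective _)
    rcases hN.eq_bot_or_eq_top with hb | ht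
    · intro x hx
      have : QuotientGroup.mk' (Subgroup.center (Matrix.SpecialLinearGroup (Fin 2) K)) x ∈
          Ψ.ker.map (QuotientGroup.mk' _) := ⟨x, hx, rfl⟩
      rw [hb, Subgroup.mem_bot] at this
      exact (QuotientGroup.eq_one_iff x).mp this
    · exfalso
      have hsq : ∀ g : Matrix.SpecialLinearGroup (Fin 2) K, g * g ∈ Ψ.ker := by
        intro g
        have : QuotientGroup.mk' (Subgroup.center (Matrix.SpecialLinearGroup (Fin 2) K)) g ∈
            Ψ.ker.map (QuotientGroup.mk' _) := by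
          rw [ht]
          trivial
        obtain ⟨n, hn, hng⟩ := this
        have hz : n⁻¹ * g ∈ Subgroup.center (Matrix.SpecialLinearGroup (Fin 2) K) :=
          QuotientGroup.eq.mp hng
        have hz2 := sl2_center_sq hz
        have hzc := Subgroup.mem_center_iff.mp hz
        have hg : g * g = n * n := by
          have e1 : g = n * (n⁻¹ * g) := by group
          calc g * g = n * (n⁻¹ * g) * (n * (n⁻¹ * g)) := by rw [← e1]
            _ = n * ((n⁻¹ * g) * n) * (n⁻¹ * g) := by group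
            _ = n * (n * (n⁻¹ * g)) * (n⁻¹ * g) := by rw [hzc n]
            _ = n * n * ((n⁻¹ * g) * (n⁻¹ * g)) := by group
            _ = n * n := by rw [hz2, mul_one]
        rw [hg]
        exact Ψ.ker.mul_mem hn hn
      have h3 : (3 : K) = 0 := hE.h3
      have hu3 : uu (1 : K) * uu 1 * uu 1 = 1 := by
        rw [sl2_uu_mul, sl2_uu_mul, ← sl2_uu_zero]
        congr 1
        rw [← h3]
        norm_num
      have hu1 : uu (1 : K) ∈ Ψ.ker := by
        have h1 := Ψ.ker.mul_mem (hsq (uu (1 : K))) (hsq (uu (1 : K)))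
        have e1 : uu (1 : K) * uu 1 * (uu 1 * uu 1) = uu 1 := by
          calc uu (1 : K) * uu 1 * (uu 1 * uu 1) = (uu 1 * uu 1 * uu 1) * uu 1 := by group
            _ = uu 1 := by rw [hu3, one_mul]
        rwa [e1] at h1
      have h5 : Φ (uu 1) = 1 := by
        have := MonoidHom.mem_ker.mp hu1
        have h6 := congrArg (fun y : ↥(twistedG2 K (3 ^ m)) => (y : GL chevG2.Idx K)) this
        simpa [hΨ] using h6
      rw [hu] at h5
      have he := hE.ne_zero
      have h7 : (envG2 K).hF.wordGL (reeWordU (3 ^ m) (0 : K) 1 0) =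
          (envG2 K).hF.wordGL (reeWordU (3 ^ m) (0 : K) 0 0) := by
        rw [reeWordU_eq, reeWordU_eq]
        simp only [Facts.wordGL, List.map_cons, List.map_nil, List.prod_cons, List.prod_nil,
          zero_pow he, zero_pow (Nat.succ_ne_zero _), Facts.xGL_zero, add_zero, zero_add, one_mul,
          mul_one, one_pow]
        have := h5
        rw [one_pow] at this
        exact this
      have := (reeWordU_inj _ _ _ _ _ _ h7).2.1
      exact one_ne_zero this
  obtain ⟨g₀, hg₀⟩ := exists_SL2_orderOf_singer (K := K)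
  refine ⟨Ψ g₀, ?_⟩
  rw [← hK, ← hg₀]
  apply orderOf_dvd_of_pow_eq_one
  have h1 : g₀ ^ orderOf (Ψ g₀) ∈ Ψ.ker := by
    rw [MonoidHom.mem_ker, map_pow, pow_orderOf_eq_one]
  have h2 := sl2_center_sq (hker h1)
  rw [mul_comm, pow_mul, pow_two]
  exact h2

/-- the action on the short ideal is faithful -/
theorem reeShortHom_injective (hm : 1 ≤ m) (hK : Fintype.card K = 3 ^ (2 * m + 1))
    (h3 : (3 : K) = 0) : Function.Injective (reeShortHom h3 (3 ^ m) : ↥(twistedG2 K (3 ^ m)) →* _) := by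
  haveI := (Cfsg.Agent.S1073.result hm hK).1
  rw [← MonoidHom.ker_eq_bot_iff]
  rcases (MonoidHom.normal_ker (reeShortHom h3 (3 ^ m))).eq_bot_or_eq_top with h | h
  · exact h
  · exfalso
    obtain ⟨g, hg⟩ := reeShortHom_ne_one (K := K) h3 (e := 3 ^ m) (by positivity)
    apply hg
    rw [← MonoidHom.mem_ker, h]
    trivial

/-- the Sylow `p`-subgroups of the small Ree groups are cyclic for `p > 3` -/
theorem ree_sylow_cyclic (hm : 1 ≤ m) (hK : Fintype.card K = 3 ^ (2 * m + 1)) {p : ℕ}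
    [Fact p.Prime] (hp : 3 < p) (P : Sylow p ↥(twistedG2 K (3 ^ m))) :
    IsCyclic (P : Subgroup ↥(twistedG2 K (3 ^ m))) := by
  have hpp : p.Prime := Fact.out
  have hE := reeExp_of_card hK
  have hcard := Cfsg.Agent.S1069.result hK
  have hH := Cfsg.Agent.S1114.result hK
  have hHc := Cfsg.Agent.S1150.result hK
  obtain ⟨x₀, hx₀⟩ := ree_exists_orderOf hm hK
  obtain ⟨r, hr⟩ : ∃ r, 3 ^ (2 * m + 1) = r + 1 := ⟨3 ^ (2 * m + 1) - 1, by
    have : 1 ≤ 3 ^ (2 * m + 1) := Nat.one_le_pow _ _ (by norm_num)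
    omega⟩
  rw [hr] at hcard hH hx₀
  rw [Nat.add_sub_cancel] at hcard hH
  obtain ⟨h1, h2, h3'⟩ := zmod_small_ne hp
  -- `p` does not divide `q`
  have hpq : ¬ p ∣ r + 1 := by
    intro h
    rw [← hr] at h
    have := Nat.le_of_dvd (by norm_num) (hpp.dvd_of_dvd_pow h)
    omega
  have cop := fun {n : ℕ} (h : ¬ p ∣ n) (k : ℕ) =>
    Nat.Coprime.pow_left k ((Nat.Prime.coprime_iff_not_dvd hpp).mpr h)
  have hxr : ((r + 1 : ℕ) : ZMod p) = (r : ZMod p) + 1 := by push_cast; rfl
  by_cases hA : p ∣ r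
  · -- `p` divides `q - 1`
    have hr0 : (r : ZMod p) = 0 := (ZMod.natCast_eq_zero_iff r p).mpr hA
    have hn : ¬ p ∣ (r + 1) ^ 3 + 1 := by
      rw [← ZMod.natCast_eq_zero_iff]
      push_cast
      rw [hr0]
      intro h
      apply h2
      linear_combination h
    set C := (chevG2.diagonalSubgroup K ⊓ twistedG2 K (3 ^ m)).subgroupOf (twistedG2 K (3 ^ m))
      with hC
    have eC : C ≃* ↥(chevG2.diagonalSubgroup K ⊓ twistedG2 K (3 ^ m)) :=
      Subgroup.subgroupOfEquivOfLe inf_le_right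
    have hCc : IsCyclic C := by
      haveI := hHc
      exact isCyclic_of_surjective eC.symm.toMonoidHom eC.symm.surjective
    have hCcard : Nat.card C = r := by rw [Nat.card_congr eC.toEquiv, hH]
    refine sylow_isCyclic_of_cyclic_subgroup C hCc ?_ P
    intro k hk
    rw [hCcard]
    rw [hcard] at hk
    have e1 : (r + 1) ^ 3 * r * ((r + 1) ^ 3 + 1) = r * ((r + 1) ^ 3 * ((r + 1) ^ 3 + 1)) := by ring
    rw [e1] at hk
    refine Nat.Coprime.dvd_of_dvd_mul_right ?_ hk
    exact Nat.Coprime.mul_right (Nat.Coprime.pow_right _ (cop hpq k)) (cop hn k)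
  by_cases hB : p ∣ r + 2
  · -- `p` divides `q + 1`
    have hr2 : (r : ZMod p) + 2 = 0 := by
      have := (ZMod.natCast_eq_zero_iff (r + 2) p).mpr hB
      push_cast at this
      exact this
    have hn : ¬ p ∣ (r + 1) * r + 1 := by
      rw [← ZMod.natCast_eq_zero_iff]
      push_cast
      intro h
      apply h3'
      linear_combination h - (r : ZMod p) * hr2 + hr2
    refine sylow_isCyclic_of_cyclic_subgroup (Subgroup.zpowers x₀) inferInstance ?_ P
    intro k hk
    rw [Nat.card_zpowers]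
    rw [hcard] at hk
    have e1 : (r + 1) ^ 3 * r * ((r + 1) ^ 3 + 1) =
        (r + 2) * ((r + 1) ^ 3 * r * ((r + 1) * r + 1)) := by ring
    rw [e1] at hk
    have hk2 : p ^ k ∣ r + 2 := by
      refine Nat.Coprime.dvd_of_dvd_mul_right ?_ hk
      exact Nat.Coprime.mul_right (Nat.Coprime.mul_right (Nat.Coprime.pow_right _ (cop hpq k))
        (cop hA k)) (cop hn k)
    have hk3 : p ^ k ∣ 2 * orderOf x₀ := dvd_trans hk2 hx₀
    refine Nat.Coprime.dvd_of_dvd_mul_left ?_ hk3
    apply cop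
    intro h
    have := Nat.le_of_dvd (by norm_num) h
    omega
  by_cases hC : p ∣ (r + 1) * r + 1
  · -- `p` divides `q² - q + 1`
    have hx : ((r + 1 : ℕ) : ZMod p) ^ 2 - ((r + 1 : ℕ) : ZMod p) + 1 = 0 := by
      have := (ZMod.natCast_eq_zero_iff ((r + 1) * r + 1) p).mpr hC
      push_cast at this
      push_cast
      linear_combination this
    have hq1 : 1 ≤ r + 1 := by omega
    have hKr : Fintype.card K = r + 1 := by rw [hK, hr]
    refine sylow_isCyclic_of_injective (reeShortHom hE.h3 (3 ^ m))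
      (reeShortHom_injective hm hK hE.h3) ?_ P
    intro P'
    refine GL7_sylow_isCyclic {j // g2ShortJ j} g2ShortJ_card ?_ ?_ ?_ ?_ ?_ ?_ ?_ P'
    · rw [hKr]; exact hpq
    · rw [hKr, Nat.add_sub_cancel]; exact hA
    · rw [hKr, zmod_dvd_pow_sub_one _ _ hq1]
      exact fun h => h3' (ree_nt2 _ hx h)
    · rw [hKr, zmod_dvd_pow_sub_one _ _ hq1]
      exact fun h => h2 (ree_nt3 _ hx h)
    · rw [hKr, zmod_dvd_pow_sub_one _ _ hq1]
      exact fun h => h3' (ree_nt4 _ hx h)
    · rw [hKr, zmod_dvd_pow_sub_one _ _ hq1]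
      exact fun h => h1 (ree_nt5 _ hx h)
    · rw [hKr, zmod_dvd_pow_sub_one _ _ hq1]
      exact fun h => h1 (ree_nt7 _ hx h)
  · -- `p` does not divide the order
    refine sylow_isCyclic_of_cyclic_subgroup ⊥ inferInstance ?_ P
    intro k hk
    rw [hcard] at hk
    have e1 : (r + 1) ^ 3 * r * ((r + 1) ^ 3 + 1) =
        (r + 1) ^ 3 * r * (r + 2) * ((r + 1) * r + 1) := by ring
    rw [e1] at hk
    have hc : Nat.Coprime (p ^ k) ((r + 1) ^ 3 * r * (r + 2) * ((r + 1) * r + 1)) :=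
      Nat.Coprime.mul_right (Nat.Coprime.mul_right (Nat.Coprime.mul_right
        (Nat.Coprime.pow_right _ (cop hpq k)) (cop hA k)) (cop hB k)) (cop hC k)
    rw [Nat.Coprime.eq_one_of_dvd hc hk]
    exact one_dvd _

end main

end Cfsg.Agent.Lib.Helper24
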