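import Cfsg.Agent.Lib.Helper24.TwU
import Cfsg.Agent.Lib.Helper24.CellsF
import Cfsg.Prelude.Def_LieTwisted
import Cfsg.Agent.Lib.Helper33.ReeExt

set_option autoImplicit false
set_option linter.unusedSimpArgs false

namespace Cfsg.Agent.Lib.Helper24

open Cfsg.Lie Cfsg.Agent.Lib.Helper33.Ree

theorem reorder8 {G : Type*} [Group G] {a₁ b₁ c₁ d₁ c₂ d₂ a₂ b₂ : G}
    (hab : Commute b₁ a₂) (hac : Commute c₁ a₂) (had : Commute d₁ a₂) (hac2 : Commute c₂ a₂)
    (had2 : Commute d₂ a₂) (hbc : Commute c₁ b₂) (hbd : Commute d₁ b₂) (hbc2 : Commute c₂ b₂)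
    (hbd2 : Commute d₂ b₂) (hcd : Commute d₁ c₂) :
    a₁ * b₁ * c₁ * d₁ * c₂ * d₂ * a₂ * b₂ = (a₁ * a₂) * (b₁ * b₂) * (c₁ * c₂) * (d₁ * d₂) := by
  simp only [mul_assoc]
  rw [had2.left_comm, hac2.left_comm, had.left_comm, hac.left_comm, hab.left_comm,
    hbd2.eq, hbc2.left_comm, hbd.left_comm, hbc.left_comm, hcd.left_comm]

theorem list4_eq {α : Type*} {a b c d a' b' c' d' : α} (h1 : a = a') (h2 : b = b') (h3 : c = c')
    (h4 : d = d') : [a, b, c, d] = [a', b', c', d'] := by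
  subst h1 h2 h3 h4; rfl

section reeu

variable {F : Type*} [Field F]

/-- root elements of two roots without commutator terms commute (all roots) -/
theorem Env.commute_of_nil' {D : ChevalleyDatum} {tab : List ℕ} {orb : List (ℕ × ℕ × ℕ)}
    (E : Env D F tab orb) (r s : ℕ) (hr : r < D.nroots) (hs : s < D.nroots)
    (hne : s ≠ r) (hneg : s ≠ D.neg r) (h : D.commTerms r s = []) (t u : F) :
    Commute (E.hF.xGL r t) (E.hF.xGL s u) := by
  have hq := E.hcomm r hr s hs hne hneg t u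
  have e : D.commWord F r s t u = [] := by
    unfold ChevalleyDatum.commWord
    rw [h]
    rfl
  rw [e] at hq
  have e2 : E.hF.wordGL ([] : List (ℕ × F)) = 1 := by simp [Facts.wordGL]
  rw [e2, mul_one] at hq
  exact hq.symm

/-- in characteristic 3 the root elements of `a+b` and `2a+b` commute -/
theorem g2_comm_8_9 (h3 : (3 : F) = 0) (t u : F) :
    Commute ((envG2 F).hF.xGL 8 t) ((envG2 F).hF.xGL 9 u) := by
  have hq := (envG2 F).hcomm 8 (by decide) 9 (by decide) (by decide) (by decide) t u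
  have e : chevG2.commTerms 8 9 = [(11, 3, 1, 1)] := by decide
  have e' : chevG2.commWord F 8 9 t u = [(11, 0)] := by
    unfold ChevalleyDatum.commWord
    rw [e]
    simp [h3]
  rw [e'] at hq
  have e2 : (envG2 F).hF.wordGL ([(11, 0)] : List (ℕ × F)) = 1 := by
    simp [Facts.wordGL, Facts.xGL_zero]
  rw [e2, mul_one] at hq
  exact hq.symm

/-- in characteristic 3 the root elements of `-a-b` and `-2a-b` commute -/
theorem g2_comm_3_2 (h3 : (3 : F) = 0) (t u : F) :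
    Commute ((envG2 F).hF.xGL 3 t) ((envG2 F).hF.xGL 2 u) := by
  have hq := (envG2 F).hcomm 3 (by decide) 2 (by decide) (by decide) (by decide) t u
  have e : chevG2.commTerms 3 2 = [(0, -3, 1, 1)] := by decide
  have e' : chevG2.commWord F 3 2 t u = [(0, 0)] := by
    unfold ChevalleyDatum.commWord
    rw [e]
    simp [h3]
  rw [e'] at hq
  have e2 : (envG2 F).hF.wordGL ([(0, 0)] : List (ℕ × F)) = 1 := by
    simp [Facts.wordGL, Facts.xGL_zero]
  rw [e2, mul_one] at hq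
  exact hq.symm

theorem g2_comm_nil (r s : ℕ) (hr : r < chevG2.nroots) (hs : s < chevG2.nroots)
    (hne : s ≠ r) (hneg : s ≠ chevG2.neg r) (h : chevG2.commTerms r s = []) (t u : F) :
    Commute ((envG2 F).hF.xGL r t) ((envG2 F).hF.xGL s u) :=
  (envG2 F).commute_of_nil' r s hr hs hne hneg h t u

/-- the commutator formula for the fundamental roots `a`, `b` -/
theorem g2_comm_7_6 (P Q : F) :
    (envG2 F).hF.xGL 6 P * (envG2 F).hF.xGL 7 Q =
      (envG2 F).hF.xGL 7 Q * (envG2 F).hF.xGL 6 P * (envG2 F).hF.xGL 8 (Q * P) *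
        (envG2 F).hF.xGL 9 (Q ^ 2 * P) * (envG2 F).hF.xGL 10 (-(Q ^ 3 * P)) *
        (envG2 F).hF.xGL 11 (-(Q ^ 3 * P ^ 2)) := by
  have hq := (envG2 F).hcomm 7 (by decide) 6 (by decide) (by decide) (by decide) Q P
  have e : chevG2.commTerms 7 6 = [(8, -1, 1, 1), (9, 1, 2, 1), (10, 1, 3, 1), (11, 1, 3, 2)] := by
    decide
  have e' : chevG2.commWord F 7 6 Q P =
      [(8, Q * P), (9, Q ^ 2 * P), (10, -(Q ^ 3 * P)), (11, -(Q ^ 3 * P ^ 2))] := by
    unfold ChevalleyDatum.commWord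
    rw [e]
    simp only [List.map_cons, List.map_nil]
    refine list4_eq (Prod.ext rfl ?_) (Prod.ext rfl ?_) (Prod.ext rfl ?_) (Prod.ext rfl ?_) <;>
      (push_cast; ring)
  rw [e'] at hq
  rw [hq]
  simp [Facts.wordGL, mul_assoc]

/-- the commutator formula for the roots `-a`, `-b` -/
theorem g2_comm_4_5 (P Q : F) :
    (envG2 F).hF.xGL 5 P * (envG2 F).hF.xGL 4 Q =
      (envG2 F).hF.xGL 4 Q * (envG2 F).hF.xGL 5 P * (envG2 F).hF.xGL 3 (-(Q * P)) *
        (envG2 F).hF.xGL 2 (Q ^ 2 * P) * (envG2 F).hF.xGL 1 (Q ^ 3 * P) *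
        (envG2 F).hF.xGL 0 (-(Q ^ 3 * P ^ 2)) := by
  have hq := (envG2 F).hcomm 4 (by decide) 5 (by decide) (by decide) (by decide) Q P
  have e : chevG2.commTerms 4 5 = [(3, 1, 1, 1), (2, 1, 2, 1), (1, -1, 3, 1), (0, 1, 3, 2)] := by
    decide
  have e' : chevG2.commWord F 4 5 Q P =
      [(3, -(Q * P)), (2, Q ^ 2 * P), (1, Q ^ 3 * P), (0, -(Q ^ 3 * P ^ 2))] := by
    unfold ChevalleyDatum.commWord
    rw [e]
    simp only [List.map_cons, List.map_nil]
    refine list4_eq (Prod.ext rfl ?_) (Prod.ext rfl ?_) (Prod.ext rfl ?_) (Prod.ext rfl ?_) <;>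
      (push_cast; ring)
  rw [e'] at hq
  rw [hq]
  simp [Facts.wordGL, mul_assoc]

/-- the reordering identity in `U` (characteristic 3) -/
theorem g2_reorder_pos (h3 : (3 : F) = 0) (P Q A B C E : F) :
    (envG2 F).hF.xGL 6 P * (envG2 F).hF.xGL 7 Q * (envG2 F).hF.xGL 10 A * (envG2 F).hF.xGL 11 B *
        (envG2 F).hF.xGL 8 C * (envG2 F).hF.xGL 9 E =
      (envG2 F).hF.xGL 7 Q * (envG2 F).hF.xGL 6 P * (envG2 F).hF.xGL 8 (Q * P + C) *
        (envG2 F).hF.xGL 9 (Q ^ 2 * P + E) * (envG2 F).hF.xGL 10 (-(Q ^ 3 * P) + A) *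
        (envG2 F).hF.xGL 11 (-(Q ^ 3 * P ^ 2) + B) := by
  rw [g2_comm_7_6]
  have h := reorder8 (a₁ := (envG2 F).hF.xGL 8 (Q * P)) (b₁ := (envG2 F).hF.xGL 9 (Q ^ 2 * P))
    (c₁ := (envG2 F).hF.xGL 10 (-(Q ^ 3 * P))) (d₁ := (envG2 F).hF.xGL 11 (-(Q ^ 3 * P ^ 2)))
    (c₂ := (envG2 F).hF.xGL 10 A) (d₂ := (envG2 F).hF.xGL 11 B) (a₂ := (envG2 F).hF.xGL 8 C)
    (b₂ := (envG2 F).hF.xGL 9 E)
    ((g2_comm_8_9 h3 _ _).symm)
    (g2_comm_nil 10 8 (by decide) (by decide) (by decide) (by decide) (by decide) _ _)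
    (g2_comm_nil 11 8 (by decide) (by decide) (by decide) (by decide) (by decide) _ _)
    (g2_comm_nil 10 8 (by decide) (by decide) (by decide) (by decide) (by decide) _ _)
    (g2_comm_nil 11 8 (by decide) (by decide) (by decide) (by decide) (by decide) _ _)
    (g2_comm_nil 10 9 (by decide) (by decide) (by decide) (by decide) (by decide) _ _)
    (g2_comm_nil 11 9 (by decide) (by decide) (by decide) (by decide) (by decide) _ _)
    (g2_comm_nil 10 9 (by decide) (by decide) (by decide) (by decide) (by decide) _ _)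
    (g2_comm_nil 11 9 (by decide) (by decide) (by decide) (by decide) (by decide) _ _)
    (g2_comm_nil 11 10 (by decide) (by decide) (by decide) (by decide) (by decide) _ _)
  simp only [Facts.xGL_mul] at h
  simp only [mul_assoc] at h ⊢
  rw [h]

/-- the reordering identity in `V` (characteristic 3) -/
theorem g2_reorder_neg (h3 : (3 : F) = 0) (P Q A B C E : F) :
    (envG2 F).hF.xGL 5 P * (envG2 F).hF.xGL 4 Q * (envG2 F).hF.xGL 1 A * (envG2 F).hF.xGL 0 B *
        (envG2 F).hF.xGL 3 C * (envG2 F).hF.xGL 2 E =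
      (envG2 F).hF.xGL 4 Q * (envG2 F).hF.xGL 5 P * (envG2 F).hF.xGL 3 (-(Q * P) + C) *
        (envG2 F).hF.xGL 2 (Q ^ 2 * P + E) * (envG2 F).hF.xGL 1 (Q ^ 3 * P + A) *
        (envG2 F).hF.xGL 0 (-(Q ^ 3 * P ^ 2) + B) := by
  rw [g2_comm_4_5]
  have h := reorder8 (a₁ := (envG2 F).hF.xGL 3 (-(Q * P))) (b₁ := (envG2 F).hF.xGL 2 (Q ^ 2 * P))
    (c₁ := (envG2 F).hF.xGL 1 (Q ^ 3 * P)) (d₁ := (envG2 F).hF.xGL 0 (-(Q ^ 3 * P ^ 2)))
    (c₂ := (envG2 F).hF.xGL 1 A) (d₂ := (envG2 F).hF.xGL 0 B) (a₂ := (envG2 F).hF.xGL 3 C)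
    (b₂ := (envG2 F).hF.xGL 2 E)
    ((g2_comm_3_2 h3 _ _).symm)
    (g2_comm_nil 1 3 (by decide) (by decide) (by decide) (by decide) (by decide) _ _)
    (g2_comm_nil 0 3 (by decide) (by decide) (by decide) (by decide) (by decide) _ _)
    (g2_comm_nil 1 3 (by decide) (by decide) (by decide) (by decide) (by decide) _ _)
    (g2_comm_nil 0 3 (by decide) (by decide) (by decide) (by decide) (by decide) _ _)
    (g2_comm_nil 1 2 (by decide) (by decide) (by decide) (by decide) (by decide) _ _)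
    (g2_comm_nil 0 2 (by decide) (by decide) (by decide) (by decide) (by decide) _ _)
    (g2_comm_nil 1 2 (by decide) (by decide) (by decide) (by decide) (by decide) _ _)
    (g2_comm_nil 0 2 (by decide) (by decide) (by decide) (by decide) (by decide) _ _)
    (g2_comm_nil 0 1 (by decide) (by decide) (by decide) (by decide) (by decide) _ _)
  simp only [Facts.xGL_mul] at h
  simp only [mul_assoc] at h ⊢
  rw [h]

end reeu

end Cfsg.Agent.Lib.Helper24
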