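import Cfsg.Agent.Lib.Helper24.ReeU
import Cfsg.Agent.Lib.Helper33.ReeDefs

set_option autoImplicit false
set_option linter.unusedSimpArgs false

namespace Cfsg.Agent.Lib.Helper24

open Cfsg.Lie Cfsg.Agent.Lib.Helper33.Ree

/-- the hypotheses on the exponent `e` of the twisting automorphism -/
structure ReeExp (K : Type*) [Field K] (e : ℕ) : Prop where
  h3 : (3 : K) = 0
  hadd : ∀ x y : K, (x + y) ^ e = x ^ e + y ^ e
  hθ : ∀ t : K, t ^ (3 * e * e) = t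
  hodd : Odd e

section reeu2

variable {K : Type*} [Field K] {e : ℕ}

theorem ReeExp.pow_pow (hE : ReeExp K e) (x : K) : (x ^ e) ^ (3 * e) = x := by
  rw [← pow_mul, show e * (3 * e) = 3 * e * e by ring, hE.hθ]

theorem ReeExp.pow_pow' (hE : ReeExp K e) (x : K) : (x ^ (3 * e)) ^ e = x := by
  rw [← pow_mul, hE.hθ]

theorem ReeExp.cube_add (hE : ReeExp K e) (x y : K) : (x + y) ^ 3 = x ^ 3 + y ^ 3 := by
  have h : (x + y) ^ 3 = x ^ 3 + y ^ 3 + 3 * (x ^ 2 * y + x * y ^ 2) := by ring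
  rw [h, hE.h3, zero_mul, add_zero]

theorem ReeExp.add3 (hE : ReeExp K e) (x y : K) : (x + y) ^ (3 * e) = x ^ (3 * e) + y ^ (3 * e) := by
  rw [mul_comm 3 e, pow_mul, pow_mul, pow_mul, hE.hadd, hE.cube_add]

theorem ReeExp.neg_pow (hE : ReeExp K e) (x : K) : (-x) ^ e = -x ^ e := hE.hodd.neg_pow x

theorem ReeExp.neg_pow3 (hE : ReeExp K e) (x : K) : (-x) ^ (3 * e) = -x ^ (3 * e) := by
  have : Odd (3 * e) := Odd.mul (by decide) hE.hodd
  exact this.neg_pow x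

open Classical in
/-- the twisting automorphism as a map of the general linear group -/
noncomputable def _root_.Cfsg.Agent.Lib.Helper33.Ree.Sigma.ap (S : Sigma K e) (g : GL chevG2.Idx K) :
    GL chevG2.Idx K :=
  if h : g ∈ chevG2.group K then ((S.σ ⟨g, h⟩ : ↥(chevG2.group K)) : GL chevG2.Idx K) else 1

theorem _root_.Cfsg.Agent.Lib.Helper33.Ree.Sigma.ap_of_mem (S : Sigma K e) (g : GL chevG2.Idx K)
    (h : g ∈ chevG2.group K) : S.ap g = ((S.σ ⟨g, h⟩ : ↥(chevG2.group K)) : GL chevG2.Idx K) := by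
  unfold Sigma.ap
  rw [dif_pos h]

theorem _root_.Cfsg.Agent.Lib.Helper33.Ree.Sigma.ap_mem (S : Sigma K e) (g : GL chevG2.Idx K)
    (h : g ∈ chevG2.group K) : S.ap g ∈ chevG2.group K := by
  rw [S.ap_of_mem g h]
  exact (S.σ ⟨g, h⟩).2

theorem _root_.Cfsg.Agent.Lib.Helper33.Ree.Sigma.ap_mul (S : Sigma K e) (a b : GL chevG2.Idx K)
    (ha : a ∈ chevG2.group K) (hb : b ∈ chevG2.group K) : S.ap (a * b) = S.ap a * S.ap b := by
  rw [S.ap_of_mem a ha, S.ap_of_mem b hb, S.ap_of_mem (a * b) (Subgroup.mul_mem _ ha hb)]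
  have : (⟨a * b, Subgroup.mul_mem _ ha hb⟩ : ↥(chevG2.group K)) = ⟨a, ha⟩ * ⟨b, hb⟩ := rfl
  rw [this, map_mul]
  rfl

theorem _root_.Cfsg.Agent.Lib.Helper33.Ree.Sigma.ap_one (S : Sigma K e) : S.ap 1 = 1 := by
  rw [S.ap_of_mem 1 (Subgroup.one_mem _)]
  have : (⟨1, Subgroup.one_mem _⟩ : ↥(chevG2.group K)) = 1 := rfl
  rw [this, map_one]
  rfl

theorem _root_.Cfsg.Agent.Lib.Helper33.Ree.Sigma.mem_Fx_iff_ap (S : Sigma K e) (g : GL chevG2.Idx K) :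
    g ∈ S.Fx ↔ g ∈ chevG2.group K ∧ S.ap g = g := by
  rw [S.mem_Fx]
  constructor
  · rintro ⟨h, hg⟩
    refine ⟨h, ?_⟩
    rw [S.ap_of_mem g h, hg]
  · rintro ⟨h, hg⟩
    refine ⟨h, ?_⟩
    apply Subtype.ext
    rw [S.ap_of_mem g h] at hg
    exact hg

theorem _root_.Cfsg.Agent.Lib.Helper33.Ree.Sigma.ap_xGL (S : Sigma K e) (r : ℕ) (hr : r < 12) (t : K) :
    S.ap ((envG2 K).hF.xGL r t) = (envG2 K).hF.xGL (bar r) (t ^ (lam r * e)) := by
  rw [S.ap_of_mem _ ((envG2 K).hF.xGL_mem_group r t)]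
  apply Units.ext
  rw [Facts.xGL_val]
  exact S.map_x r hr t _ rfl

theorem _root_.Cfsg.Agent.Lib.Helper33.Ree.Sigma.ap_wordGL (S : Sigma K e) (w : List (ℕ × K))
    (hw : ∀ p ∈ w, p.1 < 12) :
    S.ap ((envG2 K).hF.wordGL w) =
      (envG2 K).hF.wordGL (w.map fun p => (bar p.1, p.2 ^ (lam p.1 * e))) := by
  induction w with
  | nil =>
    have : (envG2 K).hF.wordGL ([] : List (ℕ × K)) = 1 := by simp [Facts.wordGL]
    rw [List.map_nil, this, S.ap_one]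
  | cons p w ih =>
    rw [List.map_cons, Facts.wordGL_cons, Facts.wordGL_cons,
      S.ap_mul _ _ ((envG2 K).hF.xGL_mem_group _ _) ((envG2 K).hF.wordGL_mem_group _),
      S.ap_xGL p.1 (hw p List.mem_cons_self), ih (fun q hq => hw q (List.mem_cons_of_mem _ hq))]

theorem g2_reorder_pos_w (h3 : (3 : K) = 0) (P Q A B C E : K) :
    (envG2 K).hF.wordGL [(6, P), (7, Q), (10, A), (11, B), (8, C), (9, E)] =
      (envG2 K).hF.wordGL [(7, Q), (6, P), (8, Q * P + C), (9, Q ^ 2 * P + E),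
        (10, -(Q ^ 3 * P) + A), (11, -(Q ^ 3 * P ^ 2) + B)] := by
  have := g2_reorder_pos h3 P Q A B C E
  simpa [Facts.wordGL, mul_assoc] using this

theorem g2_reorder_neg_w (h3 : (3 : K) = 0) (P Q A B C E : K) :
    (envG2 K).hF.wordGL [(5, P), (4, Q), (1, A), (0, B), (3, C), (2, E)] =
      (envG2 K).hF.wordGL [(4, Q), (5, P), (3, -(Q * P) + C), (2, Q ^ 2 * P + E),
        (1, Q ^ 3 * P + A), (0, -(Q ^ 3 * P ^ 2) + B)] := by
  have := g2_reorder_neg h3 P Q A B C E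
  simpa [Facts.wordGL, mul_assoc] using this

theorem list6_eq {α : Type*} {a b c d f g a' b' c' d' f' g' : α} (h1 : a = a') (h2 : b = b')
    (h3 : c = c') (h4 : d = d') (h5 : f = f') (h6 : g = g') :
    [a, b, c, d, f, g] = [a', b', c', d', f', g'] := by
  subst h1 h2 h3 h4 h5 h6; rfl

theorem reeWordU_lt (t u v : K) : ∀ p ∈ reeWordU e t u v, p.1 < 12 := by
  intro p hp
  simp only [reeWordU, List.mem_cons, List.not_mem_nil, or_false] at hp
  rcases hp with rfl | rfl | rfl | rfl | rfl | rfl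
  · exact (by decide : g2a < 12)
  · exact (by decide : g2b < 12)
  · exact (by decide : g2ab < 12)
  · exact (by decide : g2aab < 12)
  · exact (by decide : g2aaab < 12)
  · exact (by decide : g2aaabb < 12)

theorem ReeExp.pow3e (x : K) : x ^ (3 * e) = (x ^ e) ^ 3 := by
  rw [mul_comm 3 e, pow_mul]

theorem ReeExp.hA (hE : ReeExp K e) (t u : K) :
    (t ^ e * t + u ^ e) ^ (3 * e) = t * (t ^ e) ^ 3 + u := by
  rw [hE.add3, hE.pow_pow, mul_pow, hE.pow_pow, ReeExp.pow3e t]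

theorem ReeExp.hB (hE : ReeExp K e) (t v : K) :
    ((t ^ e) ^ 2 * t + v ^ e) ^ (3 * e) = t ^ 2 * (t ^ e) ^ 3 + v := by
  rw [hE.add3, hE.pow_pow, mul_pow, pow_right_comm, hE.pow_pow, ReeExp.pow3e t]

/-- `σ` fixes the generators in `U` -/
theorem ree_fix_wordU (S : Sigma K e) (hE : ReeExp K e) (t u v : K) :
    S.ap ((envG2 K).hF.wordGL (reeWordU e t u v)) = (envG2 K).hF.wordGL (reeWordU e t u v) := by
  rw [S.ap_wordGL _ (reeWordU_lt t u v)]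
  have ht1 : t ^ (e + 1) = t ^ e * t := pow_succ _ _
  have ht2 : t ^ (2 * e + 1) = (t ^ e) ^ 2 * t := by rw [pow_succ, mul_comm 2 e, pow_mul]
  have e1 : (reeWordU e t u v).map (fun p => (bar p.1, p.2 ^ (lam p.1 * e))) =
      [(6, (t ^ e) ^ (3 * e)), (7, t ^ (1 * e)), (10, (t ^ (e + 1) + u ^ e) ^ (3 * e)),
        (11, (t ^ (2 * e + 1) + v ^ e) ^ (3 * e)), (8, u ^ (1 * e)), (9, v ^ (1 * e))] := rfl
  rw [e1, g2_reorder_pos_w hE.h3]
  congr 1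
  unfold reeWordU
  rw [ht1, ht2, hE.hA, hE.hB, hE.pow_pow, one_mul]
  refine list6_eq (Prod.ext rfl ?_) (Prod.ext rfl ?_) (Prod.ext rfl ?_) (Prod.ext rfl ?_)
    (Prod.ext rfl ?_) (Prod.ext rfl ?_)
  · rfl
  · rfl
  · rfl
  · rfl
  · show -((t ^ e) ^ 3 * t) + (t * (t ^ e) ^ 3 + u) = u
    ring
  · show -((t ^ e) ^ 3 * t ^ 2) + (t ^ 2 * (t ^ e) ^ 3 + v) = v
    ring

theorem reeWordV_eq (t u v : K) : reeWordV e t u v =
    [(4, -(t ^ e)), (5, -t), (3, -(t ^ (e + 1) + u ^ e)), (2, -(t ^ (2 * e + 1) + v ^ e)),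
      (1, -u), (0, -v)] := rfl

theorem reeWordV_lt (t u v : K) : ∀ p ∈ reeWordV e t u v, p.1 < 12 := by
  intro p hp
  rw [reeWordV_eq] at hp
  simp only [List.mem_cons, List.not_mem_nil, or_false] at hp
  rcases hp with rfl | rfl | rfl | rfl | rfl | rfl <;> norm_num

/-- `σ` fixes the generators in `V` -/
theorem ree_fix_wordV (S : Sigma K e) (hE : ReeExp K e) (t u v : K) :
    S.ap ((envG2 K).hF.wordGL (reeWordV e t u v)) = (envG2 K).hF.wordGL (reeWordV e t u v) := by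
  rw [S.ap_wordGL _ (reeWordV_lt t u v)]
  have ht1 : t ^ (e + 1) = t ^ e * t := pow_succ _ _
  have ht2 : t ^ (2 * e + 1) = (t ^ e) ^ 2 * t := by rw [pow_succ, mul_comm 2 e, pow_mul]
  rw [reeWordV_eq]
  have e1 : ([(4, -(t ^ e)), (5, -t), (3, -(t ^ (e + 1) + u ^ e)), (2, -(t ^ (2 * e + 1) + v ^ e)),
      (1, -u), (0, -v)] : List (ℕ × K)).map (fun p => (bar p.1, p.2 ^ (lam p.1 * e))) =
      [(5, (-(t ^ e)) ^ (3 * e)), (4, (-t) ^ (1 * e)), (1, (-(t ^ (e + 1) + u ^ e)) ^ (3 * e)),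
        (0, (-(t ^ (2 * e + 1) + v ^ e)) ^ (3 * e)), (3, (-u) ^ (1 * e)), (2, (-v) ^ (1 * e))] := rfl
  rw [e1, g2_reorder_neg_w hE.h3]
  congr 1
  rw [ht1, ht2, hE.neg_pow3, hE.neg_pow3, hE.neg_pow3, hE.hA, hE.hB, hE.pow_pow, one_mul,
    hE.neg_pow, hE.neg_pow, hE.neg_pow]
  refine list6_eq (Prod.ext rfl ?_) (Prod.ext rfl ?_) (Prod.ext rfl ?_) (Prod.ext rfl ?_)
    (Prod.ext rfl ?_) (Prod.ext rfl ?_)
  · rfl
  · rfl
  · show -(-(t ^ e) * -t) + -(u ^ e) = -(t ^ e * t + u ^ e)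
    ring
  · show (-(t ^ e)) ^ 2 * -t + -(v ^ e) = -((t ^ e) ^ 2 * t + v ^ e)
    ring
  · show (-(t ^ e)) ^ 3 * -t + -(t * (t ^ e) ^ 3 + u) = -u
    ring
  · show -((-(t ^ e)) ^ 3 * (-t) ^ 2) + -(t ^ 2 * (t ^ e) ^ 3 + v) = -v
    ring

/-- the twisted group consists of fixed points -/
theorem ree_le_Fx (S : Sigma K e) (hE : ReeExp K e) : twistedG2 K e ≤ S.Fx := by
  unfold twistedG2 ChevalleyDatum.genSubgroup
  rw [Subgroup.closure_le]
  rintro g ⟨w, hw, hg⟩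
  obtain ⟨t, u, v, rfl | rfl⟩ := hw
  · rw [(envG2 K).hF.eq_wordGL g _ hg, SetLike.mem_coe, S.mem_Fx_iff_ap]
    exact ⟨(envG2 K).hF.wordGL_mem_group _, ree_fix_wordU S hE t u v⟩
  · rw [(envG2 K).hF.eq_wordGL g _ hg, SetLike.mem_coe, S.mem_Fx_iff_ap]
    exact ⟨(envG2 K).hF.wordGL_mem_group _, ree_fix_wordV S hE t u v⟩

end reeu2

end Cfsg.Agent.Lib.Helper24
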