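import Cfsg.Agent.Lib.Helper24.ReeN

set_option autoImplicit false
set_option linter.unusedSimpArgs false

namespace Cfsg.Agent.Lib.Helper24

open Cfsg.Lie Cfsg.Agent.Lib.Helper33.Ree

section gen

variable {F : Type*} [Field F] {D : ChevalleyDatum} {tab : List ℕ} {orb : List (ℕ × ℕ × ℕ)}

/-- the elements of the form `n_w h` -/
def Env.IsWH (E : Env D F tab orb) (x : GL D.Idx F) : Prop :=
  ∃ w : List ℕ, (∀ i ∈ w, i < D.rank) ∧ ∃ h ∈ D.diagonalSubgroup F, x = E.hF.nW w * h

theorem Env.isWH_mul (E : Env D F tab orb) (x y : GL D.Idx F) (hx : E.IsWH x) (hy : E.IsWH y) :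
    E.IsWH (x * y) := by
  obtain ⟨w, hw, h, hh, rfl⟩ := hx
  obtain ⟨w', hw', h', hh', rfl⟩ := hy
  have hn' : (E.hF.nW (F := F) w')⁻¹ ∈ D.monomialSubgroup F := Subgroup.inv_mem _ (E.nW_mem w' hw')
  have hc : (E.hF.nW w')⁻¹ * h * ((E.hF.nW w')⁻¹)⁻¹ ∈ D.diagonalSubgroup F :=
    (Subgroup.mem_normalizer_iff.mp (E.hF.monomial_le_normalizer E.hN E.hH hn') h).mp hh
  refine ⟨w ++ w', ?_, (E.hF.nW w')⁻¹ * h * ((E.hF.nW w')⁻¹)⁻¹ * h', Subgroup.mul_mem _ hc hh', ?_⟩
  · intro i hi
    rcases List.mem_append.mp hi with h | h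
    · exact hw i h
    · exact hw' i h
  · rw [E.hF.nW_app]
    group

theorem Env.isWH_diag (E : Env D F tab orb) (h : GL D.Idx F) (hh : h ∈ D.diagonalSubgroup F) :
    E.IsWH h :=
  ⟨[], fun i hi => absurd hi List.not_mem_nil, h, hh, by simp [Facts.nW]⟩

theorem Env.isWH_nS (E : Env D F tab orb) (i : ℕ) (hi : i < D.rank) : E.IsWH (E.hF.nS (F := F) i) :=
  ⟨[i], by simpa using hi, 1, Subgroup.one_mem _, by simp [Facts.nW]⟩

theorem Env.isWH_nS_inv (E : Env D F tab orb) (i : ℕ) (hi : i < D.rank) :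
    E.IsWH (E.hF.nS (F := F) i)⁻¹ := by
  have hsq : E.hF.nS (F := F) i * E.hF.nS i ∈ D.diagonalSubgroup F :=
    E.hF.nGL_sq_mem _ (Facts.simple_lt E.hH i hi)
  have e : (E.hF.nS (F := F) i)⁻¹ = E.hF.nS i * (E.hF.nS i * E.hF.nS i)⁻¹ := by group
  rw [e]
  exact E.isWH_mul _ _ (E.isWH_nS i hi) (E.isWH_diag _ (Subgroup.inv_mem _ hsq))

/-- every element of `N` is of the form `n_w h` -/
theorem Env.isWH_of_mem (E : Env D F tab orb) (n : GL D.Idx F) (hn : n ∈ D.monomialSubgroup F) :
    E.IsWH n := by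
  have hsup := E.hF.monomial_le_closure_sup E.hN E.hH hn
  have hC : ∀ x ∈ Subgroup.closure {g : GL D.Idx F | ∃ i < D.rank, g = E.hF.nS i}, E.IsWH x := by
    intro x hx
    rw [← Subgroup.mem_toSubmonoid, Subgroup.closure_toSubmonoid] at hx
    induction hx using Submonoid.closure_induction with
    | mem y hy =>
      rcases hy with ⟨i, hi, rfl⟩ | hy
      · exact E.isWH_nS i hi
      · obtain ⟨i, hi, hy'⟩ := hy
        have : y = (E.hF.nS (F := F) i)⁻¹ := by rw [← hy', inv_inv]
        rw [this]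
        exact E.isWH_nS_inv i hi
    | one => exact E.isWH_diag 1 (Subgroup.one_mem _)
    | mul a b _ _ ha hb => exact E.isWH_mul a b ha hb
  have hCN : Subgroup.closure {g : GL D.Idx F | ∃ i < D.rank, g = E.hF.nS i} ≤
      Subgroup.normalizer (D.diagonalSubgroup F : Set (GL D.Idx F)) := by
    refine le_trans ?_ (E.hF.monomial_le_normalizer E.hN E.hH)
    rw [Subgroup.closure_le]
    rintro g ⟨i, hi, rfl⟩
    exact E.hF.nS_mem_monomial i (Facts.simple_lt E.hH i hi)
  rw [sup_comm] at hsup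
  obtain ⟨h, hh, a, ha, rfl⟩ := exists_mul_of_mem_sup_of_le_normalizer _ _ hCN n hsup
  exact E.isWH_mul _ _ (E.isWH_diag h hh) (hC a ha)

end gen

/-- the exchange of the two fundamental reflections -/
def reeSw (i : ℕ) : ℕ := 1 - i

/-- the longest word -/
def reeW0 : List ℕ := [0, 1, 0, 1, 0, 1]

/-- the twelve elements of the Weyl group as permutations of the roots -/
def reeW12 : List (List ℕ) :=
  [[], [0], [1], [0, 1], [1, 0], [0, 1, 0], [1, 0, 1], [0, 1, 0, 1], [1, 0, 1, 0], [0, 1, 0, 1, 0],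
    [1, 0, 1, 0, 1], [0, 1, 0, 1, 0, 1]].map fun w => (List.range 12).map (rhoW chevG2 w)

theorem reeW12_closed : ∀ p ∈ reeW12, ∀ i < 2, p.map (chevG2.reflectRoot i) ∈ reeW12 := by
  decide +kernel

theorem reeW12_nil : (List.range 12).map (rhoW chevG2 []) ∈ reeW12 := by decide +kernel

theorem reeSw_refl : ∀ i < 2, ∀ s < 12,
    chevG2.reflectRoot (reeSw i) (bar s) = bar (chevG2.reflectRoot i s) := by decide +kernel

theorem reeW12_class : ∀ p ∈ reeW12, (∀ s < 12, p.getD (bar s) 0 = bar (p.getD s 0)) →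
    p = (List.range 12).map (rhoW chevG2 []) ∨ p = (List.range 12).map (rhoW chevG2 reeW0) := by
  decide +kernel

theorem rhoW_mem_reeW12 (w : List ℕ) (hw : ∀ i ∈ w, i < 2) :
    (List.range 12).map (rhoW chevG2 w) ∈ reeW12 := by
  induction w with
  | nil => exact reeW12_nil
  | cons i w ih =>
    have h1 := ih (fun j hj => hw j (List.mem_cons_of_mem _ hj))
    have h2 := reeW12_closed _ h1 i (hw i List.mem_cons_self)
    rw [List.map_map] at h2
    exact h2

theorem rhoW_sw (w : List ℕ) (hw : ∀ i ∈ w, i < 2) (s : ℕ) (hs : s < 12) :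
    rhoW chevG2 (w.map reeSw) (bar s) = bar (rhoW chevG2 w s) := by
  induction w with
  | nil => rfl
  | cons i w ih =>
    have hw' : ∀ j ∈ w, j < 2 := fun j hj => hw j (List.mem_cons_of_mem _ hj)
    have h1 := ih hw'
    have hlt : rhoW chevG2 w s < 12 := nfacts_G2.rhoW_lt w hw' s hs
    simp only [List.map_cons, rhoW, List.foldr_cons] at h1 ⊢
    rw [h1]
    exact reeSw_refl i (hw i List.mem_cons_self) _ hlt

/-- a word whose action commutes with the twisting acts as the identity or as the longest element -/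
theorem rhoW_class (w : List ℕ) (hw : ∀ i ∈ w, i < 2)
    (h : ∀ s < 12, rhoW chevG2 (w.map reeSw) s = rhoW chevG2 w s) :
    (∀ s < 12, rhoW chevG2 w s = rhoW chevG2 [] s) ∨ (∀ s < 12, rhoW chevG2 w s = rhoW chevG2 reeW0 s) := by
  have h1 := rhoW_mem_reeW12 w hw
  have h2 : ∀ s < 12, ((List.range 12).map (rhoW chevG2 w)).getD (bar s) 0 =
      bar (((List.range 12).map (rhoW chevG2 w)).getD s 0) := by
    intro s hs
    have hb := bar_lt s hs
    rw [List.getD_eq_getElem _ _ (by simpa using hb), List.getD_eq_getElem _ _ (by simpa using hs)]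
    simp only [List.getElem_map, List.getElem_range]
    rw [← h (bar s) hb, rhoW_sw w hw s hs]
  rcases reeW12_class _ h1 h2 with h3 | h3
  · left
    intro s hs
    have := congrArg (fun l => l.getD s 0) h3
    beta_reduce at this
    rw [List.getD_eq_getElem _ _ (by simpa using hs), List.getD_eq_getElem _ _ (by simpa using hs)] at this
    simpa using this
  · right
    intro s hs
    have := congrArg (fun l => l.getD s 0) h3
    beta_reduce at this
    rw [List.getD_eq_getElem _ _ (by simpa using hs), List.getD_eq_getElem _ _ (by simpa using hs)] at this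
    simpa using this

end Cfsg.Agent.Lib.Helper24
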