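import Cfsg.Agent.Lib.Helper24.DiagConj

set_option autoImplicit false
set_option linter.unusedSimpArgs false

namespace Cfsg.Agent.Lib.Helper24

open Cfsg.Lie

/-- vectors of terms `(row, coefficient, power of t)` -/
abbrev TV := List (ℕ × ℤ × ℕ)
/-- constant sparse vectors `(row, coefficient)` -/
abbrev CV := List (ℕ × ℤ)

/-- evaluate the argument before calling `f` -/
def forceNat {α : Type} (n : ℕ) (f : ℕ → α) : α :=
  match n with
  | 0 => f 0
  | m + 1 => f (m + 1)

theorem forceNat_eq {α : Type} (n : ℕ) (f : ℕ → α) : forceNat n f = f n := by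
  cases n <;> rfl

/-- apply a constant column table to a term vector -/
def applyCT (n : ℕ) (mcol : ℕ → CV) (T : TV) : TV :=
  T.flatMap fun e => if e.1 < n then (mcol e.1).map fun kc => (kc.1, kc.2 * e.2.1, e.2.2) else []

/-- the non-identity part of `x_r(η t)` (with shape table `sh`) applied to a constant vector -/
def applyXT (n : ℕ) (sh : ℕ → TV) (η : ℤ) (L : CV) : TV :=
  L.flatMap fun kc =>
    if kc.1 < n then (sh kc.1).map fun e => (e.1, kc.2 * (e.2.1 * η ^ e.2.2), e.2.2) else []

def negT (T : TV) : TV := T.map fun e => (e.1, -e.2.1, e.2.2)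

def insertT (e : ℕ × ℤ × ℕ) : TV → TV
  | [] => [e]
  | e' :: rest =>
    if e.1 = e'.1 ∧ e.2.2 = e'.2.2 then (e'.1, e.2.1 + e'.2.1, e'.2.2) :: rest
    else e' :: insertT e rest

def collectT (T : TV) : TV := T.foldr insertT []

def zeroT (T : TV) : Bool := (collectT T).all fun e => decide (e.2.1 = 0)

theorem applyXT_congr (n : ℕ) (sh sh' : ℕ → TV) (η : ℤ) (L : CV) (h : ∀ k < n, sh k = sh' k) :
    applyXT n sh η L = applyXT n sh' η L := by
  unfold applyXT
  congr 1
  funext kc
  split_ifs with hk
  · rw [h _ hk]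
  · rfl

section semantics

variable {F : Type*} [Field F] (D : ChevalleyDatum)

/-- basis vector with encoded index `k` (zero if out of range) -/
def bv (k : ℕ) : D.Idx → F := fun i => if k = enc D i then 1 else 0

def denT (T : TV) (t : F) : D.Idx → F :=
  fun i => (T.map fun e => if e.1 = enc D i then ((e.2.1 : ℤ) : F) * t ^ e.2.2 else 0).sum

def denC (L : CV) : D.Idx → F :=
  fun i => (L.map fun kc => if kc.1 = enc D i then ((kc.2 : ℤ) : F) else 0).sum

@[simp] theorem denT_nil (t : F) : denT D [] t = 0 := by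
  funext i; simp [denT]

theorem denT_cons (e : ℕ × ℤ × ℕ) (T : TV) (t : F) :
    denT D (e :: T) t = (((e.2.1 : ℤ) : F) * t ^ e.2.2) • bv D e.1 + denT D T t := by
  funext i
  simp only [denT, bv, List.map_cons, List.sum_cons, Pi.add_apply, Pi.smul_apply, smul_eq_mul]
  congr 1
  split_ifs <;> simp

theorem denT_append (T T' : TV) (t : F) : denT D (T ++ T') t = denT D T t + denT D T' t := by
  induction T with
  | nil => simp
  | cons e T ih => rw [List.cons_append, denT_cons, denT_cons, ih, add_assoc]

@[simp] theorem denC_nil : denC (F := F) D [] = 0 := by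
  funext i; simp [denC]

theorem denC_cons (kc : ℕ × ℤ) (L : CV) :
    denC (F := F) D (kc :: L) = ((kc.2 : ℤ) : F) • bv D kc.1 + denC D L := by
  funext i
  simp only [denC, bv, List.map_cons, List.sum_cons, Pi.add_apply, Pi.smul_apply, smul_eq_mul]
  congr 1
  split_ifs <;> simp

theorem bv_enc (j : D.Idx) : bv (F := F) D (enc D j) = Pi.single j 1 := by
  funext i
  simp only [bv, Pi.single_apply]
  by_cases h : i = j
  · subst h; simp
  · have : ¬ (enc D j = enc D i) := fun e => h (enc_injective D e).symm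
    simp [h, this]

theorem bv_of_not_lt (k : ℕ) (hk : ¬ k < D.rank + D.nroots) : bv (F := F) D k = 0 := by
  funext i
  have : ¬ (k = enc D i) := fun e => hk (e ▸ enc_lt D i)
  simp [bv, this]

theorem mulVec_bv_enc (A : Matrix D.Idx D.Idx F) (j : D.Idx) :
    A.mulVec (bv D (enc D j)) = fun i => A i j := by
  rw [bv_enc, Matrix.mulVec_single_one]
  rfl

/-- the constant matrix with the given columns -/
def cMat (mcol : ℕ → CV) : Matrix D.Idx D.Idx F :=
  Matrix.of fun i j => denC D (mcol (enc D j)) i

theorem cMat_mulVec_bv (mcol : ℕ → CV) (k : ℕ) :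
    (cMat (F := F) D mcol).mulVec (bv D k) =
      if k < D.rank + D.nroots then denC D (mcol k) else 0 := by
  split_ifs with hk
  · obtain ⟨j, rfl⟩ := enc_surj D k hk
    rw [mulVec_bv_enc]
    rfl
  · rw [bv_of_not_lt D k hk, Matrix.mulVec_zero]

theorem xMat_mulVec_bv (r : Fin D.nroots) (t : F) (k : ℕ) :
    (D.xMat F r t).mulVec (bv D k) =
      if k < D.rank + D.nroots then bv D k + denT D (fullShape D r.val k) t else 0 := by
  split_ifs with hk
  · obtain ⟨j, rfl⟩ := enc_surj D k hk
    rw [mulVec_bv_enc]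
    funext i
    rw [xMat_entry]
    rfl
  · rw [bv_of_not_lt D k hk, Matrix.mulVec_zero]

theorem smul_denC (a : F) (c : ℤ) (p : ℕ) (t : F) (ha : a = ((c : ℤ) : F) * t ^ p) (L : CV) :
    a • denC D L = denT D (L.map fun kc => (kc.1, kc.2 * c, p)) t := by
  induction L with
  | nil => simp
  | cons kc L ih =>
    rw [denC_cons, smul_add, ih, List.map_cons, denT_cons, smul_smul]
    congr 2
    rw [ha]; push_cast; ring

theorem cMat_mulVec_denT (mcol : ℕ → CV) (T : TV) (t : F) :
    (cMat (F := F) D mcol).mulVec (denT D T t) = denT D (applyCT (D.rank + D.nroots) mcol T) t := by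
  induction T with
  | nil => simp [applyCT]
  | cons e T ih =>
    rw [denT_cons, Matrix.mulVec_add, Matrix.mulVec_smul, ih, cMat_mulVec_bv]
    unfold applyCT at ih ⊢
    rw [List.flatMap_cons, denT_append]
    congr 1
    split_ifs with hk
    · exact smul_denC D _ e.2.1 e.2.2 t rfl _
    · simp

theorem smul_denT_shape (c : ℤ) (η : ℤ) (t : F) (T : TV) :
    ((c : ℤ) : F) • denT D T ((η : F) * t) =
      denT D (T.map fun e => (e.1, c * (e.2.1 * η ^ e.2.2), e.2.2)) t := by
  induction T with
  | nil => simp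
  | cons e T ih =>
    rw [denT_cons, smul_add, ih, List.map_cons, denT_cons, smul_smul]
    congr 2
    push_cast; ring

theorem xMat_mulVec_denC (r : Fin D.nroots) (η : ℤ) (t : F) (L : CV) :
    (D.xMat F r ((η : F) * t)).mulVec (denC D L) =
      denC D L + denT D (applyXT (D.rank + D.nroots) (fullShape D r.val) η L) t := by
  induction L with
  | nil => simp [applyXT]
  | cons kc L ih =>
    rw [denC_cons, Matrix.mulVec_add, Matrix.mulVec_smul, ih, xMat_mulVec_bv]
    unfold applyXT at ih ⊢
    rw [List.flatMap_cons, denT_append]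
    split_ifs with hk
    · rw [smul_add, smul_denT_shape]
      abel
    · rw [bv_of_not_lt D _ hk]
      simp

theorem denT_negT (T : TV) (t : F) : denT D (negT T) t = - denT D T t := by
  induction T with
  | nil => simp [negT]
  | cons e T ih =>
    unfold negT at ih ⊢
    rw [List.map_cons, denT_cons, denT_cons, ih, neg_add]
    congr 1
    rw [← neg_smul]
    congr 1
    push_cast; ring

theorem denT_insertT (e : ℕ × ℤ × ℕ) (T : TV) (t : F) :
    denT D (insertT e T) t = denT D (e :: T) t := by
  induction T with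
  | nil => rfl
  | cons e' T ih =>
    simp only [insertT]
    split_ifs with h
    · obtain ⟨h1, h2⟩ := h
      rw [denT_cons, denT_cons, denT_cons, ← add_assoc, ← h1, ← h2, ← add_smul]
      congr 2
      push_cast; ring
    · rw [denT_cons, ih, denT_cons, denT_cons, denT_cons]
      abel

theorem denT_collectT (T : TV) (t : F) : denT D (collectT T) t = denT D T t := by
  induction T with
  | nil => rfl
  | cons e T ih =>
    simp only [collectT, List.foldr_cons] at ih ⊢
    rw [denT_insertT, denT_cons, ih, denT_cons]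

theorem denT_eq_zero_of_zeroT (T : TV) (h : zeroT T = true) (t : F) : denT D T t = 0 := by
  rw [← denT_collectT]
  simp only [zeroT, List.all_eq_true, decide_eq_true_eq] at h
  funext i
  simp only [denT, Pi.zero_apply]
  apply List.sum_eq_zero
  intro x hx
  simp only [List.mem_map] at hx
  obtain ⟨e, he, rfl⟩ := hx
  rw [h e he]
  simp

/-- column check for `M x_s(t) = x_{s'}(η t) M` -/
def conjColOK (D : ChevalleyDatum) (mcol : ℕ → CV) (sh sh' : ℕ → TV) (η : ℤ) (j : ℕ) : Bool :=
  zeroT (applyCT (D.rank + D.nroots) mcol (sh j) ++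
    negT (applyXT (D.rank + D.nroots) sh' η (mcol j)))

theorem cMat_mul_xMat (mcol : ℕ → CV) (s s' : Fin D.nroots) (η : ℤ)
    (h : ∀ j < D.rank + D.nroots,
      conjColOK D mcol (fullShape D s.val) (fullShape D s'.val) η j = true) (t : F) :
    cMat D mcol * D.xMat F s t = D.xMat F s' ((η : F) * t) * cMat D mcol := by
  ext i j
  have key : (cMat (F := F) D mcol * D.xMat F s t).mulVec (bv D (enc D j)) =
      (D.xMat F s' ((η : F) * t) * cMat D mcol).mulVec (bv D (enc D j)) := by
    rw [← Matrix.mulVec_mulVec, ← Matrix.mulVec_mulVec, xMat_mulVec_bv, cMat_mulVec_bv,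
      if_pos (enc_lt D j), if_pos (enc_lt D j), Matrix.mulVec_add, cMat_mulVec_bv,
      if_pos (enc_lt D j), cMat_mulVec_denT, xMat_mulVec_denC]
    congr 1
    have h1 := denT_eq_zero_of_zeroT D _ (h (enc D j) (enc_lt D j)) t
    rw [denT_append, denT_negT] at h1
    exact eq_of_sub_eq_zero (by rw [sub_eq_add_neg]; exact h1)
  rw [mulVec_bv_enc, mulVec_bv_enc] at key
  exact congrFun key i

end semantics

/-! the table of a constant matrix packed in one number -/

def mcolP (P n k : ℕ) : CV :=
  if k < n then (decEntry 3 1 ((P / 2 ^ (48 * k)) % 2 ^ 48)).map (fun e => (e.1, e.2.1)) else []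

def svOfC (L : CV) : SV := L.map fun kc => (kc.1, Poly.constD kc.2)

def nWordS (D : ChevalleyDatum) (p : ℕ) : List (ℕ × Poly) :=
  [(p, Poly.one), (D.neg p, Poly.neg Poly.one), (p, Poly.one)]

/-- the packed table `P` gives the matrix of `n_p(1)` -/
def nTabOK (D : ChevalleyDatum) (p P : ℕ) : Bool :=
  (List.range (D.rank + D.nroots)).all fun j =>
    vecIsZeroD false (subV (applyWordF D (nWordS D p) [(j, Poly.one)])
      (svOfC (mcolP P (D.rank + D.nroots) j)))

section semantics2

variable {F : Type*} [Field F] (D : ChevalleyDatum)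

theorem denV_svOfC (y0 y1 y2 y3 : F) (L : CV) : denV D y0 y1 y2 y3 (svOfC L) = denC D L := by
  induction L with
  | nil => simp [svOfC]
  | cons kc L ih =>
    unfold svOfC at ih ⊢
    rw [List.map_cons, denV_cons, ih, denC_cons]
    congr 1
    funext i
    simp only [Poly.den_constD, bv, Pi.smul_apply, smul_eq_mul]
    split_ifs <;> simp

theorem nMat_eq_cMat (hT : TableOK D) (p P : ℕ) (h : nTabOK D p P = true) :
    D.nMat F p 1 = cMat D (mcolP P (D.rank + D.nroots)) := by
  simp only [nTabOK, List.all_eq_true, List.mem_range] at h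
  have hw : D.nMat F p 1 = D.wordMat F (denW (1 : F) 1 1 1 (nWordS D p)) := by
    simp [ChevalleyDatum.nMat, ChevalleyDatum.nWord, denW, nWordS, Poly.den_one, Poly.den_neg]
  rw [hw]
  ext i j
  have h1 := denV_eq_zero_of_vecIsZeroD D (1 : F) 1 1 1 false (by simp) _ (h (enc D j) (enc_lt D j))
  rw [denV_subV, denV_applyWordF D _ _ _ _ hT, ← wordMat_mulVec_denV, denV_single,
    Matrix.mulVec_single_one, denV_svOfC] at h1
  have h2 := congrFun h1 i
  simp only [Pi.sub_apply, Pi.zero_apply, Matrix.col_apply] at h2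
  exact sub_eq_zero.mp h2

end semantics2

/-! the check for `n_p x_s(t) = x_{w_p s}(η t) n_p` -/

/-- `fullShapeF` with the table lookups for the root `r` done by the caller -/
def fullShapeP (D : ChevalleyDatum) (r ng B k : ℕ) : TV :=
  if k < D.rank then [(D.rank + r, -((D.cartanSR.getD k #[]).getD r 0), 1)]
  else if k - D.rank = r then []
  else if k - D.rank = ng then
    (D.rank + r, -1, 2) :: (List.range D.rank).map (fun i => (i, (D.coroot.getD r #[]).getD i 0, 1))
  else (decEntry 3 1 ((B / 2 ^ (48 * (k - D.rank))) % 2 ^ 48)).map fun e => (D.rank + e.1, e.2.1, e.2.2)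

theorem fullShapeP_eq (D : ChevalleyDatum) (r k : ℕ) :
    fullShapeP D r (D.negIdx.getD r 0) (packB D r) k = fullShapeF D r k := rfl

/-- the sign `η`, read off the column of `e_s` -/
def etaOf (L : CV) : ℤ :=
  match L with
  | [(_, c)] => if c = 1 then 1 else -1
  | _ => 1

def conjPairOK (D : ChevalleyDatum) (P s s' : ℕ) : Bool :=
  forceNat (D.negIdx.getD s 0) fun ng => forceNat (packB D s) fun B =>
  forceNat (D.negIdx.getD s' 0) fun ng' => forceNat (packB D s') fun B' =>
  forceNat s' fun s'' =>
    decide (s'' < D.nroots) &&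
    (List.range (D.rank + D.nroots)).all fun j =>
      conjColOK D (mcolP P (D.rank + D.nroots)) (fullShapeP D s ng B) (fullShapeP D s'' ng' B')
        (etaOf (mcolP P (D.rank + D.nroots) (D.rank + s))) j

def reflOK (D : ChevalleyDatum) (P i s : ℕ) : Bool := conjPairOK D P s (D.reflectRoot i s)

theorem etaOf_cases (L : CV) : etaOf L = 1 ∨ etaOf L = -1 := by
  unfold etaOf
  split
  · split_ifs <;> simp
  · simp

theorem refl_of_reflOK {F : Type*} [Field F] (D : ChevalleyDatum) (hT : TableOK D) (P i s : ℕ)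
    (hs : s < D.nroots) (hN : nTabOK D (D.simple i) P = true) (h : reflOK D P i s = true) :
    ∃ η : ℤ, (η = 1 ∨ η = -1) ∧ ∀ t : F,
      D.nMat F (D.simple i) 1 * D.x F s t =
        D.x F (D.reflectRoot i s) ((η : F) * t) * D.nMat F (D.simple i) 1 := by
  unfold reflOK conjPairOK at h
  simp only [forceNat_eq, Bool.and_eq_true, decide_eq_true_eq, List.all_eq_true, List.mem_range] at h
  obtain ⟨hs', h⟩ := h
  refine ⟨etaOf (mcolP P (D.rank + D.nroots) (D.rank + s)), etaOf_cases _, fun t => ?_⟩
  rw [nMat_eq_cMat D hT _ P hN]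
  unfold ChevalleyDatum.x
  rw [dif_pos hs, dif_pos hs']
  apply cMat_mul_xMat D _ ⟨s, hs⟩ ⟨_, hs'⟩
  intro j hj
  have h1 := h j hj
  have e1 : fullShapeP D s (D.negIdx.getD s 0) (packB D s) = fullShapeF D s := rfl
  have e2 : fullShapeP D (D.reflectRoot i s) (D.negIdx.getD (D.reflectRoot i s) 0)
      (packB D (D.reflectRoot i s)) = fullShapeF D (D.reflectRoot i s) := rfl
  rw [e1, e2] at h1
  unfold conjColOK at h1 ⊢
  rw [fullShapeF_eq D hT s j hs hj] at h1
  rw [applyXT_congr _ (fullShapeF D (D.reflectRoot i s)) (fullShape D (D.reflectRoot i s)) _ _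
    (fun k hk => fullShapeF_eq D hT _ k hs' hk)] at h1
  exact h1

end Cfsg.Agent.Lib.Helper24
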