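import Cfsg.Agent.Lib.Helper24.BNPair2

set_option autoImplicit false
set_option linter.unusedSimpArgs false

namespace Cfsg.Agent.Lib.Helper24

open Cfsg.Lie

/-- the reflections in `p_i` and `p_j` do not commute: they differ at the root `p_j` -/
def nonCommOK (D : ChevalleyDatum) (i j : ℕ) : Bool :=
  !(Nat.beq (D.reflectRoot i (D.reflectRoot j (D.simple j)))
    (D.reflectRoot j (D.reflectRoot i (D.simple j))))

/-- a spanning tree of the Dynkin diagram with root `0`, given by the list of the parents -/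
def dynkinOK (D : ChevalleyDatum) (par : List ℕ) : Bool :=
  (List.range D.rank).all fun c =>
    decide (par.getD c 0 < D.rank) &&
    (Nat.beq (par.getD c 0) c || nonCommOK D c (par.getD c 0)) &&
    Nat.beq ((fun x => par.getD x 0)^[D.rank] c) 0

theorem dynkin_connected (D : ChevalleyDatum) (par : List ℕ) (h : dynkinOK D par = true)
    (A : ℕ → Prop) (i0 j0 : ℕ) (hi0 : i0 < D.rank) (hj0 : j0 < D.rank) (hA : A i0) (hnA : ¬ A j0) :
    ∃ i < D.rank, ∃ j < D.rank, (nonCommOK D i j = true ∨ nonCommOK D j i = true) ∧ A i ∧ ¬ A j := by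
  by_contra hcon
  simp only [dynkinOK, List.all_eq_true, List.mem_range, Bool.and_eq_true, decide_eq_true_eq,
    Bool.or_eq_true] at h
  have hstep : ∀ c < D.rank, par.getD c 0 < D.rank ∧ (A c ↔ A (par.getD c 0)) := by
    intro c hc
    obtain ⟨⟨h1, h2⟩, _⟩ := h c hc
    refine ⟨h1, ?_⟩
    rcases h2 with h2 | h2
    · rw [Nat.eq_of_beq_eq_true h2]
    · constructor
      · intro hAc
        by_contra hAp
        exact hcon ⟨c, hc, _, h1, Or.inl h2, hAc, hAp⟩
      · intro hAp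
        by_contra hAc
        exact hcon ⟨_, h1, c, hc, Or.inr h2, hAp, hAc⟩
  have hiter : ∀ k : ℕ, ∀ c < D.rank, (fun x => par.getD x 0)^[k] c < D.rank ∧
      (A c ↔ A ((fun x => par.getD x 0)^[k] c)) := by
    intro k
    induction k with
    | zero => intro c hc; exact ⟨hc, Iff.rfl⟩
    | succ k ih =>
      intro c hc
      obtain ⟨h1, h2⟩ := ih c hc
      rw [Function.iterate_succ_apply']
      obtain ⟨h3, h4⟩ := hstep _ h1
      exact ⟨h3, h2.trans h4⟩
  have hroot : ∀ c < D.rank, (A c ↔ A 0) := by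
    intro c hc
    have := (hiter D.rank c hc).2
    rw [Nat.eq_of_beq_eq_true (h c hc).2] at this
    exact this
  exact hnA ((hroot j0 hj0).mpr ((hroot i0 hi0).mp hA))

section simple

variable {F : Type*} [Field F] {D : ChevalleyDatum} {tab : List ℕ} {orb : List (ℕ × ℕ × ℕ)}

/-- the commutator of two fundamental reflections which do not commute in `W` is not in `B` -/
theorem Facts.nS_comm_not_borel (hF : Facts D) (hN : NFacts D tab) (hH : HNFacts D tab orb)
    (hR : rootTableOK D = true) (hNe : negNeOK D = true) (hU : corootUnitOK D = true)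
    (hBN : D.borelSubgroup F ⊓ D.monomialSubgroup F = D.diagonalSubgroup F)
    (i j : ℕ) (hi : i < D.rank) (hj : j < D.rank) (r : ℕ) (hr : r < D.nroots)
    (hne : D.reflectRoot i (D.reflectRoot j r) ≠ D.reflectRoot j (D.reflectRoot i r)) :
    hF.nS (F := F) i * hF.nS j * (hF.nS i)⁻¹ * (hF.nS j)⁻¹ ∉ D.borelSubgroup F := by
  intro h
  have hpi := Facts.simple_lt hH i hi
  have hpj := Facts.simple_lt hH j hj
  have hmi := hF.nS_mem_monomial (F := F) i hpi
  have hmj := hF.nS_mem_monomial (F := F) j hpj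
  have hN' : hF.nS (F := F) i * hF.nS j * (hF.nS i)⁻¹ * (hF.nS j)⁻¹ ∈ D.monomialSubgroup F :=
    Subgroup.mul_mem _ (Subgroup.mul_mem _ (Subgroup.mul_mem _ hmi hmj) (Subgroup.inv_mem _ hmi))
      (Subgroup.inv_mem _ hmj)
  have hH' : hF.nS (F := F) i * hF.nS j * (hF.nS i)⁻¹ * (hF.nS j)⁻¹ ∈ D.diagonalSubgroup F := by
    rw [← hBN]; exact ⟨h, hN'⟩
  have hjr := hN.reflectRoot_lt j hj r hr
  have hir := hN.reflectRoot_lt i hi r hr
  have hjir := hN.reflectRoot_lt j hj _ hir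
  have hijr := hN.reflectRoot_lt i hi _ hjr
  obtain ⟨χ, hχ, eχ⟩ := hF.diag_conj _ hH' (D.reflectRoot j (D.reflectRoot i r)) hjir
  have e1 := hF.nS_conj' (F := F) hN j hj r hr 1
  have e2 := hF.nS_conj' (F := F) hN i hi _ hjr (((etaT D (tab.getD j 0) r : ℤ) : F) * 1)
  have e3 := hF.nS_conj' (F := F) hN i hi r hr 1
  have e4 := hF.nS_conj' (F := F) hN j hj _ hir (((etaT D (tab.getD i 0) r : ℤ) : F) * 1)
  have key : hF.nS (F := F) i * (hF.nS j * hF.xGL r 1 * (hF.nS j)⁻¹) * (hF.nS i)⁻¹ =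
      (hF.nS i * hF.nS j * (hF.nS i)⁻¹ * (hF.nS j)⁻¹) *
        (hF.nS j * (hF.nS i * hF.xGL r 1 * (hF.nS i)⁻¹) * (hF.nS j)⁻¹) *
        (hF.nS i * hF.nS j * (hF.nS i)⁻¹ * (hF.nS j)⁻¹)⁻¹ := by group
  rw [e1, e2, e3, e4, eχ] at key
  have := hF.xGL_eq_xGL hR hNe hU _ _ hijr hjir hne _ _ key
  exact mul_ne_zero (etaT_cast_ne_zero D _ _)
    (mul_ne_zero (etaT_cast_ne_zero D _ _) one_ne_zero) this

/-- the (B, N)-pair of a Chevalley group with connected Dynkin diagram is irreducible -/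
theorem Facts.bn_irreducible (hF : Facts D) (hN : NFacts D tab) (hH : HNFacts D tab orb)
    (hR : rootTableOK D = true) (hNe : negNeOK D = true) (hU : corootUnitOK D = true)
    (hBN : D.borelSubgroup F ⊓ D.monomialSubgroup F = D.diagonalSubgroup F)
    (par : List ℕ) (hpar : dynkinOK D par = true)
    (P : Cfsg.BNPair ↥(D.group F))
    (hB : P.B = (D.borelSubgroup F).subgroupOf (D.group F))
    (hS : P.S = {n : ↥(D.group F) | ∃ i < D.rank,
      ((n : GL D.Idx F) : Matrix D.Idx D.Idx F) = D.nMat F (D.simple i) 1}) :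
    P.Irreducible := by
  intro J hJ hJne hJc
  have hNG := hF.monomial_le_group (F := F)
  have hSel : ∀ s ∈ P.S, ∃ i < D.rank, (s : GL D.Idx F) = hF.nS i := by
    intro s hs
    rw [hS] at hs
    obtain ⟨i, hi, hn⟩ := hs
    exact ⟨i, hi, Units.ext (by rw [hn, hF.nS_val])⟩
  obtain ⟨s0, hs0⟩ := hJne
  obtain ⟨s1, hs1, hs1'⟩ := hJc
  obtain ⟨i0, hi0, e0⟩ := hSel s0 (hJ hs0)
  obtain ⟨j0, hj0, e1⟩ := hSel s1 hs1
  obtain ⟨i, hi, j, hj, hnc, ⟨s, hsJ, es⟩, hnA⟩ := dynkin_connected D par hpar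
    (fun i => ∃ s ∈ J, (s : GL D.Idx F) = hF.nS i) i0 j0 hi0 hj0 ⟨s0, hs0, e0⟩
    (by
      rintro ⟨s, hsJ, es⟩
      have : s = s1 := Subtype.ext (es.trans e1.symm)
      exact hs1' (this ▸ hsJ))
  have hpj := Facts.simple_lt hH j hj
  have hpi := Facts.simple_lt hH i hi
  refine ⟨s, hsJ, ⟨hF.nS j, hNG (hF.nS_mem_monomial j hpj)⟩, ⟨?_, ?_⟩, ?_⟩
  · rw [hS]
    exact ⟨j, hj, hF.nS_val (F := F) j⟩
  · intro hmem
    exact hnA ⟨_, hmem, rfl⟩
  · rw [hB, Subgroup.mem_subgroupOf]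
    simp only [Subgroup.coe_mul, Subgroup.coe_inv]
    rw [es]
    rcases hnc with h | h
    · simp only [nonCommOK, Bool.not_eq_true', nbeq_false] at h
      exact hF.nS_comm_not_borel hN hH hR hNe hU hBN i j hi hj _ hpj h
    · simp only [nonCommOK, Bool.not_eq_true', nbeq_false] at h
      exact hF.nS_comm_not_borel hN hH hR hNe hU hBN i j hi hj _ hpi (Ne.symm h)

end simple

end Cfsg.Agent.Lib.Helper24
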