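import Cfsg.Agent.Lib.Helper24.Sparse

set_option autoImplicit false
set_option linter.unusedSimpArgs false

namespace Cfsg.Agent.Lib.Helper24

open Cfsg.Lie

section semantics

variable {F : Type*} [Field F] (D : ChevalleyDatum) (y0 y1 y2 y3 : F)

theorem sum_map_filter {α : Type*} (l : List α) (p : α → Bool) (f : α → F) :
    ((l.filter p).map f).sum = (l.map fun x => if p x then f x else 0).sum := by
  induction l with
  | nil => simp
  | cons a l ih =>
    by_cases h : p a
    · simp [List.filter_cons, h, ih]
    · simp [List.filter_cons, h, ih]

theorem sum_map_flatMap {α β : Type*} (l : List α) (g : α → List β) (f : β → F) :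
    ((l.flatMap g).map f).sum = (l.map fun x => ((g x).map f).sum).sum := by
  induction l with
  | nil => simp
  | cons a l ih => simp [List.flatMap_cons, ih]

theorem sum_range_ite (n : ℕ) (i : ℕ) (hi : i < n) (f : ℕ → F) :
    ((List.range n).map fun i' => if i' = i then f i' else 0).sum = f i := by
  induction n with
  | zero => omega
  | succ n ih =>
    rw [List.range_succ, List.map_append, List.sum_append]
    by_cases h : i = n
    · subst h
      have : ((List.range i).map fun i' => if i' = i then f i' else 0).sum = 0 := by
        apply List.sum_eq_zero
        intro x hx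
        simp only [List.mem_map, List.mem_range] at hx
        obtain ⟨j, hj, rfl⟩ := hx
        rw [if_neg (by omega)]
      simp [this]
    · rw [ih (by omega)]
      simp [Ne.symm h]

theorem xMat_eq_denV_colX (r : Fin D.nroots) (a : Poly) (i j : D.Idx) :
    D.xMat F r (a.den y0 y1 y2 y3) i j = denV D y0 y1 y2 y3 (colX D r.val a (enc D j)) i := by
  unfold ChevalleyDatum.xMat colX
  generalize hn : D.negIdx.getD r.val 0 = n
  rcases j with j | s
  · -- column h_j
    have hj : enc D (Sum.inl j) < D.rank := j.isLt
    rw [if_pos hj]
    rcases i with i | u
    · simp only [Matrix.of_apply, denV, enc, List.map_cons, List.map_nil, List.sum_cons, List.sum_nil,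
        Poly.den_one, add_zero]
      have h2 : ¬ (D.rank + r.val = i.val) := by have := i.isLt; omega
      simp only [h2, if_false, add_zero]
      by_cases h : i = j
      · subst h; simp
      · have : ¬ (j.val = i.val) := fun e => h (Fin.ext e.symm)
        simp [h, this]
    · simp only [Matrix.of_apply, denV, enc, List.map_cons, List.map_nil, List.sum_cons, List.sum_nil,
        Poly.den_one, add_zero, Poly.den_mul, Poly.den_ofInt]
      have h2 : ¬ (j.val = D.rank + u.val) := by have := j.isLt; omega
      simp only [h2, if_false, zero_add]
      by_cases h : u = r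
      · subst h; simp
      · have : ¬ (D.rank + r.val = D.rank + u.val) := fun e => h (Fin.ext (by omega))
        have h' : ¬ (r.val = u.val) := fun e => h (Fin.ext e.symm)
        simp [h, this, h']
  · have hs : ¬ (enc D (Sum.inr s) < D.rank) := by simp only [enc]; omega
    rw [if_neg hs]
    have hs2 : enc D (Sum.inr s) - D.rank = s.val := by simp only [enc]; omega
    rw [hs2]
    by_cases hsr : s = r
    · subst hsr
      rw [if_pos rfl]
      rcases i with i | u
      · simp only [Matrix.of_apply, if_true, denV, enc, List.map_cons, List.map_nil, List.sum_cons,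
          List.sum_nil, add_zero, Poly.den_one]
        have h2 : ¬ (D.rank + s.val = i.val) := by have := i.isLt; omega
        simp only [h2, if_false]
      · simp only [Matrix.of_apply, if_true, denV, enc, List.map_cons, List.map_nil, List.sum_cons,
          List.sum_nil, add_zero, Poly.den_one]
        by_cases h : u = s
        · subst h; simp
        · have : ¬ (D.rank + s.val = D.rank + u.val) := fun e => h (Fin.ext (by omega))
          have h' : ¬ (s.val = u.val) := fun e => h (Fin.ext e.symm)
          simp [h, this, h']
    · have hsr' : ¬ (s.val = r.val) := fun e => hsr (Fin.ext e)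
      rw [if_neg hsr']
      by_cases hneg : s.val = n
      · rw [if_pos hneg]
        subst hneg
        rcases i with i | u
        · simp only [Matrix.of_apply, hsr, if_false, if_true, denV, List.map_cons, List.sum_cons,
            enc, Poly.den_one, Poly.den_neg, Poly.den_mul, List.map_map]
          have h1 : ¬ (D.rank + s.val = i.val) := by have := i.isLt; omega
          have h2 : ¬ (D.rank + r.val = i.val) := by have := i.isLt; omega
          simp only [h1, h2, if_false, zero_add]
          have := sum_range_ite (F := F) D.rank i.val i.isLt
            (fun i' => (((D.coroot.getD r.val #[]).getD i' 0 : ℤ) : F) * a.den y0 y1 y2 y3)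
          rw [← this]
          congr 1
          apply List.map_congr_left
          intro i' _
          simp only [Function.comp, Poly.den_mul, Poly.den_ofInt]
        · simp only [Matrix.of_apply, hsr, if_false, if_true, denV, List.map_cons, List.sum_cons,
            enc, Poly.den_one, Poly.den_neg, Poly.den_mul, List.map_map]
          rw [List.sum_eq_zero (l := List.map _ (List.range D.rank)) (by
            intro x hx
            simp only [List.mem_map, List.mem_range, Function.comp] at hx
            obtain ⟨i', hi', rfl⟩ := hx
            have : ¬ (i' = D.rank + u.val) := by omega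
            simp [this]), add_zero]
          by_cases hus : u = s
          · subst hus
            have : ¬ (D.rank + r.val = D.rank + u.val) := fun e => hsr (Fin.ext (by omega))
            have h' : ¬ (r.val = u.val) := fun e => hsr' e.symm
            simp [this, h']
          · have h1 : ¬ (D.rank + s.val = D.rank + u.val) := fun e => hus (Fin.ext (by omega))
            have h1' : ¬ (s.val = u.val) := fun e => hus (Fin.ext e.symm)
            by_cases hur : u = r
            · subst hur
              simp [hus, h1, h1']; ring
            · have h2 : ¬ (D.rank + r.val = D.rank + u.val) := fun e => hur (Fin.ext (by omega))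
              have h2' : ¬ (r.val = u.val) := fun e => hur (Fin.ext e.symm)
              simp [hus, hur, h1, h2, h1', h2']
      · rw [if_neg hneg]
        rcases i with i | u
        · simp only [Matrix.of_apply, hsr, if_false, hneg, denV, List.map_cons, List.sum_cons, enc,
            Poly.den_one]
          have h1 : ¬ (D.rank + s.val = i.val) := by have := i.isLt; omega
          simp only [h1, if_false, zero_add]
          symm
          apply List.sum_eq_zero
          intro x hx
          simp only [List.mem_map, List.mem_flatMap] at hx
          obtain ⟨kp, ⟨e, _, q, _, rfl⟩, rfl⟩ := hx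
          have h2 : ¬ (D.rank + q.1.1 = i.val) := by have := i.isLt; omega
          simp only [h2, if_false]
        · simp only [Matrix.of_apply, hsr, if_false, hneg, denV, List.map_cons, List.sum_cons, enc,
            Poly.den_one]
          congr 1
          · by_cases hus : u = s
            · subst hus; simp
            · have h1 : ¬ (D.rank + s.val = D.rank + u.val) := fun e => hus (Fin.ext (by omega))
              have h1' : ¬ (s.val = u.val) := fun e => hus (Fin.ext e.symm)
              simp [hus, h1, h1']
          · unfold ChevalleyDatum.chainCoeff
            rw [sum_map_flatMap, sum_map_flatMap]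
            congr 1
            apply List.map_congr_left
            intro e _
            rw [List.map_map, List.map_map, sum_map_filter]
            congr 1
            apply List.map_congr_left
            intro q _
            simp only [Function.comp, Poly.den_mul, Poly.den_ofInt, Poly.den_pow, decide_eq_true_eq]
            by_cases hq : q.1.1 = u.val
            · simp [hq]
            · have : ¬ (D.rank + q.1.1 = D.rank + u.val) := by omega
              simp [hq, this]

theorem enc_surj (k : ℕ) (hk : k < D.rank + D.nroots) : ∃ j : D.Idx, enc D j = k := by
  by_cases h : k < D.rank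
  · exact ⟨Sum.inl ⟨k, h⟩, rfl⟩
  · refine ⟨Sum.inr ⟨k - D.rank, by omega⟩, ?_⟩
    simp only [enc]; omega

theorem xMat_mulVec_denV (r : Fin D.nroots) (a : Poly) (v : SV) :
    (D.xMat F r (a.den y0 y1 y2 y3)).mulVec (denV D y0 y1 y2 y3 v) =
      denV D y0 y1 y2 y3 (applyX D r.val a v) := by
  unfold applyX
  rw [if_pos r.isLt]
  induction v with
  | nil => simp
  | cons kp rest ih =>
    rw [denV_cons, Matrix.mulVec_add, ih, List.flatMap_cons, denV_append]
    congr 1
    by_cases hk : kp.1 < D.rank + D.nroots
    · rw [if_pos hk]
      obtain ⟨j, hj⟩ := enc_surj D kp.1 hk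
      rw [denV_scaleV]
      have : (fun i => if kp.1 = enc D i then Poly.den y0 y1 y2 y3 kp.2 else 0) =
          Poly.den y0 y1 y2 y3 kp.2 • (Pi.single j (1 : F) : D.Idx → F) := by
        funext i
        simp only [Pi.smul_apply, smul_eq_mul, Pi.single_apply]
        by_cases h : i = j
        · subst h; simp [hj]
        · have : ¬ (kp.1 = enc D i) := by
            rw [← hj]; exact fun e => h (enc_injective D e.symm)
          simp [h, this]
      rw [this, Matrix.mulVec_smul, Matrix.mulVec_single_one]
      congr 1
      funext i
      rw [← hj]
      exact xMat_eq_denV_colX D y0 y1 y2 y3 r a i j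
    · rw [if_neg hk]
      have : (fun i => if kp.1 = enc D i then Poly.den y0 y1 y2 y3 kp.2 else 0) = (0 : D.Idx → F) := by
        funext i
        have : ¬ (kp.1 = enc D i) := by
          intro e; exact hk (e ▸ enc_lt D i)
        simp [this]
      rw [this, Matrix.mulVec_zero, denV_nil]

theorem x_mulVec_denV (r : ℕ) (a : Poly) (v : SV) :
    (D.x F r (a.den y0 y1 y2 y3)).mulVec (denV D y0 y1 y2 y3 v) =
      denV D y0 y1 y2 y3 (applyX D r a v) := by
  unfold ChevalleyDatum.x
  by_cases h : r < D.nroots
  · rw [dif_pos h]
    exact xMat_mulVec_denV D y0 y1 y2 y3 ⟨r, h⟩ a v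
  · rw [dif_neg h, Matrix.one_mulVec]
    unfold applyX
    rw [if_neg h]

/-- the actual word denoted by a symbolic word -/
def denW (w : List (ℕ × Poly)) : List (ℕ × F) := w.map fun ra => (ra.1, ra.2.den y0 y1 y2 y3)

theorem wordMat_mulVec_denV (w : List (ℕ × Poly)) (v : SV) :
    (D.wordMat F (denW y0 y1 y2 y3 w)).mulVec (denV D y0 y1 y2 y3 v) =
      denV D y0 y1 y2 y3 (applyWord D w v) := by
  induction w with
  | nil => simp [ChevalleyDatum.wordMat, denW, applyWord]
  | cons ra rest ih =>
    have : D.wordMat F (denW y0 y1 y2 y3 (ra :: rest)) =
        D.x F ra.1 (ra.2.den y0 y1 y2 y3) * D.wordMat F (denW y0 y1 y2 y3 rest) := by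
      simp [ChevalleyDatum.wordMat, denW]
    rw [this, ← Matrix.mulVec_mulVec, ih]
    simp only [applyWord, List.foldr_cons]
    exact x_mulVec_denV D y0 y1 y2 y3 ra.1 ra.2 _

theorem wordMat_eq_of_check (red : Bool) (hred : red = true → y0 * y1 = 1) (w1 w2 : List (ℕ × Poly))
    (h : checkWordEq D red w1 w2 = true) :
    D.wordMat F (denW y0 y1 y2 y3 w1) = D.wordMat F (denW y0 y1 y2 y3 w2) := by
  simp only [checkWordEq, List.all_eq_true, List.mem_range] at h
  ext i j
  have h1 := h (enc D j) (enc_lt D j)
  have h2 := denV_eq_zero_of_vecIsZero D y0 y1 y2 y3 red hred _ h1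
  rw [denV_subV, ← wordMat_mulVec_denV, ← wordMat_mulVec_denV, denV_single,
    Matrix.mulVec_single_one, Matrix.mulVec_single_one] at h2
  have h3 := congrFun h2 i
  simp only [Pi.sub_apply, Pi.zero_apply, Matrix.col_apply] at h3
  exact sub_eq_zero.mp h3

end semantics

end Cfsg.Agent.Lib.Helper24
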