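import Cfsg.Agent.Lib.Helper24.Poly
import Cfsg.Prelude.Def_ChevStructure

set_option autoImplicit false

namespace Cfsg.Agent.Lib.Helper24

open Cfsg.Lie

/-- sparse vectors with polynomial coefficients -/
abbrev SV := List (ℕ × Poly)

def enc (D : ChevalleyDatum) : D.Idx → ℕ
  | Sum.inl i => i.val
  | Sum.inr s => D.rank + s.val

theorem enc_lt (D : ChevalleyDatum) (i : D.Idx) : enc D i < D.rank + D.nroots := by
  rcases i with i | s
  · simp only [enc]; have := i.isLt; omega
  · simp only [enc]; have := s.isLt; omega

theorem enc_injective (D : ChevalleyDatum) : Function.Injective (enc D) := by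
  intro i j h
  rcases i with i | s <;> rcases j with j | s'
  · simp only [enc] at h; exact congrArg _ (Fin.ext h)
  · simp only [enc] at h; have := i.isLt; omega
  · simp only [enc] at h; have := j.isLt; omega
  · simp only [enc] at h; exact congrArg _ (Fin.ext (by omega))

/-- the sparse column `k` of `x_r(a)` -/
def colX (D : ChevalleyDatum) (r : ℕ) (a : Poly) (k : ℕ) : SV :=
  if k < D.rank then
    [(k, Poly.one), (D.rank + r, Poly.mul (Poly.ofInt (-((D.cartanSR.getD k #[]).getD r 0))) a)]
  else if k - D.rank = r then [(k, Poly.one)]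
  else if k - D.rank = D.negIdx.getD r 0 then
    (k, Poly.one) :: (D.rank + r, Poly.neg (Poly.mul a a)) ::
      (List.range D.rank).map (fun i => (i, Poly.mul (Poly.ofInt ((D.coroot.getD r #[]).getD i 0)) a))
  else
    (k, Poly.one) :: (((D.chain.getD r #[]).toList.filter (fun e => e.1 = k - D.rank)).flatMap fun e =>
      e.2.toList.zipIdx.map fun q => (D.rank + q.1.1, Poly.mul (Poly.ofInt q.1.2) (Poly.pow a (q.2 + 1))))

def scaleV (p : Poly) (v : SV) : SV := v.map fun jc => (jc.1, Poly.mul jc.2 p)

def applyX (D : ChevalleyDatum) (r : ℕ) (a : Poly) (v : SV) : SV :=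
  if r < D.nroots then
    v.flatMap fun kp => if kp.1 < D.rank + D.nroots then scaleV kp.2 (colX D r a kp.1) else []
  else v

def applyWord (D : ChevalleyDatum) (w : List (ℕ × Poly)) (v : SV) : SV :=
  w.foldr (fun ra acc => applyX D ra.1 ra.2 acc) v

def insertV (k : ℕ) (p : Poly) : SV → SV
  | [] => [(k, p)]
  | (k', p') :: rest => if k = k' then (k', Poly.add p p') :: rest else (k', p') :: insertV k p rest

def collect (v : SV) : SV := v.foldr (fun kp acc => insertV kp.1 kp.2 acc) []

def vecIsZero (red : Bool) (v : SV) : Bool :=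
  (collect v).all fun kp => (if red then kp.2.reduce else kp.2).isZero

def subV (v w : SV) : SV := v ++ w.map fun kp => (kp.1, Poly.neg kp.2)

def checkWordEq (D : ChevalleyDatum) (red : Bool) (w1 w2 : List (ℕ × Poly)) : Bool :=
  (List.range (D.rank + D.nroots)).all fun k =>
    vecIsZero red (subV (applyWord D w1 [(k, Poly.one)]) (applyWord D w2 [(k, Poly.one)]))

section semantics

variable {F : Type*} [Field F] (D : ChevalleyDatum) (y0 y1 y2 y3 : F)

def denV (v : SV) : D.Idx → F :=
  fun i => (v.map fun kp => if kp.1 = enc D i then kp.2.den y0 y1 y2 y3 else 0).sum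

@[simp] theorem denV_nil : denV D y0 y1 y2 y3 [] = 0 := by
  funext i; simp [denV]

theorem denV_cons (kp : ℕ × Poly) (v : SV) :
    denV D y0 y1 y2 y3 (kp :: v) =
      (fun i => if kp.1 = enc D i then kp.2.den y0 y1 y2 y3 else 0) + denV D y0 y1 y2 y3 v := by
  funext i; simp [denV]

theorem denV_append (v w : SV) :
    denV D y0 y1 y2 y3 (v ++ w) = denV D y0 y1 y2 y3 v + denV D y0 y1 y2 y3 w := by
  funext i; simp [denV]

theorem denV_scaleV (p : Poly) (v : SV) :
    denV D y0 y1 y2 y3 (scaleV p v) = p.den y0 y1 y2 y3 • denV D y0 y1 y2 y3 v := by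
  induction v with
  | nil => simp [scaleV]
  | cons kp rest ih =>
    simp only [scaleV, List.map_cons] at ih ⊢
    rw [denV_cons, denV_cons, ih]
    funext i
    simp only [Pi.add_apply, Pi.smul_apply, smul_eq_mul, Poly.den_mul]
    split_ifs <;> ring

theorem denV_insertV (k : ℕ) (p : Poly) (v : SV) :
    denV D y0 y1 y2 y3 (insertV k p v) = denV D y0 y1 y2 y3 ((k, p) :: v) := by
  induction v with
  | nil => simp [insertV]
  | cons kp rest ih =>
    obtain ⟨k', p'⟩ := kp
    simp only [insertV]
    split_ifs with h
    · subst h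
      funext i
      simp only [denV_cons, Pi.add_apply, Poly.den_add]
      split_ifs <;> ring
    · rw [denV_cons, ih, denV_cons, denV_cons, denV_cons]
      funext i
      simp only [Pi.add_apply]
      ring

theorem denV_collect (v : SV) : denV D y0 y1 y2 y3 (collect v) = denV D y0 y1 y2 y3 v := by
  induction v with
  | nil => simp [collect]
  | cons kp rest ih =>
    simp only [collect, List.foldr_cons] at ih ⊢
    rw [denV_insertV, denV_cons, ih, denV_cons]

theorem denV_eq_zero_of_vecIsZero (red : Bool) (hred : red = true → y0 * y1 = 1) (v : SV)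
    (h : vecIsZero red v = true) : denV D y0 y1 y2 y3 v = 0 := by
  rw [← denV_collect]
  simp only [vecIsZero, List.all_eq_true] at h
  funext i
  simp only [denV, Pi.zero_apply]
  apply List.sum_eq_zero
  intro x hx
  simp only [List.mem_map] at hx
  obtain ⟨kp, hkp, rfl⟩ := hx
  have h1 := h kp hkp
  split_ifs with hk
  · cases red with
    | false =>
      simp only [Bool.false_eq_true, if_false] at h1
      exact Poly.den_eq_zero_of_isZero _ _ _ _ _ h1
    | true =>
      simp only [if_true] at h1
      rw [← Poly.den_reduce _ _ _ _ (hred rfl)]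
      exact Poly.den_eq_zero_of_isZero _ _ _ _ _ h1
  · rfl

theorem denV_subV (v w : SV) :
    denV D y0 y1 y2 y3 (subV v w) = denV D y0 y1 y2 y3 v - denV D y0 y1 y2 y3 w := by
  rw [subV, denV_append, sub_eq_add_neg]
  congr 1
  induction w with
  | nil => simp
  | cons kp rest ih =>
    simp only [List.map_cons]
    rw [denV_cons, denV_cons, ih]
    funext i
    simp only [Pi.add_apply, Pi.neg_apply, Poly.den_neg]
    split_ifs <;> ring

theorem denV_single (j : D.Idx) :
    denV D y0 y1 y2 y3 [(enc D j, Poly.one)] = Pi.single j 1 := by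
  funext i
  simp only [denV, List.map_cons, List.map_nil, List.sum_cons, List.sum_nil, add_zero, Poly.den_one]
  by_cases h : j = i
  · subst h; simp
  · have : enc D j ≠ enc D i := fun e => h (enc_injective D e)
    simp [this, Pi.single_apply, Ne.symm h]

end semantics

end Cfsg.Agent.Lib.Helper24
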