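import Cfsg.Agent.Lib.Helper24.HAll

set_option autoImplicit false
set_option linter.unusedSimpArgs false

namespace Cfsg.Agent.Lib.Helper24

open Cfsg.Lie

theorem AE_eq_sum (D : ChevalleyDatum) (r k : ℕ) :
    AE D r k = ((List.range D.rank).map fun i => (D.coroot.getD r #[]).getD i 0 * Eexp D i k).sum := by
  unfold AE Eexp Aroot
  split_ifs with h
  · symm
    apply List.sum_eq_zero
    intro x hx
    simp only [List.mem_map] at hx
    obtain ⟨i, _, rfl⟩ := hx
    simp
  · rfl

theorem AE_compat (D : ChevalleyDatum) (hT : TableOK D) (hC : cartanFOK D = true)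
    (s : ℕ) (hs : s < D.nroots) (h : cartanOKr D s = true) (r : ℕ)
    (i' j : D.Idx) (e : ℕ × ℤ × ℕ) (he : e ∈ fullShape D s (enc D j)) (hei : e.1 = enc D i') :
    AE D r (enc D i') = (e.2.2 : ℤ) * Aroot D r s + AE D r (enc D j) := by
  rw [AE_eq_sum, AE_eq_sum]
  unfold Aroot
  rw [← List.sum_map_mul_left, ← List.sum_map_add]
  congr 1
  apply List.map_congr_left
  intro i hi
  rw [List.mem_range] at hi
  rw [Eexp_compat D hT hC s hs h i hi i' j e he hei]
  ring

section semantics

variable {F : Type*} [Field F] (D : ChevalleyDatum)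

/-- the diagonal matrix of `h_r(c)` normalises every root subgroup -/
theorem diagAE_mul_xMat (hT : TableOK D) (hC : cartanFOK D = true)
    (s : Fin D.nroots) (h : cartanOKr D s.val = true) (r : ℕ) (c : F) (hc : c ≠ 0) (t : F) :
    Matrix.diagonal (fun idx : D.Idx => c ^ AE D r (enc D idx)) * D.xMat F s t =
      D.xMat F s (c ^ Aroot D r s.val * t) * Matrix.diagonal (fun idx : D.Idx => c ^ AE D r (enc D idx)) := by
  apply diag_mul_xMat
  intro i' j e he hei
  rw [AE_compat D hT hC s.val s.isLt h r i' j e he hei, zpow_add₀ hc]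
  congr 1
  rw [mul_comm (e.2.2 : ℤ), zpow_mul, zpow_natCast]

end semantics

end Cfsg.Agent.Lib.Helper24
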