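import Cfsg.Agent.Lib.Helper24.TriGroups

set_option autoImplicit false
set_option linter.unusedSimpArgs false

namespace Cfsg.Agent.Lib.Helper24

open Cfsg.Lie

section chev

variable {F : Type*} [Field F] (D : ChevalleyDatum)

/-- table check: for every negative root `r`, `x_r(t) - 1` is strictly upper triangular -/
def triOKneg (D : ChevalleyDatum) : Bool :=
  (List.range D.nroots).all fun r => !(decide (D.IsNegRoot r)) ||
    (suppList D r).all fun k => (colX D r Poly.x0 k).tail.all fun up => posN D up.1 < posN D k

theorem colX_tail_of_triOKneg (h : triOKneg D = true) (r : ℕ) (hr : D.IsNegRoot r) (k : ℕ) :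
    ∀ up ∈ (colX D r Poly.x0 k).tail, posN D up.1 < posN D k := by
  by_cases hk : k ∈ suppList D r
  · simp only [triOKneg, List.all_eq_true, List.mem_range, Bool.or_eq_true, Bool.not_eq_true',
      decide_eq_false_iff_not, decide_eq_true_eq] at h
    rcases h r hr.1 with h1 | h1
    · exact absurd hr h1
    · exact h1 k hk
  · rw [colX_of_notin_supp D r _ k hk]
    simp

/-- the reversed position function on the coordinate index set -/
def posR (i : D.Idx) : ℕ := revPos (posI D) (D.rank + D.nroots) i

theorem posR_injective : Function.Injective (posR D) :=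
  revPos_injective (posI D) (posI_injective D) _ (posI_lt D)

theorem posR_lt_iff (i j : D.Idx) : posR D i < posR D j ↔ posI D j < posI D i :=
  revPos_lt (posI D) _ (posI_lt D) i j

theorem x_mem_uniTri_of_triOKneg (h : triOKneg D = true) (r : ℕ) (hr : D.IsNegRoot r) (t : F)
    (g : GL D.Idx F) (hg : (g : Matrix D.Idx D.Idx F) = D.x F r t) :
    g ∈ uniTri (F := F) (posR D) (posR_injective D) := by
  have hx : D.x F r t = D.xMat F ⟨r, hr.1⟩ (Poly.x0.den t 1 1 1) := by
    unfold ChevalleyDatum.x
    rw [dif_pos hr.1]; simp
  have hent : ∀ i j, (g : Matrix D.Idx D.Idx F) i j =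
      (if enc D j = enc D i then 1 else 0) + denV D t 1 1 1 (colX D r Poly.x0 (enc D j)).tail i := by
    intro i j
    rw [hg, hx, xMat_eq_denV_colX]
    conv_lhs => rw [colX_head, denV_cons]
    simp
  have hzero : ∀ i j, posI D j ≤ posI D i → denV D t 1 1 1 (colX D r Poly.x0 (enc D j)).tail i = 0 := by
    intro i j hij
    simp only [denV]
    apply List.sum_eq_zero
    intro x hx
    simp only [List.mem_map] at hx
    obtain ⟨up, hup, rfl⟩ := hx
    have := colX_tail_of_triOKneg D h r hr (enc D j) up hup
    have hne : ¬ (up.1 = enc D i) := by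
      intro e
      rw [e] at this
      unfold posI at hij
      omega
    simp [hne]
  rw [mem_uniTri]
  constructor
  · intro i j hij
    rw [posR_lt_iff] at hij
    rw [hent, hzero i j (le_of_lt hij)]
    have : ¬ (enc D j = enc D i) := by
      intro e
      have := enc_injective D e
      subst this
      exact lt_irrefl _ hij
    simp [this]
  · intro i
    rw [hent, hzero i i (le_refl _)]
    simp

theorem negUnipotent_le_uniTri (h : triOKneg D = true) :
    D.negUnipotent F ≤ uniTri (F := F) (posR D) (posR_injective D) := by
  unfold ChevalleyDatum.negUnipotent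
  rw [Subgroup.closure_le]
  rintro g ⟨r, t, hr, hg⟩
  exact x_mem_uniTri_of_triOKneg D h r hr t g hg

end chev

end Cfsg.Agent.Lib.Helper24
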