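import Cfsg.Agent.Lib.Helper24.AddDef
import Cfsg.Agent.Lib.Helper24.TorusConj
import Cfsg.Agent.Lib.Helper24.TriNeg
import Cfsg.Agent.Lib.Helper24.GroupLemmas

set_option autoImplicit false
set_option linter.unusedSimpArgs false

namespace Cfsg.Agent.Lib.Helper24

open Cfsg.Lie

/-- the verified table facts about a datum -/
structure Facts (D : ChevalleyDatum) : Prop where
  table : TableOK D
  cartanF : cartanFOK D = true
  cartanOK : ∀ r < D.nroots, cartanOKr D r = true
  add : ∀ r < D.nroots, addOK D r = true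
  hroot : ∀ r < D.nroots, hRootOK D r = true
  tri : triOK D = true
  triNeg : triOKneg D = true

section basic

variable {F : Type*} [Field F] (D : ChevalleyDatum)

theorem chainCoeff_pos' (r s u : ℕ) (km : ℕ × ℤ) (h : km ∈ D.chainCoeff r s u) : 1 ≤ km.1 := by
  unfold ChevalleyDatum.chainCoeff at h
  simp only [List.mem_flatMap, List.mem_map] at h
  obtain ⟨e, _, q, _, rfl⟩ := h
  simp

theorem xMat_zero' (r : Fin D.nroots) : D.xMat F r 0 = 1 := by
  ext row col
  unfold ChevalleyDatum.xMat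
  rcases col with i | s
  · rcases row with i' | u
    · simp [Matrix.one_apply]
    · simp [Matrix.one_apply]
  · by_cases hsr : s = r
    · subst hsr
      rcases row with i' | u
      · simp [Matrix.one_apply]
      · simp [Matrix.one_apply]
    · by_cases hneg : s.val = D.negIdx.getD r.val 0
      · rcases row with i' | u
        · simp [Matrix.one_apply, hsr, hneg]
        · by_cases hus : u = s
          · simp [Matrix.one_apply, hsr, hneg, hus]
          · simp [Matrix.one_apply, hsr, hneg, hus]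
      · rcases row with i' | u
        · simp [Matrix.one_apply, hsr, hneg]
        · have hz : ((D.chainCoeff r.val s.val u.val).map fun km => ((km.2 : ℤ) : F) * (0:F) ^ km.1).sum = 0 := by
            apply List.sum_eq_zero
            intro x hx
            simp only [List.mem_map] at hx
            obtain ⟨km, hkm, rfl⟩ := hx
            have := chainCoeff_pos' D _ _ _ km hkm
            have h0 : (0:F) ^ km.1 = 0 := zero_pow (by omega)
            simp [h0]
          simp only [Matrix.of_apply, hsr, hneg, if_false, hz, add_zero, Matrix.one_apply, Sum.inr.injEq]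

theorem x_zero (s : ℕ) : D.x F s 0 = 1 := by
  unfold ChevalleyDatum.x
  split_ifs with h
  · exact xMat_zero' D ⟨s, h⟩
  · rfl

variable {D}

theorem Facts.x_add (hF : Facts D) (s : ℕ) (t₁ t₂ : F) :
    D.x F s t₁ * D.x F s t₂ = D.x F s (t₁ + t₂) := by
  by_cases hs : s < D.nroots
  · exact x_add_of_addOK D hF.table s (hF.add s hs) t₁ t₂
  · simp [ChevalleyDatum.x, hs]

/-- `x_s(t)` as an element of the general linear group -/
def Facts.xGL (hF : Facts D) (s : ℕ) (t : F) : GL D.Idx F :=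
  ⟨D.x F s t, D.x F s (-t), by rw [hF.x_add, add_neg_cancel, x_zero],
    by rw [hF.x_add, neg_add_cancel, x_zero]⟩

@[simp] theorem Facts.xGL_val (hF : Facts D) (s : ℕ) (t : F) :
    ((hF.xGL s t : GL D.Idx F) : Matrix D.Idx D.Idx F) = D.x F s t := rfl

theorem Facts.eq_xGL (hF : Facts D) (g : GL D.Idx F) (s : ℕ) (t : F)
    (hg : (g : Matrix D.Idx D.Idx F) = D.x F s t) : g = hF.xGL s t := Units.ext hg

theorem Facts.xGL_mem_pos (hF : Facts D) (s : ℕ) (hs : D.IsPosRoot s) (t : F) :
    hF.xGL s t ∈ D.posUnipotent F :=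
  Subgroup.subset_closure ⟨s, t, hs, rfl⟩

theorem Facts.xGL_mem_neg (hF : Facts D) (s : ℕ) (hs : D.IsNegRoot s) (t : F) :
    hF.xGL s t ∈ D.negUnipotent F :=
  Subgroup.subset_closure ⟨s, t, hs, rfl⟩

theorem Facts.hMat_root (hF : Facts D) (r : ℕ) (hr : r < D.nroots) (c : F) (hc : c ≠ 0) :
    D.hMat F r c = Matrix.diagonal (fun idx : D.Idx => c ^ AE D r (enc D idx)) :=
  hMat_of_hRootOK D hF.table hF.cartanF r (hF.hroot r hr) c hc

/-- conjugation of root elements by the generators of `H` -/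
theorem Facts.hgen_mul_xGL (hF : Facts D) (g : GL D.Idx F) (r : ℕ) (hr : r < D.nroots) (c : F) (hc : c ≠ 0)
    (hg : (g : Matrix D.Idx D.Idx F) = D.hMat F r c) (s : ℕ) (hs : s < D.nroots) (t : F) :
    g * hF.xGL s t * g⁻¹ = hF.xGL s (c ^ Aroot D r s * t) := by
  rw [mul_inv_eq_iff_eq_mul]
  apply Units.ext
  rw [Units.val_mul, Units.val_mul, hg, hF.hMat_root r hr c hc, Facts.xGL_val, Facts.xGL_val]
  unfold ChevalleyDatum.x
  rw [dif_pos hs, dif_pos hs]
  exact diagAE_mul_xMat D hF.table hF.cartanF ⟨s, hs⟩ (hF.cartanOK s hs) r c hc t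

theorem Facts.hgen_inv_mul_xGL (hF : Facts D) (g : GL D.Idx F) (r : ℕ) (hr : r < D.nroots) (c : F) (hc : c ≠ 0)
    (hg : (g : Matrix D.Idx D.Idx F) = D.hMat F r c) (s : ℕ) (hs : s < D.nroots) (t : F) :
    g⁻¹ * hF.xGL s t * g = hF.xGL s ((c ^ Aroot D r s)⁻¹ * t) := by
  have h := hF.hgen_mul_xGL g r hr c hc hg s hs ((c ^ Aroot D r s)⁻¹ * t)
  have hne : c ^ Aroot D r s ≠ 0 := zpow_ne_zero _ hc
  rw [← mul_assoc, mul_inv_cancel₀ hne, one_mul] at h
  rw [← h]
  group

/-- the generators of `H` normalise `U` -/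
theorem Facts.hgen_mem_normalizer_pos (hF : Facts D) (g : GL D.Idx F) (r : ℕ) (hr : r < D.nroots) (c : F)
    (hc : c ≠ 0) (hg : (g : Matrix D.Idx D.Idx F) = D.hMat F r c) :
    g ∈ Subgroup.normalizer (D.posUnipotent F : Set (GL D.Idx F)) := by
  unfold ChevalleyDatum.posUnipotent
  apply mem_normalizer_closure
  · rintro x ⟨s, t, hs, hx⟩
    rw [hF.eq_xGL x s t hx, hF.hgen_mul_xGL g r hr c hc hg s hs.1 t]
    exact Subgroup.subset_closure ⟨s, _, hs, rfl⟩
  · rintro x ⟨s, t, hs, hx⟩
    rw [hF.eq_xGL x s t hx, hF.hgen_inv_mul_xGL g r hr c hc hg s hs.1 t]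
    exact Subgroup.subset_closure ⟨s, _, hs, rfl⟩

theorem Facts.hgen_mem_normalizer_neg (hF : Facts D) (g : GL D.Idx F) (r : ℕ) (hr : r < D.nroots) (c : F)
    (hc : c ≠ 0) (hg : (g : Matrix D.Idx D.Idx F) = D.hMat F r c) :
    g ∈ Subgroup.normalizer (D.negUnipotent F : Set (GL D.Idx F)) := by
  unfold ChevalleyDatum.negUnipotent
  apply mem_normalizer_closure
  · rintro x ⟨s, t, hs, hx⟩
    rw [hF.eq_xGL x s t hx, hF.hgen_mul_xGL g r hr c hc hg s hs.1 t]
    exact Subgroup.subset_closure ⟨s, _, hs, rfl⟩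
  · rintro x ⟨s, t, hs, hx⟩
    rw [hF.eq_xGL x s t hx, hF.hgen_inv_mul_xGL g r hr c hc hg s hs.1 t]
    exact Subgroup.subset_closure ⟨s, _, hs, rfl⟩

theorem Facts.diagonal_le_normalizer_pos (hF : Facts D) :
    D.diagonalSubgroup F ≤ Subgroup.normalizer (D.posUnipotent F : Set (GL D.Idx F)) := by
  unfold ChevalleyDatum.diagonalSubgroup
  rw [Subgroup.closure_le]
  rintro g ⟨r, c, hr, hc, hg⟩
  exact hF.hgen_mem_normalizer_pos g r hr c hc hg

theorem Facts.diagonal_le_normalizer_neg (hF : Facts D) :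
    D.diagonalSubgroup F ≤ Subgroup.normalizer (D.negUnipotent F : Set (GL D.Idx F)) := by
  unfold ChevalleyDatum.diagonalSubgroup
  rw [Subgroup.closure_le]
  rintro g ⟨r, c, hr, hc, hg⟩
  exact hF.hgen_mem_normalizer_neg g r hr c hc hg

theorem Facts.diagonal_le_diagSub (hF : Facts D) :
    D.diagonalSubgroup F ≤ diagSub (m := D.Idx) (F := F) := by
  unfold ChevalleyDatum.diagonalSubgroup
  rw [Subgroup.closure_le]
  rintro g ⟨r, c, hr, hc, hg⟩
  intro i j hij
  rw [hg, hF.hMat_root r hr c hc]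
  exact Matrix.diagonal_apply_ne _ hij

theorem Facts.pos_le_uniTri (hF : Facts D) :
    D.posUnipotent F ≤ uniTri (F := F) (posI D) (posI_injective D) :=
  posUnipotent_le_uniTri D hF.tri

theorem Facts.neg_le_uniTri (hF : Facts D) :
    D.negUnipotent F ≤ uniTri (F := F) (posR D) (posR_injective D) :=
  negUnipotent_le_uniTri D hF.triNeg

theorem Facts.borel_le_lowerTri (hF : Facts D) :
    D.borelSubgroup F ≤ lowerTri (F := F) (posI D) := by
  unfold ChevalleyDatum.borelSubgroup
  apply sup_le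
  · exact le_trans hF.pos_le_uniTri (uniTri_le_lowerTri _ _)
  · exact le_trans hF.diagonal_le_diagSub (diagSub_le_lowerTri _)

/-- S1036 -/
theorem Facts.borel_semidirect (hF : Facts D) :
    D.diagonalSubgroup F ≤ Subgroup.normalizer (D.posUnipotent F : Set (GL D.Idx F)) ∧
      D.posUnipotent F ⊓ D.diagonalSubgroup F = ⊥ := by
  refine ⟨hF.diagonal_le_normalizer_pos, ?_⟩
  rw [eq_bot_iff]
  have h1 : D.posUnipotent F ⊓ D.diagonalSubgroup F ≤
      uniTri (F := F) (posI D) (posI_injective D) ⊓ lowerTri (posR D) :=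
    inf_le_inf hF.pos_le_uniTri (le_trans hF.diagonal_le_diagSub (diagSub_le_lowerTri _))
  have h2 := uniTri_inf_lowerTri_rev (F := F) (posI D) (posI_injective D) _ (posI_lt D)
  exact le_trans h1 (le_of_eq h2)

/-- S1037 -/
theorem Facts.borel_inf_neg (hF : Facts D) :
    D.borelSubgroup F ⊓ D.negUnipotent F = ⊥ ∧
      D.borelSubgroup F ⊓ (D.negUnipotent F ⊔ D.diagonalSubgroup F) = D.diagonalSubgroup F := by
  have hBV : D.borelSubgroup F ⊓ D.negUnipotent F = ⊥ := by
    rw [eq_bot_iff]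
    have h1 : D.borelSubgroup F ⊓ D.negUnipotent F ≤
        uniTri (F := F) (posR D) (posR_injective D) ⊓ lowerTri (posI D) := by
      rw [inf_comm]
      exact inf_le_inf hF.neg_le_uniTri hF.borel_le_lowerTri
    have h2 := uniTri_rev_inf_lowerTri (F := F) (posI D) (posI_injective D) _ (posI_lt D)
    exact le_trans h1 (le_of_eq h2)
  refine ⟨hBV, ?_⟩
  apply le_antisymm
  · rintro g ⟨hgB, hgVH⟩
    obtain ⟨v, hv, h, hh, rfl⟩ := exists_mul_of_mem_sup_of_le_normalizer _ _
      hF.diagonal_le_normalizer_neg g hgVH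
    have hhB : h ∈ D.borelSubgroup F := by
      unfold ChevalleyDatum.borelSubgroup
      exact Subgroup.mem_sup_right hh
    have hvB : v ∈ D.borelSubgroup F := by
      have := (D.borelSubgroup F).mul_mem hgB ((D.borelSubgroup F).inv_mem hhB)
      simpa using this
    have hv1 : v ∈ D.borelSubgroup F ⊓ D.negUnipotent F := ⟨hvB, hv⟩
    rw [hBV, Subgroup.mem_bot] at hv1
    rw [hv1, one_mul]
    exact hh
  · apply le_inf
    · unfold ChevalleyDatum.borelSubgroup
      exact le_sup_right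
    · exact le_sup_right

/-- S1050 -/
theorem Facts.borel_isSolvable (hF : Facts D) : Group.IsSolvable ↥(D.borelSubgroup F) :=
  isSolvable_of_le_lowerTri (posI D) (posI_injective D) _ (posI_lt D) _ hF.borel_le_lowerTri

end basic

end Cfsg.Agent.Lib.Helper24
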