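import Cfsg.Agent.Lib.Helper24.ZpowMap
import Cfsg.Agent.Lib.Helper24.HStruct
import Cfsg.Agent.Lib.Helper24.HNormal

set_option autoImplicit false
set_option linter.unusedSimpArgs false
set_option linter.unusedSectionVars false

namespace Cfsg.Agent.Lib.Helper24

open Cfsg.Lie

section general

variable {G : Type*} [CommGroup G] {ι κ : Type*} [Fintype ι] [Fintype κ]

/-- `zpowMap` as a homomorphism -/
def zpowHom (M : ι → κ → ℤ) : (ι → G) →* (κ → G) where
  toFun := zpowMap M
  map_one' := zpowMap_one M
  map_mul' c c' := by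
    funext k
    simp only [zpowMap, Pi.mul_apply, mul_zpow, Finset.prod_mul_distrib]

theorem zpowHom_apply (M : ι → κ → ℤ) (c : ι → G) : zpowHom M c = zpowMap M c := rfl

theorem zpowMap_mulSingle [DecidableEq ι] (M : ι → κ → ℤ) (i : ι) (u : G) (k : κ) :
    zpowMap M (Pi.mulSingle i u) k = u ^ M i k := by
  unfold zpowMap
  rw [Finset.prod_eq_single i]
  · rw [Pi.mulSingle_eq_same]
  · intro j _ hj
    rw [Pi.mulSingle_eq_of_ne hj, one_zpow]
  · intro h; exact absurd (Finset.mem_univ i) h

end general

section diag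

variable {ι : Type*} [Fintype ι] [DecidableEq ι] {F : Type*} [Field F]

/-- the diagonal matrices, as a homomorphism to the general linear group -/
def diagUHom (ι : Type*) [Fintype ι] [DecidableEq ι] (F : Type*) [Field F] : (ι → Fˣ) →* GL ι F where
  toFun χ := ⟨Matrix.diagonal (fun i => (χ i : F)), Matrix.diagonal (fun i => ((χ i)⁻¹ : Fˣ)),
    by
      rw [Matrix.diagonal_mul_diagonal, ← Matrix.diagonal_one]
      congr 1
      funext i
      simp,
    by
      rw [Matrix.diagonal_mul_diagonal, ← Matrix.diagonal_one]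
      congr 1
      funext i
      simp⟩
  map_one' := by
    apply Units.ext
    simp
  map_mul' χ χ' := by
    apply Units.ext
    simp [Matrix.diagonal_mul_diagonal]

theorem diagUHom_val (χ : ι → Fˣ) :
    ((diagUHom ι F χ : GL ι F) : Matrix ι ι F) = Matrix.diagonal (fun i => (χ i : F)) := rfl

theorem diagUHom_injective : Function.Injective (diagUHom ι F) := by
  intro χ χ' h
  have h1 := congrArg (fun g : GL ι F => (g : Matrix ι ι F)) h
  simp only [diagUHom_val] at h1
  have h2 := Matrix.diagonal_injective h1
  funext i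
  exact Units.ext (congrFun h2 i)

end diag

theorem list_range_prod {M : Type*} [CommMonoid M] (f : ℕ → M) (n : ℕ) :
    ((List.range n).map f).prod = ∏ i : Fin n, f i.val := by
  rw [Fin.prod_univ_eq_prod_range]
  induction n with
  | zero => simp
  | succ n ih =>
    rw [List.range_succ, List.map_append, List.prod_append, ih, Finset.prod_range_succ]
    simp

section torus

variable {F : Type*} [Field F] {D : ChevalleyDatum}

/-- the exponents of the torus -/
def torusExp (D : ChevalleyDatum) (n : ℕ) : Fin n → D.Idx → ℤ := fun i idx => Eexp D i.val (enc D idx)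

/-- the parametrisation of the torus -/
def torusHom (D : ChevalleyDatum) (n : ℕ) (F : Type*) [Field F] : (Fin n → Fˣ) →* GL D.Idx F :=
  (diagUHom D.Idx F).comp (zpowHom (torusExp D n))

theorem torusHom_val (n : ℕ) (c : Fin n → Fˣ) :
    ((torusHom D n F c : GL D.Idx F) : Matrix D.Idx D.Idx F) =
      Matrix.diagonal (fun idx => ((zpowMap (torusExp D n) c idx : Fˣ) : F)) := rfl

theorem Facts.torusHom_range (hF : Facts D) (hS : simpleOK D = true) (n : ℕ) (hn : D.rank = n) :
    (torusHom D n F).range = D.diagonalSubgroup F := by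
  apply le_antisymm
  · rintro g ⟨c, rfl⟩
    rw [← Finset.univ_prod_mulSingle c, ← Subgroup.mem_comap]
    apply Subgroup.prod_mem
    intro i _
    rw [Subgroup.mem_comap]
    apply Subgroup.subset_closure
    have hi : i.val < D.rank := by rw [hn]; exact i.isLt
    refine ⟨D.simple i.val, (c i : F), (simpleOK_spec D hS i.val hi).1, (c i).ne_zero, ?_⟩
    rw [torusHom_val, hF.hMat_root _ (simpleOK_spec D hS i.val hi).1 _ (c i).ne_zero]
    congr 1
    funext idx
    rw [zpowMap_mulSingle, AE_simple D hS i.val hi _ (enc_lt D idx)]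
    simp [torusExp]
  · intro g hg
    obtain ⟨c, hc, hg⟩ := hF.diagonal_torus g hg
    refine ⟨fun i => Units.mk0 (c i.val) (hc i.val), ?_⟩
    apply Units.ext
    rw [hg, torusHom_val]
    congr 1
    funext idx
    unfold torusEntry zpowMap
    rw [hn, list_range_prod, Units.coe_prod]
    apply Finset.prod_congr rfl
    intro i _
    simp [torusExp]

theorem card_units_pow_eq_one [Fintype F] (d : ℕ) :
    Nat.card {x : Fˣ // x ^ d = 1} = Nat.gcd (Fintype.card F - 1) d := by
  have h := IsCyclic.card_powMonoidHom_ker Fˣ d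
  rw [Nat.card_units, Nat.card_eq_fintype_card (α := F)] at h
  rw [← h]
  apply Nat.card_congr
  exact Equiv.subtypeEquivRight (fun x => by rw [MonoidHom.mem_ker]; rfl)

/-- the order of the torus, from a Smith normal form of the Cartan matrix -/
theorem Facts.torus_card [Fintype F] (hF : Facts D) (hS : simpleOK D = true) (n : ℕ) (hn : D.rank = n)
    (e : Fin n → D.Idx) (U U' W : Fin n → Fin n → ℤ) (d : Fin n → ℕ)
    (h1 : ∀ i k, ∑ j, U' i j * U j k = if i = k then 1 else 0)
    (h1' : ∀ i k, ∑ j, U i j * U' j k = if i = k then 1 else 0)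
    (h2 : ∀ i l, ∑ k, (∑ j, U i j * torusExp D n j (e k)) * W k l = if i = l then (d i : ℤ) else 0)
    (h3 : ∀ i s, (d i : ℤ) ∣ ∑ j, U i j * torusExp D n j s) :
    (∏ i, Nat.gcd (Fintype.card F - 1) (d i)) * Nat.card ↥(D.diagonalSubgroup F) =
      (Fintype.card F - 1) ^ D.rank := by
  rw [← hF.torusHom_range hS n hn]
  have hk : Nat.card ↥(torusHom D n F).ker = ∏ i, Nat.gcd (Fintype.card F - 1) (d i) := by
    have e1 : Nat.card ↥(torusHom D n F).ker =
        Nat.card {c : Fin n → Fˣ // zpowMap (torusExp D n) c = 1} := by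
      apply Nat.card_congr
      apply Equiv.subtypeEquivRight
      intro c
      rw [MonoidHom.mem_ker]
      unfold torusHom
      rw [MonoidHom.comp_apply, ← map_one (diagUHom D.Idx F), diagUHom_injective.eq_iff]
      rfl
    rw [e1, card_zpowMap_ker (torusExp D n) e U U' W d h1 h1' h2 h3]
    apply Finset.prod_congr rfl
    intro i _
    exact card_units_pow_eq_one (d i)
  rw [← hk, ← Subgroup.index_ker, Subgroup.card_mul_index, Nat.card_fun, Nat.card_units,
    Nat.card_eq_fintype_card (α := F), Nat.card_eq_fintype_card (α := Fin n), Fintype.card_fin, hn]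

end torus

end Cfsg.Agent.Lib.Helper24
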