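import Cfsg.Agent.Lib.Helper24.Engine

set_option autoImplicit false
set_option linter.unusedSimpArgs false

namespace Cfsg.Agent.Lib.Helper24

open Cfsg.Lie

section generic

variable {m : Type*} [Fintype m] [DecidableEq m] {F : Type*} [Field F]

/-- lower unitriangular matrices w.r.t. an injective position function, as a subgroup of GL -/
def uniTri (b : m → ℕ) (hb : Function.Injective b) : Subgroup (GL m F) where
  carrier := {g | (∀ i j, b i < b j → (g : Matrix m m F) i j = 0) ∧ ∀ i, (g : Matrix m m F) i i = 1}
  one_mem' := by
    constructor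
    · intro i j hij
      have : i ≠ j := fun e => by subst e; exact lt_irrefl _ hij
      simp [Matrix.one_apply, this]
    · intro i; simp
  mul_mem' := by
    rintro g h ⟨hg1, hg2⟩ ⟨hh1, hh2⟩
    constructor
    · intro i j hij
      simp only [Units.val_mul, Matrix.mul_apply]
      apply Finset.sum_eq_zero
      intro k _
      by_cases hk : b i < b k
      · rw [hg1 i k hk, zero_mul]
      · have : b k < b j := lt_of_le_of_lt (not_lt.mp hk) hij
        rw [hh1 k j this, mul_zero]
    · intro i
      simp only [Units.val_mul, Matrix.mul_apply]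
      rw [Finset.sum_eq_single i]
      · rw [hg2, hh2, mul_one]
      · intro k _ hki
        have hne : b k ≠ b i := fun e => hki (hb e)
        rcases lt_or_gt_of_ne hne with h1 | h1
        · rw [hh1 k i h1, mul_zero]
        · rw [hg1 i k h1, zero_mul]
      · intro h; exact absurd (Finset.mem_univ i) h
  inv_mem' := by
    rintro g ⟨hg1, hg2⟩
    have hbt : Matrix.BlockTriangular (g : Matrix m m F) (fun i => OrderDual.toDual (b i)) := by
      intro i j hij
      exact hg1 i j (by simpa using hij)
    have : Invertible (g : Matrix m m F) := Units.invertible g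
    have hinv := Matrix.blockTriangular_inv_of_blockTriangular hbt
    have hcoe : ((g⁻¹ : GL m F) : Matrix m m F) = (g : Matrix m m F)⁻¹ := Matrix.coe_units_inv g
    have h1 : ∀ i j, b i < b j → ((g⁻¹ : GL m F) : Matrix m m F) i j = 0 := by
      intro i j hij
      rw [hcoe]
      exact hinv (by simpa using hij)
    refine ⟨h1, ?_⟩
    intro i
    have hmul : ((g * g⁻¹ : GL m F) : Matrix m m F) i i = 1 := by simp
    simp only [Units.val_mul, Matrix.mul_apply] at hmul
    rw [Finset.sum_eq_single i] at hmul
    · rw [hg2, one_mul] at hmul; exact hmul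
    · intro k _ hki
      have hne : b k ≠ b i := fun e => hki (hb e)
      rcases lt_or_gt_of_ne hne with h2 | h2
      · rw [h1 k i h2, mul_zero]
      · rw [hg1 i k h2, zero_mul]
    · intro h; exact absurd (Finset.mem_univ i) h

theorem mem_uniTri (b : m → ℕ) (hb : Function.Injective b) (g : GL m F) :
    g ∈ uniTri (F := F) b hb ↔
      (∀ i j, b i < b j → (g : Matrix m m F) i j = 0) ∧ ∀ i, (g : Matrix m m F) i i = 1 := Iff.rfl

theorem strictLow_pow (b : m → ℕ) (N : Matrix m m F) (hN : ∀ i j, b i ≤ b j → N i j = 0) (k : ℕ) :
    ∀ i j, b i < b j + k → (N ^ k) i j = 0 := by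
  induction k with
  | zero =>
    intro i j hij
    have : i ≠ j := fun e => by subst e; simp at hij
    simp [Matrix.one_apply, this]
  | succ k ih =>
    intro i j hij
    rw [pow_succ, Matrix.mul_apply]
    apply Finset.sum_eq_zero
    intro l _
    by_cases hl : b l ≤ b j
    · rw [hN l j hl, mul_zero]
    · rw [ih i l (by omega), zero_mul]

theorem sub_one_pow_eq_zero_of_mem_uniTri (b : m → ℕ) (hb : Function.Injective b) (n : ℕ)
    (hbn : ∀ i, b i < n) (g : GL m F) (hg : g ∈ uniTri (F := F) b hb) :
    ((g : Matrix m m F) - 1) ^ n = 0 := by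
  obtain ⟨h1, h2⟩ := hg
  have hN : ∀ i j, b i ≤ b j → ((g : Matrix m m F) - 1) i j = 0 := by
    intro i j hij
    rcases lt_or_eq_of_le hij with h | h
    · have : i ≠ j := fun e => by subst e; exact lt_irrefl _ h
      simp [Matrix.sub_apply, h1 i j h, Matrix.one_apply, this]
    · have := hb h; subst this
      simp [Matrix.sub_apply, h2 i]
  ext i j
  rw [strictLow_pow b _ hN n i j (by have := hbn i; omega)]
  rfl

end generic

section chev

variable {F : Type*} [Field F] (D : ChevalleyDatum)

def posN (D : ChevalleyDatum) (k : ℕ) : ℕ :=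
  if k < D.rank then D.nroots / 2 + k
  else if k - D.rank < D.nroots / 2 then k - D.rank else k

def posI (i : D.Idx) : ℕ := posN D (enc D i)

theorem posI_lt (i : D.Idx) : posI D i < D.rank + D.nroots := by
  have h := enc_lt D i
  unfold posI posN
  split_ifs <;> omega

theorem posI_injective : Function.Injective (posI D) := by
  intro i j h
  apply enc_injective D
  have hi := enc_lt D i
  have hj := enc_lt D j
  unfold posI posN at h
  split_ifs at h <;> omega

/-- table check: for every positive root `r`, `x_r(t) - 1` is strictly lower triangular -/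
def triOK (D : ChevalleyDatum) : Bool :=
  (List.range D.nroots).all fun r => !(decide (D.IsPosRoot r)) ||
    (suppList D r).all fun k => (colX D r Poly.x0 k).tail.all fun up => posN D k < posN D up.1

theorem colX_head (r : ℕ) (a : Poly) (k : ℕ) :
    colX D r a k = (k, Poly.one) :: (colX D r a k).tail := by
  unfold colX
  split_ifs <;> rfl

theorem colX_tail_of_triOK (h : triOK D = true) (r : ℕ) (hr : D.IsPosRoot r) (k : ℕ) :
    ∀ up ∈ (colX D r Poly.x0 k).tail, posN D k < posN D up.1 := by
  by_cases hk : k ∈ suppList D r
  · simp only [triOK, List.all_eq_true, List.mem_range, Bool.or_eq_true, Bool.not_eq_true',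
      decide_eq_false_iff_not, decide_eq_true_eq] at h
    rcases h r hr.1 with h1 | h1
    · exact absurd hr h1
    · exact h1 k hk
  · rw [colX_of_notin_supp D r _ k hk]
    simp

theorem x_mem_uniTri_of_triOK (h : triOK D = true) (r : ℕ) (hr : D.IsPosRoot r) (t : F)
    (g : GL D.Idx F) (hg : (g : Matrix D.Idx D.Idx F) = D.x F r t) :
    g ∈ uniTri (F := F) (posI D) (posI_injective D) := by
  have hx : D.x F r t = D.xMat F ⟨r, hr.1⟩ (Poly.x0.den t 1 1 1) := by
    unfold ChevalleyDatum.x
    rw [dif_pos hr.1]; simp
  have hent : ∀ i j, (g : Matrix D.Idx D.Idx F) i j =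
      (if enc D j = enc D i then 1 else 0) + denV D t 1 1 1 (colX D r Poly.x0 (enc D j)).tail i := by
    intro i j
    rw [hg, hx, xMat_eq_denV_colX]
    conv_lhs => rw [colX_head, denV_cons]
    simp
  have hzero : ∀ i j, posI D i ≤ posI D j → denV D t 1 1 1 (colX D r Poly.x0 (enc D j)).tail i = 0 := by
    intro i j hij
    simp only [denV]
    apply List.sum_eq_zero
    intro x hx
    simp only [List.mem_map] at hx
    obtain ⟨up, hup, rfl⟩ := hx
    have := colX_tail_of_triOK D h r hr (enc D j) up hup
    have hne : ¬ (up.1 = enc D i) := by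
      intro e
      rw [e] at this
      unfold posI at hij
      omega
    simp [hne]
  rw [mem_uniTri]
  constructor
  · intro i j hij
    rw [hent, hzero i j (le_of_lt hij)]
    have : ¬ (enc D j = enc D i) := by
      intro e
      have := enc_injective D e
      subst this
      exact lt_irrefl _ hij
    simp [this]
  · intro i
    rw [hent, hzero i i (le_refl _)]
    simp

theorem posUnipotent_le_uniTri (h : triOK D = true) :
    D.posUnipotent F ≤ uniTri (F := F) (posI D) (posI_injective D) := by
  unfold ChevalleyDatum.posUnipotent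
  rw [Subgroup.closure_le]
  rintro g ⟨r, t, hr, hg⟩
  exact x_mem_uniTri_of_triOK D h r hr t g hg

end chev

end Cfsg.Agent.Lib.Helper24
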