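import Cfsg.Agent.Lib.Helper24.Nil

set_option autoImplicit false
set_option linter.unusedSimpArgs false
set_option linter.unusedSectionVars false

namespace Cfsg.Agent.Lib.Helper24

section generic

variable {m : Type*} [Fintype m] [DecidableEq m] {F : Type*} [Field F]

/-- lower triangular invertible matrices w.r.t. an injective position function -/
def lowerTri (b : m → ℕ) : Subgroup (GL m F) where
  carrier := {g | ∀ i j, b i < b j → (g : Matrix m m F) i j = 0}
  one_mem' := by
    intro i j hij
    have : i ≠ j := fun e => by subst e; exact lt_irrefl _ hij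
    simp [Matrix.one_apply, this]
  mul_mem' := by
    intro g h hg hh i j hij
    simp only [Units.val_mul, Matrix.mul_apply]
    apply Finset.sum_eq_zero
    intro k _
    by_cases hk : b i < b k
    · rw [hg i k hk, zero_mul]
    · have : b k < b j := lt_of_le_of_lt (not_lt.mp hk) hij
      rw [hh k j this, mul_zero]
  inv_mem' := by
    intro g hg
    have hbt : Matrix.BlockTriangular (g : Matrix m m F) (fun i => OrderDual.toDual (b i)) := by
      intro i j hij
      exact hg i j (by simpa using hij)
    have : Invertible (g : Matrix m m F) := Units.invertible g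
    have hinv := Matrix.blockTriangular_inv_of_blockTriangular hbt
    have hcoe : ((g⁻¹ : GL m F) : Matrix m m F) = (g : Matrix m m F)⁻¹ := Matrix.coe_units_inv g
    intro i j hij
    show ((g⁻¹ : GL m F) : Matrix m m F) i j = 0
    rw [hcoe]
    exact hinv (by simpa using hij)

theorem mem_lowerTri (b : m → ℕ) (g : GL m F) :
    g ∈ lowerTri (F := F) b ↔ ∀ i j, b i < b j → (g : Matrix m m F) i j = 0 := Iff.rfl

theorem uniTri_le_lowerTri (b : m → ℕ) (hb : Function.Injective b) :
    uniTri (F := F) b hb ≤ lowerTri b := fun _ hg => hg.1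

/-- diagonal entries are multiplicative on lower triangular matrices -/
theorem lowerTri_diag_mul (b : m → ℕ) (hb : Function.Injective b) (g h : GL m F)
    (hg : g ∈ lowerTri (F := F) b) (hh : h ∈ lowerTri (F := F) b) (i : m) :
    ((g * h : GL m F) : Matrix m m F) i i = (g : Matrix m m F) i i * (h : Matrix m m F) i i := by
  simp only [Units.val_mul, Matrix.mul_apply]
  rw [Finset.sum_eq_single i]
  · intro k _ hki
    have hne : b k ≠ b i := fun e => hki (hb e)
    rcases lt_or_gt_of_ne hne with h1 | h1
    · rw [hh k i h1, mul_zero]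
    · rw [hg i k h1, zero_mul]
  · intro h; exact absurd (Finset.mem_univ i) h

/-- reversed position function -/
def revPos (b : m → ℕ) (n : ℕ) : m → ℕ := fun i => n - 1 - b i

theorem revPos_injective (b : m → ℕ) (hb : Function.Injective b) (n : ℕ) (hbn : ∀ i, b i < n) :
    Function.Injective (revPos b n) := by
  intro i j h
  apply hb
  have := hbn i
  have := hbn j
  simp only [revPos] at h
  omega

theorem revPos_lt (b : m → ℕ) (n : ℕ) (hbn : ∀ i, b i < n) (i j : m) :
    revPos b n i < revPos b n j ↔ b j < b i := by
  have := hbn i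
  have := hbn j
  simp only [revPos]
  omega

/-- a matrix which is lower unitriangular and upper triangular is the identity -/
theorem uniTri_inf_lowerTri_rev (b : m → ℕ) (hb : Function.Injective b) (n : ℕ) (hbn : ∀ i, b i < n) :
    uniTri (F := F) b hb ⊓ lowerTri (revPos b n) = ⊥ := by
  rw [eq_bot_iff]
  rintro g ⟨⟨h1, h2⟩, h3⟩
  rw [Subgroup.mem_bot]
  apply Units.ext
  ext i j
  rw [Units.val_one]
  by_cases hij : i = j
  · subst hij; simp [h2]
  · have hne : b i ≠ b j := fun e => hij (hb e)
    rw [Matrix.one_apply_ne hij]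
    rcases lt_or_gt_of_ne hne with h | h
    · exact h1 i j h
    · exact h3 i j ((revPos_lt b n hbn i j).mpr h)

theorem uniTri_rev_inf_lowerTri (b : m → ℕ) (hb : Function.Injective b) (n : ℕ) (hbn : ∀ i, b i < n) :
    uniTri (F := F) (revPos b n) (revPos_injective b hb n hbn) ⊓ lowerTri b = ⊥ := by
  rw [eq_bot_iff]
  rintro g ⟨⟨h1, h2⟩, h3⟩
  rw [Subgroup.mem_bot]
  apply Units.ext
  ext i j
  rw [Units.val_one]
  by_cases hij : i = j
  · subst hij; simp [h2]
  · have hne : b i ≠ b j := fun e => hij (hb e)
    rw [Matrix.one_apply_ne hij]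
    rcases lt_or_gt_of_ne hne with h | h
    · exact h3 i j h
    · exact h1 i j ((revPos_lt b n hbn i j).mpr h)

/-- invertible diagonal matrices -/
def diagSub : Subgroup (GL m F) where
  carrier := {g | ∀ i j, i ≠ j → (g : Matrix m m F) i j = 0}
  one_mem' := by
    intro i j hij
    simp [Matrix.one_apply, hij]
  mul_mem' := by
    intro g h hg hh i j hij
    simp only [Units.val_mul, Matrix.mul_apply]
    apply Finset.sum_eq_zero
    intro k _
    by_cases hk : i = k
    · subst hk; rw [hh i j hij, mul_zero]
    · rw [hg i k hk, zero_mul]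
  inv_mem' := by
    intro g hg i j hij
    show ((g⁻¹ : GL m F) : Matrix m m F) i j = 0
    -- g = diagonal d
    have hgd : (g : Matrix m m F) = Matrix.diagonal (fun i => (g : Matrix m m F) i i) := by
      ext a c
      by_cases hac : a = c
      · subst hac; simp
      · rw [hg a c hac, Matrix.diagonal_apply_ne _ hac]
    have hcoe : ((g⁻¹ : GL m F) : Matrix m m F) = (g : Matrix m m F)⁻¹ := Matrix.coe_units_inv g
    rw [hcoe, hgd, Matrix.inv_diagonal]
    exact Matrix.diagonal_apply_ne _ hij

theorem mem_diagSub (g : GL m F) :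
    g ∈ diagSub (m := m) (F := F) ↔ ∀ i j, i ≠ j → (g : Matrix m m F) i j = 0 := Iff.rfl

theorem diagSub_le_lowerTri (b : m → ℕ) : diagSub (m := m) (F := F) ≤ lowerTri b := by
  intro g hg i j hij
  exact hg i j (fun e => by subst e; exact lt_irrefl _ hij)

theorem diagSub_comm (g h : GL m F) (hg : g ∈ diagSub (m := m) (F := F))
    (hh : h ∈ diagSub (m := m) (F := F)) : g * h = h * g := by
  apply Units.ext
  have hgd : (g : Matrix m m F) = Matrix.diagonal (fun i => (g : Matrix m m F) i i) := by
    ext a c
    by_cases hac : a = c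
    · subst hac; simp
    · rw [hg a c hac, Matrix.diagonal_apply_ne _ hac]
  have hhd : (h : Matrix m m F) = Matrix.diagonal (fun i => (h : Matrix m m F) i i) := by
    ext a c
    by_cases hac : a = c
    · subst hac; simp
    · rw [hh a c hac, Matrix.diagonal_apply_ne _ hac]
  rw [Units.val_mul, Units.val_mul, hgd, hhd, Matrix.diagonal_mul_diagonal, Matrix.diagonal_mul_diagonal]
  congr 1
  funext i
  exact mul_comm _ _

end generic

end Cfsg.Agent.Lib.Helper24
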