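import Cfsg.Agent.Lib.Helper24.TwGen

set_option autoImplicit false
set_option linter.unusedSimpArgs false

namespace Cfsg.Agent.Lib.Helper24

open Cfsg.Lie

section twbn

variable {F : Type*} [Field F] {D : ChevalleyDatum} {tab : List ℕ} {orb : List (ℕ × ℕ × ℕ)}

/-- the image of `n_s(u)` under the twisting automorphism -/
theorem Tw.map_nGL (E : Env D F tab orb) (T : Tw D F E.hF) (s : ℕ) (hs : s < D.nroots) (u : F) :
    T.σ (E.hF.nGL s u) = E.hF.nGL (T.R s) ((T.η s : F) * T.f u) := by
  obtain ⟨_, hns, _, _, _⟩ := rootTableOK_spec D E.hR s hs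
  rw [E.hF.nGL_def, E.hF.nGL_def, map_mul, map_mul, T.hx s hs, T.hx _ hns, T.hRn s hs, T.hηn s hs]
  have e : (T.η s : F) * T.f (-u⁻¹) = -((T.η s : F) * T.f u)⁻¹ := by
    rw [_root_.map_neg, map_inv₀, mul_inv]
    rcases T.hη s hs with h | h <;> rw [h] <;> simp
  rw [e]

/-- the twisting automorphism maps `H` into itself -/
theorem Tw.map_diagonal (E : Env D F tab orb) (T : Tw D F E.hF) (h : GL D.Idx F)
    (hh : h ∈ D.diagonalSubgroup F) : T.σ h ∈ D.diagonalSubgroup F := by
  unfold ChevalleyDatum.diagonalSubgroup at hh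
  induction hh using Subgroup.closure_induction with
  | mem x hx =>
    obtain ⟨r, t, hr, ht, hxe⟩ := hx
    have e : x = E.hF.nGL r t * E.hF.nGL r (-1 : F) := by
      apply Units.ext
      rw [hxe, Units.val_mul]
      unfold Facts.nGL
      rw [E.hF.wordGL_val, E.hF.wordGL_val]
      simp [ChevalleyDatum.hMat, ChevalleyDatum.hWord, ChevalleyDatum.wordMat, List.map_append,
        List.prod_append]
    have hRr := T.hRlt r hr
    have hft : T.f t ≠ 0 := by
      intro h0
      apply ht
      have := congrArg T.f.symm h0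
      simpa using this
    rw [e, map_mul, T.map_nGL E r hr, T.map_nGL E r hr]
    rcases T.hη r hr with h1 | h1
    · rw [h1]
      have : ((1 : ℤ) : F) * T.f (-1) = -1 := by simp
      rw [this]
      have : ((1 : ℤ) : F) * T.f t = T.f t := by simp
      rw [this]
      exact E.hF.hGL_mem _ hRr _ hft
    · rw [h1]
      have e1 : ((-1 : ℤ) : F) * T.f (-1) = 1 := by simp
      have e2 : ((-1 : ℤ) : F) * T.f t = -T.f t := by simp
      rw [e1, e2]
      have h3 := E.hF.hGL_mem _ hRr (-T.f t) (neg_ne_zero.mpr hft)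
      have h4 := E.hF.nGL_sq_mem (F := F) _ hRr
      have : E.hF.nGL (T.R r) (-T.f t) * E.hF.nGL (T.R r) 1 =
          (E.hF.nGL (T.R r) (-T.f t) * E.hF.nGL (T.R r) (-1 : F)) *
            (E.hF.nGL (T.R r) (1 : F) * E.hF.nGL (T.R r) 1) := by
        rw [E.hF.nGL_neg_one_eq_inv]; group
      rw [this]
      exact Subgroup.mul_mem _ h3 h4
  | one => rw [map_one]; exact Subgroup.one_mem _
  | mul x y _ _ hx hy => rw [map_mul]; exact Subgroup.mul_mem _ hx hy
  | inv x _ hx => rw [map_inv]; exact Subgroup.inv_mem _ hx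

/-- the twisting automorphism maps `N` into itself -/
theorem Tw.map_monomial (E : Env D F tab orb) (T : Tw D F E.hF) (n : GL D.Idx F)
    (hn : n ∈ D.monomialSubgroup F) : T.σ n ∈ D.monomialSubgroup F := by
  have hle : D.monomialSubgroup F ≤ (D.monomialSubgroup F).comap T.σ.toMonoidHom := by
    conv_lhs => unfold ChevalleyDatum.monomialSubgroup
    apply sup_le
    · intro h hh
      exact diagonal_le_monomial D F (T.map_diagonal E h hh)
    · rw [Subgroup.closure_le]
      rintro g ⟨r, hr, hg⟩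
      have e : g = E.hF.nGL r (1 : F) := by
        apply Units.ext
        rw [hg]
        unfold Facts.nGL
        rw [E.hF.wordGL_val]
        rfl
      show T.σ g ∈ D.monomialSubgroup F
      rw [e, T.map_nGL E r hr]
      apply E.hF.nGL_mem_monomial _ (T.hRlt r hr)
      rcases T.hη r hr with h1 | h1 <;> rw [h1] <;> simp
  exact hle hn

/-- the twisting automorphism maps `B` into itself -/
theorem Tw.map_borel (E : Env D F tab orb) (T : Tw D F E.hF) (b : GL D.Idx F)
    (hb : b ∈ D.borelSubgroup F) : T.σ b ∈ D.borelSubgroup F := by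
  have hle : D.borelSubgroup F ≤ (D.borelSubgroup F).comap T.σ.toMonoidHom := by
    conv_lhs => unfold ChevalleyDatum.borelSubgroup
    apply sup_le
    · intro u hu
      exact pos_le_borel D F (T.map_pos u hu)
    · intro h hh
      exact diagonal_le_borel D F (T.map_diagonal E h hh)
  exact hle hb

/-- the twisting automorphism and the sets of the roots made negative -/
theorem Tw.negSet_map (E : Env D F tab orb) (T : Tw D F E.hF) (n : GL D.Idx F) (s : ℕ)
    (hs : s < D.nroots) (h : NegSet D F n s) : NegSet D F (T.σ n) (T.R s) := by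
  rintro y ⟨z, hz, rfl⟩
  obtain ⟨t, rfl⟩ := E.hF.exists_of_mem_rootSubgroup _ z hz
  simp only [MulEquiv.coe_toMonoidHom, MulAut.conj_apply]
  rw [T.xGL_eq_map s hs, ← map_mul, ← map_inv, ← map_mul]
  apply T.map_neg
  apply h
  exact ⟨E.hF.xGL s (T.f.symm ((T.η s : F) * t)), Subgroup.subset_closure ⟨_, E.hF.xGL_val _ _⟩, by
    simp only [MulEquiv.coe_toMonoidHom, MulAut.conj_apply]⟩

theorem Tw.negSet_symm (E : Env D F tab orb) (T : Tw D F E.hF) (n : GL D.Idx F) (s : ℕ)
    (hs : s < D.nroots) (h : NegSet D F (T.σ n) (T.R s)) : NegSet D F n s := by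
  rintro y ⟨z, hz, rfl⟩
  obtain ⟨t, rfl⟩ := E.hF.exists_of_mem_rootSubgroup _ z hz
  simp only [MulEquiv.coe_toMonoidHom, MulAut.conj_apply]
  have h1 : T.σ n * E.hF.xGL (T.R s) ((T.η s : F) * T.f t) * (T.σ n)⁻¹ ∈ D.negUnipotent F := by
    apply h
    exact ⟨E.hF.xGL (T.R s) ((T.η s : F) * T.f t), Subgroup.subset_closure ⟨_, E.hF.xGL_val _ _⟩, by
      simp only [MulEquiv.coe_toMonoidHom, MulAut.conj_apply]⟩
  rw [← T.hx s hs, ← map_inv, ← map_mul, ← map_mul] at h1
  have h2 := T.symm_neg _ h1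
  rwa [MulEquiv.symm_apply_apply] at h2

/-- for a fixed `n`, the set of the roots made negative is stable -/
theorem Tw.negSet_iff (E : Env D F tab orb) (T : Tw D F E.hF) (n : GL D.Idx F) (hn : T.σ n = n) (s : ℕ)
    (hs : s < D.nroots) : NegSet D F n (T.R s) ↔ NegSet D F n s := by
  constructor
  · intro h
    apply T.negSet_symm E n s hs
    rw [hn]; exact h
  · intro h
    have := T.negSet_map E n s hs h
    rwa [hn] at this

/-- the components of the normal form of a fixed element are fixed -/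
theorem Tw.nf_fix (E : Env D F tab orb) (T : Tw D F E.hF) (b n u : GL D.Idx F)
    (hb : b ∈ D.borelSubgroup F) (hn : n ∈ D.monomialSubgroup F) (hnfix : T.σ n = n)
    (hu : u ∈ rootClosure D F (fun r => D.IsPosRoot r ∧ NegSet D F n r))
    (hg : T.σ (b * n * u) = b * n * u) : T.σ b = b ∧ T.σ u = u := by
  rw [map_mul, map_mul, hnfix] at hg
  have hu' : T.σ u ∈ rootClosure D F (fun r => D.IsPosRoot r ∧ NegSet D F n r) := by
    apply T.map_rootClosure _ _ _ u hu
    rintro s hs ⟨h1, h2⟩
    exact ⟨(T.hRpos s hs).mpr h1, (T.negSet_iff E n hnfix s hs).mpr h2⟩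
  have := (E.hF.normal_form_unique E.P E.hB E.hN' E.hBN _ _ n n _ _ (T.map_borel E b hb) hb hn hn
    hu' hu hg).2 rfl
  exact this

end twbn

end Cfsg.Agent.Lib.Helper24
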