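import Cfsg.Agent.Lib.Helper24.TwBN

set_option autoImplicit false
set_option linter.unusedSimpArgs false

namespace Cfsg.Agent.Lib.Helper24

open Cfsg.Lie

section twcell

variable {F : Type*} [Field F] {D : ChevalleyDatum} {tab : List ℕ} {orb : List (ℕ × ℕ × ℕ)}

/-- two words with the same action on the roots give the same element of `N` modulo `H` -/
theorem Env.nW_inv_mul_mem_diag (E : Env D F tab orb) (w w' : List ℕ) (hw : ∀ i ∈ w, i < D.rank)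
    (hw' : ∀ i ∈ w', i < D.rank) (h : ∀ s < D.nroots, rhoW D w s = rhoW D w' s) :
    (E.hF.nW (F := F) w')⁻¹ * E.hF.nW w ∈ D.diagonalSubgroup F := by
  apply E.hF.mem_diagonal_of_trivial_action E.hN E.hR E.hNe E.hS E.P E.hB E.hPS E.hBN
  · exact Subgroup.mul_mem _ (Subgroup.inv_mem _ (E.nW_mem w' hw')) (E.nW_mem _ hw)
  · intro s hs
    obtain ⟨η₁, hη₁, e₁⟩ := E.hF.nW_conj (F := F) E.hN w hw s hs
    obtain ⟨η₂, hη₂, e₂⟩ := E.hF.nW_conj (F := F) E.hN w' hw' s hs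
    refine ⟨(η₂ : F) * (η₁ : F), ?_, fun t => ?_⟩
    · rcases hη₁ with rfl | rfl <;> rcases hη₂ with rfl | rfl <;> simp
    · have e3 := e₂ ((η₂ : F) * (η₁ : F) * t)
      have hsq : (η₂ : F) * ((η₂ : F) * (η₁ : F) * t) = (η₁ : F) * t := by
        rcases hη₂ with rfl | rfl <;> simp
      rw [hsq, ← h s hs, ← e₁ t] at e3
      calc (E.hF.nW w')⁻¹ * E.hF.nW w * E.hF.xGL s t * ((E.hF.nW w')⁻¹ * E.hF.nW w)⁻¹
          = (E.hF.nW w')⁻¹ * (E.hF.nW w * E.hF.xGL s t * (E.hF.nW w)⁻¹) *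
              E.hF.nW w' := by group
        _ = _ := by rw [← e3]; group

/-- two words which give the same element of `N` modulo `H` have the same action on the roots -/
theorem Env.rhoW_eq_of_mem_diag (E : Env D F tab orb) (w w' : List ℕ) (hw : ∀ i ∈ w, i < D.rank)
    (hw' : ∀ i ∈ w', i < D.rank)
    (h : (E.hF.nW (F := F) w')⁻¹ * E.hF.nW w ∈ D.diagonalSubgroup F) (s : ℕ) (hs : s < D.nroots) :
    rhoW D w s = rhoW D w' s := by
  by_contra hne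
  obtain ⟨η₁, hη₁, e₁⟩ := E.hF.nW_conj (F := F) E.hN w hw s hs
  obtain ⟨η₂, hη₂, e₂⟩ := E.hF.nW_conj (F := F) E.hN w' hw' s hs
  obtain ⟨c, hc, ec⟩ := E.hF.diag_conj _ h s hs
  have e : E.hF.xGL (rhoW D w s) ((η₁ : F) * 1) = E.hF.xGL (rhoW D w' s) ((η₂ : F) * (c * 1)) := by
    rw [← e₁, ← e₂, ← ec]
    group
  have := E.hF.xGL_eq_xGL E.hR E.hNe E.hU.unit _ _ (E.hN.rhoW_lt w hw s hs) (E.hN.rhoW_lt w' hw' s hs)
    hne _ _ e
  rcases hη₁ with rfl | rfl <;> simp at this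

/-- the double cosets met by a double coset times a word in the fundamental reflections -/
theorem Env.dc_mul_nW (E : Env D F tab orb) (l : List ℕ) (hl : ∀ i ∈ l, i < D.rank) :
    ∀ n ∈ D.monomialSubgroup F, ∀ b₁ ∈ D.borelSubgroup F, ∀ b₂ ∈ D.borelSubgroup F,
      ∃ S : List ℕ, S.Sublist l ∧ ∃ b₁' ∈ D.borelSubgroup F, ∃ b₂' ∈ D.borelSubgroup F,
        b₁ * n * b₂ * E.hF.nW l = b₁' * (n * E.hF.nW S) * b₂' := by
  induction l with
  | nil =>
    intro n _ b₁ hb₁ b₂ hb₂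
    refine ⟨[], List.Sublist.refl _, b₁, hb₁, b₂, hb₂, ?_⟩
    simp [Facts.nW]
  | cons i l ih =>
    intro n hn b₁ hb₁ b₂ hb₂
    have hi : i < D.rank := hl i List.mem_cons_self
    have hl' : ∀ j ∈ l, j < D.rank := fun j hj => hl j (List.mem_cons_of_mem _ hj)
    have hcons : ∀ L : List ℕ, E.hF.nW (F := F) (i :: L) = E.hF.nS i * E.hF.nW L := by
      intro L; simp [Facts.nW]
    rcases E.hF.bn_axiom_right E.hN E.hH E.hR i hi (E.hRefl i hi) (E.hUp i hi).1 (E.hUp i hi).2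
      n hn b₂ hb₂ with ⟨c₁, hc₁, c₂, hc₂, e⟩ | ⟨c₁, hc₁, c₂, hc₂, e⟩
    · have hni : n * E.hF.nS i ∈ D.monomialSubgroup F :=
        Subgroup.mul_mem _ hn (E.hF.nS_mem_monomial i (Facts.simple_lt E.hH i hi))
      obtain ⟨S, hS, d₁, hd₁, d₂, hd₂, e2⟩ := ih hl' _ hni (b₁ * c₁) (Subgroup.mul_mem _ hb₁ hc₁) c₂ hc₂
      refine ⟨i :: S, List.Sublist.cons_cons _ hS, d₁, hd₁, d₂, hd₂, ?_⟩
      rw [hcons, hcons]
      calc b₁ * n * b₂ * (E.hF.nS i * E.hF.nW l) = b₁ * (n * b₂ * E.hF.nS i) * E.hF.nW l := by group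
        _ = b₁ * c₁ * (n * E.hF.nS i) * c₂ * E.hF.nW l := by rw [e]; group
        _ = d₁ * (n * E.hF.nS i * E.hF.nW S) * d₂ := e2
        _ = _ := by group
    · obtain ⟨S, hS, d₁, hd₁, d₂, hd₂, e2⟩ := ih hl' _ hn (b₁ * c₁) (Subgroup.mul_mem _ hb₁ hc₁) c₂ hc₂
      refine ⟨S, List.Sublist.cons _ hS, d₁, hd₁, d₂, hd₂, ?_⟩
      rw [hcons]
      calc b₁ * n * b₂ * (E.hF.nS i * E.hF.nW l) = b₁ * (n * b₂ * E.hF.nS i) * E.hF.nW l := by group
        _ = b₁ * c₁ * n * c₂ * E.hF.nW l := by rw [e]; group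
        _ = _ := e2

/-- the image of a word in the fundamental reflections under the twisting automorphism -/
theorem Tw.map_nW (E : Env D F tab orb) (T : Tw D F E.hF) (ρ : ℕ → ℕ)
    (hρ : ∀ i < D.rank, ρ i < D.rank ∧ T.R (D.simple i) = D.simple (ρ i) ∧ T.η (D.simple i) = 1)
    (S : List ℕ) (hS : ∀ i ∈ S, i < D.rank) : T.σ (E.hF.nW (F := F) S) = E.hF.nW (S.map ρ) := by
  induction S with
  | nil => simp [Facts.nW]
  | cons i S ih =>
    have hi := hS i List.mem_cons_self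
    have hcons : ∀ (j : ℕ) (L : List ℕ), E.hF.nW (F := F) (j :: L) = E.hF.nS j * E.hF.nW L := by
      intro j L; simp [Facts.nW]
    rw [List.map_cons, hcons, hcons, map_mul, ih (fun j hj => hS j (List.mem_cons_of_mem _ hj))]
    congr 1
    unfold Facts.nS
    obtain ⟨_, h2, h3⟩ := hρ i hi
    rw [T.map_nGL E _ (Facts.simple_lt E.hH i hi), h2, h3]
    simp

/-- the sublists of the word of a class which are compatible with the twisting -/
def sublOK (D : ChevalleyDatum) (ρ : ℕ → ℕ) (l : List ℕ) : Bool :=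
  l.sublists.all fun S => decide (S = []) || decide (S = l) ||
    (List.range D.nroots).any fun s => !Nat.beq (rhoW D S s) (rhoW D (S.map ρ) s)

/-- the double coset axiom in the group of the fixed points -/
theorem Tw.dc_mul_class (E : Env D F tab orb) (T : Tw D F E.hF) (ρ : ℕ → ℕ)
    (hρ : ∀ i < D.rank, ρ i < D.rank ∧ T.R (D.simple i) = D.simple (ρ i) ∧ T.η (D.simple i) = 1)
    (l : List ℕ) (hl : ∀ i ∈ l, i < D.rank) (hsub : sublOK D ρ l = true) (hlfix : T.σ (E.hF.nW l) = E.hF.nW l)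
    (n : GL D.Idx F) (hn : n ∈ D.monomialSubgroup F) (hnfix : T.σ n = n)
    (b₁ b₂ : GL D.Idx F) (hb₁ : b₁ ∈ D.borelSubgroup F) (hb₂ : b₂ ∈ D.borelSubgroup F)
    (hfix : T.σ (b₁ * n * b₂) = b₁ * n * b₂) :
    (∃ b₁' ∈ D.borelSubgroup F, ∃ b₂' ∈ D.borelSubgroup F,
      b₁ * n * b₂ * E.hF.nW l = b₁' * n * b₂') ∨
    (∃ b₁' ∈ D.borelSubgroup F, ∃ b₂' ∈ D.borelSubgroup F,
      b₁ * n * b₂ * E.hF.nW l = b₁' * (n * E.hF.nW l) * b₂') := by
  obtain ⟨S, hS, d₁, hd₁, d₂, hd₂, e⟩ := E.dc_mul_nW l hl n hn b₁ hb₁ b₂ hb₂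
  have hSlt : ∀ i ∈ S, i < D.rank := fun i hi => hl i (hS.subset hi)
  have hSρ : ∀ i ∈ S.map ρ, i < D.rank := by
    intro i hi
    obtain ⟨j, hj, rfl⟩ := List.mem_map.mp hi
    exact (hρ j (hSlt j hj)).1
  have hfix2 : T.σ (d₁ * (n * E.hF.nW S) * d₂) = d₁ * (n * E.hF.nW S) * d₂ := by
    rw [← e, map_mul, hfix, hlfix]
  have hnS : n * E.hF.nW S ∈ D.monomialSubgroup F := Subgroup.mul_mem _ hn (E.nW_mem S hSlt)
  rw [map_mul, map_mul] at hfix2
  have hu := E.hF.bruhat_unique E.P E.hB E.hN' E.hBN _ _ hnS (T.map_monomial E _ hnS) _ _ _ _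
    hd₁ hd₂ (T.map_borel E _ hd₁) (T.map_borel E _ hd₂) hfix2.symm
  rw [map_mul, hnfix, T.map_nW E ρ hρ S hSlt] at hu
  have hu2 : (E.hF.nW (F := F) S)⁻¹ * E.hF.nW (S.map ρ) ∈ D.diagonalSubgroup F := by
    have : (n * E.hF.nW S)⁻¹ * (n * E.hF.nW (S.map ρ)) = (E.hF.nW (F := F) S)⁻¹ * E.hF.nW (S.map ρ) := by
      group
    rwa [this] at hu
  have hrho := E.rhoW_eq_of_mem_diag _ _ hSρ hSlt hu2
  have hmem : S ∈ l.sublists := List.mem_sublists.mpr hS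
  have hchk := List.all_eq_true.mp hsub S hmem
  simp only [Bool.or_eq_true, decide_eq_true_eq, List.any_eq_true, List.mem_range,
    Bool.not_eq_true', nbeq_false] at hchk
  rcases hchk with (h0 | h1) | ⟨s, hs, hne⟩
  · left
    refine ⟨d₁, hd₁, d₂, hd₂, ?_⟩
    rw [e, h0]
    simp [Facts.nW]
  · right
    exact ⟨d₁, hd₁, d₂, hd₂, by rw [e, h1]⟩
  · exact absurd (hrho s hs).symm hne

end twcell

end Cfsg.Agent.Lib.Helper24
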