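import Cfsg.Agent.Lib.Helper24.TorusCard
import Mathlib.FieldTheory.Perfect
import Mathlib.FieldTheory.Finite.Basic

set_option autoImplicit false

namespace Cfsg.Agent.Lib.Helper24

section twfrob

variable {K : Type*} [Field K] [Fintype K]

/-- the `q`-th power map of a finite field of order a power of the prime power `q` -/
theorem exists_frobQ {q m : ℕ} (hq : IsPrimePow q) (hK : Fintype.card K = q ^ m) :
    ∃ f : K ≃+* K, ∀ t : K, f t = t ^ q := by
  obtain ⟨p, a, hp, ha, rfl⟩ := (isPrimePow_nat_iff q).mp hq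
  obtain ⟨n, hp', hn⟩ := FiniteField.card K (ringChar K)
  have hdvd : ringChar K ∣ p ^ (a * m) := by
    rw [pow_mul, ← hK, hn]
    exact dvd_pow_self _ n.ne_zero
  have heq : ringChar K = p := (Nat.prime_dvd_prime_iff_eq hp' hp).mp (hp'.dvd_of_dvd_pow hdvd)
  have : CharP K p := heq ▸ ringChar.charP K
  have : Fact p.Prime := ⟨hp⟩
  have : ExpChar K p := ExpChar.prime hp
  exact ⟨iterateFrobeniusEquiv K p a, fun t => iterateFrobeniusEquiv_def K p a t⟩

theorem pow_card_pow_eq {q m : ℕ} (hK : Fintype.card K = q ^ m) (t : K) : t ^ (q ^ m) = t := by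
  rw [← hK]; exact FiniteField.pow_card t

/-- the number of the elements fixed by the `q`-th power map -/
theorem ncard_pow_eq_self {q m : ℕ} (hq : 1 < q) (hm : 0 < m) (hK : Fintype.card K = q ^ m) :
    {t : K | t ^ q = t}.ncard = q := by
  have h1 : {t : K | t ^ q = t} = insert 0 (Units.val '' {x : Kˣ | x ^ (q - 1) = 1}) := by
    ext t
    simp only [Set.mem_ofPred_eq, Set.mem_insert_iff, Set.mem_image]
    constructor
    · intro ht
      by_cases h0 : t = 0
      · left; exact h0
      · right
        refine ⟨Units.mk0 t h0, ?_, rfl⟩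
        apply Units.ext
        rw [Units.val_pow_eq_pow_val, Units.val_mk0, Units.val_one]
        have e : t ^ (q - 1) * t = 1 * t := by
          rw [← pow_succ, one_mul]
          have : q - 1 + 1 = q := by omega
          rw [this, ht]
        exact mul_right_cancel₀ h0 e
    · rintro (rfl | ⟨x, hx, rfl⟩)
      · exact zero_pow (by omega)
      · have : q = q - 1 + 1 := by omega
        rw [this, pow_succ, ← Units.val_pow_eq_pow_val, hx, Units.val_one, one_mul]
  rw [h1, Set.ncard_insert_of_notMem, Set.ncard_image_of_injective _ Units.val_injective]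
  · have h2 := card_units_pow_eq_one (F := K) (q - 1)
    rw [hK] at h2
    have h3 : Nat.gcd (q ^ m - 1) (q - 1) = q - 1 := by
      apply Nat.gcd_eq_right
      have := Nat.sub_dvd_pow_sub_pow q 1 m
      rwa [one_pow] at this
    rw [h3] at h2
    have h4 : {x : Kˣ | x ^ (q - 1) = 1}.ncard = q - 1 := by
      have : {x : Kˣ | x ^ (q - 1) = 1}.ncard = Nat.card {x : Kˣ // x ^ (q - 1) = 1} := rfl
      rw [this, h2]
    rw [h4]; omega
  · rintro ⟨x, _, hx⟩
    exact x.ne_zero hx

end twfrob

end Cfsg.Agent.Lib.Helper24
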