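import Cfsg.Agent.Lib.Helper24.TwInst
import Cfsg.Agent.Lib.Helper24.TwFrob
import Cfsg.Agent.Lib.Helper24.CellsF

set_option autoImplicit false
set_option maxRecDepth 100000

namespace Cfsg.Agent.Lib.Helper24

open Cfsg.Lie

/-- the verified facts on the Chevalley group of type `D4` -/
noncomputable def envD4 (F : Type*) [Field F] : Env chevD4 F nTabD4 orbTabD4 :=
  Classical.choice (env_of_facts (F := F) chevD4 (by simp) nTabD4 orbTabD4 nfacts_D4 hnfacts_D4 cfacts_D4)

theorem graphPermInv_D4a : permInvOK chevD4.nroots graphRinv_D4a graphR_D4a = true := by decide +kernel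

theorem twPosPerm_D4 : posPermOK chevD4.nroots graphR_D4a = true := by decide +kernel

theorem twNegCompat_D4 : twNegCompatOK chevD4 graphP_D4a graphR_D4a = true := by decide +kernel

/-- the twisting automorphism of type `D4` -/
noncomputable def twD4 (F : Type*) [Field F] (f : F ≃+* F) : Tw chevD4 F (envD4 F).hF :=
  Tw.ofTables (envD4 F) graphP_D4a graphPinv_D4a graphR_D4a graphRinv_D4a graphInv_D4a graphConj_D4a
    graphPerm_D4a graphPermInv_D4a twPosPerm_D4 twNegCompat_D4 f

def twHd_D4 : List (ℕ × ℕ) := [(14, 1), (18, 3), (19, 3), (21, 3), (22, 1), (23, 1)]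

def twLc_D4 : List ℕ := [14, 18, 13, 12, 19, 16, 15, 21, 17, 20, 22, 23]

def twLam_D4 : List ℤ := [3, 5, 3, 3]

def twRf_D4 : ℕ → ℕ := fun s => graphR_D4a.getD s 0

def twEf_D4 : ℕ → ℤ := fun s => etaOf (mcolP graphP_D4a (chevD4.rank + chevD4.nroots) (chevD4.rank + s))

theorem twT1_D4 : twLc_D4 = twHd_D4.flatMap (fun p => orbitL twRf_D4 p.2 p.1) := by decide +kernel

theorem twT2_D4 : twHd_D4.all (fun p => Nat.ble (chevD4.nroots / 2) p.1 && Nat.blt p.1 chevD4.nroots &&
    Nat.blt 0 p.2) = true := by decide +kernel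

theorem twT3_D4 : twHd_D4.all (fun p => Nat.beq (twRf_D4^[p.2] p.1) p.1) = true := by decide +kernel

theorem twT4_D4 : twLc_D4.Nodup := by decide +kernel

theorem twT5_D4 : allFrom (fun r => twLc_D4.contains r) (chevD4.nroots / 2)
    (chevD4.nroots - chevD4.nroots / 2) = true := by decide +kernel

theorem twT6_D4 : goodListOK chevD4 twLc_D4 = true := by decide +kernel

theorem twT7_D4 : gradeSortedOK chevD4 twLam_D4 twLc_D4 = true := by decide +kernel

theorem twT8_D4 : allFrom (fun r => decide (0 < gradeE chevD4 twLam_D4 (chevD4.rank + r)))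
    (chevD4.nroots / 2) (chevD4.nroots - chevD4.nroots / 2) = true := by decide +kernel

theorem twT9_D4 : allBelow (fun s => decide (gradeE chevD4 twLam_D4 (chevD4.rank + twRf_D4 s) =
    gradeE chevD4 twLam_D4 (chevD4.rank + s))) chevD4.nroots = true := by decide +kernel

theorem twT10_D4 : twHd_D4.all (fun p => (List.range p.2).all fun j => Nat.beq j 0 ||
    ((commTermsQ chevD4 p.1 (twRf_D4^[j] p.1)).isEmpty && !(Nat.beq (twRf_D4^[j] p.1) p.1))) = true := by
  decide +kernel

theorem twU_D4 (F : Type*) [Field F] (f : F ≃+* F) :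
    TwU (envD4 F) (twD4 F f) twHd_D4 twLc_D4 twLam_D4 :=
  TwU.ofTables (envD4 F) (twD4 F f) twHd_D4 twLc_D4 twLam_D4 twT1_D4 twT2_D4 twT3_D4 twT4_D4 twT5_D4
    twT6_D4 twT7_D4 twT8_D4 twT9_D4 twT10_D4

theorem twT11_D4 : twHd_D4.all (fun p => (Nat.beq p.2 1 && decide (twEf_D4 p.1 = 1)) ||
    (Nat.beq p.2 3 && decide (twEf_D4 p.1 * twEf_D4 (twRf_D4 p.1) *
      twEf_D4 (twRf_D4 (twRf_D4 p.1)) = 1))) = true := by decide +kernel

theorem twPar_D4 {F : Type*} [Field F] [Fintype F] (f : F ≃+* F) {q : ℕ} (hq : 1 < q)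
    (hK : Fintype.card F = q ^ 3) (hf : ∀ t, f t = t ^ q) (p : ℕ × ℕ) (hp : p ∈ twHd_D4) :
    {t : F | ((twD4 F f).step^[p.2] (p.1, t)).2 = t}.ncard = q ^ p.2 := by
  have h := List.all_eq_true.mp twT11_D4 p hp
  simp only [Bool.or_eq_true, Bool.and_eq_true, nbeq_true, decide_eq_true_eq] at h
  rcases h with ⟨h1, h2⟩ | ⟨h1, h2⟩
  · rw [h1, (twD4 F f).par1 p.1 h2, pow_one]
    have : {t : F | (twD4 F f).f t = t} = {t : F | t ^ q = t} := by
      ext t
      show f t = t ↔ t ^ q = t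
      rw [hf]
    rw [this]
    exact ncard_pow_eq_self hq (by norm_num) hK
  · rw [h1, (twD4 F f).par3 p.1 h2 (fun t => by
      show f (f (f t)) = t
      rw [hf, hf, hf, ← pow_mul, ← pow_mul]
      have : q * (q * q) = q ^ 3 := by ring
      rw [this]; exact pow_card_pow_eq hK t), Set.ncard_univ,
      Nat.card_eq_fintype_card, hK]

end Cfsg.Agent.Lib.Helper24
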