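import Cfsg.Agent.Lib.Helper24.TwGen
import Cfsg.Agent.Lib.Helper24.TwTab_D4

set_option autoImplicit false
set_option maxRecDepth 100000

namespace Cfsg.Agent.Lib.Helper24

open Cfsg.Lie

def twFd_D4 : List (ℕ × ℕ × List ℕ) := [(14, 1, [1]), (18, 3, [0, 2, 3])]

def twCw_D4 : List (List ℕ × ℕ) := [([], 0), ([], 1), ([0], 1), ([0, 1], 1), ([1], 0), ([1, 0], 0)]

theorem twG1_D4 : fundOK chevD4 twRf_D4 ((twFd_D4.map fun x => (x.1, x.2.1)) ++
    twFd_D4.map fun x => (chevD4.neg x.1, x.2.1)) = true := by decide +kernel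

theorem twG2_D4 : twFd_D4.all (fun x => decide (x.2.2.map chevD4.simple = orbitL twRf_D4 x.2.1 x.1) &&
    x.2.2.all (fun i => Nat.blt i chevD4.rank)) = true := by decide +kernel

theorem twG3_D4 : twFd_D4.all (fun x => (List.range x.2.1).all fun j =>
    decide (twEf_D4 (twRf_D4^[j] x.1) = 1)) = true := by decide +kernel

theorem twG4_D4 : twFd_D4.all (fun x => crossOK chevD4 (orbitL twRf_D4 x.2.1 x.1)) = true := by
  decide +kernel

theorem twG_D4 (F : Type*) [Field F] (f : F ≃+* F) : TwG (envD4 F) (twD4 F f) twFd_D4 where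
  fund := twG1_D4
  jx := by
    intro x hx
    have := List.all_eq_true.mp twG2_D4 x hx
    simp only [Bool.and_eq_true, decide_eq_true_eq, List.all_eq_true, Nat.blt_eq] at this
    exact this
  eta1 := by
    intro x hx j hj
    have := List.all_eq_true.mp (List.all_eq_true.mp twG3_D4 x hx) j (List.mem_range.mpr hj)
    exact of_decide_eq_true this
  cross := fun x hx => List.all_eq_true.mp twG4_D4 x hx

theorem twC_D4 : conjClsOK chevD4 twRf_D4 twFd_D4 twHd_D4 twCw_D4 = true := by decide +kernel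

theorem twO_D4 : fundOrbOK chevD4 twRf_D4 twFd_D4 = true := by decide +kernel

/-- the fixed points of `U` lie in the twisted group -/
theorem twFixLe_D4 (F : Type*) [Field F] (f : F ≃+* F) :
    chevD4.posUnipotent F ⊓ (twD4 F f).Fx ≤ (twD4 F f).G1 (fundOf chevD4 twFd_D4) :=
  (twG_D4 F f).fix_le_G1 (twU_D4 F f) twCw_D4 twC_D4 twO_D4

theorem twLeFx_D4 (F : Type*) [Field F] (f : F ≃+* F) :
    (twD4 F f).G1 (fundOf chevD4 twFd_D4) ≤ (twD4 F f).Fx :=
  Tw.G1_le_Fx (envD4 F) (twD4 F f) _ twG1_D4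

end Cfsg.Agent.Lib.Helper24
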