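import Cfsg.Agent.Lib.Helper24.TwFinal
import Cfsg.Agent.Lib.Helper24.TwGenTab_D4

set_option autoImplicit false
set_option maxRecDepth 100000

namespace Cfsg.Agent.Lib.Helper24

open Cfsg.Lie

def twWSJ_D4 : List ℕ := [0x161715141213110d0c09100f08070e0b0a06040503020001, 0x170e0f101105131415160a0b0c0d01020304120607080900]
def twWSs_D4 : List ℕ := [18, 14, 13, 12]
def twWPmB_D4 : ℕ := 0x102030405060708090a0b0c0d0e0f1011121314151617010002030504060a0b0e07080f10090c0d11131214151716000908070612040302010d0c0b0a161514130511100f0e17010e0b0a061305030200100f08071715141204110d0c0916090008071206040d0c1603021514010b0a131105100f170e0e010b0a130605100f17030215140008071211040d0c160909160c0d04111207080014150203170f100506130a0b010e0e170f100511130a0b0114150203160c0d0406120708000916090c0d11041214151707080f100002030513060a0b0e01170e0f101105131415160a0b0c0d01020304120607080900161715141213110d0c09100f08070e0b0a0604050302000117161514131211100f0e0d0c0b0a09080706050403020100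
def twWParB_D4 : ℕ := 0x910081007000600051004100300020001100010000
def twWEcB_D4 : ℕ := 0x9000a0008000b000b0007000a00060005000900040008000700030006000200010005000000040003000000020001
def twWEB_D4 : ℕ := 0x1309100f000100001300100f00080000120e0d0c0000000012010d0c00090000110114150004000011001415000500000617030200060000061603020007000005160a0b0002000005090a0b000b00000417070800030000040e0708000a
def twWInvB_D4 : ℕ := 0x200000008000a000400050006000700010003000b0009
def twWCn_D4 : List ℕ := [0, 1, 3, 4, 4, 5, 7, 8, 8, 9, 11, 12]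
def twWPf_D4 : ℕ → ℕ := blk 192 twWPmB_D4
def twWParf_D4 : ℕ → ℕ := blk 16 twWParB_D4
def twWEcf_D4 : ℕ → ℕ := blk 16 twWEcB_D4
def twWEf_D4 : ℕ → ℕ := blk 64 twWEB_D4
def twWInvf_D4 : ℕ → ℕ := blk 16 twWInvB_D4
def twWPar_D4 : List ℕ := (List.range (twWCn_D4.length - 1)).map twWParf_D4
def twRho_D4 : ℕ → ℕ := fun i => ([2, 1, 3, 0] : List ℕ).getD i 0

theorem twWN_D4 : chevD4.nroots = 24 ∧ twFd_D4.length = 2 ∧ twWCn_D4.length = 12 := by
  refine ⟨by decide +kernel, by decide +kernel, by decide +kernel⟩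

theorem twW1_D4 : twGenOK chevD4 twFd_D4 twWSJ_D4 = true := by decide +kernel
theorem twW2_D4 : twTreeOKf 24 2 12 twWSJ_D4 twWPf_D4 twWParf_D4 = true := by decide +kernel
theorem twW3_D4 : twEdgeOKf 24 2 12 twWSJ_D4 twWPf_D4 twWEcf_D4 = true := by decide +kernel
theorem twW4_D4 : twSortOKf 12 twWSs_D4 twWPf_D4 twWEf_D4 twWInvf_D4 = true := by decide +kernel
theorem twW4b_D4 : twLenChk 12 twHd_D4 twWPf_D4 twWCn_D4 0 = true := by decide +kernel
theorem twW5_D4 : twFd_D4.all (fun x => sublOK chevD4 twRho_D4 x.2.2) = true := by decide +kernel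
theorem twW6_D4 : twFd_D4.all (fun x => (orbitL twRf_D4 x.2.1 (chevD4.neg x.1)).all fun r =>
    Nat.blt r chevD4.nroots && decide (chevD4.IsPosRoot (rhoW chevD4 x.2.2 r))) = true := by decide +kernel
theorem twW7_D4 : twFd_D4.all (fun x => (orbitL twRf_D4 x.2.1 x.1).all fun r =>
    decide (chevD4.IsPosRoot r)) = true := by decide +kernel
theorem twW8_D4 : (List.range chevD4.rank).all (fun i => Nat.blt (twRho_D4 i) chevD4.rank &&
    Nat.beq (twRf_D4 (chevD4.simple i)) (chevD4.simple (twRho_D4 i)) &&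
    decide (twEf_D4 (chevD4.simple i) = 1)) = true := by decide +kernel
theorem twW9_D4 : twHd_D4.all (fun p => Nat.blt p.1 chevD4.nroots) = true := by decide +kernel
theorem twW10_D4 : twWSs_D4.all (fun r => Nat.blt r chevD4.nroots) = true := by decide +kernel

theorem twCells_D4 : TwCells chevD4 twRf_D4 twRho_D4 twFd_D4 twWPar_D4 twWCn_D4.length ∧
    ∀ m < twWCn_D4.length, (twHd_D4.map fun p =>
      if chevD4.IsPosRoot (rhoW chevD4 (twWord twFd_D4 twWPar_D4 m) p.1) then 0 else p.2).sum =
      twWCn_D4.getD m 0 :=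
  twCells_of_tables nfacts_D4 posHalf_D4 12 (by decide +kernel) twRf_D4 twRho_D4 twFd_D4 twHd_D4
    twWSJ_D4 twWSs_D4 twWCn_D4 twWPf_D4 twWParf_D4 twWEcf_D4 twWEf_D4 twWInvf_D4
    (by rw [twWN_D4.2.2]; omega)
    (fun x hx => by
      have := List.all_eq_true.mp twG2_D4 x hx
      simp only [Bool.and_eq_true, decide_eq_true_eq, List.all_eq_true, Nat.blt_eq] at this
      exact this.2)
    (fun p hp => by
      have := List.all_eq_true.mp twW9_D4 p hp
      simpa using this)
    (fun r hr => by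
      have := List.all_eq_true.mp twW10_D4 r hr
      simpa using this)
    twW1_D4
    (by rw [twWN_D4.1, twWN_D4.2.1, twWN_D4.2.2]; exact twW2_D4)
    (by rw [twWN_D4.1, twWN_D4.2.1, twWN_D4.2.2]; exact twW3_D4)
    (by rw [twWN_D4.2.2]; exact twW4_D4)
    twW4b_D4
    (fun x hx => List.all_eq_true.mp twW5_D4 x hx)
    (fun x hx r hr => by
      have := List.all_eq_true.mp (List.all_eq_true.mp twW6_D4 x hx) r hr
      simp only [Bool.and_eq_true, Nat.blt_eq, decide_eq_true_eq] at this
      exact this)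
    (fun x hx r hr => by
      have := List.all_eq_true.mp (List.all_eq_true.mp twW7_D4 x hx) r hr
      exact of_decide_eq_true this)

theorem twRhoOK_D4 (F : Type*) [Field F] (f : F ≃+* F) : ∀ i < chevD4.rank, twRho_D4 i < chevD4.rank ∧
    (twD4 F f).R (chevD4.simple i) = chevD4.simple (twRho_D4 i) ∧
    (twD4 F f).η (chevD4.simple i) = 1 := by
  intro i hi
  have := List.all_eq_true.mp twW8_D4 i (List.mem_range.mpr hi)
  simp only [Bool.and_eq_true, Nat.blt_eq, nbeq_true, decide_eq_true_eq] at this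
  exact ⟨this.1.1, this.1.2, this.2⟩

/-- the order of the twisted group of type `D4` -/
theorem twCard_D4 {F : Type*} [Field F] [Fintype F] (f : F ≃+* F) (q : ℕ) (hq : 0 < q)
    (hpar : ∀ p ∈ twHd_D4, {t : F | ((twD4 F f).step^[p.2] (p.1, t)).2 = t}.ncard = q ^ p.2) :
    Nat.card ↥((twD4 F f).G1 (fundOf chevD4 twFd_D4)) =
      (twWCn_D4.map fun c => q ^ c).sum * (q ^ twExp (fun _ => True) twHd_D4 *
        Nat.card ↥(chevD4.diagonalSubgroup F ⊓ (twD4 F f).G1 (fundOf chevD4 twFd_D4))) := by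
  obtain ⟨h1, h3⟩ := twCells_D4
  exact (twG_D4 F f).card_final (twU_D4 F f) twWCn_D4 h1 (twRhoOK_D4 F f) (twFixLe_D4 F f) q hq hpar h3

end Cfsg.Agent.Lib.Helper24
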