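import Cfsg.Agent.Lib.Helper24.TwCell

set_option autoImplicit false
set_option linter.unusedSimpArgs false

namespace Cfsg.Agent.Lib.Helper24

open Cfsg.Lie

section twcover

variable {F : Type*} [Field F] {D : ChevalleyDatum} {tab : List ℕ} {orb : List (ℕ × ℕ × ℕ)}

/-- the word in the fundamental reflections of the `m`-th representative -/
def twWord (Fd : List (ℕ × ℕ × List ℕ)) (Par : List ℕ) (m : ℕ) : List ℕ := expandJ Fd (wordAt Par m)

/-- the combinatorial data of the cells of the twisted group -/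
structure TwCells (D : ChevalleyDatum) (R ρ : ℕ → ℕ) (Fd : List (ℕ × ℕ × List ℕ)) (Par : List ℕ) (N : ℕ) :
    Prop where
  hNpos : 0 < N
  words : ∀ m < N, ∀ j ∈ wordAt Par m, j < Fd.length
  edge : ∀ m < N, ∀ x ∈ Fd, ∃ m' < N, ∀ s < D.nroots,
    rhoW D (twWord Fd Par m ++ x.2.2) s = rhoW D (twWord Fd Par m') s
  sq : ∀ x ∈ Fd, ∀ s < D.nroots, rhoW D (x.2.2 ++ x.2.2) s = s
  distinct : ∀ m < N, ∀ m' < N,
    (∀ s < D.nroots, rhoW D (twWord Fd Par m) s = rhoW D (twWord Fd Par m') s) → m = m'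
  subl : ∀ x ∈ Fd, sublOK D ρ x.2.2 = true
  negconj : ∀ x ∈ Fd, ∀ r ∈ orbitL R x.2.1 (D.neg x.1), r < D.nroots ∧ D.IsPosRoot (rhoW D x.2.2 r)
  pos : ∀ x ∈ Fd, ∀ r ∈ orbitL R x.2.1 x.1, D.IsPosRoot r

variable {E : Env D F tab orb} {T : Tw D F E.hF} {Fd : List (ℕ × ℕ × List ℕ)} {ρ : ℕ → ℕ}
  {Par : List ℕ} {N : ℕ}

theorem TwG.twWord_lt (hG : TwG E T Fd) (hC : TwCells D T.R ρ Fd Par N) (m : ℕ) (hm : m < N) :
    ∀ i ∈ twWord Fd Par m, i < D.rank :=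
  hG.expand_lt _ (hC.words m hm)

theorem TwG.twWord_mem (hG : TwG E T Fd) (hC : TwCells D T.R ρ Fd Par N) (m : ℕ) (hm : m < N) :
    E.hF.nW (F := F) (twWord Fd Par m) ∈ T.G1 (fundOf D Fd) :=
  hG.nW_expand_mem _ (hC.words m hm)

/-- the union of the double cosets of the representatives, inside the twisted group -/
def Tw.cellSet (E : Env D F tab orb) (T : Tw D F E.hF) (Fd : List (ℕ × ℕ × List ℕ)) (Par : List ℕ) (N : ℕ) :
    Set (GL D.Idx F) :=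
  {g | g ∈ T.G1 (fundOf D Fd) ∧ ∃ m < N, ∃ b₁ ∈ D.borelSubgroup F, ∃ b₂ ∈ D.borelSubgroup F,
    g = b₁ * E.hF.nW (twWord Fd Par m) * b₂}

theorem Tw.cellSet_mul_borel (g b : GL D.Idx F) (hg : g ∈ T.cellSet E Fd Par N)
    (hb : b ∈ D.borelSubgroup F ⊓ T.G1 (fundOf D Fd)) : g * b ∈ T.cellSet E Fd Par N := by
  obtain ⟨hg1, m, hm, b₁, hb₁, b₂, hb₂, rfl⟩ := hg
  exact ⟨Subgroup.mul_mem _ hg1 hb.2, m, hm, b₁, hb₁, b₂ * b, Subgroup.mul_mem _ hb₂ hb.1, by group⟩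

theorem TwG.cellSet_mul_class (hG : TwG E T Fd) (hC : TwCells D T.R ρ Fd Par N)
    (hρ : ∀ i < D.rank, ρ i < D.rank ∧ T.R (D.simple i) = D.simple (ρ i) ∧ T.η (D.simple i) = 1)
    (g : GL D.Idx F) (hg : g ∈ T.cellSet E Fd Par N) (x : ℕ × ℕ × List ℕ) (hx : x ∈ Fd) :
    g * E.hF.nW x.2.2 ∈ T.cellSet E Fd Par N := by
  have hFx := Tw.G1_le_Fx E T (fundOf D Fd) hG.fund
  obtain ⟨hg1, m, hm, b₁, hb₁, b₂, hb₂, e⟩ := hg
  have hlG := hG.nW_mem x hx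
  have hl := (hG.jx x hx).2
  have hwm := hG.twWord_lt hC m hm
  have hnG := hG.twWord_mem hC m hm
  have hgl : g * E.hF.nW x.2.2 ∈ T.G1 (fundOf D Fd) := Subgroup.mul_mem _ hg1 hlG
  refine ⟨hgl, ?_⟩
  have hfix : T.σ (b₁ * E.hF.nW (twWord Fd Par m) * b₂) = b₁ * E.hF.nW (twWord Fd Par m) * b₂ := by
    rw [← e]; exact hFx hg1
  rcases T.dc_mul_class E ρ hρ x.2.2 hl (hC.subl x hx) (hFx hlG) _ (E.nW_mem _ hwm) (hFx hnG)
    b₁ b₂ hb₁ hb₂ hfix with ⟨c₁, hc₁, c₂, hc₂, e2⟩ | ⟨c₁, hc₁, c₂, hc₂, e2⟩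
  · exact ⟨m, hm, c₁, hc₁, c₂, hc₂, by rw [e, e2]⟩
  · obtain ⟨m', hm', hedge⟩ := hC.edge m hm x hx
    have hwm' := hG.twWord_lt hC m' hm'
    have happ : ∀ i ∈ twWord Fd Par m ++ x.2.2, i < D.rank := by
      intro i hi
      rcases List.mem_append.mp hi with h | h
      · exact hwm i h
      · exact hl i h
    have hd := E.nW_inv_mul_mem_diag _ _ happ hwm' hedge
    rw [E.hF.nW_app] at hd
    refine ⟨m', hm', c₁, hc₁, (E.hF.nW (twWord Fd Par m'))⁻¹ * (E.hF.nW (twWord Fd Par m) * E.hF.nW x.2.2) * c₂,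
      Subgroup.mul_mem _ (diagonal_le_borel D F hd) hc₂, ?_⟩
    rw [e, e2]; group

/-- the twisted group is the union of the double cosets of the representatives -/
theorem TwG.cells_cover (hG : TwG E T Fd) (hC : TwCells D T.R ρ Fd Par N)
    (hρ : ∀ i < D.rank, ρ i < D.rank ∧ T.R (D.simple i) = D.simple (ρ i) ∧ T.η (D.simple i) = 1)
    (g : GL D.Idx F) (hg : g ∈ T.G1 (fundOf D Fd)) : g ∈ T.cellSet E Fd Par N := by
  have hB : D.borelSubgroup F ⊓ T.G1 (fundOf D Fd) ≤ rstab (T.cellSet E Fd Par N) := by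
    intro b hb x hx
    exact ⟨Tw.cellSet_mul_borel x b hx hb, Tw.cellSet_mul_borel x b⁻¹ hx (Subgroup.inv_mem _ hb)⟩
  have hn : ∀ x ∈ Fd, E.hF.nW (F := F) x.2.2 ∈ rstab (T.cellSet E Fd Par N) := by
    intro x hx y hy
    have h1 := hG.cellSet_mul_class hC hρ y hy x hx
    refine ⟨h1, ?_⟩
    have hl := (hG.jx x hx).2
    have hll : ∀ i ∈ x.2.2 ++ x.2.2, i < D.rank := by
      intro i hi
      rcases List.mem_append.mp hi with h | h <;> exact hl i h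
    have hsq := E.nW_inv_mul_mem_diag (x.2.2 ++ x.2.2) [] hll (fun i hi => absurd hi List.not_mem_nil)
      (fun s hs => by rw [hC.sq x hx s hs]; rfl)
    have hnil : E.hF.nW (F := F) [] = 1 := by simp [Facts.nW]
    rw [hnil, inv_one, one_mul, E.hF.nW_app] at hsq
    have hlG := hG.nW_mem x hx
    have e : y * (E.hF.nW x.2.2)⁻¹ = y * E.hF.nW x.2.2 * (E.hF.nW x.2.2 * E.hF.nW x.2.2)⁻¹ := by group
    rw [e]
    apply Tw.cellSet_mul_borel _ _ h1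
    exact ⟨diagonal_le_borel D F (Subgroup.inv_mem _ hsq),
      Subgroup.inv_mem _ (Subgroup.mul_mem _ hlG hlG)⟩
  have hle : T.G1 (fundOf D Fd) ≤ rstab (T.cellSet E Fd Par N) := by
    conv_lhs => unfold Tw.G1
    rw [Subgroup.closure_le]
    rintro y ⟨p, hp, t, ht, rfl⟩
    have hyG : T.cls p.2 (p.1, t) ∈ T.G1 (fundOf D Fd) :=
      Subgroup.subset_closure ⟨p, hp, t, ht, rfl⟩
    unfold fundOf at hp
    rcases List.mem_append.mp hp with hp | hp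
    · obtain ⟨x, hx, rfl⟩ := List.mem_map.mp hp
      apply hB
      refine ⟨pos_le_borel D F ?_, hyG⟩
      have h1 := T.cls_mem x.2.1 (x.1, t)
      exact rootClosure_pos_le D F _ (fun r hr => hC.pos x hx r hr) h1
    · obtain ⟨x, hx, rfl⟩ := List.mem_map.mp hp
      have h1 := T.cls_mem x.2.1 (D.neg x.1, t)
      have hl := (hG.jx x hx).2
      have h2 := E.conj_rootClosure_nW x.2.2 hl _ D.IsPosRoot (fun s hs => hC.negconj x hx s hs) _ h1
      have hlG := hG.nW_mem x hx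
      have h3 : E.hF.nW x.2.2 * T.cls x.2.1 (D.neg x.1, t) * (E.hF.nW x.2.2)⁻¹ ∈
          rstab (T.cellSet E Fd Par N) :=
        hB ⟨pos_le_borel D F h2, Subgroup.mul_mem _ (Subgroup.mul_mem _ hlG hyG) (Subgroup.inv_mem _ hlG)⟩
      have e : T.cls x.2.1 (D.neg x.1, t) = (E.hF.nW x.2.2)⁻¹ *
          (E.hF.nW x.2.2 * T.cls x.2.1 (D.neg x.1, t) * (E.hF.nW x.2.2)⁻¹) * E.hF.nW x.2.2 := by group
      show T.cls x.2.1 (D.neg x.1, t) ∈ rstab (T.cellSet E Fd Par N)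
      rw [e]
      exact Subgroup.mul_mem _ (Subgroup.mul_mem _ (Subgroup.inv_mem _ (hn x hx)) h3) (hn x hx)
  have h1 : (1 : GL D.Idx F) ∈ T.cellSet E Fd Par N := by
    refine ⟨Subgroup.one_mem _, 0, hC.hNpos, 1, Subgroup.one_mem _, 1, Subgroup.one_mem _, ?_⟩
    unfold twWord
    rw [wordAt_zero]
    simp [Facts.nW, expandJ]
  have := (hle hg 1 h1).1
  rwa [one_mul] at this

end twcover

end Cfsg.Agent.Lib.Helper24
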