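import Cfsg.Agent.Lib.Helper24.TwTree

set_option autoImplicit false
set_option linter.unusedSimpArgs false

namespace Cfsg.Agent.Lib.Helper24

open Cfsg.Lie

theorem sum_fin_getD (Cn : List ℕ) (h : ℕ → ℕ) :
    (∑ m : Fin Cn.length, h (Cn.getD m 0)) = (Cn.map h).sum := by
  have e : Cn.map h = List.ofFn (fun i : Fin Cn.length => h (Cn.getD i 0)) := by
    apply List.ext_getElem
    · simp
    · intro i h1 h2
      simp [List.getD]
  rw [e, List.sum_ofFn]

section twfinal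

variable {F : Type*} [Field F] [Fintype F] {D : ChevalleyDatum} {tab : List ℕ} {orb : List (ℕ × ℕ × ℕ)}
variable {E : Env D F tab orb} {T : Tw D F E.hF} {Fd : List (ℕ × ℕ × List ℕ)} {ρ : ℕ → ℕ}
  {Par : List ℕ} {Hd : List (ℕ × ℕ)} {Lc : List ℕ} {Λ : List ℤ}

/-- the order of the twisted group -/
theorem TwG.card_final (hG : TwG E T Fd) (hT : TwU E T Hd Lc Λ) (Cn : List ℕ)
    (hC : TwCells D T.R ρ Fd Par Cn.length)
    (hρ : ∀ i < D.rank, ρ i < D.rank ∧ T.R (D.simple i) = D.simple (ρ i) ∧ T.η (D.simple i) = 1)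
    (hUF : D.posUnipotent F ⊓ T.Fx ≤ T.G1 (fundOf D Fd)) (q : ℕ) (hq : 0 < q)
    (hpar : ∀ p ∈ Hd, {t : F | (T.step^[p.2] (p.1, t)).2 = t}.ncard = q ^ p.2)
    (hcnt : ∀ m < Cn.length,
      (Hd.map fun p => if D.IsPosRoot (rhoW D (twWord Fd Par m) p.1) then 0 else p.2).sum = Cn.getD m 0) :
    Nat.card ↥(T.G1 (fundOf D Fd)) =
      (Cn.map fun c => q ^ c).sum * (q ^ twExp (fun _ => True) Hd *
        Nat.card ↥(D.diagonalSubgroup F ⊓ T.G1 (fundOf D Fd))) := by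
  have hFx := Tw.G1_le_Fx E T (fundOf D Fd) hG.fund
  rw [hG.card_G1 hC hρ hUF, hG.card_borel hUF, hT.card_fix q hpar, ← sum_fin_getD Cn (fun c => q ^ c)]
  congr 1
  apply Finset.sum_congr rfl
  intro m _
  have hw := hG.twWord_lt hC m m.isLt
  rw [hT.card_cell q hq hpar _ (E.nW_mem _ hw) (hFx (hG.twWord_mem hC m m.isLt))]
  congr 1
  rw [← hcnt m m.isLt]
  classical
  unfold twExp
  congr 1
  apply List.map_congr_left
  intro p hp
  have hiff := E.negSet_nW_iff (F := F) _ hw p.1 (hT.hd p hp).1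
  by_cases h : D.IsPosRoot (rhoW D (twWord Fd Par m) p.1)
  · rw [if_pos h, if_neg (fun h' => (hiff.mp h') h)]
  · rw [if_neg h, if_pos (hiff.mpr h)]

end twfinal

end Cfsg.Agent.Lib.Helper24
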