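import Cfsg.Agent.Lib.Helper24.TwInst

set_option autoImplicit false
set_option linter.unusedSimpArgs false

namespace Cfsg.Agent.Lib.Helper24

open Cfsg.Lie

/-- `∏ (a b a) = (∏ a)(∏ b)(∏ a)` for families commuting across different indices -/
theorem prod_aba {G : Type*} [Group G] {ι : Type*} (a b : ι → G) (L : List ι)
    (h : L.Pairwise (fun i j => Commute (a i) (a j) ∧ Commute (a i) (b j) ∧ Commute (b i) (a j) ∧
      Commute (b i) (b j))) :
    (L.map fun i => a i * b i * a i).prod = (L.map a).prod * (L.map b).prod * (L.map a).prod := by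
  induction L with
  | nil => simp
  | cons x L ih =>
    obtain ⟨hx, hL⟩ := List.pairwise_cons.mp h
    simp only [List.map_cons, List.prod_cons]
    rw [ih hL]
    have hA1 : Commute (a x) (L.map a).prod := Commute.list_prod_right _ _ (by
      intro y hy; obtain ⟨j, hj, rfl⟩ := List.mem_map.mp hy; exact (hx j hj).1)
    have hB1 : Commute (a x) (L.map b).prod := Commute.list_prod_right _ _ (by
      intro y hy; obtain ⟨j, hj, rfl⟩ := List.mem_map.mp hy; exact (hx j hj).2.1)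
    have hA2 : Commute (b x) (L.map a).prod := Commute.list_prod_right _ _ (by
      intro y hy; obtain ⟨j, hj, rfl⟩ := List.mem_map.mp hy; exact (hx j hj).2.2.1)
    simp only [mul_assoc]
    rw [hA2.symm.left_comm, hB1.symm.left_comm, hA1.symm.left_comm]

section twgen

variable {F : Type*} [Field F] {D : ChevalleyDatum} {tab : List ℕ} {orb : List (ℕ × ℕ × ℕ)}

/-- root elements of two roots without commutator terms commute -/
theorem Env.commute_of_nilG (E : Env D F tab orb) (r s : ℕ) (hr : r < D.nroots) (hs : s < D.nroots)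
    (hne : s ≠ r) (hnn : s ≠ D.neg r) (h : commTermsQ D r s = []) (t u : F) :
    Commute (E.hF.xGL r t) (E.hF.xGL s u) := by
  have hq := E.hcomm r hr s hs hne hnn t u
  have e : D.commWord F r s t u = [] := by
    unfold ChevalleyDatum.commWord
    rw [← E.hC.commTermsF_eq r s hr hs, ← commTermsQ_eq, h]
    rfl
  rw [e] at hq
  have e2 : E.hF.wordGL ([] : List (ℕ × F)) = 1 := by simp [Facts.wordGL]
  rw [e2, mul_one] at hq
  exact hq.symm

/-- the two roots have no commutator terms and are neither equal nor opposite -/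
def commNilOK (D : ChevalleyDatum) (r s : ℕ) : Bool :=
  (commTermsQ D r s).isEmpty && !(Nat.beq s r) && !(Nat.beq s (D.neg r)) && Nat.blt r D.nroots &&
    Nat.blt s D.nroots

theorem Env.commute_of_commNilOK (E : Env D F tab orb) (r s : ℕ) (h : commNilOK D r s = true) (t u : F) :
    Commute (E.hF.xGL r t) (E.hF.xGL s u) := by
  simp only [commNilOK, Bool.and_eq_true, List.isEmpty_iff, Bool.not_eq_true', nbeq_false,
    Nat.blt_eq] at h
  obtain ⟨⟨⟨⟨h1, h2⟩, h3⟩, h4⟩, h5⟩ := h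
  exact E.commute_of_nilG r s h4 h5 h2 h3 h1 t u


/-- the generators of the twisted group -/
def Tw.genSet {hF : Facts D} (T : Tw D F hF) (Fund : List (ℕ × ℕ)) : Set (GL D.Idx F) :=
  {g | ∃ p ∈ Fund, ∃ t : F, (T.step^[p.2] (p.1, t)).2 = t ∧ g = T.cls p.2 (p.1, t)}

/-- the twisted group -/
def Tw.G1 {hF : Facts D} (T : Tw D F hF) (Fund : List (ℕ × ℕ)) : Subgroup (GL D.Idx F) :=
  Subgroup.closure (T.genSet Fund)

/-- the classes of the fundamental roots and of their negatives are closed and commutative -/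
def fundOK (D : ChevalleyDatum) (R : ℕ → ℕ) (Fund : List (ℕ × ℕ)) : Bool :=
  Fund.all fun p => Nat.blt p.1 D.nroots && Nat.blt 0 p.2 && Nat.beq (R^[p.2] p.1) p.1 &&
    (List.range p.2).all fun j => Nat.beq j 0 || commNilOK D p.1 (R^[j] p.1)

/-- the generators are fixed -/
theorem Tw.cls_fixedG (E : Env D F tab orb) (T : Tw D F E.hF) (Fund : List (ℕ × ℕ)) (hFund : fundOK D T.R Fund = true)
    (p : ℕ × ℕ) (hp : p ∈ Fund) (t : F) (ht : (T.step^[p.2] (p.1, t)).2 = t) :
    T.σ (T.cls p.2 (p.1, t)) = T.cls p.2 (p.1, t) := by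
  have h := List.all_eq_true.mp hFund p hp
  simp only [Bool.and_eq_true, Nat.blt_eq, nbeq_true, List.all_eq_true, List.mem_range,
    Bool.or_eq_true] at h
  obtain ⟨⟨⟨h1, h2⟩, h3⟩, h4⟩ := h
  apply T.map_cls_of_closed p.2 (p.1, t) h1
  · apply Prod.ext
    · rw [T.step_iter_fst]; exact h3
    · exact ht
  · obtain ⟨k, hk'⟩ : ∃ k, p.2 = k + 1 := ⟨p.2 - 1, by omega⟩
    rw [hk', Tw.cls]
    apply Commute.mul_right (Commute.refl _)
    apply T.commute_cls
    intro j hj u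
    have e : (T.step (p.1, t)).1 = T.R p.1 := rfl
    rw [e, ← Function.iterate_succ_apply]
    rcases h4 (j + 1) (by omega) with h5 | h5
    · omega
    · exact E.commute_of_commNilOK _ _ h5 t u

theorem Tw.G1_le_Fx (E : Env D F tab orb) (T : Tw D F E.hF) (Fund : List (ℕ × ℕ)) (hFund : fundOK D T.R Fund = true) :
    T.G1 Fund ≤ T.Fx := by
  unfold Tw.G1
  rw [Subgroup.closure_le]
  rintro g ⟨p, hp, t, ht, rfl⟩
  exact Tw.cls_fixedG E T Fund hFund p hp t ht

theorem Tw.step_iter_twistedP {hF : Facts D} (T : Tw D F hF) (c : ℕ → F) (P : ℕ → Prop)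
    (hP : ∀ s, P s → P (T.R s))
    (hc : ∀ s, P s → c (T.R s) = (T.η s : F) * T.f (c s)) (h : ℕ) (hh : P h) (j : ℕ) :
    T.step^[j] (h, c h) = (T.R^[j] h, c (T.R^[j] h)) ∧ P (T.R^[j] h) := by
  induction j with
  | zero => exact ⟨rfl, hh⟩
  | succ j ih =>
    rw [Function.iterate_succ_apply', ih.1, Function.iterate_succ_apply']
    refine ⟨?_, hP _ ih.2⟩
    unfold Tw.step
    simp only
    rw [hc _ ih.2]

/-- a fixed element of the subgroup of a class is a `cls` element -/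
theorem TwU.mem_orbit_fix {E : Env D F tab orb} {T : Tw D F E.hF} {Hd : List (ℕ × ℕ)} {Lc : List ℕ}
    {Λ : List ℤ} (hT : TwU E T Hd Lc Λ) (p : ℕ × ℕ) (hp : p ∈ Hd)
    (hnd : (orbitL T.R p.2 p.1).Nodup) (hgood : goodListOK D (orbitL T.R p.2 p.1) = true)
    (x : GL D.Idx F) (hx : x ∈ rootClosure D F (· ∈ orbitL T.R p.2 p.1)) (hfix : T.σ x = x) :
    ∃ t : F, (T.step^[p.2] (p.1, t)).2 = t ∧ x = T.cls p.2 (p.1, t) := by
  obtain ⟨hpos, hk⟩ := hT.hd p hp
  have hLpos : ∀ r ∈ orbitL T.R p.2 p.1, D.IsPosRoot r := by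
    intro r hr
    obtain ⟨j, _, rfl⟩ := (mem_orbitL T.R p.2 p.1 r).mp hr
    exact T.iter_pos j _ hpos
  obtain ⟨c, _, hc⟩ := E.hF.exists_ordProd_gen E.hC E.hcomm (fun r s hr hs => E.pos_ne_neg r s hr hs)
    _ hnd hLpos hgood x hx
  rw [hc, hT.map_ordProd_orbit p hp c] at hfix
  have hsort : (orbitL T.R p.2 p.1).Pairwise
      (fun r s => gradeE D Λ (D.rank + r) ≤ gradeE D Λ (D.rank + s)) := by
    apply List.pairwise_of_forall_mem_list
    intro r hr s hs
    obtain ⟨j, _, rfl⟩ := (mem_orbitL T.R p.2 p.1 r).mp hr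
    obtain ⟨j', _, rfl⟩ := (mem_orbitL T.R p.2 p.1 s).mp hs
    rw [hT.grade_iter j _ hpos.1, hT.grade_iter j' _ hpos.1]
  have h := E.hF.ordProd_inj_gen E.hU.negNe E.hU.unit (fun r s hr hs h => E.neg_inj_pos r s hr hs h) Λ
    hT.g0 _ hnd hsort hLpos _ _ hfix
  -- the orbit is stable under `R`
  have hstab : ∀ s, s ∈ orbitL T.R p.2 p.1 → T.R s ∈ orbitL T.R p.2 p.1 := by
    intro s hs
    obtain ⟨j, hj, rfl⟩ := (mem_orbitL T.R p.2 p.1 s).mp hs
    rw [mem_orbitL]
    by_cases hj' : j + 1 < p.2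
    · exact ⟨j + 1, hj', by rw [Function.iterate_succ_apply']⟩
    · refine ⟨0, hk, ?_⟩
      have : j + 1 = p.2 := by omega
      have e := hT.closed p hp
      rw [← this, Function.iterate_succ_apply'] at e
      rw [e]
      rfl
  have htw : ∀ s, s ∈ orbitL T.R p.2 p.1 → c (T.R s) = (T.η s : F) * T.f (c s) := by
    intro s hs
    rw [← h _ (hstab s hs), T.tw_R c s (hLpos s hs).1]
  have hmem : p.1 ∈ orbitL T.R p.2 p.1 := (mem_orbitL T.R p.2 p.1 p.1).mpr ⟨0, hk, rfl⟩
  refine ⟨c p.1, ?_, ?_⟩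
  · rw [(T.step_iter_twistedP c _ hstab htw p.1 hmem p.2).1, hT.closed p hp]
  · rw [hc]
    apply T.ordProd_orbit p.2 p.1 hpos.1 c
    intro j hj
    rw [Function.iterate_succ_apply']
    exact htw _ ((mem_orbitL T.R p.2 p.1 _).mpr ⟨j, by omega, rfl⟩)

theorem Facts.nW_app (hF : Facts D) (w w' : List ℕ) :
    hF.nW (F := F) (w ++ w') = hF.nW w * hF.nW w' := by
  simp [Facts.nW, List.map_append, List.prod_append]

/-- conjugation by `n_w` maps the subgroup of a set of roots into the subgroup of the image roots -/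
theorem Env.conj_rootClosure_nW (E : Env D F tab orb) (w : List ℕ) (hw : ∀ i ∈ w, i < D.rank)
    (Ψ Ψ' : ℕ → Prop) (h : ∀ s, Ψ s → s < D.nroots ∧ Ψ' (rhoW D w s)) (x : GL D.Idx F)
    (hx : x ∈ rootClosure D F Ψ) : E.hF.nW w * x * (E.hF.nW w)⁻¹ ∈ rootClosure D F Ψ' := by
  unfold rootClosure at hx
  induction hx using Subgroup.closure_induction with
  | mem x hx =>
    obtain ⟨s, u, hs, hxe⟩ := hx
    rw [E.hF.eq_xGL x s u hxe]
    obtain ⟨η, _, e⟩ := E.hF.nW_conj (F := F) E.hN w hw s (h s hs).1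
    rw [e]
    exact E.hF.xGL_mem_rootClosure Ψ' _ (h s hs).2 _
  | one => simp
  | mul x y _ _ hx hy =>
    rw [conj_mul2]; exact Subgroup.mul_mem _ hx hy
  | inv x _ hx =>
    have : E.hF.nW w * x⁻¹ * (E.hF.nW w)⁻¹ = (E.hF.nW w * x * (E.hF.nW w)⁻¹)⁻¹ := by group
    rw [this]; exact Subgroup.inv_mem _ hx

/-- `cls` along an orbit with trivial signs, for a parameter fixed by the field automorphism -/
theorem Tw.cls_const {hF : Facts D} (T : Tw D F hF) (k : ℕ) (β : ℕ) (u : F)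
    (hη : ∀ j < k, T.η (T.R^[j] β) = 1) (hu : T.f u = u) :
    T.cls k (β, u) = ((orbitL T.R k β).map fun r => hF.xGL r u).prod ∧ T.step^[k] (β, u) = (T.R^[k] β, u) := by
  induction k generalizing β with
  | zero => exact ⟨rfl, rfl⟩
  | succ k ih =>
    have e : T.step (β, u) = (T.R β, u) := by
      unfold Tw.step
      have := hη 0 (by omega)
      simp only [Function.iterate_zero, id_eq] at this
      simp only [this, Int.cast_one, one_mul, hu]
    obtain ⟨ih1, ih2⟩ := ih (T.R β) (fun j hj => by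
      have := hη (j + 1) (by omega)
      rwa [Function.iterate_succ_apply] at this)
    refine ⟨?_, ?_⟩
    · rw [Tw.cls, e, ih1, orbitL, List.map_cons, List.prod_cons]
      rfl
    · rw [Function.iterate_succ_apply, e, ih2, Function.iterate_succ_apply]

theorem Tw.iter_neg {hF : Facts D} (T : Tw D F hF) (j s : ℕ) (hs : s < D.nroots) :
    T.R^[j] (D.neg s) = D.neg (T.R^[j] s) := by
  induction j generalizing s with
  | zero => rfl
  | succ j ih =>
    rw [Function.iterate_succ_apply, Function.iterate_succ_apply, T.hRn s hs, ih _ (T.hRlt s hs)]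

theorem Tw.orbitL_neg {hF : Facts D} (T : Tw D F hF) (k s : ℕ) (hs : s < D.nroots) :
    orbitL T.R k (D.neg s) = (orbitL T.R k s).map D.neg := by
  induction k generalizing s with
  | zero => rfl
  | succ k ih => rw [orbitL, orbitL, List.map_cons, T.hRn s hs, ih _ (T.hRlt s hs)]

/-- the pairs of roots of the list and of their negatives commute -/
def crossOK (D : ChevalleyDatum) : List ℕ → Bool
  | [] => true
  | r :: L => (L.all fun s => commNilOK D r s && commNilOK D r (D.neg s) && commNilOK D (D.neg r) s &&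
      commNilOK D (D.neg r) (D.neg s)) && crossOK D L

/-- the data of the classes of the fundamental roots: the class, its size and the fundamental reflections -/
structure TwG (E : Env D F tab orb) (T : Tw D F E.hF) (Fd : List (ℕ × ℕ × List ℕ)) : Prop where
  fund : fundOK D T.R ((Fd.map fun x => (x.1, x.2.1)) ++ Fd.map fun x => (D.neg x.1, x.2.1)) = true
  jx : ∀ x ∈ Fd, x.2.2.map D.simple = orbitL T.R x.2.1 x.1 ∧ ∀ i ∈ x.2.2, i < D.rank
  eta1 : ∀ x ∈ Fd, ∀ j < x.2.1, T.η (T.R^[j] x.1) = 1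
  cross : ∀ x ∈ Fd, crossOK D (orbitL T.R x.2.1 x.1) = true

/-- the generating classes: the fundamental classes and their negatives -/
def fundOf (D : ChevalleyDatum) (Fd : List (ℕ × ℕ × List ℕ)) : List (ℕ × ℕ) :=
  (Fd.map fun x => (x.1, x.2.1)) ++ Fd.map fun x => (D.neg x.1, x.2.1)

theorem Env.pairwise_of_crossOK (E : Env D F tab orb) (L : List ℕ) (h : crossOK D L = true) :
    L.Pairwise (fun r s => Commute (E.hF.xGL r (1 : F)) (E.hF.xGL s 1) ∧
      Commute (E.hF.xGL r (1 : F)) (E.hF.xGL (D.neg s) (-1)) ∧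
      Commute (E.hF.xGL (D.neg r) (-1 : F)) (E.hF.xGL s 1) ∧
      Commute (E.hF.xGL (D.neg r) (-1 : F)) (E.hF.xGL (D.neg s) (-1))) := by
  induction L with
  | nil => exact List.Pairwise.nil
  | cons r L ih =>
    simp only [crossOK, Bool.and_eq_true, List.all_eq_true] at h
    refine List.pairwise_cons.mpr ⟨fun s hs => ?_, ih h.2⟩
    obtain ⟨⟨⟨h1, h2⟩, h3⟩, h4⟩ := h.1 s hs
    exact ⟨E.commute_of_commNilOK _ _ h1 _ _, E.commute_of_commNilOK _ _ h2 _ _,
      E.commute_of_commNilOK _ _ h3 _ _, E.commute_of_commNilOK _ _ h4 _ _⟩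

/-- the product of the fundamental reflections of a class lies in the twisted group -/
theorem TwG.nW_mem {E : Env D F tab orb} {T : Tw D F E.hF} {Fd : List (ℕ × ℕ × List ℕ)}
    (hG : TwG E T Fd) (x : ℕ × ℕ × List ℕ) (hx : x ∈ Fd) :
    E.hF.nW (F := F) x.2.2 ∈ T.G1 (fundOf D Fd) := by
  obtain ⟨hjx, _⟩ := hG.jx x hx
  have hfund := List.all_eq_true.mp hG.fund (x.1, x.2.1) (by
    apply List.mem_append_left; exact List.mem_map.mpr ⟨x, hx, rfl⟩)
  simp only [Bool.and_eq_true, Nat.blt_eq] at hfund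
  have hlt : x.1 < D.nroots := hfund.1.1.1
  have e1 : E.hF.nW (F := F) x.2.2 = ((orbitL T.R x.2.1 x.1).map fun r =>
      E.hF.xGL r (1 : F) * E.hF.xGL (D.neg r) (-1) * E.hF.xGL r 1).prod := by
    rw [← hjx, List.map_map]
    unfold Facts.nW
    congr 1
    apply List.map_congr_left
    intro i _
    simp only [Function.comp_apply]
    unfold Facts.nS
    rw [E.hF.nGL_def]
    simp
  rw [e1, prod_aba _ _ _ (E.pairwise_of_crossOK _ (hG.cross x hx))]
  have hA := T.cls_const x.2.1 x.1 (1 : F) (hG.eta1 x hx) (map_one _)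
  have hB := T.cls_const x.2.1 (D.neg x.1) (-1 : F) (by
    intro j hj
    rw [T.iter_neg j _ hlt, T.hηn _ (T.iter_lt j _ hlt)]
    exact hG.eta1 x hx j hj) (by rw [map_neg, map_one])
  rw [T.orbitL_neg _ _ hlt, List.map_map] at hB
  have hAmem : ((orbitL T.R x.2.1 x.1).map fun r => E.hF.xGL r (1 : F)).prod ∈ T.G1 (fundOf D Fd) := by
    rw [← hA.1]
    apply Subgroup.subset_closure
    refine ⟨(x.1, x.2.1), ?_, 1, ?_, rfl⟩
    · apply List.mem_append_left; exact List.mem_map.mpr ⟨x, hx, rfl⟩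
    · rw [hA.2]
  have hBmem : ((orbitL T.R x.2.1 x.1).map fun r => E.hF.xGL (D.neg r) (-1 : F)).prod ∈
      T.G1 (fundOf D Fd) := by
    have : ((orbitL T.R x.2.1 x.1).map fun r => E.hF.xGL (D.neg r) (-1 : F)).prod =
        T.cls x.2.1 (D.neg x.1, -1) := by
      rw [hB.1]; rfl
    rw [this]
    apply Subgroup.subset_closure
    refine ⟨(D.neg x.1, x.2.1), ?_, -1, ?_, rfl⟩
    · apply List.mem_append_right; exact List.mem_map.mpr ⟨x, hx, rfl⟩
    · rw [hB.2]
  exact Subgroup.mul_mem _ (Subgroup.mul_mem _ hAmem hBmem) hAmem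

/-- the word in the fundamental reflections of a word in the classes -/
def expandJ (Fd : List (ℕ × ℕ × List ℕ)) (w : List ℕ) : List ℕ :=
  w.flatMap fun j => (Fd.getD j (0, 0, [])).2.2

theorem getD_mem_of_lt {α : Type*} (l : List α) (d : α) (j : ℕ) (hj : j < l.length) : l.getD j d ∈ l := by
  have : l.getD j d = l[j] := by simp [List.getD, hj]
  rw [this]; exact List.getElem_mem hj

theorem TwG.expand_lt {E : Env D F tab orb} {T : Tw D F E.hF} {Fd : List (ℕ × ℕ × List ℕ)}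
    (hG : TwG E T Fd) (w : List ℕ) (hw : ∀ j ∈ w, j < Fd.length) : ∀ i ∈ expandJ Fd w, i < D.rank := by
  intro i hi
  unfold expandJ at hi
  obtain ⟨j, hj, hi⟩ := List.mem_flatMap.mp hi
  exact (hG.jx _ (getD_mem_of_lt Fd _ j (hw j hj))).2 i hi

theorem TwG.nW_expand_mem {E : Env D F tab orb} {T : Tw D F E.hF} {Fd : List (ℕ × ℕ × List ℕ)}
    (hG : TwG E T Fd) (w : List ℕ) (hw : ∀ j ∈ w, j < Fd.length) :
    E.hF.nW (F := F) (expandJ Fd w) ∈ T.G1 (fundOf D Fd) := by
  induction w with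
  | nil =>
    have : E.hF.nW (F := F) (expandJ Fd []) = 1 := by simp [expandJ, Facts.nW]
    rw [this]; exact Subgroup.one_mem _
  | cons j w ih =>
    have e : expandJ Fd (j :: w) = (Fd.getD j (0, 0, [])).2.2 ++ expandJ Fd w := by
      simp [expandJ]
    rw [e, E.hF.nW_app]
    exact Subgroup.mul_mem _ (hG.nW_mem _ (getD_mem_of_lt Fd _ j (hw j List.mem_cons_self)))
      (ih (fun i hi => hw i (List.mem_cons_of_mem _ hi)))

/-- the certificates that every class is conjugate to a fundamental class -/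
def conjClsOK (D : ChevalleyDatum) (R : ℕ → ℕ) (Fd : List (ℕ × ℕ × List ℕ)) (Hd : List (ℕ × ℕ))
    (Cw : List (List ℕ × ℕ)) : Bool :=
  Nat.beq Cw.length Hd.length &&
  (Hd.zip Cw).all fun pc =>
    pc.2.1.all (fun j => Nat.blt j Fd.length) && Nat.blt pc.2.2 Fd.length &&
    Hd.contains ((Fd.getD pc.2.2 (0, 0, [])).1, (Fd.getD pc.2.2 (0, 0, [])).2.1) &&
    (orbitL R pc.1.2 pc.1.1).all fun s => Nat.blt s D.nroots &&
      (orbitL R (Fd.getD pc.2.2 (0, 0, [])).2.1 (Fd.getD pc.2.2 (0, 0, [])).1).contains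
        (rhoW D (expandJ Fd pc.2.1) s)

/-- the classes of the fundamental roots are duplicate free and closed under the commutator terms -/
def fundOrbOK (D : ChevalleyDatum) (R : ℕ → ℕ) (Fd : List (ℕ × ℕ × List ℕ)) : Bool :=
  Fd.all fun x => decide (orbitL R x.2.1 x.1).Nodup && goodListOK D (orbitL R x.2.1 x.1)

/-- the fixed points of `U` lie in the twisted group -/
theorem TwG.fix_le_G1 {E : Env D F tab orb} {T : Tw D F E.hF} {Fd : List (ℕ × ℕ × List ℕ)}
    {Hd : List (ℕ × ℕ)} {Lc : List ℕ} {Λ : List ℤ} (hG : TwG E T Fd) (hT : TwU E T Hd Lc Λ)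
    (Cw : List (List ℕ × ℕ)) (hC : conjClsOK D T.R Fd Hd Cw = true) (hO : fundOrbOK D T.R Fd = true) :
    D.posUnipotent F ⊓ T.Fx ≤ T.G1 (fundOf D Fd) := by
  have hFx := Tw.G1_le_Fx E T (fundOf D Fd) hG.fund
  simp only [conjClsOK, Bool.and_eq_true, nbeq_true, List.all_eq_true, Nat.blt_eq,
    List.contains_iff_mem] at hC
  obtain ⟨hlen, hC⟩ := hC
  -- every `cls` element with admissible parameter lies in the twisted group
  have key : ∀ p ∈ Hd, ∀ t : F, (T.step^[p.2] (p.1, t)).2 = t →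
      T.cls p.2 (p.1, t) ∈ T.G1 (fundOf D Fd) := by
    intro p hp t ht
    obtain ⟨i, hi, rfl⟩ := List.getElem_of_mem hp
    have hi' : i < Cw.length := by omega
    have hmem : (Hd[i], Cw[i]) ∈ Hd.zip Cw := by
      have h1 : i < (Hd.zip Cw).length := by simp [List.length_zip]; omega
      have h2 : (Hd.zip Cw)[i] = (Hd[i], Cw[i]) := by simp
      rw [← h2]; exact List.getElem_mem h1
    obtain ⟨⟨⟨h1, h2⟩, h3⟩, h4⟩ := hC _ hmem
    simp only at h1 h2 h3 h4
    set x₀ := Fd.getD Cw[i].2 (0, 0, []) with hx₀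
    have hx₀mem : x₀ ∈ Fd := getD_mem_of_lt Fd _ _ h2
    set n := E.hF.nW (F := F) (expandJ Fd Cw[i].1) with hn
    have hnG : n ∈ T.G1 (fundOf D Fd) := hG.nW_expand_mem _ h1
    have hwlt := hG.expand_lt _ h1
    have hx1 := T.cls_mem Hd[i].2 (Hd[i].1, t)
    have hx2 := hT.cls_fixed _ hp t ht
    have hy1 : n * T.cls Hd[i].2 (Hd[i].1, t) * n⁻¹ ∈ rootClosure D F (· ∈ orbitL T.R x₀.2.1 x₀.1) :=
      E.conj_rootClosure_nW _ hwlt _ _ (fun s hs => ⟨(h4 s hs).1, (h4 s hs).2⟩) _ hx1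
    have hy2 : T.σ (n * T.cls Hd[i].2 (Hd[i].1, t) * n⁻¹) = n * T.cls Hd[i].2 (Hd[i].1, t) * n⁻¹ := by
      rw [map_mul, map_mul, map_inv, hx2, hFx hnG]
    have hO' := List.all_eq_true.mp hO x₀ hx₀mem
    simp only [Bool.and_eq_true, decide_eq_true_eq] at hO'
    obtain ⟨t', ht', e⟩ := hT.mem_orbit_fix (x₀.1, x₀.2.1) h3 hO'.1 hO'.2 _ hy1 hy2
    have hyG : n * T.cls Hd[i].2 (Hd[i].1, t) * n⁻¹ ∈ T.G1 (fundOf D Fd) := by
      rw [e]
      apply Subgroup.subset_closure
      refine ⟨(x₀.1, x₀.2.1), ?_, t', ht', rfl⟩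
      apply List.mem_append_left; exact List.mem_map.mpr ⟨x₀, hx₀mem, rfl⟩
    have : T.cls Hd[i].2 (Hd[i].1, t) = n⁻¹ * (n * T.cls Hd[i].2 (Hd[i].1, t) * n⁻¹) * n := by group
    rw [this]
    exact Subgroup.mul_mem _ (Subgroup.mul_mem _ (Subgroup.inv_mem _ hnG) hyG) hnG
  have key2 : ∀ Hd' : List (ℕ × ℕ), (∀ p ∈ Hd', p ∈ Hd) →
      T.eltSet (fun _ => True) Hd' ⊆ (T.G1 (fundOf D Fd) : Set (GL D.Idx F)) := by
    intro Hd'
    induction Hd' with
    | nil =>
      intro _ x hx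
      rw [Tw.eltSet, Set.mem_singleton_iff] at hx
      rw [hx]; exact Subgroup.one_mem _
    | cons p Hd' ih =>
      intro h
      rintro x ⟨⟨t, a⟩, ⟨⟨ht1, _⟩, ha⟩, rfl⟩
      exact Subgroup.mul_mem _ (key p (h p List.mem_cons_self) t ht1)
        (ih (fun q hq => h q (List.mem_cons_of_mem _ hq)) ha)
  rintro u ⟨hu, hfix⟩
  exact key2 Hd (fun _ h => h) (hT.fix_sub_eltSet u hu hfix)

theorem Tw.cls1 {hF : Facts D} (T : Tw D F hF) (r : ℕ) (t : F) : T.cls 1 (r, t) = hF.wordGL [(r, t)] := by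
  simp [Tw.cls, Tw.xp, Facts.wordGL]

theorem Tw.cls2 {hF : Facts D} (T : Tw D F hF) (r : ℕ) (t : F) :
    T.cls 2 (r, t) = hF.wordGL [(r, t), (T.R r, (T.η r : F) * T.f t)] := by
  simp [Tw.cls, Tw.xp, Facts.wordGL, Tw.step]

theorem Tw.cls3 {hF : Facts D} (T : Tw D F hF) (r : ℕ) (t : F) :
    T.cls 3 (r, t) = hF.wordGL [(r, t), (T.R r, (T.η r : F) * T.f t),
      (T.R (T.R r), (T.η (T.R r) : F) * T.f ((T.η r : F) * T.f t))] := by
  simp [Tw.cls, Tw.xp, Facts.wordGL, Tw.step]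

theorem Tw.step1 {hF : Facts D} (T : Tw D F hF) (r : ℕ) (t : F) :
    (T.step^[1] (r, t)).2 = (T.η r : F) * T.f t := rfl

theorem Tw.step2 {hF : Facts D} (T : Tw D F hF) (r : ℕ) (t : F) :
    (T.step^[2] (r, t)).2 = (T.η (T.R r) : F) * T.f ((T.η r : F) * T.f t) := rfl

theorem Tw.step3 {hF : Facts D} (T : Tw D F hF) (r : ℕ) (t : F) :
    (T.step^[3] (r, t)).2 = (T.η (T.R (T.R r)) : F) * T.f ((T.η (T.R r) : F) * T.f ((T.η r : F) * T.f t)) :=
  rfl

end twgen

end Cfsg.Agent.Lib.Helper24
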