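import Cfsg.Agent.Lib.Helper24.TwInst
import Cfsg.Agent.Lib.Helper24.TwFrob
import Cfsg.Agent.Lib.Helper24.CellsF

set_option autoImplicit false
set_option maxRecDepth 100000

namespace Cfsg.Agent.Lib.Helper24

open Cfsg.Lie

/-- the verified facts on the Chevalley group of type `E6` -/
noncomputable def envE6 (F : Type*) [Field F] : Env chevE6 F nTabE6 orbTabE6 :=
  Classical.choice (env_of_facts (F := F) chevE6 (by simp) nTabE6 orbTabE6 nfacts_E6 hnfacts_E6 cfacts_E6)

theorem graphPermInv_E6 : permInvOK chevE6.nroots graphRinv_E6 graphR_E6 = true := by decide +kernel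

theorem twPosPerm_E6 : posPermOK chevE6.nroots graphR_E6 = true := by decide +kernel

theorem twNegCompat_E6 : twNegCompatOK chevE6 graphP_E6 graphR_E6 = true := by decide +kernel

/-- the twisting automorphism of type `E6` -/
noncomputable def twE6 (F : Type*) [Field F] (f : F ≃+* F) : Tw chevE6 F (envE6 F).hF :=
  Tw.ofTables (envE6 F) graphP_E6 graphPinv_E6 graphR_E6 graphRinv_E6 graphInv_E6 graphConj_E6
    graphPerm_E6 graphPermInv_E6 twPosPerm_E6 twNegCompat_E6 f

def twHd_E6 : List (ℕ × ℕ) := [(39, 1), (42, 2), (46, 1), (56, 2), (43, 2), (47, 1), (57, 2), (44, 1), (50, 2), (58, 2), (51, 1), (59, 2), (61, 2), (53, 1), (60, 1), (62, 2), (63, 1), (64, 2), (65, 1), (67, 2), (68, 2), (69, 1), (70, 1), (71, 1)]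

def twLc_E6 : List ℕ := [39, 42, 37, 46, 56, 36, 43, 40, 47, 57, 38, 44, 50, 48, 58, 41, 51, 59, 45, 61, 49, 53, 60, 62, 52, 63, 64, 54, 65, 67, 55, 68, 66, 69, 70, 71]

def twLam_E6 : List ℤ := [8, 11, 15, 21, 15, 8]

def twRf_E6 : ℕ → ℕ := fun s => graphR_E6.getD s 0

def twEf_E6 : ℕ → ℤ := fun s => etaOf (mcolP graphP_E6 (chevE6.rank + chevE6.nroots) (chevE6.rank + s))

theorem twT1_E6 : twLc_E6 = twHd_E6.flatMap (fun p => orbitL twRf_E6 p.2 p.1) := by decide +kernel

theorem twT2_E6 : twHd_E6.all (fun p => Nat.ble (chevE6.nroots / 2) p.1 && Nat.blt p.1 chevE6.nroots &&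
    Nat.blt 0 p.2) = true := by decide +kernel

theorem twT3_E6 : twHd_E6.all (fun p => Nat.beq (twRf_E6^[p.2] p.1) p.1) = true := by decide +kernel

theorem twT4_E6 : twLc_E6.Nodup := by decide +kernel

theorem twT5_E6 : allFrom (fun r => twLc_E6.contains r) (chevE6.nroots / 2)
    (chevE6.nroots - chevE6.nroots / 2) = true := by decide +kernel

theorem twT6_E6 : goodListOK chevE6 twLc_E6 = true := by decide +kernel

theorem twT7_E6 : gradeSortedOK chevE6 twLam_E6 twLc_E6 = true := by decide +kernel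

theorem twT8_E6 : allFrom (fun r => decide (0 < gradeE chevE6 twLam_E6 (chevE6.rank + r)))
    (chevE6.nroots / 2) (chevE6.nroots - chevE6.nroots / 2) = true := by decide +kernel

theorem twT9_E6 : allBelow (fun s => decide (gradeE chevE6 twLam_E6 (chevE6.rank + twRf_E6 s) =
    gradeE chevE6 twLam_E6 (chevE6.rank + s))) chevE6.nroots = true := by decide +kernel

theorem twT10_E6 : twHd_E6.all (fun p => (List.range p.2).all fun j => Nat.beq j 0 ||
    ((commTermsQ chevE6 p.1 (twRf_E6^[j] p.1)).isEmpty && !(Nat.beq (twRf_E6^[j] p.1) p.1))) = true := by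
  decide +kernel

theorem twU_E6 (F : Type*) [Field F] (f : F ≃+* F) :
    TwU (envE6 F) (twE6 F f) twHd_E6 twLc_E6 twLam_E6 :=
  TwU.ofTables (envE6 F) (twE6 F f) twHd_E6 twLc_E6 twLam_E6 twT1_E6 twT2_E6 twT3_E6 twT4_E6 twT5_E6
    twT6_E6 twT7_E6 twT8_E6 twT9_E6 twT10_E6

theorem twT11_E6 : twHd_E6.all (fun p => (Nat.beq p.2 1 && decide (twEf_E6 p.1 = 1)) ||
    (Nat.beq p.2 2 && decide (twEf_E6 p.1 * twEf_E6 (twRf_E6 p.1) = 1))) = true := by decide +kernel

theorem twPar_E6 {F : Type*} [Field F] [Fintype F] (f : F ≃+* F) {q : ℕ} (hq : 1 < q)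
    (hK : Fintype.card F = q ^ 2) (hf : ∀ t, f t = t ^ q) (p : ℕ × ℕ) (hp : p ∈ twHd_E6) :
    {t : F | ((twE6 F f).step^[p.2] (p.1, t)).2 = t}.ncard = q ^ p.2 := by
  have h := List.all_eq_true.mp twT11_E6 p hp
  simp only [Bool.or_eq_true, Bool.and_eq_true, nbeq_true, decide_eq_true_eq] at h
  rcases h with ⟨h1, h2⟩ | ⟨h1, h2⟩
  · rw [h1, (twE6 F f).par1 p.1 h2, pow_one]
    have : {t : F | (twE6 F f).f t = t} = {t : F | t ^ q = t} := by
      ext t
      show f t = t ↔ t ^ q = t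
      rw [hf]
    rw [this]
    exact ncard_pow_eq_self hq (by norm_num) hK
  · rw [h1, (twE6 F f).par2 p.1 h2 (fun t => by
      show f (f t) = t
      rw [hf, hf, ← pow_mul, ← pow_two]; exact pow_card_pow_eq hK t), Set.ncard_univ,
      Nat.card_eq_fintype_card, hK]

end Cfsg.Agent.Lib.Helper24
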