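import Cfsg.Agent.Lib.Helper24.TwGen
import Cfsg.Agent.Lib.Helper24.TwTab_E6

set_option autoImplicit false
set_option maxRecDepth 100000

namespace Cfsg.Agent.Lib.Helper24

open Cfsg.Lie

def twFd_E6 : List (ℕ × ℕ × List ℕ) := [(46, 1, [1]), (39, 1, [3]), (56, 2, [0, 5]), (42, 2, [2, 4])]

def twCw_E6 : List (List ℕ × ℕ) := [([], 1), ([], 3), ([], 0), ([], 2), ([1], 3), ([0], 1), ([2], 3), ([3], 1), ([1, 0], 3), ([1, 2], 3), ([0, 3], 1), ([1, 2, 3], 3), ([1, 0, 2], 3), ([0, 3, 1], 1), ([3, 2], 1), ([1, 0, 2, 3], 3), ([0, 3, 2], 1), ([1, 0, 2, 3, 1], 3), ([0, 3, 1, 2], 1), ([1, 0, 2, 3, 1, 3], 3), ([1, 0, 2, 3, 1, 3, 2], 3), ([0, 3, 1, 2, 3], 1), ([0, 3, 1, 2, 3, 1], 1), ([0, 3, 1, 2, 3, 1, 0], 1)]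

theorem twG1_E6 : fundOK chevE6 twRf_E6 ((twFd_E6.map fun x => (x.1, x.2.1)) ++
    twFd_E6.map fun x => (chevE6.neg x.1, x.2.1)) = true := by decide +kernel

theorem twG2_E6 : twFd_E6.all (fun x => decide (x.2.2.map chevE6.simple = orbitL twRf_E6 x.2.1 x.1) &&
    x.2.2.all (fun i => Nat.blt i chevE6.rank)) = true := by decide +kernel

theorem twG3_E6 : twFd_E6.all (fun x => (List.range x.2.1).all fun j =>
    decide (twEf_E6 (twRf_E6^[j] x.1) = 1)) = true := by decide +kernel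

theorem twG4_E6 : twFd_E6.all (fun x => crossOK chevE6 (orbitL twRf_E6 x.2.1 x.1)) = true := by
  decide +kernel

theorem twG_E6 (F : Type*) [Field F] (f : F ≃+* F) : TwG (envE6 F) (twE6 F f) twFd_E6 where
  fund := twG1_E6
  jx := by
    intro x hx
    have := List.all_eq_true.mp twG2_E6 x hx
    simp only [Bool.and_eq_true, decide_eq_true_eq, List.all_eq_true, Nat.blt_eq] at this
    exact this
  eta1 := by
    intro x hx j hj
    have := List.all_eq_true.mp (List.all_eq_true.mp twG3_E6 x hx) j (List.mem_range.mpr hj)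
    exact of_decide_eq_true this
  cross := fun x hx => List.all_eq_true.mp twG4_E6 x hx

theorem twC_E6 : conjClsOK chevE6 twRf_E6 twFd_E6 twHd_E6 twCw_E6 = true := by decide +kernel

theorem twO_E6 : fundOrbOK chevE6 twRf_E6 twFd_E6 = true := by decide +kernel

/-- the fixed points of `U` lie in the twisted group -/
theorem twFixLe_E6 (F : Type*) [Field F] (f : F ≃+* F) :
    chevE6.posUnipotent F ⊓ (twE6 F f).Fx ≤ (twE6 F f).G1 (fundOf chevE6 twFd_E6) :=
  (twG_E6 F f).fix_le_G1 (twU_E6 F f) twCw_E6 twC_E6 twO_E6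

theorem twLeFx_E6 (F : Type*) [Field F] (f : F ≃+* F) :
    (twE6 F f).G1 (fundOf chevE6 twFd_E6) ≤ (twE6 F f).Fx :=
  Tw.G1_le_Fx (envE6 F) (twE6 F f) _ twG1_E6

end Cfsg.Agent.Lib.Helper24
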