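import Cfsg.Agent.Lib.Helper24.TwGenTab_D4
import Cfsg.Prelude.Def_LieTwisted

set_option autoImplicit false
set_option maxRecDepth 100000

namespace Cfsg.Agent.Lib.Helper24

open Cfsg.Lie

theorem twD4_R (F : Type*) [Field F] (f : F ≃+* F) : (twD4 F f).R = twRf_D4 := rfl
theorem twD4_η (F : Type*) [Field F] (f : F ≃+* F) : (twD4 F f).η = twEf_D4 := rfl
theorem twD4_f (F : Type*) [Field F] (f : F ≃+* F) : (twD4 F f).f = f := rfl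

theorem twFix_D4 : ∀ r ∈ [d4p2, d4m2], twRf_D4 r = r ∧ twEf_D4 r = 1 ∧
    (r, 1) ∈ fundOf chevD4 twFd_D4 := by decide +kernel

theorem twTriple_D4 : ∀ rs ∈ [(d4p1, d4p3, d4p4), (d4m1, d4m3, d4m4)],
    twRf_D4 rs.1 = rs.2.1 ∧ twRf_D4 rs.2.1 = rs.2.2 ∧ twEf_D4 rs.1 = 1 ∧ twEf_D4 rs.2.1 = 1 ∧
      twEf_D4 rs.2.2 = 1 ∧ (rs.1, 3) ∈ fundOf chevD4 twFd_D4 := by
  decide +kernel

theorem twFund_D4 : ∀ p ∈ fundOf chevD4 twFd_D4,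
    (p.2 = 1 ∧ p.1 ∈ [d4p2, d4m2] ∧ twEf_D4 p.1 = 1) ∨
    (p.2 = 3 ∧ (p.1, twRf_D4 p.1, twRf_D4 (twRf_D4 p.1)) ∈ [(d4p1, d4p3, d4p4), (d4m1, d4m3, d4m4)] ∧
      twEf_D4 p.1 = 1 ∧ twEf_D4 (twRf_D4 p.1) = 1 ∧ twEf_D4 (twRf_D4 (twRf_D4 p.1)) = 1) := by
  decide +kernel

/-- the twisted group of type `D₄`, as the group generated by the fixed elements of the classes -/
theorem twisted_eq_D4 {K : Type*} [Field K] (q : ℕ) (f : K ≃+* K) (hf : ∀ t, f t = t ^ q)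
    (hff : ∀ t : K, ((t ^ q) ^ q) ^ q = t) :
    twistedD4 K q = (twD4 K f).G1 (fundOf chevD4 twFd_D4) := by
  unfold twistedD4 ChevalleyDatum.genSubgroup Tw.G1
  congr 1
  ext g
  constructor
  · rintro ⟨w, hw, hg⟩
    rcases hw with ⟨t, ht, r, hr, rfl⟩ | ⟨t, rs, hrs, rfl⟩
    · obtain ⟨h1, h2, h3⟩ := twFix_D4 r hr
      refine ⟨(r, 1), h3, t, ?_, ?_⟩
      · rw [Tw.step1, twD4_η, h2, twD4_f, hf, ht]; simp
      · rw [Tw.cls1]; exact (envD4 K).hF.eq_wordGL g _ hg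
    · obtain ⟨h1, h2, h3, h4, h5, h6⟩ := twTriple_D4 rs hrs
      refine ⟨(rs.1, 3), h6, t, ?_, ?_⟩
      · rw [Tw.step3, twD4_η, twD4_R, h3, h1, h4, h2, h5, twD4_f, hf]
        simp only [Int.cast_one, one_mul]
        rw [hf, hf, hff]
      · rw [Tw.cls3, twD4_η, twD4_R, h3, h1, h4, h2, twD4_f, hf]
        simp only [Int.cast_one, one_mul]
        rw [hf, ← pow_mul, ← pow_two]
        exact (envD4 K).hF.eq_wordGL g _ hg
  · rintro ⟨p, hp, t, ht, rfl⟩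
    rcases twFund_D4 p hp with ⟨h1, h2, h3⟩ | ⟨h1, h2, h3, h4, h5⟩
    · obtain ⟨a, b⟩ := p
      simp only at h1 h2 h3 ht ⊢
      subst h1
      rw [Tw.step1, twD4_η, h3, twD4_f, hf] at ht
      simp only [Int.cast_one, one_mul] at ht
      refine ⟨[(a, t)], Or.inl ⟨t, ht, a, h2, rfl⟩, ?_⟩
      rw [Tw.cls1, Facts.wordGL_val]
    · obtain ⟨a, b⟩ := p
      simp only at h1 h2 h3 h4 h5 ht ⊢
      subst h1
      refine ⟨[(a, t), (twRf_D4 a, t ^ q), (twRf_D4 (twRf_D4 a), t ^ (q ^ 2))],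
        Or.inr ⟨t, (a, twRf_D4 a, twRf_D4 (twRf_D4 a)), h2, rfl⟩, ?_⟩
      rw [Tw.cls3, twD4_η, twD4_R, h3, h4, twD4_f, hf, Facts.wordGL_val]
      simp only [Int.cast_one, one_mul]
      rw [hf, ← pow_mul, ← pow_two]

end Cfsg.Agent.Lib.Helper24
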