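import Cfsg.Agent.Lib.Helper24.TwGenTab_E6
import Cfsg.Prelude.Def_LieTwisted

set_option autoImplicit false
set_option maxRecDepth 100000

namespace Cfsg.Agent.Lib.Helper24

open Cfsg.Lie

theorem twE6_R (F : Type*) [Field F] (f : F ≃+* F) : (twE6 F f).R = twRf_E6 := rfl
theorem twE6_η (F : Type*) [Field F] (f : F ≃+* F) : (twE6 F f).η = twEf_E6 := rfl
theorem twE6_f (F : Type*) [Field F] (f : F ≃+* F) : (twE6 F f).f = f := rfl

theorem twFix_E6 : ∀ r ∈ [e6p2, e6m2, e6p4, e6m4], twRf_E6 r = r ∧ twEf_E6 r = 1 ∧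
    (r, 1) ∈ fundOf chevE6 twFd_E6 := by decide +kernel

theorem twPair_E6 : ∀ rs ∈ [(e6p1, e6p6), (e6m1, e6m6), (e6p3, e6p5), (e6m3, e6m5)],
    twRf_E6 rs.1 = rs.2 ∧ twEf_E6 rs.1 = 1 ∧ twEf_E6 rs.2 = 1 ∧ (rs.1, 2) ∈ fundOf chevE6 twFd_E6 := by
  decide +kernel

theorem twFund_E6 : ∀ p ∈ fundOf chevE6 twFd_E6,
    (p.2 = 1 ∧ p.1 ∈ [e6p2, e6m2, e6p4, e6m4] ∧ twEf_E6 p.1 = 1) ∨
    (p.2 = 2 ∧ (p.1, twRf_E6 p.1) ∈ [(e6p1, e6p6), (e6m1, e6m6), (e6p3, e6p5), (e6m3, e6m5)] ∧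
      twEf_E6 p.1 = 1 ∧ twEf_E6 (twRf_E6 p.1) = 1) := by decide +kernel

/-- the twisted group of type `E₆`, as the group generated by the fixed elements of the classes -/
theorem twisted_eq_E6 {K : Type*} [Field K] (q : ℕ) (f : K ≃+* K) (hf : ∀ t, f t = t ^ q)
    (hff : ∀ t : K, (t ^ q) ^ q = t) :
    twistedE6 K q = (twE6 K f).G1 (fundOf chevE6 twFd_E6) := by
  unfold twistedE6 ChevalleyDatum.genSubgroup Tw.G1
  congr 1
  ext g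
  constructor
  · rintro ⟨w, hw, hg⟩
    rcases hw with ⟨t, ht, r, hr, rfl⟩ | ⟨t, rs, hrs, rfl⟩
    · obtain ⟨h1, h2, h3⟩ := twFix_E6 r hr
      refine ⟨(r, 1), h3, t, ?_, ?_⟩
      · rw [Tw.step1, twE6_η, h2, twE6_f, hf, ht]; simp
      · rw [Tw.cls1]; exact (envE6 K).hF.eq_wordGL g _ hg
    · obtain ⟨h1, h2, h3, h4⟩ := twPair_E6 rs hrs
      refine ⟨(rs.1, 2), h4, t, ?_, ?_⟩
      · rw [Tw.step2, twE6_η, twE6_R, h2, h1, h3, twE6_f, hf]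
        simp only [Int.cast_one, one_mul]
        rw [hf, hff]
      · rw [Tw.cls2, twE6_η, twE6_R, h2, h1, twE6_f, hf]
        simp only [Int.cast_one, one_mul]
        exact (envE6 K).hF.eq_wordGL g _ hg
  · rintro ⟨p, hp, t, ht, rfl⟩
    rcases twFund_E6 p hp with ⟨h1, h2, h3⟩ | ⟨h1, h2, h3, h4⟩
    · obtain ⟨a, b⟩ := p
      simp only at h1 h2 h3 ht ⊢
      subst h1
      rw [Tw.step1, twE6_η, h3, twE6_f, hf] at ht
      simp only [Int.cast_one, one_mul] at ht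
      refine ⟨[(a, t)], Or.inl ⟨t, ht, a, h2, rfl⟩, ?_⟩
      rw [Tw.cls1, Facts.wordGL_val]
    · obtain ⟨a, b⟩ := p
      simp only at h1 h2 h3 h4 ht ⊢
      subst h1
      refine ⟨[(a, t), (twRf_E6 a, t ^ q)], Or.inr ⟨t, (a, twRf_E6 a), h2, rfl⟩, ?_⟩
      rw [Tw.cls2, twE6_η, twE6_R, h3, twE6_f, hf, Facts.wordGL_val]
      simp only [Int.cast_one, one_mul]

end Cfsg.Agent.Lib.Helper24
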