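import Cfsg.Agent.Lib.Helper24.UFact

set_option autoImplicit false
set_option linter.unusedSimpArgs false

namespace Cfsg.Agent.Lib.Helper24

open Cfsg.Lie

/-- every tail of the list is closed under the terms of the commutator formula with the preceding roots -/
def goodListOK (D : ChevalleyDatum) : List ℕ → Bool
  | [] => true
  | r :: L => (L.all fun s => (commTermsQ D r s).all fun c => L.contains c.1) && goodListOK D L

/-- the grades do not decrease along the list -/
def gradeSortedOK (D : ChevalleyDatum) (Λ : List ℤ) : List ℕ → Bool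
  | [] => true
  | r :: L => (L.all fun s => decide (gradeE D Λ (D.rank + r) ≤ gradeE D Λ (D.rank + s))) &&
      gradeSortedOK D Λ L

section tword

variable {F : Type*} [Field F] {D : ChevalleyDatum}

theorem Facts.exists_ordProd_gen (hF : Facts D) (hC : ChainOK D)
    (hcomm : ∀ r < D.nroots, ∀ s < D.nroots, s ≠ r → s ≠ D.neg r → hF.QF F r s)
    (hneg : ∀ r s, D.IsPosRoot r → D.IsPosRoot s → s ≠ D.neg r)
    (L : List ℕ) (hnd : L.Nodup) (hpos : ∀ r ∈ L, D.IsPosRoot r) (hgood : goodListOK D L = true)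
    (g : GL D.Idx F) (hg : g ∈ rootClosure D F (· ∈ L)) :
    ∃ t : ℕ → F, (∀ r, r ∉ L → t r = 0) ∧ g = hF.ordProd L t := by
  induction L generalizing g with
  | nil =>
    have h : rootClosure D F (· ∈ ([] : List ℕ)) = ⊥ := by
      unfold rootClosure
      rw [Subgroup.closure_eq_bot_iff]
      rintro x ⟨s, u, hs, _⟩
      exact absurd hs List.not_mem_nil
    rw [h] at hg
    exact ⟨fun _ => 0, fun _ _ => rfl, by rw [Subgroup.mem_bot.mp hg, hF.ordProd_nil]⟩
  | cons r L ih =>
    obtain ⟨hrnotin, hnd'⟩ := List.nodup_cons.mp hnd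
    simp only [goodListOK, Bool.and_eq_true, List.all_eq_true, List.contains_iff_mem] at hgood
    obtain ⟨hterms, hgood'⟩ := hgood
    have hpos' : ∀ s ∈ L, D.IsPosRoot s := fun s hs => hpos s (List.mem_cons_of_mem _ hs)
    have hrpos := hpos r List.mem_cons_self
    have hle : rootClosure D F (· ∈ r :: L) ≤ rootClosure D F (· ∈ L) ⊔ D.rootSubgroup F r := by
      unfold rootClosure ChevalleyDatum.rootSubgroup
      rw [Subgroup.closure_le]
      rintro x ⟨s, u, hs, hx⟩
      rcases List.mem_cons.mp hs with h | h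
      · subst h; exact Subgroup.mem_sup_right (Subgroup.subset_closure ⟨u, hx⟩)
      · exact Subgroup.mem_sup_left (Subgroup.subset_closure ⟨s, u, h, hx⟩)
    have hnorm : D.rootSubgroup F r ≤
        Subgroup.normalizer (rootClosure D F (· ∈ L) : Set (GL D.Idx F)) := by
      unfold ChevalleyDatum.rootSubgroup
      rw [Subgroup.closure_le]
      rintro x ⟨u, hx⟩
      rw [hF.eq_xGL x r u hx]
      apply hF.xGL_mem_normalizer_rootClosure hC _ r hrpos.1 (fun s hs => (hpos' s hs).1)
      · intro s hs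
        exact hcomm r hrpos.1 s (hpos' s hs).1 (fun h => hrnotin (h ▸ hs))
          (hneg r s hrpos (hpos' s hs))
      · intro s hs c hc
        exact hterms s hs c hc
    obtain ⟨v, hv, h, hh, hgi⟩ := exists_mul_of_mem_sup_of_le_normalizer _ _ hnorm g⁻¹
      (hle (Subgroup.inv_mem _ hg))
    obtain ⟨t0, ht0⟩ := hF.exists_of_mem_rootSubgroup r h⁻¹ (Subgroup.inv_mem _ hh)
    obtain ⟨t', ht'0, ht'⟩ := ih hnd' hpos' hgood' v⁻¹ (Subgroup.inv_mem _ hv)
    refine ⟨Function.update t' r t0, ?_, ?_⟩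
    · intro s hs
      rw [List.mem_cons, not_or] at hs
      rw [Function.update_of_ne hs.1]
      exact ht'0 s hs.2
    · rw [hF.ordProd_cons, Function.update_self]
      have e : hF.ordProd L (Function.update t' r t0) = hF.ordProd L t' := by
        apply hF.ordProd_congr
        intro s hs
        rw [Function.update_of_ne]
        rintro rfl
        exact hrnotin hs
      rw [e, ← ht', ← ht0]
      have : g = (v * h)⁻¹ := by rw [← hgi, inv_inv]
      rw [this, mul_inv_rev]

/-- the entry of `x_s(u)` in the row of `h_{p_i}` and the column of `e_{-r}` vanishes for `s ≠ r` -/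
theorem x_neg_entry_ne (r s : ℕ) (hs : s < D.nroots) (hlt : D.neg r < D.nroots)
    (hne : D.neg r ≠ D.neg s) (u : F) (i : Fin D.rank) :
    D.x F s u (Sum.inl i) (Sum.inr ⟨D.neg r, hlt⟩) = 0 := by
  unfold ChevalleyDatum.x
  rw [dif_pos hs]
  unfold ChevalleyDatum.xMat
  simp only [Matrix.of_apply]
  split_ifs with h1 h2
  · rfl
  · exfalso; exact hne h2
  · rfl

/-- `x_r(t)` lies in the subgroup generated by root subgroups of other roots of at least the grade of `r`
only for `t = 0` -/
theorem Facts.eq_zero_of_xGL_mem_closure_tie (hF : Facts D) (hNe : negNeOK D = true)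
    (hU : corootUnitOK D = true) (Λ : List ℤ) (R : ℕ → Prop) (r : ℕ) (hr : r < D.nroots)
    (hr0 : 0 < gradeE D Λ (D.rank + r))
    (hR : ∀ s, R s → s < D.nroots ∧ D.neg r ≠ D.neg s ∧
      gradeE D Λ (D.rank + r) ≤ gradeE D Λ (D.rank + s)) (t : F)
    (h : hF.xGL r t ∈ rootClosure D F R) : t = 0 := by
  have h1 := allBelow_elim _ _ hNe r hr
  simp only [Bool.and_eq_true, decide_eq_true_eq, Bool.not_eq_true', nbeq_false] at h1
  obtain ⟨hlt, hne⟩ := h1
  set c := gradeE D Λ (D.rank + r) with hc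
  -- the grading of the two indices
  have hfs : fullShape D r (D.rank + D.neg r) =
      (D.rank + r, -1, 2) :: (List.range D.rank).map
        (fun i => (i, (D.coroot.getD r #[]).getD i 0, 1)) := by
    unfold fullShape
    rw [if_neg (by omega), if_neg (by omega), if_pos (by unfold ChevalleyDatum.neg; omega)]
  have hgr : ∀ i : Fin D.rank, gradeE D Λ (enc D (Sum.inl i)) =
      c + gradeE D Λ (enc D (Sum.inr (⟨D.neg r, hlt⟩ : Fin D.nroots))) := by
    intro i
    have hmem : ((i.val, (D.coroot.getD r #[]).getD i.val 0, 1) : ℕ × ℤ × ℕ) ∈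
        fullShape D r (enc D (Sum.inr (⟨D.neg r, hlt⟩ : Fin D.nroots))) := by
      have e1 : enc D (Sum.inr (⟨D.neg r, hlt⟩ : Fin D.nroots)) = D.rank + D.neg r := rfl
      rw [e1, hfs]
      apply List.mem_cons_of_mem
      rw [List.mem_map]
      exact ⟨i.val, List.mem_range.mpr i.isLt, rfl⟩
    have hcc := hF.gradeE_compat Λ r hr (Sum.inl i) (Sum.inr ⟨D.neg r, hlt⟩) _ hmem rfl
    simp only at hcc
    push_cast at hcc
    linarith
  have key : ∀ x ∈ rootClosure D F R,
      IsUpper (fun a : D.Idx => gradeE D Λ (enc D a)) (c - 1) (x : Matrix D.Idx D.Idx F) ∧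
      ∀ i : Fin D.rank, (x : Matrix D.Idx D.Idx F) (Sum.inl i) (Sum.inr ⟨D.neg r, hlt⟩) = 0 := by
    intro x hx
    unfold rootClosure at hx
    induction hx using Subgroup.closure_induction'' with
    | mem x hx =>
      obtain ⟨s, u, hs, hx⟩ := hx
      obtain ⟨hs1, hs2, hs3⟩ := hR s hs
      rw [hx]
      exact ⟨hF.x_isUpper Λ (c - 1) (by omega) s hs1 (by omega) u,
        fun i => x_neg_entry_ne r s hs1 hlt hs2 u i⟩
    | inv_mem x hx =>
      obtain ⟨s, u, hs, hx⟩ := hx
      obtain ⟨hs1, hs2, hs3⟩ := hR s hs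
      rw [hF.eq_xGL x s u hx, hF.xGL_inv]
      exact ⟨hF.x_isUpper Λ (c - 1) (by omega) s hs1 (by omega) (-u),
        fun i => x_neg_entry_ne r s hs1 hlt hs2 (-u) i⟩
    | one =>
      refine ⟨IsUpper.one _ _, fun i => ?_⟩
      rw [Units.val_one, Matrix.one_apply_ne (by simp)]
    | mul x y _ _ hx hy =>
      rw [Units.val_mul]
      refine ⟨IsUpper.mul (by omega) hx.1 hy.1, fun i => ?_⟩
      rw [Matrix.mul_apply]
      apply Finset.sum_eq_zero
      intro k _
      by_contra hk
      have hk1 : (x : Matrix D.Idx D.Idx F) (Sum.inl i) k ≠ 0 := left_ne_zero_of_mul hk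
      have hk2 : (y : Matrix D.Idx D.Idx F) k (Sum.inr ⟨D.neg r, hlt⟩) ≠ 0 := right_ne_zero_of_mul hk
      by_cases hak : (Sum.inl i : D.Idx) = k
      · subst hak; exact hk2 (hy.2 i)
      by_cases hkb : k = Sum.inr ⟨D.neg r, hlt⟩
      · subst hkb; exact hk1 (hx.2 i)
      have h1 := hx.1 _ _ hak hk1
      have h2 := hy.1 _ _ hkb hk2
      have h3 := hgr i
      simp only at h1 h2
      omega
  obtain ⟨_, h2⟩ := key _ h
  apply corootUnit_spec hU r hr
  intro i
  have := h2 i
  rwa [Facts.xGL_val, x_neg_entry r hr hlt hne] at this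

theorem gradeSortedOK_spec (Λ : List ℤ) (L : List ℕ) (h : gradeSortedOK D Λ L = true) :
    L.Pairwise (fun r s => gradeE D Λ (D.rank + r) ≤ gradeE D Λ (D.rank + s)) := by
  induction L with
  | nil => exact List.Pairwise.nil
  | cons r L ih =>
    simp only [gradeSortedOK, Bool.and_eq_true, List.all_eq_true, decide_eq_true_eq] at h
    exact List.pairwise_cons.mpr ⟨h.1, ih h.2⟩

theorem Facts.ordProd_inj_gen (hF : Facts D) (hNe : negNeOK D = true) (hU : corootUnitOK D = true)
    (hneginj : ∀ r s, D.IsPosRoot r → D.IsPosRoot s → D.neg r = D.neg s → r = s)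
    (Λ : List ℤ) (hg0 : ∀ r, D.IsPosRoot r → 0 < gradeE D Λ (D.rank + r))
    (L : List ℕ) (hnd : L.Nodup)
    (hsort : L.Pairwise (fun r s => gradeE D Λ (D.rank + r) ≤ gradeE D Λ (D.rank + s)))
    (hpos : ∀ r ∈ L, D.IsPosRoot r)
    (t t' : ℕ → F) (h : hF.ordProd L t = hF.ordProd L t') : ∀ r ∈ L, t r = t' r := by
  induction L with
  | nil => intro r hr; exact absurd hr List.not_mem_nil
  | cons r L ih =>
    obtain ⟨hrnotin, hnd'⟩ := List.nodup_cons.mp hnd
    have hsort' := List.pairwise_cons.mp hsort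
    have hpos' : ∀ s ∈ L, D.IsPosRoot s := fun s hs => hpos s (List.mem_cons_of_mem _ hs)
    have hrpos := hpos r List.mem_cons_self
    rw [hF.ordProd_cons, hF.ordProd_cons] at h
    have h1 : hF.xGL r (t r - t' r) = hF.ordProd L t' * (hF.ordProd L t)⁻¹ := by
      have e : hF.xGL r (t r - t' r) = (hF.xGL r (t' r))⁻¹ * hF.xGL r (t r) := by
        rw [hF.xGL_inv, hF.xGL_mul]; congr 1; ring
      rw [e, eq_mul_inv_iff_mul_eq, mul_assoc, h]; group
    have h2 : hF.xGL r (t r - t' r) ∈ rootClosure D F (· ∈ L) := by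
      rw [h1]
      exact Subgroup.mul_mem _ (hF.ordProd_mem L t') (Subgroup.inv_mem _ (hF.ordProd_mem L t))
    have h3 := hF.eq_zero_of_xGL_mem_closure_tie hNe hU Λ (· ∈ L) r hrpos.1 (hg0 r hrpos)
      (fun s hs => ⟨(hpos' s hs).1, fun hh => hrnotin
        ((hneginj r s hrpos (hpos' s hs) hh) ▸ hs), hsort'.1 s hs⟩) _ h2
    have h4 : t r = t' r := sub_eq_zero.mp h3
    rw [h4] at h
    have h5 := mul_left_cancel h
    intro s hs
    rcases List.mem_cons.mp hs with rfl | hs
    · exact h4
    · exact ih hnd' hsort'.2 hpos' h5 s hs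

end tword

end Cfsg.Agent.Lib.Helper24
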