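import Mathlib

set_option autoImplicit false

namespace Cfsg.Agent.Lib.Helper24

/-- the value of the polynomial with the given list of coefficients -/
def hornerEval : List ℕ → ℕ → ℕ
  | [], _ => 0
  | a :: l, x => a + x * hornerEval l x

/-- add a monomial to a list of coefficients -/
def addMono : List ℕ → ℕ → List ℕ
  | [], 0 => [1]
  | [], c + 1 => 0 :: addMono [] c
  | a :: l, 0 => (a + 1) :: l
  | a :: l, c + 1 => a :: addMono l c

theorem hornerEval_addMono (l : List ℕ) (c x : ℕ) :
    hornerEval (addMono l c) x = hornerEval l x + x ^ c := by
  induction c generalizing l with
  | zero =>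
    cases l with
    | nil => simp [addMono, hornerEval]
    | cons a l => simp [addMono, hornerEval]; ring
  | succ c ih =>
    cases l with
    | nil =>
      simp only [addMono, hornerEval, ih]
      simp [hornerEval]; ring
    | cons a l =>
      simp only [addMono, hornerEval, ih]
      ring

/-- the list of coefficients of the sum of the monomials with the given exponents -/
def monoSum (L : List ℕ) : List ℕ := L.foldr (fun c acc => addMono acc c) []

theorem sum_pow_eq_hornerEval (L : List ℕ) (x : ℕ) :
    (L.map fun c => x ^ c).sum = hornerEval (monoSum L) x := by
  induction L with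
  | nil => simp [monoSum, hornerEval]
  | cons c L ih =>
    simp only [List.map_cons, List.sum_cons, monoSum, List.foldr_cons]
    rw [hornerEval_addMono, ih]
    simp only [monoSum]
    ring

end Cfsg.Agent.Lib.Helper24
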