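import Cfsg.Agent.Lib.Helper24.TwCellTab_D4
import Cfsg.Agent.Lib.Helper24.TwId_D4
import Cfsg.Agent.Lib.Helper24.TwPoly
import Cfsg.Agent.Lib.Helper24.OrdFin

set_option autoImplicit false
set_option maxRecDepth 100000

namespace Cfsg.Agent.Lib.Helper24

open Cfsg.Lie

theorem twMono_D4 : monoSum twWCn_D4 = [1, 1, 0, 1, 2, 1, 0, 1, 2, 1, 0, 1, 1] := by decide +kernel

theorem twPolyId_D4 (x : ℤ) :
    (1 + x * (1 + x * (0 + x * (1 + x * (2 + x * (1 + x * (0 + x * (1 + x * (2 + x * (1 + x * (0 + x * (1 + x * (1 + x * 0))))))))))))) *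
      (x ^ 12 * ((x - 1) ^ 2 * (x ^ 2 + x + 1))) =
    x ^ 12 * (x ^ 2 - 1) * (x ^ 6 - 1) * (x ^ 8 + x ^ 4 + 1) := by ring

/-- the order of `³D₄(q)`, given the order of its diagonal subgroup -/
theorem ord_twisted_D4 {K : Type*} [Field K] [Fintype K] {q : ℕ} (hq : IsPrimePow q)
    (hK : Fintype.card K = q ^ 3)
    (hH : Nat.card ↥(chevD4.diagonalSubgroup K ⊓ twistedD4 K q) = (q - 1) ^ 2 * (q ^ 2 + q + 1)) :
    Nat.card ↥(twistedD4 K q) = q ^ 12 * (q ^ 2 - 1) * (q ^ 6 - 1) * (q ^ 8 + q ^ 4 + 1) := by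
  have hq1 : 1 < q := hq.one_lt
  have hq0 : 1 ≤ q := hq1.le
  obtain ⟨f, hf⟩ := exists_frobQ hq hK
  have hff : ∀ t : K, ((t ^ q) ^ q) ^ q = t := fun t => by
    rw [← pow_mul, ← pow_mul, show q * (q * q) = q ^ 3 by ring]; exact pow_card_pow_eq hK t
  rw [twisted_eq_D4 q f hf hff] at hH ⊢
  rw [twCard_D4 f q (by omega) (twPar_D4 f hq1 hK hf), hH, sum_pow_eq_hornerEval, twMono_D4]
  have e : twExp (fun _ => True) twHd_D4 = 12 := by simp [twExp, twHd_D4]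
  rw [e]
  simp only [hornerEval]
  zify
  simp only [ord_cast_sub q _ hq0, ord_cast_sub' q hq0]
  exact twPolyId_D4 (q : ℤ)

end Cfsg.Agent.Lib.Helper24
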