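import Cfsg.Agent.Lib.Helper24.TwCellTab_E6
import Cfsg.Agent.Lib.Helper24.TwId_E6
import Cfsg.Agent.Lib.Helper24.TwPoly
import Cfsg.Agent.Lib.Helper24.OrdFin

set_option autoImplicit false
set_option maxRecDepth 100000

namespace Cfsg.Agent.Lib.Helper24

open Cfsg.Lie

theorem twMono_E6 : monoSum twWCn_E6 = [1, 2, 4, 6, 9, 13, 17, 22, 26, 32, 37, 43, 47, 51, 55, 58, 61, 61, 62, 61, 61, 58, 55, 51, 47, 43, 37, 32, 26, 22, 17, 13, 9, 6, 4, 2, 1] := by decide +kernel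

theorem twPolyId_E6 (x : ℤ) :
    (1 + x * (2 + x * (4 + x * (6 + x * (9 + x * (13 + x * (17 + x * (22 + x * (26 + x * (32 + x * (37 + x * (43 + x * (47 + x * (51 + x * (55 + x * (58 + x * (61 + x * (61 + x * (62 + x * (61 + x * (61 + x * (58 + x * (55 + x * (51 + x * (47 + x * (43 + x * (37 + x * (32 + x * (26 + x * (22 + x * (17 + x * (13 + x * (9 + x * (6 + x * (4 + x * (2 + x * (1 + x * 0))))))))))))))))))))))))))))))))))))) *
      (x ^ 36 * ((x - 1) ^ 4 * (x + 1) ^ 2)) =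
    x ^ 36 * (x ^ 2 - 1) * (x ^ 5 + 1) * (x ^ 6 - 1) * (x ^ 8 - 1) * (x ^ 9 + 1) * (x ^ 12 - 1) := by ring

/-- the order of `²E₆(q)`, given the order of its diagonal subgroup -/
theorem ord_twisted_E6 {K : Type*} [Field K] [Fintype K] {q : ℕ} (hq : IsPrimePow q)
    (hK : Fintype.card K = q ^ 2)
    (hH : Nat.gcd 3 (q + 1) * Nat.card ↥(chevE6.diagonalSubgroup K ⊓ twistedE6 K q) =
      (q - 1) ^ 4 * (q + 1) ^ 2) :
    Nat.gcd 3 (q + 1) * Nat.card ↥(twistedE6 K q) =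
      q ^ 36 * (q ^ 2 - 1) * (q ^ 5 + 1) * (q ^ 6 - 1) * (q ^ 8 - 1) * (q ^ 9 + 1) * (q ^ 12 - 1) := by
  have hq1 : 1 < q := hq.one_lt
  have hq0 : 1 ≤ q := hq1.le
  obtain ⟨f, hf⟩ := exists_frobQ hq hK
  have hff : ∀ t : K, (t ^ q) ^ q = t := fun t => by
    rw [← pow_mul, show q * q = q ^ 2 by ring]; exact pow_card_pow_eq hK t
  rw [twisted_eq_E6 q f hf hff] at hH ⊢
  rw [twCard_E6 f q (by omega) (twPar_E6 f hq1 hK hf), sum_pow_eq_hornerEval, twMono_E6]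
  have e : twExp (fun _ => True) twHd_E6 = 36 := by simp [twExp, twHd_E6]
  rw [e]
  have e2 : ∀ A B C G : ℕ, G * (A * (B * C)) = A * (B * (G * C)) := fun A B C G => by ring
  rw [e2, hH]
  simp only [hornerEval]
  zify
  simp only [ord_cast_sub q _ hq0, ord_cast_sub' q hq0]
  exact twPolyId_E6 (q : ℤ)

end Cfsg.Agent.Lib.Helper24
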