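import Cfsg.Agent.Lib.Helper24.TwOrd

set_option autoImplicit false
set_option linter.unusedSimpArgs false

namespace Cfsg.Agent.Lib.Helper24

open Cfsg.Lie

/-- a twisting automorphism: a graph automorphism composed with a field automorphism -/
structure Tw (D : ChevalleyDatum) (F : Type*) [Field F] (hF : Facts D) where
  σ : GL D.Idx F ≃* GL D.Idx F
  R : ℕ → ℕ
  Rinv : ℕ → ℕ
  η : ℕ → ℤ
  f : F ≃+* F
  hx : ∀ s < D.nroots, ∀ t : F, σ (hF.xGL s t) = hF.xGL (R s) ((η s : F) * f t)
  hη : ∀ s < D.nroots, η s = 1 ∨ η s = -1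
  hRlt : ∀ s < D.nroots, R s < D.nroots
  hRinv : ∀ s < D.nroots, Rinv s < D.nroots ∧ R (Rinv s) = s ∧ Rinv (R s) = s
  hRpos : ∀ s < D.nroots, (D.IsPosRoot (R s) ↔ D.IsPosRoot s)
  hRneg : ∀ s < D.nroots, (D.IsNegRoot (R s) ↔ D.IsNegRoot s)
  hRn : ∀ s < D.nroots, R (D.neg s) = D.neg (R s)
  hηn : ∀ s < D.nroots, η (D.neg s) = η s

section twsigma

variable {F : Type*} [Field F] {D : ChevalleyDatum} {hF : Facts D}

/-- the subgroup of the fixed points -/
def Tw.Fx (T : Tw D F hF) : Subgroup (GL D.Idx F) where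
  carrier := {g | T.σ g = g}
  mul_mem' := by
    intro a b ha hb
    simp only [Set.mem_ofPred_eq] at ha hb ⊢
    rw [map_mul, ha, hb]
  one_mem' := by simp
  inv_mem' := by
    intro a ha
    simp only [Set.mem_ofPred_eq] at ha ⊢
    rw [map_inv, ha]

theorem Tw.mem_Fx (T : Tw D F hF) (g : GL D.Idx F) : g ∈ T.Fx ↔ T.σ g = g := Iff.rfl

theorem Facts.xGL_of_ge (hF : Facts D) (s : ℕ) (hs : ¬ s < D.nroots) (t : F) : hF.xGL s t = 1 := by
  apply Units.ext
  simp [ChevalleyDatum.x, hs]

theorem Tw.ηsq (T : Tw D F hF) (s : ℕ) (hs : s < D.nroots) : ((T.η s : ℤ) : F) * (T.η s : F) = 1 := by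
  rcases T.hη s hs with h | h <;> rw [h] <;> simp

/-- `σ` maps the subgroup generated by root subgroups into the one of the image roots -/
theorem Tw.map_rootClosure (T : Tw D F hF) (Ψ Ψ' : ℕ → Prop)
    (h : ∀ s < D.nroots, Ψ s → Ψ' (T.R s)) (x : GL D.Idx F) (hx : x ∈ rootClosure D F Ψ) :
    T.σ x ∈ rootClosure D F Ψ' := by
  unfold rootClosure at hx
  induction hx using Subgroup.closure_induction with
  | mem x hx =>
    obtain ⟨s, u, hs, hxe⟩ := hx
    rw [hF.eq_xGL x s u hxe]
    by_cases hlt : s < D.nroots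
    · rw [T.hx s hlt]
      exact hF.xGL_mem_rootClosure Ψ' _ (h s hlt hs) _
    · rw [hF.xGL_of_ge s hlt, map_one]
      exact Subgroup.one_mem _
  | one => rw [map_one]; exact Subgroup.one_mem _
  | mul x y _ _ hx hy => rw [map_mul]; exact Subgroup.mul_mem _ hx hy
  | inv x _ hx => rw [map_inv]; exact Subgroup.inv_mem _ hx

/-- every root element is the image of a root element -/
theorem Tw.xGL_eq_map (T : Tw D F hF) (s : ℕ) (hs : s < D.nroots) (t : F) :
    hF.xGL (T.R s) t = T.σ (hF.xGL s (T.f.symm ((T.η s : F) * t))) := by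
  rw [T.hx s hs, RingEquiv.apply_symm_apply, ← mul_assoc, T.ηsq s hs, one_mul]

theorem Tw.symm_xGL (T : Tw D F hF) (r : ℕ) (hr : r < D.nroots) (t : F) :
    T.σ.symm (hF.xGL r t) = hF.xGL (T.Rinv r) (T.f.symm ((T.η (T.Rinv r) : F) * t)) := by
  obtain ⟨h1, h2, _⟩ := T.hRinv r hr
  rw [MulEquiv.symm_apply_eq, ← T.xGL_eq_map _ h1, h2]

theorem Tw.symm_rootClosure (T : Tw D F hF) (Ψ Ψ' : ℕ → Prop)
    (h : ∀ s < D.nroots, Ψ s → Ψ' (T.Rinv s)) (x : GL D.Idx F) (hx : x ∈ rootClosure D F Ψ) :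
    T.σ.symm x ∈ rootClosure D F Ψ' := by
  unfold rootClosure at hx
  induction hx using Subgroup.closure_induction with
  | mem x hx =>
    obtain ⟨s, u, hs, hxe⟩ := hx
    rw [hF.eq_xGL x s u hxe]
    by_cases hlt : s < D.nroots
    · rw [T.symm_xGL s hlt]
      exact hF.xGL_mem_rootClosure Ψ' _ (h s hlt hs) _
    · rw [hF.xGL_of_ge s hlt, map_one]
      exact Subgroup.one_mem _
  | one => rw [map_one]; exact Subgroup.one_mem _
  | mul x y _ _ hx hy => rw [map_mul]; exact Subgroup.mul_mem _ hx hy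
  | inv x _ hx => rw [map_inv]; exact Subgroup.inv_mem _ hx

theorem Tw.map_pos (T : Tw D F hF) (x : GL D.Idx F) (hx : x ∈ D.posUnipotent F) :
    T.σ x ∈ D.posUnipotent F :=
  T.map_rootClosure D.IsPosRoot D.IsPosRoot (fun s hs h => (T.hRpos s hs).mpr h) x hx

theorem Tw.map_neg (T : Tw D F hF) (x : GL D.Idx F) (hx : x ∈ D.negUnipotent F) :
    T.σ x ∈ D.negUnipotent F :=
  T.map_rootClosure D.IsNegRoot D.IsNegRoot (fun s hs h => (T.hRneg s hs).mpr h) x hx

theorem Tw.symm_neg (T : Tw D F hF) (x : GL D.Idx F) (hx : x ∈ D.negUnipotent F) :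
    T.σ.symm x ∈ D.negUnipotent F :=
  T.symm_rootClosure D.IsNegRoot D.IsNegRoot (fun s hs h => by
    obtain ⟨h1, h2, _⟩ := T.hRinv s hs
    have := T.hRneg _ h1
    rw [h2] at this
    exact this.mp h) x hx

/-- the pairs (root, parameter) and the action of `σ` on them -/
def Tw.step (T : Tw D F hF) (p : ℕ × F) : ℕ × F := (T.R p.1, (T.η p.1 : F) * T.f p.2)

def Tw.xp (_T : Tw D F hF) (p : ℕ × F) : GL D.Idx F := hF.xGL p.1 p.2

theorem Tw.map_xp (T : Tw D F hF) (p : ℕ × F) (hp : p.1 < D.nroots) : T.σ (T.xp p) = T.xp (T.step p) :=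
  T.hx p.1 hp p.2

/-- the product of the root elements along a piece of an orbit -/
def Tw.cls (T : Tw D F hF) : ℕ → ℕ × F → GL D.Idx F
  | 0, _ => 1
  | k + 1, p => T.xp p * T.cls k (T.step p)

theorem Tw.step_iter_fst (T : Tw D F hF) (k : ℕ) (p : ℕ × F) : (T.step^[k] p).1 = T.R^[k] p.1 := by
  induction k generalizing p with
  | zero => rfl
  | succ k ih => rw [Function.iterate_succ_apply, Function.iterate_succ_apply, ih]; rfl

theorem Tw.iter_lt (T : Tw D F hF) (k : ℕ) (s : ℕ) (hs : s < D.nroots) : T.R^[k] s < D.nroots := by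
  induction k generalizing s with
  | zero => exact hs
  | succ k ih => rw [Function.iterate_succ_apply]; exact ih _ (T.hRlt s hs)

theorem Tw.xp_mul_map_cls (T : Tw D F hF) (k : ℕ) (p : ℕ × F) (hp : p.1 < D.nroots) :
    T.xp p * T.σ (T.cls k p) = T.cls k p * T.xp (T.step^[k] p) := by
  induction k generalizing p with
  | zero => simp [Tw.cls]
  | succ k ih =>
    have hp' : (T.step p).1 < D.nroots := T.hRlt _ hp
    rw [Tw.cls, map_mul, T.map_xp p hp, Function.iterate_succ_apply, mul_assoc, ih _ hp']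

theorem Tw.map_cls_of_closed (T : Tw D F hF) (k : ℕ) (p : ℕ × F) (hp : p.1 < D.nroots)
    (hcl : T.step^[k] p = p) (hcomm : Commute (T.xp p) (T.cls k p)) : T.σ (T.cls k p) = T.cls k p := by
  have h := T.xp_mul_map_cls k p hp
  rw [hcl, ← hcomm.eq] at h
  exact mul_left_cancel h

/-- the roots of a piece of an orbit -/
def orbitL (R : ℕ → ℕ) : ℕ → ℕ → List ℕ
  | 0, _ => []
  | k + 1, h => h :: orbitL R k (R h)

theorem orbitL_length (R : ℕ → ℕ) (k h : ℕ) : (orbitL R k h).length = k := by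
  induction k generalizing h with
  | zero => rfl
  | succ k ih => simp [orbitL, ih]

theorem mem_orbitL (R : ℕ → ℕ) (k h s : ℕ) : s ∈ orbitL R k h ↔ ∃ j < k, s = R^[j] h := by
  induction k generalizing h with
  | zero => simp [orbitL]
  | succ k ih =>
    rw [orbitL, List.mem_cons, ih]
    constructor
    · rintro (rfl | ⟨j, hj, rfl⟩)
      · exact ⟨0, by omega, rfl⟩
      · exact ⟨j + 1, by omega, by rw [Function.iterate_succ_apply]⟩
    · rintro ⟨j, hj, rfl⟩
      rcases j with _ | j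
      · left; rfl
      · right; exact ⟨j, by omega, by rw [Function.iterate_succ_apply]⟩

theorem Tw.cls_mem (T : Tw D F hF) (k : ℕ) (p : ℕ × F) :
    T.cls k p ∈ rootClosure D F (· ∈ orbitL T.R k p.1) := by
  induction k generalizing p with
  | zero => exact Subgroup.one_mem _
  | succ k ih =>
    rw [Tw.cls, orbitL]
    apply Subgroup.mul_mem
    · exact hF.xGL_mem_rootClosure _ _ List.mem_cons_self _
    · have hle : rootClosure D F (· ∈ orbitL T.R k (T.step p).1) ≤
          rootClosure D F (· ∈ p.1 :: orbitL T.R k (T.R p.1)) := by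
        unfold rootClosure
        apply Subgroup.closure_mono
        rintro x ⟨s, u, hs, hx⟩
        exact ⟨s, u, List.mem_cons_of_mem _ hs, hx⟩
      exact hle (ih _)

/-- the twisted coefficient functions -/
def Tw.tw (T : Tw D F hF) (c : ℕ → F) : ℕ → F := fun s => (T.η (T.Rinv s) : F) * T.f (c (T.Rinv s))

theorem Tw.tw_R (T : Tw D F hF) (c : ℕ → F) (s : ℕ) (hs : s < D.nroots) :
    T.tw c (T.R s) = (T.η s : F) * T.f (c s) := by
  unfold Tw.tw
  rw [(T.hRinv s hs).2.2]

theorem Tw.map_ordProd (T : Tw D F hF) (L : List ℕ) (hL : ∀ s ∈ L, s < D.nroots) (c : ℕ → F) :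
    T.σ (hF.ordProd L c) = hF.ordProd (L.map T.R) (T.tw c) := by
  induction L with
  | nil => simp [Facts.ordProd_nil]
  | cons r L ih =>
    rw [hF.ordProd_cons, map_mul, List.map_cons, hF.ordProd_cons,
      ih (fun s hs => hL s (List.mem_cons_of_mem _ hs)), T.hx r (hL r List.mem_cons_self),
      T.tw_R c r (hL r List.mem_cons_self)]

theorem Facts.ordProd_append (hF : Facts D) (A B : List ℕ) (c : ℕ → F) :
    hF.ordProd (A ++ B) c = hF.ordProd A c * hF.ordProd B c := by
  simp [Facts.ordProd, Facts.wordGL, List.map_append, List.prod_append]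

theorem orbitL_map (R : ℕ → ℕ) (k h : ℕ) : (orbitL R k h).map R = orbitL R k (R h) := by
  induction k generalizing h with
  | zero => rfl
  | succ k ih => rw [orbitL, List.map_cons, ih, orbitL]

theorem orbitL_snoc (R : ℕ → ℕ) (k h : ℕ) : orbitL R (k + 1) h = orbitL R k h ++ [R^[k] h] := by
  induction k generalizing h with
  | zero => rfl
  | succ k ih =>
    rw [orbitL, ih, orbitL, List.cons_append, Function.iterate_succ_apply]

/-- for a twisted coefficient function, the ordered product along an orbit piece is a `cls` element -/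
theorem Tw.ordProd_orbit (T : Tw D F hF) (k h : ℕ) (hh : h < D.nroots) (c : ℕ → F)
    (hc : ∀ j, j + 1 < k → c (T.R^[j + 1] h) = (T.η (T.R^[j] h) : F) * T.f (c (T.R^[j] h))) :
    hF.ordProd (orbitL T.R k h) c = T.cls k (h, c h) := by
  induction k generalizing h with
  | zero => rw [orbitL, hF.ordProd_nil, Tw.cls]
  | succ k ih =>
    rw [orbitL, hF.ordProd_cons, Tw.cls, ih (T.R h) (T.hRlt h hh)]
    · unfold Tw.xp Tw.step
      simp only
      rcases k with _ | k
      · simp [Tw.cls]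
      · have := hc 0 (by omega)
        simp only [Function.iterate_zero, id_eq, Function.iterate_succ, Function.comp_apply] at this
        rw [this]
    · intro j hj
      have := hc (j + 1) (by omega)
      simp only [Function.iterate_succ_apply] at this ⊢
      exact this

end twsigma

end Cfsg.Agent.Lib.Helper24
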