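import Cfsg.Agent.Lib.Helper24.TwCard

set_option autoImplicit false
set_option linter.unusedSimpArgs false

namespace Cfsg.Agent.Lib.Helper24

open Cfsg.Lie

theorem rhoW_app (D : ChevalleyDatum) (w w' : List ℕ) (s : ℕ) :
    rhoW D (w ++ w') s = rhoW D w (rhoW D w' s) := by
  simp [rhoW, List.foldr_append]

/-- block `m` of `b` bits of a packed table -/
def blk (b P m : ℕ) : ℕ := Nat.land (Nat.shiftRight P (Nat.mul b m)) (Nat.sub (Nat.pow 2 b) 1)

theorem getD_map_range (f : ℕ → ℕ) (n m : ℕ) (hm : m < n) : ((List.range n).map f).getD m 0 = f m := by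
  simp [List.getD, hm]

/-- the packed tables of the reflections of the classes -/
def twGenOK (D : ChevalleyDatum) (Fd : List (ℕ × ℕ × List ℕ)) (SJ : List ℕ) : Bool :=
  Nat.beq SJ.length Fd.length &&
  (List.range Fd.length).all fun j => forceNat (SJ.getD j 0) fun P =>
    allBelow (fun s => Nat.beq (wq P s) (rhoW D (Fd.getD j (0, 0, [])).2.2 s) &&
      Nat.beq (wq P (wq P s)) s) D.nroots

/-- the tree of the representatives of the twisted Weyl group -/
def twTreeOKf (n k N : ℕ) (SJ : List ℕ) (Pf Parf : ℕ → ℕ) : Bool :=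
  (forceNat (Pf 0) fun P0 => allBelow (fun s => Nat.beq (wq P0 s) s) n) &&
  allBelow (fun m => forceNat m fun m' => forceNat (Parf m') fun c =>
    Nat.ble (c / 16) m' && Nat.blt (c % 16) k &&
    (forceNat (Pf (m' + 1)) fun P => forceNat (Pf (c / 16)) fun Pp =>
      forceNat (SJ.getD (c % 16) 0) fun Si =>
        allBelow (fun s => Nat.beq (wq P s) (wq Pp (wq Si s))) n)) (N - 1)

/-- the edges of the coset graph of the twisted Weyl group -/
def twEdgeOKf (n k N : ℕ) (SJ : List ℕ) (Pf Ecf : ℕ → ℕ) : Bool :=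
  allBelow (fun m => forceNat m fun m' => forceNat (Pf m') fun P =>
    allBelow (fun j => forceNat j fun j' => forceNat (SJ.getD j' 0) fun Sj =>
      forceNat (Ecf (m' * k + j')) fun m2 => Nat.blt m2 N &&
        forceNat (Pf m2) fun P2 =>
          allBelow (fun s => Nat.beq (wq P (wq Sj s)) (wq P2 s)) n) k) N

/-- the signature of a representative: the images of the roots of a list -/
def twSigL (Ss : List ℕ) (P : ℕ) : ℕ := Ss.foldl (fun acc r => acc * 256 + wq P r) 0

/-- the certificate that the signatures are pairwise distinct: the sorted list of the signatures -/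
def twSortOKf (N : ℕ) (Ss : List ℕ) (Pf Ef Invf : ℕ → ℕ) : Bool :=
  allBelow (fun i => forceNat i fun i' => Nat.blt (Ef i' / 65536) (Ef (i' + 1) / 65536)) (N - 1) &&
  allBelow (fun i => forceNat (Ef i) fun e => Nat.blt (e % 65536) N &&
    Nat.beq (e / 65536) (twSigL Ss (Pf (e % 65536)))) N &&
  allBelow (fun m => forceNat m fun m' => forceNat (Invf m') fun i => Nat.blt i N &&
    Nat.beq (Ef i % 65536) m') N

/-- the number of the positive roots made negative, counted along the classes -/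
def twLenOfH (half : ℕ) (Hd : List (ℕ × ℕ)) (P : ℕ) : ℕ :=
  (Hd.map fun p => cond (Nat.ble half (wq P p.1)) 0 p.2).sum

def twLenChk (half : ℕ) (Hd : List (ℕ × ℕ)) (Pf : ℕ → ℕ) : List ℕ → ℕ → Bool
  | [], _ => true
  | c :: cs, m => Nat.beq c (twLenOfH half Hd (Pf m)) && twLenChk half Hd Pf cs (m + 1)

theorem twLenChk_spec (half : ℕ) (Hd : List (ℕ × ℕ)) (Pf : ℕ → ℕ) (Cn : List ℕ) (m0 : ℕ)
    (h : twLenChk half Hd Pf Cn m0 = true) (m : ℕ) (hm : m < Cn.length) :
    Cn.getD m 0 = twLenOfH half Hd (Pf (m0 + m)) := by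
  induction Cn generalizing m0 m with
  | nil => simp at hm
  | cons c cs ih =>
    simp only [twLenChk, Bool.and_eq_true, nbeq_true] at h
    rcases m with _ | m
    · simpa using h.1
    · have := ih (m0 + 1) h.2 m (by simpa using hm)
      simp only [List.getD_cons_succ]
      rw [this]
      congr 2
      omega

theorem twSort_spec (N : ℕ) (Ss : List ℕ) (Pf Ef Invf : ℕ → ℕ) (h : twSortOKf N Ss Pf Ef Invf = true)
    (m m' : ℕ) (hm : m < N) (hm' : m' < N) (heq : twSigL Ss (Pf m) = twSigL Ss (Pf m')) : m = m' := by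
  simp only [twSortOKf, Bool.and_eq_true, forceNat_eq] at h
  obtain ⟨⟨h1, h2⟩, h3⟩ := h
  have hmono1 : ∀ i, i + 1 < N → Ef i / 65536 < Ef (i + 1) / 65536 := by
    intro i hi
    have := allBelow_elim _ _ h1 i (by omega)
    simpa using this
  have hmono : ∀ i j, i < j → j < N → Ef i / 65536 < Ef j / 65536 := by
    intro i j hij hj
    induction j with
    | zero => omega
    | succ j ih =>
      by_cases hij' : i = j
      · subst hij'; exact hmono1 i hj
      · exact lt_trans (ih (by omega) (by omega)) (hmono1 j hj)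
  have hE : ∀ i < N, Ef i % 65536 < N ∧ Ef i / 65536 = twSigL Ss (Pf (Ef i % 65536)) := by
    intro i hi
    have := allBelow_elim _ _ h2 i hi
    simpa using this
  have hI : ∀ m < N, Invf m < N ∧ Ef (Invf m) % 65536 = m := by
    intro m hm
    have := allBelow_elim _ _ h3 m hm
    simpa using this
  obtain ⟨hi, ei⟩ := hI m hm
  obtain ⟨hi', ei'⟩ := hI m' hm'
  have s1 := (hE _ hi).2
  have s2 := (hE _ hi').2
  rw [ei] at s1
  rw [ei'] at s2
  rcases Nat.lt_trichotomy (Invf m) (Invf m') with hlt | he | hgt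
  · have := hmono _ _ hlt hi'
    omega
  · rw [← ei, ← ei', he]
  · have := hmono _ _ hgt hi
    omega

theorem twWord_succ (Fd : List (ℕ × ℕ × List ℕ)) (Par : List ℕ) (m : ℕ) (h : Par.getD m 0 / 16 ≤ m) :
    twWord Fd Par (m + 1) = twWord Fd Par (Par.getD m 0 / 16) ++
      (Fd.getD (Par.getD m 0 % 16) (0, 0, [])).2.2 := by
  unfold twWord
  rw [wordAt_succ Par m h]
  simp [expandJ, List.flatMap_append]

/-- the tree of the representatives of the twisted Weyl group -/
theorem twTree_spec {D : ChevalleyDatum} {tab : List ℕ} (hN : NFacts D tab)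
    (Fd : List (ℕ × ℕ × List ℕ)) (SJ : List ℕ) (Pf Parf : ℕ → ℕ) (N : ℕ)
    (hFd : ∀ x ∈ Fd, ∀ i ∈ x.2.2, i < D.rank)
    (hSJ : ∀ j < Fd.length, ∀ s < D.nroots,
      wq (SJ.getD j 0) s = rhoW D (Fd.getD j (0, 0, [])).2.2 s)
    (h : twTreeOKf D.nroots Fd.length N SJ Pf Parf = true) :
    ∀ m < N, (∀ j ∈ wordAt ((List.range (N - 1)).map Parf) m, j < Fd.length) ∧
      (∀ i ∈ twWord Fd ((List.range (N - 1)).map Parf) m, i < D.rank) ∧
      ∀ s < D.nroots, wq (Pf m) s = rhoW D (twWord Fd ((List.range (N - 1)).map Parf) m) s := by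
  simp only [twTreeOKf, Bool.and_eq_true, forceNat_eq] at h
  obtain ⟨h0, hstep⟩ := h
  set Par := (List.range (N - 1)).map Parf with hPar
  have hget : ∀ m < N - 1, Par.getD m 0 = Parf m := fun m hm => getD_map_range Parf _ m hm
  have hstep' : ∀ m < N - 1, Par.getD m 0 / 16 ≤ m ∧ Par.getD m 0 % 16 < Fd.length ∧
      ∀ s < D.nroots, wq (Pf (m + 1)) s =
        wq (Pf (Par.getD m 0 / 16)) (wq (SJ.getD (Par.getD m 0 % 16) 0) s) := by
    intro m hm
    have h1 := allBelow_elim _ _ hstep m hm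
    simp only [Bool.and_eq_true, Nat.blt_eq] at h1
    obtain ⟨⟨h2, h3⟩, h4⟩ := h1
    rw [hget m hm]
    refine ⟨Nat.le_of_ble_eq_true h2, h3, fun s hs => ?_⟩
    have := allBelow_elim _ _ h4 s hs
    exact Nat.eq_of_beq_eq_true this
  intro m
  induction m using Nat.strong_induction_on with
  | _ m ih =>
    intro hm
    rcases m with _ | m
    · unfold twWord
      rw [wordAt_zero]
      refine ⟨fun i hi => absurd hi List.not_mem_nil, fun i hi => ?_, fun s hs => ?_⟩
      · simp [expandJ] at hi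
      · have := allBelow_elim _ _ h0 s hs
        have e : expandJ Fd [] = [] := by simp [expandJ]
        rw [e]
        exact Nat.eq_of_beq_eq_true this
    · have hm' : m < N - 1 := by omega
      obtain ⟨hp, hi, he⟩ := hstep' m hm'
      obtain ⟨ihl, ihr, ihe⟩ := ih (Par.getD m 0 / 16) (by omega) (by omega)
      have hxmem := getD_mem_of_lt Fd (0, 0, []) _ hi
      have hxlt := hFd _ hxmem
      refine ⟨?_, ?_, fun s hs => ?_⟩
      · rw [wordAt_succ Par m hp]
        intro i hi'
        rcases List.mem_append.mp hi' with h | h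
        · exact ihl i h
        · rw [List.mem_singleton] at h; rw [h]; exact hi
      · rw [twWord_succ Fd Par m hp]
        intro i hi'
        rcases List.mem_append.mp hi' with h | h
        · exact ihr i h
        · exact hxlt i h
      · rw [twWord_succ Fd Par m hp, he s hs, rhoW_app, hSJ _ hi s hs]
        exact ihe _ (hN.rhoW_lt _ hxlt s hs)

/-- the combinatorial data of the cells of the twisted group, from the tables -/
theorem twCells_of_tables {D : ChevalleyDatum} {tab : List ℕ} (hN : NFacts D tab)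
    (hHalf : posHalfOK D = true) (half : ℕ) (hhalf : half = D.nroots / 2)
    (R ρ : ℕ → ℕ) (Fd : List (ℕ × ℕ × List ℕ)) (Hd : List (ℕ × ℕ)) (SJ Ss Cn : List ℕ)
    (Pf Parf Ecf Ef Invf : ℕ → ℕ)
    (hCn : 0 < Cn.length)
    (hFd : ∀ x ∈ Fd, ∀ i ∈ x.2.2, i < D.rank)
    (hHd : ∀ p ∈ Hd, p.1 < D.nroots)
    (hSs : ∀ r ∈ Ss, r < D.nroots)
    (hGen : twGenOK D Fd SJ = true)
    (hTree : twTreeOKf D.nroots Fd.length Cn.length SJ Pf Parf = true)
    (hEdge : twEdgeOKf D.nroots Fd.length Cn.length SJ Pf Ecf = true)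
    (hSort : twSortOKf Cn.length Ss Pf Ef Invf = true)
    (hLen : twLenChk half Hd Pf Cn 0 = true)
    (hsubl : ∀ x ∈ Fd, sublOK D ρ x.2.2 = true)
    (hnegconj : ∀ x ∈ Fd, ∀ r ∈ orbitL R x.2.1 (D.neg x.1),
      r < D.nroots ∧ D.IsPosRoot (rhoW D x.2.2 r))
    (hpos : ∀ x ∈ Fd, ∀ r ∈ orbitL R x.2.1 x.1, D.IsPosRoot r) :
    TwCells D R ρ Fd ((List.range (Cn.length - 1)).map Parf) Cn.length ∧
    ∀ m < Cn.length, (Hd.map fun p =>
      if D.IsPosRoot (rhoW D (twWord Fd ((List.range (Cn.length - 1)).map Parf) m) p.1) then 0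
      else p.2).sum = Cn.getD m 0 := by
  simp only [twGenOK, Bool.and_eq_true, nbeq_true, List.all_eq_true, List.mem_range,
    forceNat_eq] at hGen
  obtain ⟨hSJlen, hGen⟩ := hGen
  have hSJ : ∀ j < Fd.length, ∀ s < D.nroots,
      wq (SJ.getD j 0) s = rhoW D (Fd.getD j (0, 0, [])).2.2 s ∧
      wq (SJ.getD j 0) (wq (SJ.getD j 0) s) = s := by
    intro j hj s hs
    have := allBelow_elim _ _ (hGen j hj) s hs
    simp only [Bool.and_eq_true, nbeq_true] at this
    exact this
  have htree := twTree_spec hN Fd SJ Pf Parf Cn.length hFd (fun j hj s hs => (hSJ j hj s hs).1) hTree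
  set Par := (List.range (Cn.length - 1)).map Parf with hPar
  have hposiff : ∀ r < D.nroots, (D.IsPosRoot r ↔ D.nroots / 2 ≤ r) := by
    intro r hr
    rw [posHalf_spec D hHalf r]
    exact ⟨fun h => h.1, fun h => ⟨h, hr⟩⟩
  refine ⟨⟨hCn, fun m hm => (htree m hm).1, ?_, ?_, ?_, hsubl, hnegconj, hpos⟩, ?_⟩
  · -- edges
    intro m hm x hx
    obtain ⟨j, hj, rfl⟩ := List.getElem_of_mem hx
    have hjD : Fd.getD j (0, 0, []) = Fd[j] := by simp [List.getD, hj]
    simp only [twEdgeOKf, forceNat_eq] at hEdge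
    have h1 := allBelow_elim _ _ hEdge m hm
    have h2 := allBelow_elim _ _ h1 j hj
    simp only [Bool.and_eq_true, Nat.blt_eq] at h2
    obtain ⟨hm2, h3⟩ := h2
    refine ⟨_, hm2, fun s hs => ?_⟩
    have h4 := Nat.eq_of_beq_eq_true (allBelow_elim _ _ h3 s hs)
    have hxlt := hFd _ (List.getElem_mem hj)
    rw [rhoW_app, ← (htree _ hm2).2.2 s hs, ← h4, (hSJ j hj s hs).1, hjD]
    exact ((htree m hm).2.2 _ (hN.rhoW_lt _ hxlt s hs)).symm
  · -- squares
    intro x hx s hs
    obtain ⟨j, hj, rfl⟩ := List.getElem_of_mem hx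
    have hjD : Fd.getD j (0, 0, []) = Fd[j] := by simp [List.getD, hj]
    have hxlt := hFd _ (List.getElem_mem hj)
    have h1 := hSJ j hj s hs
    have h2 := hSJ j hj _ (hN.rhoW_lt _ hxlt s hs)
    rw [hjD] at h1 h2
    rw [rhoW_app, ← h2.1, ← h1.1]
    exact h1.2
  · -- distinct
    intro m hm m' hm' heq
    apply twSort_spec _ Ss Pf Ef Invf hSort m m' hm hm'
    unfold twSigL
    apply foldl_sig_congr
    intro r hr
    rw [(htree m hm).2.2 _ (hSs r hr), (htree m' hm').2.2 _ (hSs r hr)]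
    exact heq _ (hSs r hr)
  · intro m hm
    rw [twLenChk_spec half Hd Pf Cn 0 hLen m hm, Nat.zero_add]
    unfold twLenOfH
    congr 1
    apply List.map_congr_left
    intro p hp
    have hp1 := hHd p hp
    rw [(htree m hm).2.2 _ hp1, hhalf]
    have hρ := hN.rhoW_lt _ (htree m hm).2.1 _ hp1
    by_cases hc : D.nroots / 2 ≤ rhoW D (twWord Fd Par m) p.1
    · rw [if_pos ((hposiff _ hρ).mpr hc)]
      have : Nat.ble (D.nroots / 2) (rhoW D (twWord Fd Par m) p.1) = true := Nat.ble_eq_true_of_le hc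
      rw [this]; rfl
    · rw [if_neg (fun h => hc ((hposiff _ hρ).mp h))]
      have : Nat.ble (D.nroots / 2) (rhoW D (twWord Fd Par m) p.1) = false := by
        rw [Bool.eq_false_iff]
        intro h
        exact hc (Nat.le_of_ble_eq_true h)
      rw [this]; rfl

end Cfsg.Agent.Lib.Helper24
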