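import Cfsg.Agent.Lib.Helper24.TwSigma
import Cfsg.Agent.Lib.Helper24.CellsD

set_option autoImplicit false
set_option linter.unusedSimpArgs false

namespace Cfsg.Agent.Lib.Helper24

open Cfsg.Lie

section twu

variable {F : Type*} [Field F] {D : ChevalleyDatum} {tab : List ℕ} {orb : List (ℕ × ℕ × ℕ)}

/-- the verified facts on the classes of positive roots under a twisting automorphism -/
structure TwU (E : Env D F tab orb) (T : Tw D F E.hF) (Hd : List (ℕ × ℕ)) (Lc : List ℕ) (Λ : List ℤ) :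
    Prop where
  hLc : Lc = Hd.flatMap (fun p => orbitL T.R p.2 p.1)
  hd : ∀ p ∈ Hd, D.IsPosRoot p.1 ∧ 0 < p.2
  closed : ∀ p ∈ Hd, T.R^[p.2] p.1 = p.1
  nodup : Lc.Nodup
  all : ∀ r, D.IsPosRoot r → r ∈ Lc
  good : goodListOK D Lc = true
  sorted : gradeSortedOK D Λ Lc = true
  g0 : ∀ r, D.IsPosRoot r → 0 < gradeE D Λ (D.rank + r)
  gR : ∀ s < D.nroots, gradeE D Λ (D.rank + T.R s) = gradeE D Λ (D.rank + s)
  comm : ∀ p ∈ Hd, ∀ j, 0 < j → j < p.2 → commTermsQ D p.1 (T.R^[j] p.1) = [] ∧ T.R^[j] p.1 ≠ p.1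

variable {E : Env D F tab orb} {T : Tw D F E.hF} {Hd : List (ℕ × ℕ)} {Lc : List ℕ} {Λ : List ℤ}

theorem Env.pos_ne_neg (E : Env D F tab orb) (r s : ℕ) (hr : D.IsPosRoot r) (hs : D.IsPosRoot s) :
    s ≠ D.neg r := by
  intro h
  have h1 := (posHalf_spec D E.hU.half r).mp hr
  have h2 := (posHalf_spec D E.hU.half s).mp hs
  have h3 : D.neg r = D.nroots - 1 - r := Nat.eq_of_beq_eq_true (allBelow_elim _ _ E.hNR r hr.1)
  have h4 := posHalf_even D E.hU.half
  omega

theorem Env.neg_inj_pos (E : Env D F tab orb) (r s : ℕ) (hr : D.IsPosRoot r) (hs : D.IsPosRoot s)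
    (h : D.neg r = D.neg s) : r = s := by
  have h3 : D.neg r = D.nroots - 1 - r := Nat.eq_of_beq_eq_true (allBelow_elim _ _ E.hNR r hr.1)
  have h3' : D.neg s = D.nroots - 1 - s := Nat.eq_of_beq_eq_true (allBelow_elim _ _ E.hNR s hs.1)
  have := hr.1
  have := hs.1
  omega

theorem Tw.iter_pos {hF : Facts D} (T : Tw D F hF) (k s : ℕ) (hs : D.IsPosRoot s) : D.IsPosRoot (T.R^[k] s) := by
  induction k generalizing s with
  | zero => exact hs
  | succ k ih => rw [Function.iterate_succ_apply]; exact ih _ ((T.hRpos s hs.1).mpr hs)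

/-- root elements of two roots without commutator terms commute -/
theorem Env.commute_of_nil (E : Env D F tab orb) (r s : ℕ) (hr : D.IsPosRoot r) (hs : D.IsPosRoot s)
    (hne : s ≠ r) (h : commTermsQ D r s = []) (t u : F) :
    Commute (E.hF.xGL r t) (E.hF.xGL s u) := by
  have hq := E.hcomm r hr.1 s hs.1 hne (E.pos_ne_neg r s hr hs) t u
  have e : D.commWord F r s t u = [] := by
    unfold ChevalleyDatum.commWord
    rw [← E.hC.commTermsF_eq r s hr.1 hs.1, ← commTermsQ_eq, h]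
    rfl
  rw [e] at hq
  have e2 : E.hF.wordGL ([] : List (ℕ × F)) = 1 := by simp [Facts.wordGL]
  rw [e2, mul_one] at hq
  exact hq.symm

theorem TwU.commute_head (hT : TwU E T Hd Lc Λ) (p : ℕ × ℕ) (hp : p ∈ Hd) (t u : F) (j : ℕ) (hj0 : 0 < j)
    (hj : j < p.2) : Commute (E.hF.xGL p.1 t) (E.hF.xGL (T.R^[j] p.1) u) := by
  obtain ⟨h1, h2⟩ := hT.comm p hp j hj0 hj
  exact E.commute_of_nil p.1 _ (hT.hd p hp).1 (T.iter_pos j _ (hT.hd p hp).1) h2 h1 t u

theorem Facts.commute_ordProd (hF : Facts D) (g : GL D.Idx F) (L : List ℕ) (c : ℕ → F)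
    (h : ∀ s ∈ L, Commute g (hF.xGL s (c s))) : Commute g (hF.ordProd L c) := by
  induction L with
  | nil => rw [hF.ordProd_nil]; exact Commute.one_right g
  | cons r L ih =>
    rw [hF.ordProd_cons]
    exact (h r List.mem_cons_self).mul_right (ih (fun s hs => h s (List.mem_cons_of_mem _ hs)))

/-- `σ` acts on the ordered products along a closed orbit by twisting the coefficients -/
theorem TwU.map_ordProd_orbit (hT : TwU E T Hd Lc Λ) (p : ℕ × ℕ) (hp : p ∈ Hd) (c : ℕ → F) :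
    T.σ (E.hF.ordProd (orbitL T.R p.2 p.1) c) = E.hF.ordProd (orbitL T.R p.2 p.1) (T.tw c) := by
  obtain ⟨hpos, hk⟩ := hT.hd p hp
  have hlt : ∀ s ∈ orbitL T.R p.2 p.1, s < D.nroots := by
    intro s hs
    obtain ⟨j, _, rfl⟩ := (mem_orbitL T.R p.2 p.1 s).mp hs
    exact T.iter_lt j _ hpos.1
  rw [T.map_ordProd _ hlt c, orbitL_map]
  obtain ⟨k, hk'⟩ : ∃ k, p.2 = k + 1 := ⟨p.2 - 1, by omega⟩
  rw [hk', orbitL_snoc]
  have e : T.R^[k] (T.R p.1) = p.1 := by
    have := hT.closed p hp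
    rw [hk', Function.iterate_succ_apply] at this
    exact this
  have e2 : E.hF.ordProd [p.1] (T.tw c) = E.hF.xGL p.1 (T.tw c p.1) := by
    rw [E.hF.ordProd_cons, E.hF.ordProd_nil, mul_one]
  rw [e, E.hF.ordProd_append, e2, orbitL, E.hF.ordProd_cons]
  have hc : Commute (E.hF.xGL p.1 (T.tw c p.1)) (E.hF.ordProd (orbitL T.R k (T.R p.1)) (T.tw c)) := by
    apply E.hF.commute_ordProd
    intro s hs
    obtain ⟨j, hj, rfl⟩ := (mem_orbitL T.R k _ s).mp hs
    rw [← Function.iterate_succ_apply]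
    exact hT.commute_head p hp _ _ (j + 1) (by omega) (by omega)
  exact hc.eq.symm

theorem TwU.Lc_lt (hT : TwU E T Hd Lc Λ) : ∀ s ∈ Lc, D.IsPosRoot s := by
  intro s hs
  rw [hT.hLc, List.mem_flatMap] at hs
  obtain ⟨p, hp, hs⟩ := hs
  obtain ⟨j, _, rfl⟩ := (mem_orbitL T.R p.2 p.1 s).mp hs
  exact T.iter_pos j _ (hT.hd p hp).1

theorem Facts.ordProd_flatMap (hF : Facts D) {α : Type*} (l : List α) (g : α → List ℕ) (c : ℕ → F) :
    hF.ordProd (l.flatMap g) c = (l.map fun a => hF.ordProd (g a) c).prod := by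
  induction l with
  | nil => simp [Facts.ordProd_nil]
  | cons a l ih => rw [List.flatMap_cons, hF.ordProd_append, ih, List.map_cons, List.prod_cons]

theorem TwU.map_ordProd (hT : TwU E T Hd Lc Λ) (c : ℕ → F) :
    T.σ (E.hF.ordProd Lc c) = E.hF.ordProd Lc (T.tw c) := by
  rw [hT.hLc, E.hF.ordProd_flatMap, E.hF.ordProd_flatMap, map_list_prod, List.map_map]
  congr 1
  apply List.map_congr_left
  intro p hp
  exact hT.map_ordProd_orbit p hp c

theorem TwU.pos_le (hT : TwU E T Hd Lc Λ) : D.posUnipotent F ≤ rootClosure D F (· ∈ Lc) := by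
  unfold ChevalleyDatum.posUnipotent rootClosure
  apply Subgroup.closure_mono
  rintro x ⟨r, t, hr, hx⟩
  exact ⟨r, t, hT.all r hr, hx⟩

/-- the coefficient function of a fixed element of `U` is twisted -/
theorem TwU.exists_twisted (hT : TwU E T Hd Lc Λ) (u : GL D.Idx F) (hu : u ∈ D.posUnipotent F)
    (hfix : T.σ u = u) :
    ∃ c : ℕ → F, u = E.hF.ordProd Lc c ∧ ∀ s, D.IsPosRoot s → c (T.R s) = (T.η s : F) * T.f (c s) := by
  obtain ⟨c, _, hc⟩ := E.hF.exists_ordProd_gen E.hC E.hcomm (fun r s hr hs => E.pos_ne_neg r s hr hs)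
    Lc hT.nodup hT.Lc_lt hT.good u (hT.pos_le hu)
  refine ⟨c, hc, ?_⟩
  rw [hc, hT.map_ordProd] at hfix
  have h := E.hF.ordProd_inj_gen E.hU.negNe E.hU.unit (fun r s hr hs h => E.neg_inj_pos r s hr hs h) Λ
    hT.g0 Lc hT.nodup (gradeSortedOK_spec Λ Lc hT.sorted) hT.Lc_lt _ _ hfix
  intro s hs
  have hRs : D.IsPosRoot (T.R s) := (T.hRpos s hs.1).mpr hs
  rw [← h _ (hT.all _ hRs), T.tw_R c s hs.1]

/-- the product of the `cls` elements over the classes -/
def Tw.elt {hF : Facts D} (T : Tw D F hF) (Hd : List (ℕ × ℕ)) (c : ℕ → F) : GL D.Idx F :=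
  (Hd.map fun p => T.cls p.2 (p.1, c p.1)).prod

theorem TwU.ordProd_eq_elt (hT : TwU E T Hd Lc Λ) (c : ℕ → F)
    (hc : ∀ s, D.IsPosRoot s → c (T.R s) = (T.η s : F) * T.f (c s)) :
    E.hF.ordProd Lc c = T.elt Hd c := by
  rw [hT.hLc, E.hF.ordProd_flatMap]
  unfold Tw.elt
  congr 1
  apply List.map_congr_left
  intro p hp
  apply T.ordProd_orbit p.2 p.1 (hT.hd p hp).1.1 c
  intro j _
  rw [Function.iterate_succ_apply']
  exact hc _ (T.iter_pos j _ (hT.hd p hp).1)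

theorem Tw.step_iter_twisted {hF : Facts D} (T : Tw D F hF) (c : ℕ → F)
    (hc : ∀ s, D.IsPosRoot s → c (T.R s) = (T.η s : F) * T.f (c s)) (h : ℕ) (hh : D.IsPosRoot h) (j : ℕ) :
    T.step^[j] (h, c h) = (T.R^[j] h, c (T.R^[j] h)) := by
  induction j with
  | zero => rfl
  | succ j ih =>
    rw [Function.iterate_succ_apply', ih, Function.iterate_succ_apply']
    unfold Tw.step
    simp only
    rw [hc _ (T.iter_pos j h hh)]

end twu

end Cfsg.Agent.Lib.Helper24
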