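import Cfsg.Agent.Lib.Helper24.Graded
import Cfsg.Agent.Lib.Helper24.RankOne

set_option autoImplicit false
set_option linter.unusedSimpArgs false

namespace Cfsg.Agent.Lib.Helper24

open Cfsg.Lie

/-- the positive roots are the roots of the upper half of the index range -/
def posHalfOK (D : ChevalleyDatum) : Bool :=
  Nat.beq (D.nroots % 2) 0 &&
  allBelow (fun r => decide (D.IsPosRoot r) == Nat.ble (D.nroots / 2) r) D.nroots

theorem posHalf_spec (D : ChevalleyDatum) (h : posHalfOK D = true) (r : ℕ) :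
    D.IsPosRoot r ↔ D.nroots / 2 ≤ r ∧ r < D.nroots := by
  simp only [posHalfOK, Bool.and_eq_true] at h
  constructor
  · intro hp
    have h1 := allBelow_elim _ _ h.2 r hp.1
    rw [beq_iff_eq] at h1
    have h2 : Nat.ble (D.nroots / 2) r = true := by rw [← h1]; exact decide_eq_true hp
    exact ⟨Nat.le_of_ble_eq_true h2, hp.1⟩
  · rintro ⟨h1, h2⟩
    have h3 := allBelow_elim _ _ h.2 r h2
    rw [beq_iff_eq] at h3
    have h4 : Nat.ble (D.nroots / 2) r = true := Nat.ble_eq_true_of_le h1
    rw [h4] at h3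
    exact of_decide_eq_true h3

theorem posHalf_even (D : ChevalleyDatum) (h : posHalfOK D = true) : D.nroots = 2 * (D.nroots / 2) := by
  simp only [posHalfOK, Bool.and_eq_true] at h
  have := Nat.eq_of_beq_eq_true h.1
  omega

/-- the grade of the root `r`, computed from the packed Cartan integers -/
def gradeF (D : ChevalleyDatum) (Λ : List ℤ) (r : ℕ) : ℤ :=
  ((List.range D.rank).map fun i => Λ.getD i 0 * cartanF D i r).sum

theorem gradeF_eq (D : ChevalleyDatum) (hC : cartanFOK D = true) (Λ : List ℤ) (r : ℕ)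
    (hr : r < D.nroots) : gradeF D Λ r = gradeE D Λ (D.rank + r) := by
  unfold gradeF gradeE
  congr 1
  apply List.map_congr_left
  intro i hi
  rw [cartanF_eq D hC i r (List.mem_range.mp hi) hr, Eexp_root]

/-- the grading is positive and strictly increasing on the positive roots -/
def gradeOK (D : ChevalleyDatum) (Λ : List ℤ) : Bool :=
  allFrom (fun r => forceNat r fun r' => decide (0 < gradeF D Λ r') &&
    (Nat.ble D.nroots (r' + 1) || decide (gradeF D Λ r' < gradeF D Λ (r' + 1))))
    (D.nroots / 2) (D.nroots - D.nroots / 2)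

theorem mono_of_adjacent (g : ℕ → ℤ) (lo hi : ℕ) (h : ∀ k, lo ≤ k → k + 1 < hi → g k < g (k + 1)) :
    ∀ r s, lo ≤ r → r < s → s < hi → g r < g s := by
  intro r s hr hrs hs
  induction s, hrs using Nat.le_induction with
  | base => exact h r hr hs
  | succ s hrs ih => exact lt_trans (ih (by omega)) (h s (by omega) hs)

theorem gradeOK_spec (D : ChevalleyDatum) (hC : cartanFOK D = true) (Λ : List ℤ)
    (hH : posHalfOK D = true) (h : gradeOK D Λ = true) :
    (∀ r, D.IsPosRoot r → 0 < gradeE D Λ (D.rank + r)) ∧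
    (∀ r s, D.IsPosRoot r → D.IsPosRoot s → r < s →
      gradeE D Λ (D.rank + r) < gradeE D Λ (D.rank + s)) := by
  have key : ∀ r, D.nroots / 2 ≤ r → r < D.nroots → 0 < gradeF D Λ r ∧
      (r + 1 < D.nroots → gradeF D Λ r < gradeF D Λ (r + 1)) := by
    intro r h1 h2
    have h3 := allFrom_elim _ _ _ h r h1 (by omega)
    simp only [forceNat_eq, Bool.and_eq_true, decide_eq_true_eq, Bool.or_eq_true] at h3
    refine ⟨h3.1, fun h4 => ?_⟩
    rcases h3.2 with h5 | h5
    · have := Nat.le_of_ble_eq_true h5; omega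
    · exact h5
  constructor
  · intro r hr
    obtain ⟨h1, h2⟩ := (posHalf_spec D hH r).mp hr
    rw [← gradeF_eq D hC Λ r h2]
    exact (key r h1 h2).1
  · intro r s hr hs hrs
    obtain ⟨h1, h2⟩ := (posHalf_spec D hH r).mp hr
    obtain ⟨h3, h4⟩ := (posHalf_spec D hH s).mp hs
    rw [← gradeF_eq D hC Λ r h2, ← gradeF_eq D hC Λ s h4]
    exact mono_of_adjacent (gradeF D Λ) (D.nroots / 2) D.nroots
      (fun k hk hk1 => (key k hk (by omega)).2 hk1) r s h1 hrs h4

/-- the terms of the commutator formula for positive roots `r < s` are roots above `r` -/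
def convexRowOK (D : ChevalleyDatum) (r : ℕ) : Bool :=
  forceNat r fun r' => allFrom (fun s => forceNat s fun s' =>
    (commTermsQ D r' s').all fun c => Nat.blt r' c.1 && Nat.blt c.1 D.nroots)
    (r' + 1) (D.nroots - (r' + 1))

def ConvexOK (D : ChevalleyDatum) : Prop :=
  ∀ r, D.nroots / 2 ≤ r → r < D.nroots → convexRowOK D r = true

theorem ConvexOK.spec {D : ChevalleyDatum} (h : ConvexOK D) (hH : posHalfOK D = true) (r s : ℕ)
    (hr : D.IsPosRoot r) (hs : D.IsPosRoot s) (hrs : r < s) (c : ℕ × ℤ × ℕ × ℕ)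
    (hc : c ∈ commTermsQ D r s) : D.IsPosRoot c.1 ∧ r < c.1 := by
  obtain ⟨h1, h2⟩ := (posHalf_spec D hH r).mp hr
  have h3 := h r h1 h2
  simp only [convexRowOK, forceNat_eq] at h3
  have h4 := allFrom_elim _ _ _ h3 s (by omega) (by have := hs.1; omega)
  simp only [forceNat_eq, List.all_eq_true, Bool.and_eq_true, Nat.blt_eq] at h4
  obtain ⟨h5, h6⟩ := h4 c hc
  exact ⟨(posHalf_spec D hH c.1).mpr ⟨by omega, h6⟩, h5⟩

section ufact

variable {F : Type*} [Field F] {D : ChevalleyDatum}

/-- the subgroup generated by the root subgroups of the roots satisfying `R` -/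
def rootClosure (D : ChevalleyDatum) (F : Type*) [Field F] (R : ℕ → Prop) : Subgroup (GL D.Idx F) :=
  Subgroup.closure {g : GL D.Idx F | ∃ (s : ℕ) (u : F), R s ∧ (g : Matrix D.Idx D.Idx F) = D.x F s u}

theorem Facts.xGL_mem_rootClosure (hF : Facts D) (R : ℕ → Prop) (s : ℕ) (hs : R s) (u : F) :
    hF.xGL s u ∈ rootClosure D F R :=
  Subgroup.subset_closure ⟨s, u, hs, rfl⟩

theorem Facts.wordGL_mem_rootClosure (hF : Facts D) (R : ℕ → Prop) (w : List (ℕ × F))
    (hw : ∀ p ∈ w, R p.1) : hF.wordGL w ∈ rootClosure D F R := by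
  unfold Facts.wordGL
  apply Subgroup.list_prod_mem
  intro x hx
  simp only [List.mem_map] at hx
  obtain ⟨p, hp, rfl⟩ := hx
  exact hF.xGL_mem_rootClosure R p.1 (hw p hp) p.2

/-- `x_r(t)` normalises the subgroup generated by the `X_s`, `s ∈ R`, when the commutator formula for
`(r, s)` has its terms in `R` -/
theorem Facts.xGL_mem_normalizer_rootClosure (hF : Facts D) (hC : ChainOK D) (R : ℕ → Prop) (r : ℕ)
    (hr : r < D.nroots) (hR : ∀ s, R s → s < D.nroots) (hcomm : ∀ s, R s → hF.QF F r s)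
    (hterms : ∀ s, R s → ∀ c ∈ commTermsQ D r s, R c.1) (t : F) :
    hF.xGL r t ∈ Subgroup.normalizer (rootClosure D F R : Set (GL D.Idx F)) := by
  have key : ∀ (t : F) (x : GL D.Idx F), x ∈ {g : GL D.Idx F | ∃ (s : ℕ) (u : F), R s ∧
      (g : Matrix D.Idx D.Idx F) = D.x F s u} →
      (hF.xGL r t)⁻¹ * x * hF.xGL r t ∈ rootClosure D F R := by
    rintro t x ⟨s, u, hs, hx⟩
    rw [hF.eq_xGL x s u hx]
    have h1 := hcomm s hs t u
    have h2 : (hF.xGL r t)⁻¹ * hF.xGL s u * hF.xGL r t =
        hF.xGL s u * hF.wordGL (D.commWord F r s t u) := by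
      rw [mul_assoc, h1]; group
    rw [h2]
    apply Subgroup.mul_mem
    · exact hF.xGL_mem_rootClosure R s hs u
    · apply hF.wordGL_mem_rootClosure
      intro p hp
      unfold ChevalleyDatum.commWord at hp
      simp only [List.mem_map] at hp
      obtain ⟨c, hc, rfl⟩ := hp
      rw [← hC.commTermsF_eq r s hr (hR s hs), ← commTermsQ_eq] at hc
      exact hterms s hs c hc
  unfold rootClosure
  apply mem_normalizer_closure
  · intro x hx
    have := key (-t) x hx
    rwa [← hF.xGL_inv, inv_inv] at this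
  · intro x hx
    exact key t x hx

/-- the ordered product `∏_{r ∈ L} x_r(t_r)` -/
def Facts.ordProd (hF : Facts D) (L : List ℕ) (t : ℕ → F) : GL D.Idx F :=
  hF.wordGL (L.map fun r => (r, t r))

theorem Facts.ordProd_nil (hF : Facts D) (t : ℕ → F) : hF.ordProd [] t = 1 := by
  simp [Facts.ordProd, Facts.wordGL]

theorem Facts.ordProd_cons (hF : Facts D) (r : ℕ) (L : List ℕ) (t : ℕ → F) :
    hF.ordProd (r :: L) t = hF.xGL r (t r) * hF.ordProd L t := by
  simp [Facts.ordProd, Facts.wordGL]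

theorem Facts.ordProd_congr (hF : Facts D) (L : List ℕ) (t t' : ℕ → F) (h : ∀ r ∈ L, t r = t' r) :
    hF.ordProd L t = hF.ordProd L t' := by
  unfold Facts.ordProd
  congr 1
  apply List.map_congr_left
  intro r hr
  rw [h r hr]

theorem Facts.ordProd_mem (hF : Facts D) (L : List ℕ) (t : ℕ → F) :
    hF.ordProd L t ∈ rootClosure D F (· ∈ L) := by
  apply hF.wordGL_mem_rootClosure
  intro p hp
  simp only [List.mem_map] at hp
  obtain ⟨r, hr, rfl⟩ := hp
  exact hr

theorem Facts.exists_ordProd (hF : Facts D) (hC : ChainOK D)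
    (hcomm : ∀ r < D.nroots, ∀ s < D.nroots, s ≠ r → s ≠ D.neg r → hF.QF F r s)
    (hneg : ∀ r s, D.IsPosRoot r → D.IsPosRoot s → s ≠ D.neg r)
    (hconv : ∀ r s, D.IsPosRoot r → D.IsPosRoot s → r < s →
      ∀ c ∈ commTermsQ D r s, D.IsPosRoot c.1 ∧ r < c.1)
    (L : List ℕ) (hsort : L.Pairwise (· < ·)) (hpos : ∀ r ∈ L, D.IsPosRoot r)
    (hup : ∀ r ∈ L, ∀ s, D.IsPosRoot s → r < s → s ∈ L)
    (g : GL D.Idx F) (hg : g ∈ rootClosure D F (· ∈ L)) :
    ∃ t : ℕ → F, (∀ r, r ∉ L → t r = 0) ∧ g = hF.ordProd L t := by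
  induction L generalizing g with
  | nil =>
    have h : rootClosure D F (· ∈ ([] : List ℕ)) = ⊥ := by
      unfold rootClosure
      rw [Subgroup.closure_eq_bot_iff]
      rintro x ⟨s, u, hs, _⟩
      exact absurd hs List.not_mem_nil
    rw [h] at hg
    exact ⟨fun _ => 0, fun _ _ => rfl, by rw [Subgroup.mem_bot.mp hg, hF.ordProd_nil]⟩
  | cons r L ih =>
    have hsort' := List.pairwise_cons.mp hsort
    have hrL : ∀ s ∈ L, r < s := hsort'.1
    have hpos' : ∀ s ∈ L, D.IsPosRoot s := fun s hs => hpos s (List.mem_cons_of_mem _ hs)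
    have hup' : ∀ r' ∈ L, ∀ s, D.IsPosRoot s → r' < s → s ∈ L := by
      intro r' hr' s hs hlt
      have := hup r' (List.mem_cons_of_mem _ hr') s hs hlt
      rcases List.mem_cons.mp this with h | h
      · exfalso; have := hrL r' hr'; omega
      · exact h
    have hrpos := hpos r List.mem_cons_self
    have hle : rootClosure D F (· ∈ r :: L) ≤ rootClosure D F (· ∈ L) ⊔ D.rootSubgroup F r := by
      unfold rootClosure ChevalleyDatum.rootSubgroup
      rw [Subgroup.closure_le]
      rintro x ⟨s, u, hs, hx⟩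
      rcases List.mem_cons.mp hs with h | h
      · subst h; exact Subgroup.mem_sup_right (Subgroup.subset_closure ⟨u, hx⟩)
      · exact Subgroup.mem_sup_left (Subgroup.subset_closure ⟨s, u, h, hx⟩)
    have hnorm : D.rootSubgroup F r ≤
        Subgroup.normalizer (rootClosure D F (· ∈ L) : Set (GL D.Idx F)) := by
      unfold ChevalleyDatum.rootSubgroup
      rw [Subgroup.closure_le]
      rintro x ⟨u, hx⟩
      rw [hF.eq_xGL x r u hx]
      apply hF.xGL_mem_normalizer_rootClosure hC _ r hrpos.1 (fun s hs => (hpos' s hs).1)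
      · intro s hs
        exact hcomm r hrpos.1 s (hpos' s hs).1 (by have := hrL s hs; omega)
          (hneg r s hrpos (hpos' s hs))
      · intro s hs c hc
        obtain ⟨hcp, hrc⟩ := hconv r s hrpos (hpos' s hs) (hrL s hs) c hc
        have := hup r List.mem_cons_self c.1 hcp hrc
        rcases List.mem_cons.mp this with h | h
        · omega
        · exact h
    obtain ⟨v, hv, h, hh, hgi⟩ := exists_mul_of_mem_sup_of_le_normalizer _ _ hnorm g⁻¹
      (hle (Subgroup.inv_mem _ hg))
    obtain ⟨t0, ht0⟩ := hF.exists_of_mem_rootSubgroup r h⁻¹ (Subgroup.inv_mem _ hh)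
    obtain ⟨t', ht'0, ht'⟩ := ih hsort'.2 hpos' hup' v⁻¹ (Subgroup.inv_mem _ hv)
    have hrnotin : r ∉ L := fun h => by have := hrL r h; omega
    refine ⟨Function.update t' r t0, ?_, ?_⟩
    · intro s hs
      rw [List.mem_cons, not_or] at hs
      rw [Function.update_of_ne hs.1]
      exact ht'0 s hs.2
    · rw [hF.ordProd_cons, Function.update_self]
      have e : hF.ordProd L (Function.update t' r t0) = hF.ordProd L t' := by
        apply hF.ordProd_congr
        intro s hs
        rw [Function.update_of_ne]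
        rintro rfl
        exact hrnotin hs
      rw [e, ← ht', ← ht0]
      have : g = (v * h)⁻¹ := by rw [← hgi, inv_inv]
      rw [this, mul_inv_rev]

theorem Facts.ordProd_inj (hF : Facts D) (hNe : negNeOK D = true) (hU : corootUnitOK D = true)
    (Λ : List ℤ) (hg0 : ∀ r, D.IsPosRoot r → 0 < gradeE D Λ (D.rank + r))
    (hmono : ∀ r s, D.IsPosRoot r → D.IsPosRoot s → r < s →
      gradeE D Λ (D.rank + r) < gradeE D Λ (D.rank + s))
    (L : List ℕ) (hsort : L.Pairwise (· < ·)) (hpos : ∀ r ∈ L, D.IsPosRoot r)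
    (t t' : ℕ → F) (h : hF.ordProd L t = hF.ordProd L t') : ∀ r ∈ L, t r = t' r := by
  induction L with
  | nil => intro r hr; exact absurd hr List.not_mem_nil
  | cons r L ih =>
    have hsort' := List.pairwise_cons.mp hsort
    have hpos' : ∀ s ∈ L, D.IsPosRoot s := fun s hs => hpos s (List.mem_cons_of_mem _ hs)
    have hrpos := hpos r List.mem_cons_self
    rw [hF.ordProd_cons, hF.ordProd_cons] at h
    have h1 : hF.xGL r (t r - t' r) = hF.ordProd L t' * (hF.ordProd L t)⁻¹ := by
      have e : hF.xGL r (t r - t' r) = (hF.xGL r (t' r))⁻¹ * hF.xGL r (t r) := by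
        rw [hF.xGL_inv, hF.xGL_mul]; congr 1; ring
      rw [e, eq_mul_inv_iff_mul_eq, mul_assoc, h]; group
    have h2 : hF.xGL r (t r - t' r) ∈ rootClosure D F (· ∈ L) := by
      rw [h1]
      exact Subgroup.mul_mem _ (hF.ordProd_mem L t') (Subgroup.inv_mem _ (hF.ordProd_mem L t))
    have h3 := hF.eq_zero_of_xGL_mem_closure hNe hU Λ (· ∈ L) r hrpos.1 (le_of_lt (hg0 r hrpos))
      (fun s hs => ⟨(hpos' s hs).1, hmono r s hrpos (hpos' s hs) (hsort'.1 s hs)⟩) _ h2
    have h4 : t r = t' r := sub_eq_zero.mp h3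
    rw [h4] at h
    have h5 := mul_left_cancel h
    intro s hs
    rcases List.mem_cons.mp hs with rfl | hs
    · exact h4
    · exact ih hsort'.2 hpos' h5 s hs

theorem mem_posRoots (D : ChevalleyDatum) (r : ℕ) : r ∈ D.posRoots ↔ D.IsPosRoot r := by
  unfold ChevalleyDatum.posRoots
  simp only [List.mem_filter, List.mem_range, decide_eq_true_eq]
  exact ⟨fun h => h.2, fun h => ⟨h.1, h⟩⟩

theorem posRoots_sorted (D : ChevalleyDatum) : D.posRoots.Pairwise (· < ·) := by
  unfold ChevalleyDatum.posRoots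
  exact List.Pairwise.filter _ List.pairwise_lt_range

theorem posUnipotent_eq_rootClosure (D : ChevalleyDatum) (F : Type*) [Field F] :
    D.posUnipotent F = rootClosure D F (· ∈ D.posRoots) := by
  unfold ChevalleyDatum.posUnipotent rootClosure
  congr 1
  ext g
  simp only [Set.mem_setOf_eq, mem_posRoots]

/-- the verified facts used for the unique factorisation in `U` -/
structure UFacts (D : ChevalleyDatum) : Prop where
  half : posHalfOK D = true
  negNe : negNeOK D = true
  unit : corootUnitOK D = true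
  convex : ConvexOK D
  grade : ∃ Λ : List ℤ, gradeOK D Λ = true

/-- existence of the ordered factorisation -/
theorem Facts.exists_factorization (hF : Facts D) (hC : ChainOK D) (hU : UFacts D)
    (hNR : negRevOK D = true)
    (hcomm : ∀ r < D.nroots, ∀ s < D.nroots, s ≠ r → s ≠ D.neg r → hF.QF F r s)
    (g : GL D.Idx F) (hg : g ∈ D.posUnipotent F) :
    ∃ t : ℕ → F, (∀ r, ¬ D.IsPosRoot r → t r = 0) ∧ g = hF.ordProd D.posRoots t := by
  rw [posUnipotent_eq_rootClosure] at hg
  have hneg : ∀ r s, D.IsPosRoot r → D.IsPosRoot s → s ≠ D.neg r := by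
    intro r s hr hs h
    have h1 := (posHalf_spec D hU.half r).mp hr
    have h2 := (posHalf_spec D hU.half s).mp hs
    have h3 : D.neg r = D.nroots - 1 - r := Nat.eq_of_beq_eq_true (allBelow_elim _ _ hNR r hr.1)
    have h4 := posHalf_even D hU.half
    omega
  obtain ⟨t, ht0, ht⟩ := hF.exists_ordProd hC hcomm hneg
    (fun r s hr hs hrs c hc => hU.convex.spec hU.half r s hr hs hrs c hc)
    D.posRoots (posRoots_sorted D) (fun r hr => (mem_posRoots D r).mp hr)
    (fun r _ s hs _ => (mem_posRoots D s).mpr hs) g hg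
  exact ⟨t, fun r hr => ht0 r (fun h => hr ((mem_posRoots D r).mp h)), ht⟩

/-- uniqueness of the ordered factorisation -/
theorem Facts.factorization_unique (hF : Facts D) (hU : UFacts D) (t t' : ℕ → F)
    (h : hF.ordProd D.posRoots t = hF.ordProd D.posRoots t') : ∀ r, D.IsPosRoot r → t r = t' r := by
  obtain ⟨Λ, hΛ⟩ := hU.grade
  obtain ⟨hg0, hmono⟩ := gradeOK_spec D hF.cartanF Λ hU.half hΛ
  intro r hr
  exact hF.ordProd_inj hU.negNe hU.unit Λ hg0 hmono D.posRoots (posRoots_sorted D)
    (fun r hr => (mem_posRoots D r).mp hr) t t' h r ((mem_posRoots D r).mpr hr)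

/-- S1026 -/
theorem Facts.unique_factorization (hF : Facts D) (hC : ChainOK D) (hU : UFacts D)
    (hNR : negRevOK D = true)
    (hcomm : ∀ r < D.nroots, ∀ s < D.nroots, s ≠ r → s ≠ D.neg r → hF.QF F r s) :
    (∀ g : GL D.Idx F, g ∈ D.posUnipotent F →
      ∃! t : ℕ → F, (∀ r, ¬ D.IsPosRoot r → t r = 0) ∧
        (g : Matrix D.Idx D.Idx F) = D.wordMat F (D.posRoots.map fun r => (r, t r))) ∧
    (∀ t : ℕ → F, ∃ g : GL D.Idx F, g ∈ D.posUnipotent F ∧
      (g : Matrix D.Idx D.Idx F) = D.wordMat F (D.posRoots.map fun r => (r, t r))) := by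
  constructor
  · intro g hg
    obtain ⟨t, ht0, ht⟩ := hF.exists_factorization hC hU hNR hcomm g hg
    refine ⟨t, ⟨ht0, by rw [ht]; exact hF.wordGL_val _⟩, ?_⟩
    rintro t' ⟨ht'0, ht'⟩
    have e : hF.ordProd D.posRoots t' = hF.ordProd D.posRoots t := by
      rw [← ht]
      exact (hF.eq_wordGL g _ ht').symm
    funext r
    by_cases hr : D.IsPosRoot r
    · exact hF.factorization_unique hU t' t e r hr
    · rw [ht0 r hr, ht'0 r hr]
  · intro t
    refine ⟨hF.ordProd D.posRoots t, ?_, hF.wordGL_val _⟩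
    rw [posUnipotent_eq_rootClosure]
    exact hF.ordProd_mem _ t

end ufact

end Cfsg.Agent.Lib.Helper24
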