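import Cfsg.Agent.Lib.Helper24.PairTab

set_option autoImplicit false
set_option linter.unusedSimpArgs false

namespace Cfsg.Agent.Lib.Helper24

open Cfsg.Lie

/-- for the fundamental root `p = p_i`, `r = ±p` and every positive root `s ≠ p`, the terms of the
commutator formula for `(r, s)` are positive roots different from `p` -/
def simpleCommOK (D : ChevalleyDatum) (i : ℕ) : Bool :=
  forceNat (D.simple i) fun p => forceNat (D.neg (D.simple i)) fun q =>
  decide (D.IsPosRoot p) && Nat.blt q D.nroots && Nat.beq (D.neg q) p &&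
  allBelow (fun s => !(decide (D.IsPosRoot s)) || Nat.beq s p ||
     (!(Nat.beq s q) &&
      (commTermsQ D p s).all (fun c => decide (D.IsPosRoot c.1) && !(Nat.beq c.1 p)) &&
      (commTermsQ D q s).all (fun c => decide (D.IsPosRoot c.1) && !(Nat.beq c.1 p)))) D.nroots

section upnorm

variable {F : Type*} [Field F] {D : ChevalleyDatum}

theorem Facts.QF_of_comm (hF : Facts D) (r s : ℕ)
    (h : ∀ t u : F, D.x F s u * D.x F r t = D.x F r t * D.x F s u * D.wordMat F (D.commWord F r s t u)) :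
    hF.QF F r s := by
  intro t u
  apply Units.ext
  simp only [Units.val_mul, Facts.xGL_val, hF.wordGL_val]
  exact h t u

/-- the subgroup `U_p` -/
def Up (D : ChevalleyDatum) (F : Type*) [Field F] (i : ℕ) : Subgroup (GL D.Idx F) :=
  Subgroup.closure {g : GL D.Idx F | ∃ (s : ℕ) (t : F), D.IsPosRoot s ∧ s ≠ D.simple i ∧
    (g : Matrix D.Idx D.Idx F) = D.x F s t}

theorem Facts.wordGL_mem_Up (hF : Facts D) (i : ℕ) (w : List (ℕ × F))
    (hw : ∀ p ∈ w, D.IsPosRoot p.1 ∧ p.1 ≠ D.simple i) : hF.wordGL w ∈ Up D F i := by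
  unfold Facts.wordGL
  apply Subgroup.list_prod_mem
  intro x hx
  simp only [List.mem_map] at hx
  obtain ⟨p, hp, rfl⟩ := hx
  exact Subgroup.subset_closure ⟨p.1, p.2, (hw p hp).1, (hw p hp).2, rfl⟩

/-- `x_r(t)` normalises `U_p` when the commutator formula for `(r, s)` has its terms in `U_p` -/
theorem Facts.xGL_mem_normalizer_Up (hF : Facts D) (hC : ChainOK D) (i r : ℕ) (hr : r < D.nroots)
    (hcomm : ∀ s, D.IsPosRoot s → s ≠ D.simple i → hF.QF F r s)
    (hterms : ∀ s, D.IsPosRoot s → s ≠ D.simple i →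
      ∀ c ∈ commTermsQ D r s, D.IsPosRoot c.1 ∧ c.1 ≠ D.simple i) (t : F) :
    hF.xGL r t ∈ Subgroup.normalizer (Up D F i : Set (GL D.Idx F)) := by
  have key : ∀ (t : F) (x : GL D.Idx F), x ∈ {g : GL D.Idx F | ∃ (s : ℕ) (t : F), D.IsPosRoot s ∧
      s ≠ D.simple i ∧ (g : Matrix D.Idx D.Idx F) = D.x F s t} →
      (hF.xGL r t)⁻¹ * x * hF.xGL r t ∈ Up D F i := by
    rintro t x ⟨s, u, hs, hsp, hx⟩
    rw [hF.eq_xGL x s u hx]
    have h1 := hcomm s hs hsp t u
    have h2 : (hF.xGL r t)⁻¹ * hF.xGL s u * hF.xGL r t = hF.xGL s u * hF.wordGL (D.commWord F r s t u) := by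
      rw [mul_assoc, h1]; group
    rw [h2]
    apply Subgroup.mul_mem
    · exact Subgroup.subset_closure ⟨s, u, hs, hsp, rfl⟩
    · apply hF.wordGL_mem_Up
      intro p hp
      unfold ChevalleyDatum.commWord at hp
      simp only [List.mem_map] at hp
      obtain ⟨c, hc, rfl⟩ := hp
      rw [← hC.commTermsF_eq r s hr hs.1, ← commTermsQ_eq] at hc
      exact hterms s hs hsp c hc
  unfold Up
  apply mem_normalizer_closure
  · intro x hx
    have := key (-t) x hx
    rwa [← hF.xGL_inv, inv_inv] at this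
  · intro x hx
    exact key t x hx

/-- S1045 -/
theorem Facts.Up_normal (hF : Facts D) (hC : ChainOK D) (i : ℕ)
    (hcomm : ∀ r < D.nroots, ∀ s < D.nroots, s ≠ r → s ≠ D.neg r → hF.QF F r s)
    (h : simpleCommOK D i = true) :
    D.rootSubgroup F (D.simple i) ⊔ D.rootSubgroup F (D.neg (D.simple i)) ≤
        Subgroup.normalizer (Subgroup.closure {g : GL D.Idx F | ∃ (s : ℕ) (t : F), D.IsPosRoot s ∧
          s ≠ D.simple i ∧ (g : Matrix D.Idx D.Idx F) = D.x F s t} : Set (GL D.Idx F)) ∧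
      Subgroup.closure {g : GL D.Idx F | ∃ (s : ℕ) (t : F), D.IsPosRoot s ∧ s ≠ D.simple i ∧
          (g : Matrix D.Idx D.Idx F) = D.x F s t} ⊔ D.rootSubgroup F (D.simple i) = D.posUnipotent F := by
  simp only [simpleCommOK, forceNat_eq, Bool.and_eq_true, decide_eq_true_eq, Nat.blt_eq, nbeq_true] at h
  obtain ⟨⟨⟨hpos, hq⟩, hqq⟩, hall⟩ := h
  have hspec : ∀ s, D.IsPosRoot s → s ≠ D.simple i → s ≠ D.neg (D.simple i) ∧
      (∀ c ∈ commTermsQ D (D.simple i) s, D.IsPosRoot c.1 ∧ c.1 ≠ D.simple i) ∧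
      (∀ c ∈ commTermsQ D (D.neg (D.simple i)) s, D.IsPosRoot c.1 ∧ c.1 ≠ D.simple i) := by
    intro s hs hsp
    have h1 := allBelow_elim _ _ hall s hs.1
    simp only [Bool.or_eq_true, Bool.not_eq_true', decide_eq_false_iff_not, nbeq_true,
      Bool.and_eq_true, nbeq_false, List.all_eq_true, decide_eq_true_eq] at h1
    rcases h1 with (h1 | h1) | h1
    · exact absurd hs h1
    · exact absurd h1 hsp
    · exact ⟨h1.1.1, fun c hc => h1.1.2 c hc, fun c hc => h1.2 c hc⟩
  constructor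
  · apply sup_le
    · unfold ChevalleyDatum.rootSubgroup
      rw [Subgroup.closure_le]
      rintro g ⟨t, hg⟩
      rw [hF.eq_xGL g _ t hg]
      exact hF.xGL_mem_normalizer_Up hC i (D.simple i) hpos.1
        (fun s hs hsp => hcomm _ hpos.1 s hs.1 hsp (hspec s hs hsp).1)
        (fun s hs hsp => (hspec s hs hsp).2.1) t
    · unfold ChevalleyDatum.rootSubgroup
      rw [Subgroup.closure_le]
      rintro g ⟨t, hg⟩
      rw [hF.eq_xGL g _ t hg]
      exact hF.xGL_mem_normalizer_Up hC i (D.neg (D.simple i)) hq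
        (fun s hs hsp => hcomm _ hq s hs.1 (hspec s hs hsp).1 (by rw [hqq]; exact hsp))
        (fun s hs hsp => (hspec s hs hsp).2.2) t
  · apply le_antisymm
    · apply sup_le
      · unfold ChevalleyDatum.posUnipotent
        apply Subgroup.closure_mono
        rintro g ⟨s, t, hs, _, hg⟩
        exact ⟨s, t, hs, hg⟩
      · unfold ChevalleyDatum.rootSubgroup ChevalleyDatum.posUnipotent
        apply Subgroup.closure_mono
        rintro g ⟨t, hg⟩
        exact ⟨_, t, hpos, hg⟩
    · unfold ChevalleyDatum.posUnipotent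
      rw [Subgroup.closure_le]
      rintro g ⟨s, t, hs, hg⟩
      by_cases hsp : s = D.simple i
      · apply Subgroup.mem_sup_right
        unfold ChevalleyDatum.rootSubgroup
        exact Subgroup.subset_closure ⟨t, hsp ▸ hg⟩
      · apply Subgroup.mem_sup_left
        exact Subgroup.subset_closure ⟨s, t, hs, hsp, hg⟩

end upnorm

end Cfsg.Agent.Lib.Helper24
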