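import Mathlib

set_option autoImplicit false

namespace Cfsg.Agent.Lib.Helper24

section zpowmap

set_option linter.unusedSectionVars false

variable {G : Type*} [CommGroup G] {ι κ μ : Type*} [Fintype ι] [Fintype κ] [Fintype μ]

/-- the map `c ↦ c ^ M` given by an integral matrix -/
def zpowMap (M : ι → κ → ℤ) (c : ι → G) : κ → G := fun k => ∏ i, c i ^ M i k

theorem zpow_finset_sum {α : Type*} (s : Finset α) (g : G) (f : α → ℤ) :
    g ^ (∑ a ∈ s, f a) = ∏ a ∈ s, g ^ f a := by
  classical
  induction s using Finset.induction_on with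
  | empty => simp
  | insert a s ha ih => rw [Finset.sum_insert ha, Finset.prod_insert ha, zpow_add, ih]

theorem zpowMap_comp (M : ι → κ → ℤ) (N : κ → μ → ℤ) (c : ι → G) :
    zpowMap N (zpowMap M c) = zpowMap (fun i l => ∑ j, M i j * N j l) c := by
  funext l
  unfold zpowMap
  calc ∏ j, (∏ i, c i ^ M i j) ^ N j l = ∏ j, ∏ i, c i ^ (M i j * N j l) := by
        apply Finset.prod_congr rfl
        intro j _
        rw [← Finset.prod_zpow]
        apply Finset.prod_congr rfl
        intro i _
        rw [zpow_mul]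
    _ = ∏ i, ∏ j, c i ^ (M i j * N j l) := Finset.prod_comm
    _ = ∏ i, c i ^ ∑ j, M i j * N j l := by
        apply Finset.prod_congr rfl
        intro i _
        rw [zpow_finset_sum]

theorem zpowMap_id [DecidableEq ι] (M : ι → ι → ℤ) (hM : ∀ i k, M i k = if i = k then 1 else 0)
    (c : ι → G) : zpowMap M c = c := by
  funext k
  unfold zpowMap
  rw [Finset.prod_eq_single k]
  · rw [hM, if_pos rfl, zpow_one]
  · intro i _ hik
    rw [hM, if_neg hik, zpow_zero]
  · intro h; exact absurd (Finset.mem_univ k) h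

theorem zpowMap_one (M : ι → κ → ℤ) : zpowMap M (1 : ι → G) = 1 := by
  funext k
  simp [zpowMap]

theorem zpowMap_diag [DecidableEq ι] (M : ι → ι → ℤ) (d : ι → ℕ)
    (hM : ∀ i k, M i k = if i = k then (d i : ℤ) else 0) (c : ι → G) (k : ι) :
    zpowMap M c k = c k ^ d k := by
  unfold zpowMap
  rw [Finset.prod_eq_single k]
  · rw [hM, if_pos rfl, zpow_natCast]
  · intro i _ hik
    rw [hM, if_neg hik, zpow_zero]
  · intro h; exact absurd (Finset.mem_univ k) h

/-- the number of the solutions of `c ^ Â = 1`, from a Smith normal form -/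
theorem card_zpowMap_ker [DecidableEq ι] [Finite G] (A : ι → κ → ℤ) (e : ι → κ) (U U' W : ι → ι → ℤ)
    (d : ι → ℕ)
    (h1 : ∀ i k, ∑ j, U' i j * U j k = if i = k then 1 else 0)
    (h1' : ∀ i k, ∑ j, U i j * U' j k = if i = k then 1 else 0)
    (h2 : ∀ i l, ∑ k, (∑ j, U i j * A j (e k)) * W k l = if i = l then (d i : ℤ) else 0)
    (h3 : ∀ i s, (d i : ℤ) ∣ ∑ j, U i j * A j s) :
    Nat.card {c : ι → G // zpowMap A c = 1} = ∏ i, Nat.card {x : G // x ^ d i = 1} := by
  have hUU' : ∀ c : ι → G, zpowMap U (zpowMap U' c) = c := fun c => by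
    rw [zpowMap_comp]; exact zpowMap_id _ h1 c
  have hU'U : ∀ c : ι → G, zpowMap U' (zpowMap U c) = c := fun c => by
    rw [zpowMap_comp]; exact zpowMap_id _ h1' c
  have hfwd : ∀ c' : ι → G, (∀ i, c' i ^ d i = 1) → zpowMap A (zpowMap U c') = 1 := by
    intro c' hc'
    rw [zpowMap_comp]
    funext s
    unfold zpowMap
    apply Finset.prod_eq_one
    intro i _
    obtain ⟨m, hm⟩ := h3 i s
    show c' i ^ (∑ j, U i j * A j s) = 1
    rw [hm, zpow_mul, zpow_natCast, hc' i, one_zpow]
  have hbwd : ∀ c : ι → G, zpowMap A c = 1 → ∀ i, zpowMap U' c i ^ d i = 1 := by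
    intro c hc i
    have e1 : zpowMap (fun i k => A i (e k)) c = 1 := by
      funext k
      have := congrFun hc (e k)
      exact this
    have e2 : zpowMap W (zpowMap (fun i k => A i (e k)) (zpowMap U (zpowMap U' c))) = 1 := by
      rw [hUU', e1, zpowMap_one]
    rw [zpowMap_comp U (fun i k => A i (e k)), zpowMap_comp _ W] at e2
    have := congrFun e2 i
    rw [zpowMap_diag _ d h2] at this
    exact this
  rw [← Nat.card_pi]
  apply Nat.card_congr
  refine ⟨fun c => fun i => ⟨zpowMap U' c.1 i, hbwd c.1 c.2 i⟩,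
    fun c' => ⟨zpowMap U (fun i => (c' i).1), hfwd _ (fun i => (c' i).2)⟩, ?_, ?_⟩
  · intro c
    apply Subtype.ext
    exact hUU' c.1
  · intro c'
    funext i
    apply Subtype.ext
    exact congrFun (hU'U (fun i => (c' i).1)) i

end zpowmap

end Cfsg.Agent.Lib.Helper24
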